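import Mathlib.GroupTheory.SpecificGroups.Dihedral
import Mathlib.GroupTheory.Sylow
import Mathlib.GroupTheory.OrderOfElement
import Mathlib.GroupTheory.Perm.Cycle.Type
import Mathlib.Algebra.Group.Subgroup.Pointwise

/-!
# Involutions and the dihedral subgroups they generate
-/

namespace CfsgLib.Invol

open Subgroup

variable {G : Type*} [Group G]

theorem invol_iff {x : G} : orderOf x = 2 ↔ x * x = 1 ∧ x ≠ 1 := by
  rw [orderOf_eq_prime_iff, pow_two]

theorem invol_mul_self {x : G} (hx : orderOf x = 2) : x * x = 1 := (invol_iff.1 hx).1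

theorem invol_ne_one {x : G} (hx : orderOf x = 2) : x ≠ 1 := (invol_iff.1 hx).2

theorem invol_inv {x : G} (hx : orderOf x = 2) : x⁻¹ = x :=
  inv_eq_of_mul_eq_one_left (invol_mul_self hx)

theorem invol_conj {x : G} (hx : orderOf x = 2) (g : G) : orderOf (g * x * g⁻¹) = 2 := by
  rw [invol_iff] at hx ⊢
  refine ⟨?_, by simpa using hx.2⟩
  calc g * x * g⁻¹ * (g * x * g⁻¹) = g * (x * x) * g⁻¹ := by group
    _ = 1 := by rw [hx.1]; group

/-- If `x` inverts `a` then it inverts every power of `a`. -/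
theorem conj_zpow_of_inverts {x a : G} (h : x * a * x⁻¹ = a⁻¹) (k : ℤ) :
    x * a ^ k * x⁻¹ = a ^ (-k) := by
  rw [← conj_zpow, h, inv_zpow, zpow_neg]

/-- An involution `x` inverts its product with another involution. -/
theorem invol_conj_mul {x y : G} (hx : orderOf x = 2) (hy : orderOf y = 2) :
    x * (x * y) * x⁻¹ = (x * y)⁻¹ := by
  rw [invol_inv hx, mul_inv_rev, invol_inv hx, invol_inv hy, ← mul_assoc x x y,
    invol_mul_self hx, one_mul]

theorem invol_conj_mul' {x y : G} (hx : orderOf x = 2) (hy : orderOf y = 2) :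
    y * (x * y) * y⁻¹ = (x * y)⁻¹ := by
  rw [invol_inv hy, mul_inv_rev, invol_inv hx, invol_inv hy, mul_assoc y, mul_assoc x,
    invol_mul_self hy, mul_one]

/-- `a ^ k * x = x * a ^ (-k)` if the involution `x` inverts `a`. -/
theorem zpow_mul_invol {x a : G} (hx : orderOf x = 2) (h : x * a * x⁻¹ = a⁻¹) (k : ℤ) :
    a ^ k * x = x * a ^ (-k) := by
  rw [← conj_zpow_of_inverts h k, invol_inv hx, ← mul_assoc, ← mul_assoc, invol_mul_self hx,
    one_mul]

theorem invol_notMem_zpowers_mul {x y : G} (hx : orderOf x = 2) (hy : orderOf y = 2) :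
    x ∉ Subgroup.zpowers (x * y) := by
  intro h
  obtain ⟨k, hk⟩ := Subgroup.mem_zpowers_iff.1 h
  have hcomm : Commute ((x * y) ^ k) (x * y) := (Commute.refl _).zpow_left k
  rw [hk] at hcomm
  have hc : x * (x * y) * x⁻¹ = x * y := mul_inv_eq_iff_eq_mul.2 hcomm
  have hi := invol_conj_mul hx hy
  rw [hc] at hi
  have h2 : (x * y) ^ (2 : ℤ) = 1 := by rw [zpow_two]; nth_rewrite 1 [hi]; exact inv_mul_cancel _
  rcases Int.even_or_odd' k with ⟨l, rfl | rfl⟩
  · rw [zpow_mul, h2, one_zpow] at hk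
    exact invol_ne_one hx hk.symm
  · rw [zpow_add, zpow_mul, h2, one_zpow, one_mul, zpow_one] at hk
    exact invol_ne_one hy (mul_eq_left.1 hk)

/-- Every element of the group generated by two involutions is a rotation or a reflection. -/
theorem mem_closure_pair {x y : G} (hx : orderOf x = 2) (hy : orderOf y = 2) {d : G}
    (hd : d ∈ Subgroup.closure ({x, y} : Set G)) :
    ∃ k : ℤ, d = (x * y) ^ k ∨ d = x * (x * y) ^ k := by
  have h := invol_conj_mul hx hy
  induction hd using Subgroup.closure_induction with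
  | mem z hz =>
    rcases hz with rfl | hz
    · exact ⟨0, Or.inr (by simp)⟩
    · rw [Set.mem_singleton_iff] at hz
      subst hz
      exact ⟨1, Or.inr (by rw [zpow_one, ← mul_assoc, invol_mul_self hx, one_mul])⟩
  | one => exact ⟨0, Or.inl (zpow_zero _).symm⟩
  | mul u v _ _ hu hv =>
    obtain ⟨k, hk⟩ := hu
    obtain ⟨l, hl⟩ := hv
    rcases hk with rfl | rfl <;> rcases hl with rfl | rfl
    · exact ⟨k + l, Or.inl (zpow_add _ _ _).symm⟩
    · exact ⟨-k + l, Or.inr (by rw [← mul_assoc, zpow_mul_invol hx h, mul_assoc, ← zpow_add])⟩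
    · exact ⟨k + l, Or.inr (by rw [mul_assoc, ← zpow_add])⟩
    · refine ⟨-k + l, Or.inl ?_⟩
      rw [mul_assoc x, ← mul_assoc _ x, zpow_mul_invol hx h, mul_assoc x, ← zpow_add, ← mul_assoc,
        invol_mul_self hx, one_mul]
  | inv u _ hu =>
    obtain ⟨k, rfl | rfl⟩ := hu
    · exact ⟨-k, Or.inl (zpow_neg _ _).symm⟩
    · refine ⟨k, Or.inr ?_⟩
      rw [mul_inv_rev, invol_inv hx, ← zpow_neg, zpow_mul_invol hx h, neg_neg]

theorem mul_mem_closure_pair (x y : G) : x * y ∈ Subgroup.closure ({x, y} : Set G) :=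
  mul_mem (Subgroup.subset_closure (by simp)) (Subgroup.subset_closure (by simp))

/-- The rotation part: conjugating `x` by `(xy)^k`. -/
theorem zpow_conj_invol {x y : G} (hx : orderOf x = 2) (hy : orderOf y = 2) (k : ℤ) :
    (x * y) ^ k * x * ((x * y) ^ k)⁻¹ = x * (x * y) ^ (-(2 * k)) := by
  rw [zpow_mul_invol hx (invol_conj_mul hx hy), mul_assoc, ← zpow_neg, ← zpow_add]
  congr 2; ring

/-- Any conjugate of `x` under `⟨x, y⟩` is `x (xy)^(even)`. -/
theorem conj_invol_eq {x y : G} (hx : orderOf x = 2) (hy : orderOf y = 2) {d : G}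
    (hd : d ∈ Subgroup.closure ({x, y} : Set G)) :
    ∃ k : ℤ, d * x * d⁻¹ = x * (x * y) ^ (2 * k) := by
  obtain ⟨k, rfl | rfl⟩ := mem_closure_pair hx hy hd
  · exact ⟨-k, by rw [zpow_conj_invol hx hy]; congr 2; ring⟩
  · refine ⟨k, ?_⟩
    have : x * (x * y) ^ k * x * (x * (x * y) ^ k)⁻¹
        = x * ((x * y) ^ k * x * ((x * y) ^ k)⁻¹) * x⁻¹ := by group
    rw [this, zpow_conj_invol hx hy, invol_inv hx]
    calc x * (x * (x * y) ^ (-(2 * k))) * x = (x * x) * ((x * y) ^ (-(2 * k)) * x) := by group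
      _ = x * (x * y) ^ (2 * k) := by
        rw [invol_mul_self hx, one_mul, zpow_mul_invol hx (invol_conj_mul hx hy), neg_neg]

theorem zpow_eq_zpow_iff_cast {a : G} {k l : ℤ} :
    a ^ k = a ^ l ↔ (k : ZMod (orderOf a)) = (l : ZMod (orderOf a)) := by
  rw [ZMod.intCast_eq_intCast_iff, zpow_eq_zpow_iff_modEq]

/-- The homomorphism from a dihedral group onto the group generated by two involutions. -/
noncomputable def dihedralHom {x y : G} (hx : orderOf x = 2) (hy : orderOf y = 2) :
    DihedralGroup (orderOf (x * y)) →* G where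
  toFun
    | DihedralGroup.r i => (x * y) ^ (i.cast : ℤ)
    | DihedralGroup.sr i => x * (x * y) ^ (i.cast : ℤ)
  map_one' := by
    show (x * y) ^ ((0 : ZMod (orderOf (x * y))).cast : ℤ) = 1
    rw [ZMod.cast_zero, zpow_zero]
  map_mul' := by
    have h := invol_conj_mul hx hy
    rintro (i | i) (j | j)
    · show (x * y) ^ ((i + j).cast : ℤ) = (x * y) ^ (i.cast : ℤ) * (x * y) ^ (j.cast : ℤ)
      rw [← zpow_add, zpow_eq_zpow_iff_cast]
      simp
    · show x * (x * y) ^ ((j - i).cast : ℤ) = (x * y) ^ (i.cast : ℤ) * (x * (x * y) ^ (j.cast : ℤ))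
      rw [← mul_assoc, zpow_mul_invol hx h, mul_assoc, ← zpow_add, mul_left_cancel_iff,
        zpow_eq_zpow_iff_cast]
      simp [sub_eq_add_neg, add_comm]
    · show x * (x * y) ^ ((i + j).cast : ℤ) = x * (x * y) ^ (i.cast : ℤ) * (x * y) ^ (j.cast : ℤ)
      rw [mul_assoc, ← zpow_add, mul_left_cancel_iff, zpow_eq_zpow_iff_cast]
      simp
    · show (x * y) ^ ((j - i).cast : ℤ)
        = x * (x * y) ^ (i.cast : ℤ) * (x * (x * y) ^ (j.cast : ℤ))
      rw [mul_assoc x, ← mul_assoc _ x, zpow_mul_invol hx h, mul_assoc x, ← zpow_add, ← mul_assoc,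
        invol_mul_self hx, one_mul, zpow_eq_zpow_iff_cast]
      simp [sub_eq_add_neg, add_comm]

theorem dihedralHom_injective {x y : G} (hx : orderOf x = 2) (hy : orderOf y = 2) :
    Function.Injective (dihedralHom hx hy) := by
  rw [injective_iff_map_eq_one]
  rintro (i | i) hi
  · change (x * y) ^ (i.cast : ℤ) = 1 at hi
    rw [← zpow_zero (x * y), zpow_eq_zpow_iff_cast] at hi
    simp only [ZMod.intCast_zmod_cast, Int.cast_zero] at hi
    rw [hi]; rfl
  · change x * (x * y) ^ (i.cast : ℤ) = 1 at hi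
    exact absurd ((mul_eq_one_iff_eq_inv.1 hi).symm.subst
        (motive := fun z => z ∈ Subgroup.zpowers (x * y)) (inv_mem (Subgroup.zpow_mem_zpowers _ _)))
      (invol_notMem_zpowers_mul hx hy)

theorem dihedralHom_range {x y : G} (hx : orderOf x = 2) (hy : orderOf y = 2) :
    (dihedralHom hx hy).range = Subgroup.closure ({x, y} : Set G) := by
  refine le_antisymm ?_ ?_
  · rintro _ ⟨i | i, rfl⟩
    · exact zpow_mem (mul_mem_closure_pair x y) _
    · exact mul_mem (Subgroup.subset_closure (by simp)) (zpow_mem (mul_mem_closure_pair x y) _)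
  · intro d hd
    obtain ⟨k, rfl | rfl⟩ := mem_closure_pair hx hy hd
    · refine ⟨DihedralGroup.r (k : ZMod _), ?_⟩
      show (x * y) ^ ((k : ZMod (orderOf (x * y))).cast : ℤ) = _
      rw [zpow_eq_zpow_iff_cast]; simp
    · refine ⟨DihedralGroup.sr (k : ZMod _), ?_⟩
      show x * (x * y) ^ ((k : ZMod (orderOf (x * y))).cast : ℤ) = _
      rw [mul_left_cancel_iff, zpow_eq_zpow_iff_cast]; simp

/-- Two involutions generate a dihedral group. -/
noncomputable def dihedralEquiv {x y : G} (hx : orderOf x = 2) (hy : orderOf y = 2) :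
    Subgroup.closure ({x, y} : Set G) ≃* DihedralGroup (orderOf (x * y)) :=
  ((MonoidHom.ofInjective (dihedralHom_injective hx hy)).trans
    (MulEquiv.subgroupCongr (dihedralHom_range hx hy))).symm

theorem card_closure_pair {x y : G} (hx : orderOf x = 2) (hy : orderOf y = 2) :
    Nat.card (Subgroup.closure ({x, y} : Set G)) = 2 * orderOf (x * y) := by
  rw [Nat.card_congr (dihedralEquiv hx hy).toEquiv, DihedralGroup.nat_card]

/-- A reflection in a dihedral group generated by two involutions is an involution. -/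
theorem orderOf_reflection {x y : G} (hx : orderOf x = 2) (hy : orderOf y = 2) (k : ℤ) :
    orderOf (x * (x * y) ^ k) = 2 := by
  have h := invol_conj_mul hx hy
  rw [invol_iff]
  constructor
  · rw [mul_assoc x, ← mul_assoc _ x, zpow_mul_invol hx h, mul_assoc x, ← zpow_add, ← mul_assoc,
      invol_mul_self hx, one_mul, neg_add_cancel, zpow_zero]
  · intro h1
    exact invol_notMem_zpowers_mul hx hy
      ((mul_eq_one_iff_eq_inv.1 h1).symm.subst (motive := fun z => z ∈ Subgroup.zpowers (x * y))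
        (inv_mem (Subgroup.zpow_mem_zpowers _ _)))

/-- Involutions whose product has odd order are conjugate in the group they generate. -/
theorem exists_conj_eq_of_odd {x y : G} (hx : orderOf x = 2) (hy : orderOf y = 2)
    (hodd : Odd (orderOf (x * y))) :
    ∃ d ∈ Subgroup.zpowers (x * y), d * x * d⁻¹ = y := by
  obtain ⟨m, hm⟩ := hodd
  refine ⟨(x * y) ^ (m : ℤ), Subgroup.zpow_mem_zpowers _ _, ?_⟩
  rw [zpow_conj_invol hx hy]
  have : (x * y) ^ (-(2 * (m : ℤ))) = x * y := by
    have h0 : (x * y) ^ ((2 * m + 1 : ℕ) : ℤ) = 1 := by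
      rw [zpow_natCast, ← hm, pow_orderOf_eq_one]
    push_cast at h0
    rw [show -(2 * (m : ℤ)) = 1 - (2 * m + 1) by ring, zpow_sub, h0, zpow_one, inv_one, mul_one]
  rw [this, ← mul_assoc, invol_mul_self hx, one_mul]

theorem isConj_of_odd {x y : G} (hx : orderOf x = 2) (hy : orderOf y = 2)
    (hodd : Odd (orderOf (x * y))) : IsConj x y := by
  obtain ⟨d, -, h⟩ := exists_conj_eq_of_odd hx hy hodd
  exact isConj_iff.2 ⟨d, h⟩

section Finite

variable [Finite G]

theorem odd_dvd_orderOf {x : G} {d : ℕ} (hd : d ∣ orderOf x) :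
    orderOf (x ^ d) = orderOf x / d := by
  rw [orderOf_pow, Nat.gcd_eq_right hd]

/-- The central involution of an even dihedral group. -/
theorem orderOf_pow_half {a : G} (heven : Even (orderOf a)) :
    orderOf (a ^ (orderOf a / 2)) = 2 := by
  obtain ⟨m, hm⟩ := heven
  have hp := orderOf_pos a
  have hd : orderOf a / 2 ∣ orderOf a := ⟨2, by omega⟩
  rw [odd_dvd_orderOf hd]
  apply Nat.div_eq_of_eq_mul_left <;> omega

theorem commute_pow_half {x a : G} (h : x * a * x⁻¹ = a⁻¹) (heven : Even (orderOf a)) :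
    Commute (a ^ (orderOf a / 2)) x := by
  have h2 : (a ^ (orderOf a / 2))⁻¹ = a ^ (orderOf a / 2) := invol_inv (orderOf_pow_half heven)
  have h1 : x * a ^ (orderOf a / 2) * x⁻¹ = (a ^ (orderOf a / 2))⁻¹ := by
    rw [← conj_pow, h, inv_pow]
  rw [h2] at h1
  exact (mul_inv_eq_iff_eq_mul.1 h1).symm

/-- Inside `⟨x, y⟩` one finds a conjugate `y'` of `y` such that `⟨x, y'⟩` is a 2-group. -/
theorem exists_conj_two_pow {x y : G} (hx : orderOf x = 2) (hy : orderOf y = 2) :
    ∃ d ∈ Subgroup.zpowers (x * y), orderOf (d * y * d⁻¹) = 2 ∧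
      orderOf (x * (d * y * d⁻¹)) = 2 ^ (orderOf (x * y)).factorization 2 := by
  set n := orderOf (x * y) with hn
  have hn0 : n ≠ 0 := (orderOf_pos _).ne'
  have hm : Odd (n / 2 ^ n.factorization 2) := by
    rw [Nat.odd_iff]
    have := Nat.not_dvd_ordCompl Nat.prime_two hn0
    omega
  obtain ⟨l, hl⟩ := hm
  refine ⟨(x * y) ^ (-(l : ℤ)), Subgroup.zpow_mem_zpowers _ _, invol_conj hy _, ?_⟩
  have : x * ((x * y) ^ (-(l : ℤ)) * y * ((x * y) ^ (-(l : ℤ)))⁻¹) = (x * y) ^ (2 * l + 1) := by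
    have hyx : y = x * (x * y) := by rw [← mul_assoc, invol_mul_self hx, one_mul]
    have key := zpow_mul_invol hx (invol_conj_mul hx hy) (-(l : ℤ))
    rw [neg_neg] at key
    nth_rewrite 2 [hyx]
    generalize x * y = a at key ⊢
    calc x * (a ^ (-(l : ℤ)) * (x * a) * (a ^ (-(l : ℤ)))⁻¹)
        = x * (a ^ (-(l : ℤ)) * x) * a * (a ^ (-(l : ℤ)))⁻¹ := by group
      _ = (x * x) * (a ^ (l : ℤ) * a * (a ^ (-(l : ℤ)))⁻¹) := by rw [key]; group
      _ = a ^ (2 * l + 1) := by
        rw [invol_mul_self hx, one_mul, ← zpow_neg, neg_neg, ← zpow_natCast a (2 * l + 1),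
          ← zpow_add_one, ← zpow_add]
        congr 1; push_cast; ring
  rw [this, ← hl, odd_dvd_orderOf (by rw [← hn]; exact Nat.ordCompl_dvd n 2), ← hn]
  exact Nat.div_div_self (Nat.ordProj_dvd n 2) hn0

theorem two_group_of_pair {x y : G} (hx : orderOf x = 2) (hy : orderOf y = 2) {s : ℕ}
    (h : orderOf (x * y) = 2 ^ s) :
    IsPGroup 2 (Subgroup.closure ({x, y} : Set G)) :=
  IsPGroup.of_card (n := s + 1) (by rw [card_closure_pair hx hy, h, pow_succ, mul_comm])

/-- A 2-subgroup is conjugate into any given Sylow 2-subgroup. -/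
theorem exists_conj_le_sylow {p : ℕ} [Fact p.Prime] {Q : Subgroup G} (hQ : IsPGroup p Q) (P : Sylow p G) :
    ∃ g : G, ∀ q ∈ Q, g * q * g⁻¹ ∈ P := by
  obtain ⟨P', hP'⟩ := hQ.exists_le_sylow
  obtain ⟨g, rfl⟩ := MulAction.exists_smul_eq G P' P
  refine ⟨g, fun q hq => ?_⟩
  show g * q * g⁻¹ ∈ ((g • P' : Sylow p G) : Subgroup G)
  rw [Sylow.coe_subgroup_smul]
  exact Subgroup.smul_mem_pointwise_smul q (MulAut.conj g) _ (hP' hq)

/-- If an involution `u` of a Sylow 2-subgroup is weakly closed there, `u * v` has odd order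
for every conjugate `v` of `u`. -/
theorem odd_orderOf_mul_conj_of_closed (P : Sylow 2 G) {u : G} (hu : orderOf u = 2)
    (h : ∀ g : G, g * u * g⁻¹ ∈ P → g * u * g⁻¹ = u) (g : G) :
    Odd (orderOf (u * (g * u * g⁻¹))) := by
  set v := g * u * g⁻¹ with hv
  have hvo : orderOf v = 2 := invol_conj hu g
  obtain ⟨d, hd, hwo, hord⟩ := exists_conj_two_pow hu hvo
  set w := d * v * d⁻¹ with hw
  obtain ⟨k, hk⟩ := exists_conj_le_sylow (two_group_of_pair hu hwo hord) P
  have h1 : k * u * k⁻¹ = u := h k (hk u (Subgroup.subset_closure (by simp)))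
  have h2 : k * w * k⁻¹ ∈ P := hk w (Subgroup.subset_closure (by simp))
  have h3 : k * w * k⁻¹ = (k * d * g) * u * (k * d * g)⁻¹ := by rw [hw, hv]; group
  have h4 : k * w * k⁻¹ = u := by rw [h3]; exact h _ (h3 ▸ h2)
  have huw : w = u := mul_left_cancel (mul_right_cancel (h4.trans h1.symm))
  rw [huw, invol_mul_self hu, orderOf_one] at hord
  have h5 : (orderOf (u * v)).factorization 2 = 0 := by
    by_contra h0
    have h6 : (2 : ℕ) ≤ 2 ^ (orderOf (u * v)).factorization 2 := le_self_pow₀ (by norm_num) h0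
    omega
  rw [Nat.odd_iff]
  by_contra h7
  have h8 : 2 ∣ orderOf (u * v) := by omega
  exact (Nat.Prime.factorization_pos_of_dvd Nat.prime_two (orderOf_pos _).ne' h8).ne' h5

theorem orderOf_pow_two_of_mem {P : Sylow 2 G} {a : G} (ha : a ∈ P) :
    ∃ s : ℕ, orderOf a = 2 ^ s := by
  obtain ⟨k, hk⟩ := P.2 ⟨a, ha⟩
  obtain ⟨s, -, hs⟩ := (Nat.dvd_prime_pow Nat.prime_two).1
    (orderOf_dvd_of_pow_eq_one (x := a) (n := 2 ^ k) (by simpa [Subtype.ext_iff] using hk))
  exact ⟨s, hs⟩

theorem eq_one_of_odd_of_pow_two {a : G} {k : ℕ} (hodd : Odd (orderOf a)) (h : a ^ 2 ^ k = 1) :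
    a = 1 := by
  obtain ⟨s, -, hs⟩ := (Nat.dvd_prime_pow Nat.prime_two).1 (orderOf_dvd_of_pow_eq_one h)
  rcases s with _ | s
  · exact orderOf_eq_one_iff.1 (by simpa using hs)
  · rw [hs] at hodd
    exact absurd (by simp [Nat.even_pow] : Even (2 ^ (s + 1))) (Nat.not_even_iff_odd.2 hodd)

/-- A finite group of even order has an involution. -/
theorem exists_invol_mem {H : Subgroup G} (h : Even (Nat.card H)) :
    ∃ t ∈ H, orderOf t = 2 := by
  obtain ⟨t, ht⟩ := exists_prime_orderOf_dvd_card' (G := H) 2 h.two_dvd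
  exact ⟨t, t.2, by rwa [Subgroup.orderOf_coe]⟩

theorem even_card_of_invol_mem {H : Subgroup G} {t : G} (ht : t ∈ H) (ho : orderOf t = 2) :
    Even (Nat.card H) := by
  rw [even_iff_two_dvd, ← ho]
  exact Subgroup.orderOf_dvd_natCard H ht

/-- Number of solutions of `x * x = 1` is congruent to the group order mod 2. -/
theorem even_card_sq_eq_one (h : Even (Nat.card G)) : Even (Nat.card {x : G // x * x = 1}) := by
  classical
  have := Fintype.ofFinite G
  set σ : Equiv.Perm G := Equiv.inv G with hσ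
  have h2 : σ ^ 2 = 1 := by ext a; simp [hσ, pow_two]
  have hs := Equiv.Perm.two_dvd_card_support h2
  have hsplit := Finset.card_filter_add_card_filter_not (s := (Finset.univ : Finset G))
    (p := fun x => x * x = 1)
  have hsup : σ.support = Finset.univ.filter (fun x => ¬ x * x = 1) := by
    ext a
    simp only [Equiv.Perm.mem_support, Finset.mem_filter, Finset.mem_univ, true_and, hσ,
      Equiv.inv_apply, ne_eq, mul_eq_one_iff_eq_inv]
    exact ⟨fun h e => h e.symm, fun h e => h e.symm⟩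
  rw [Nat.card_eq_fintype_card] at h ⊢
  rw [Fintype.card_subtype]
  rw [hsup] at hs
  rw [Finset.card_univ] at hsplit
  rw [even_iff_two_dvd] at h ⊢
  omega

end Finite

end CfsgLib.Invol
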