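import Cfsg.Agent.Lib.Invol.Basic
import Mathlib.GroupTheory.SpecificGroups.KleinFour

/-!
# Klein four-subgroups spanned by commuting involutions
-/

set_option autoImplicit false

namespace CfsgLib.Invol

variable {G : Type*} [Group G] [Finite G]

/-- The subgroup generated by commuting involutions commutes elementwise. -/
theorem commute_of_mem_closure {s : Set G} {g : G} (h : ∀ x ∈ s, Commute g x) {y : G}
    (hy : y ∈ Subgroup.closure s) : Commute g y := by
  have : Subgroup.closure s ≤ Subgroup.centralizer ({g} : Set G) :=
    (Subgroup.closure_le _).2 fun x hx => Subgroup.mem_centralizer_singleton_iff.2 (h x hx).eq.symm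
  exact (Subgroup.mem_centralizer_singleton_iff.1 (this hy)).symm

/-- Two distinct commuting involutions generate a Klein four group. -/
theorem isKleinFour_closure_pair {x y : G} (hx : orderOf x = 2) (hy : orderOf y = 2) (hne : x ≠ y)
    (hc : Commute x y) : IsKleinFour (Subgroup.closure ({x, y} : Set G)) := by
  have h1 : x * y ≠ 1 := fun e => hne ((mul_eq_one_iff_eq_inv.1 e).trans (invol_inv hy))
  have h2 : (x * y) ^ 2 = 1 := by
    rw [hc.mul_pow, ← hx, pow_orderOf_eq_one, hx, ← hy, pow_orderOf_eq_one, one_mul]
  have hcard : Nat.card (Subgroup.closure ({x, y} : Set G)) = 4 := by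
    rw [card_closure_pair hx hy, orderOf_eq_prime h2 h1]
  haveI : Nontrivial (Subgroup.closure ({x, y} : Set G)) :=
    Finite.one_lt_card_iff_nontrivial.1 (by rw [hcard]; norm_num)
  refine ⟨hcard, (Monoid.exponent_eq_prime_iff (p := 2) Nat.prime_two).2 fun g hg => ?_⟩
  refine orderOf_eq_prime ?_ hg
  refine Subtype.ext ?_
  show (g : G) ^ 2 = 1
  have hcm : IsMulCommutative (Subgroup.closure ({x, y} : Set G)) :=
    Subgroup.isMulCommutative_closure fun a ha b hb => by
      simp only [Set.mem_insert_iff, Set.mem_singleton_iff] at ha hb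
      rcases ha with e | e <;> rcases hb with e' | e' <;> rw [e, e']
      exacts [hc.eq, hc.symm.eq]
  have hcl : ∀ u ∈ Subgroup.closure ({x, y} : Set G), u ^ 2 = 1 := by
    intro u hu
    induction hu using Subgroup.closure_induction with
    | mem v hv =>
      simp only [Set.mem_insert_iff, Set.mem_singleton_iff] at hv
      rcases hv with e | e <;> rw [e]
      exacts [hx ▸ pow_orderOf_eq_one x, hy ▸ pow_orderOf_eq_one y]
    | one => exact one_pow 2
    | mul a b ha hb iha ihb =>
      have cba : Commute a b := congrArg Subtype.val (hcm.is_comm.comm ⟨a, ha⟩ ⟨b, hb⟩)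
      rw [cba.mul_pow, iha, ihb, one_mul]
    | inv a ha iha => rw [inv_pow, iha, inv_one]
  exact hcl g g.2

end CfsgLib.Invol
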