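import Cfsg.Agent.Lib.Invol.ZStar
import Cfsg.Agent.Lib.Invol.KleinPair
import Mathlib.GroupTheory.SpecificGroups.Quaternion

/-!
# Consequences of the Z*-theorem: 2-rank one, Brauer–Suzuki
-/

open Subgroup

set_option autoImplicit false

namespace CfsgLib.Invol

open Cfsg

universe u

/-- The elements of square one of a quaternion group. -/
theorem quaternion_sq_one {N : ℕ} [NeZero N] {q : QuaternionGroup N} (h : q * q = 1) :
    q = 1 ∨ q = .a (N : ZMod (2 * N)) := by
  haveI : NeZero (2 * N) := ⟨by have := NeZero.ne N; omega⟩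
  cases q with
  | xa i =>
    exfalso
    have h4 := QuaternionGroup.orderOf_xa (n := N) i
    have h2 := orderOf_dvd_of_pow_eq_one (show QuaternionGroup.xa i ^ 2 = 1 by rw [pow_two]; exact h)
    rw [h4] at h2
    norm_num at h2
  | a i =>
    rw [QuaternionGroup.a_mul_a, QuaternionGroup.one_def] at h
    injection h with h
    have h0 : 2 * N ∣ i.val + i.val := by
      rw [← ZMod.natCast_eq_zero_iff, Nat.cast_add, ZMod.natCast_zmod_val, h]
    have hlt := ZMod.val_lt i
    have hcases : i.val = 0 ∨ i.val = N := by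
      obtain ⟨k, hk⟩ := h0
      have : k < 2 := by
        by_contra hk2
        have : 2 * N * 2 ≤ 2 * N * k := Nat.mul_le_mul_left _ (not_lt.1 hk2)
        omega
      interval_cases k <;> omega
    rcases hcases with h1 | h1
    · left; rw [QuaternionGroup.one_def, (ZMod.val_eq_zero i).1 h1]
    · right; exact congrArg _ ((ZMod.natCast_zmod_val i).symm.trans (congrArg Nat.cast h1))

/-- The centre of a quaternion group of order at least eight has exponent two. -/
theorem quaternion_central_sq {N : ℕ} (hN : 2 ≤ N) {q : QuaternionGroup N}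
    (h1 : q * .xa 0 = .xa 0 * q) (h2 : q * .a 1 = .a 1 * q) : q * q = 1 := by
  cases q with
  | a i =>
    rw [QuaternionGroup.a_mul_xa, QuaternionGroup.xa_mul_a, zero_sub, zero_add] at h1
    injection h1 with h1
    rw [QuaternionGroup.a_mul_a, QuaternionGroup.one_def]
    congr 1
    calc i + i = -i + i := by rw [h1]
      _ = 0 := neg_add_cancel i
  | xa i =>
    exfalso
    rw [QuaternionGroup.xa_mul_a, QuaternionGroup.a_mul_xa] at h2
    injection h2 with h2
    have h : ((2 : ℕ) : ZMod (2 * N)) = 0 := by push_cast; linear_combination h2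
    rw [ZMod.natCast_eq_zero_iff] at h
    have := Nat.le_of_dvd two_pos h
    omega

variable {G : Type u} [Group G] [Finite G]

/-- An involution which is the only one of a Sylow 2-subgroup is central modulo the odd core. -/
theorem zcentral_of_unique_invol (P : Sylow 2 G) {z : G} (hz : orderOf z = 2)
    (h : ∀ x ∈ (P : Subgroup G), orderOf x = 2 → x = z) : IsZCentral z :=
  zstar_of_weakly_closed P hz fun g hg => h _ hg (invol_conj hz g)

/-- In a group of 2-rank one some involution is central modulo the odd core. -/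
theorem exists_zcentral_of_no_klein (heven : Even (Nat.card G))
    (hrank : ∀ E : Subgroup G, ¬ IsKleinFour E) : ∃ z : G, orderOf z = 2 ∧ IsZCentral z := by
  haveI : Fact (Nat.Prime 2) := ⟨Nat.prime_two⟩
  obtain ⟨P⟩ : Nonempty (Sylow 2 G) := inferInstance
  have hne : Nontrivial (P : Subgroup G) := by
    rw [← Finite.one_lt_card_iff_nontrivial]
    exact lt_of_lt_of_le Nat.one_lt_two
      (Nat.le_of_dvd Nat.card_pos (P.dvd_card_of_dvd_card heven.two_dvd))
  haveI := hne
  haveI := P.2.center_nontrivial
  obtain ⟨k, hk⟩ := (P.2.to_subgroup (Subgroup.center (P : Subgroup G))).exists_card_eq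
  have h2 : 2 ∣ Nat.card (Subgroup.center (P : Subgroup G)) := by
    rcases k with _ | k
    · have := Finite.one_lt_card_iff_nontrivial.2
        (inferInstance : Nontrivial (Subgroup.center (P : Subgroup G)))
      rw [hk] at this; norm_num at this
    · rw [hk]; exact dvd_pow_self 2 (by omega)
  obtain ⟨w, hw⟩ := exists_prime_orderOf_dvd_card' 2 h2
  have hwo : orderOf (((w : (P : Subgroup G)) : G)) = 2 := by
    rw [Subgroup.orderOf_coe, Subgroup.orderOf_coe, hw]
  refine ⟨_, hwo, zcentral_of_unique_invol P hwo fun x hx hxo => ?_⟩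
  by_contra hne'
  refine hrank _ (isKleinFour_closure_pair hxo hwo hne' ?_)
  exact congrArg Subtype.val (Subgroup.mem_center_iff.1 w.2 ⟨x, hx⟩)

/-- Brauer–Suzuki. -/
theorem card_center_eq_two (S : Sylow 2 G) {N : ℕ} (hN : 2 ≤ N) (h2N : Even N)
    (e : (S : Subgroup G) ≃* QuaternionGroup N)
    (hO : ∀ K : Subgroup G, K.Normal → Odd (Nat.card K) → K = ⊥) :
    Nat.card (Subgroup.center G) = 2 := by
  haveI : Fact (Nat.Prime 2) := ⟨Nat.prime_two⟩
  haveI : NeZero N := ⟨by omega⟩
  have hcore : pPrimeCore 2 G = ⊥ :=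
    hO _ (by haveI := Coprime.pPrimeCore_characteristic (G := G) 2; infer_instance)
      (Nat.odd_iff.2 (by have := Coprime.pPrimeCore_not_dvd (G := G) Nat.prime_two; omega))
  set z' : (S : Subgroup G) := e.symm (.a (N : ZMod (2 * N))) with hz'
  have huniq : ∀ x : (S : Subgroup G), x * x = 1 → x = 1 ∨ x = z' := fun x hx => by
    rcases quaternion_sq_one (q := e x) (by rw [← map_mul, hx, map_one]) with h | h
    · exact Or.inl (e.injective (h.trans (map_one e).symm))
    · exact Or.inr (by rw [hz', ← h, e.symm_apply_apply])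
  have hzz : z' * z' = 1 := by
    rw [hz', ← map_mul, QuaternionGroup.a_mul_a, ← map_one e.symm]
    congr 1
    rw [QuaternionGroup.one_def]
    congr 1
    rw [← Nat.cast_add, ← two_mul, ZMod.natCast_self]
  have hz'1 : z' ≠ 1 := fun h => by
    have h' : QuaternionGroup.a (N : ZMod (2 * N)) = 1 := e.symm.injective (h.trans (map_one _).symm)
    rw [QuaternionGroup.one_def] at h'
    injection h' with h'
    rw [ZMod.natCast_eq_zero_iff] at h'
    have := Nat.le_of_dvd (by omega) h'
    omega
  set z : G := (z' : G) with hz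
  have hzo : orderOf z = 2 := by
    rw [hz, Subgroup.orderOf_coe]
    exact invol_iff.2 ⟨hzz, hz'1⟩
  have huniqG : ∀ x ∈ (S : Subgroup G), orderOf x = 2 → x = z := fun x hx hxo => by
    rcases huniq ⟨x, hx⟩ (Subtype.ext (invol_mul_self hxo)) with h | h
    · exact absurd (congrArg Subtype.val h) (invol_ne_one hxo)
    · exact congrArg Subtype.val h
  have hcen : z ∈ Subgroup.center G :=
    eq_of_zcentral_bot (zcentral_of_unique_invol S hzo huniqG) hcore
  have hall : ∀ x ∈ Subgroup.center G, x = 1 ∨ x = z := by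
    intro x hx
    obtain ⟨a, r, hxe, hxc, ⟨k, hk⟩, hr⟩ : ∃ a r : G, x = a * r ∧ Commute a r ∧
        (∃ k : ℕ, orderOf a = 2 ^ k) ∧ ¬ 2 ∣ orderOf r := by
      obtain ⟨a, ha⟩ := Block.exists_isPPart (p := 2) Nat.prime_two x
      obtain ⟨r, h1, h2, h3, h4⟩ := ha
      exact ⟨a, r, h1.symm, h2, h3, h4⟩
    have hpow : ∀ j : ℕ, x ^ j ∈ Subgroup.center G := fun j => pow_mem hx j
    have hrc : r ∈ Subgroup.center G := by
      obtain ⟨j, hj⟩ := exists_pow_eq_self_of_coprime
        (Nat.Coprime.pow_left k ((Nat.prime_two.coprime_iff_not_dvd).2 hr))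
      have h := hpow (2 ^ k)
      rw [hxe, hxc.mul_pow, ← hk, pow_orderOf_eq_one, one_mul, hk] at h
      rw [← hj]; exact pow_mem h j
    have hac : a ∈ Subgroup.center G := by
      have : a = x * r⁻¹ := by rw [hxe, mul_inv_cancel_right]
      rw [this]; exact mul_mem hx (inv_mem hrc)
    have hr1 : r = 1 := by
      have hle : Subgroup.zpowers r ≤ pPrimeCore 2 G := by
        haveI : (Subgroup.zpowers r).Normal := ⟨fun y hy g => by
          have hyc := Subgroup.zpowers_le.2 hrc hy
          rwa [Subgroup.mem_center_iff.1 hyc g, mul_inv_cancel_right]⟩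
        exact Coprime.le_pPrimeCore_of_not_dvd Nat.prime_two (by rwa [Nat.card_zpowers])
      exact Subgroup.mem_bot.1 (hcore ▸ hle (Subgroup.mem_zpowers r))
    have haS : a ∈ (S : Subgroup G) := by
      obtain ⟨g, hg⟩ := exists_conj_le_sylow (Q := Subgroup.zpowers a)
        (IsPGroup.of_card (n := k) (by rw [Nat.card_zpowers, hk])) S
      have := hg a (Subgroup.mem_zpowers a)
      rwa [Subgroup.mem_center_iff.1 hac g, mul_inv_cancel_right] at this
    have hsq : (e ⟨a, haS⟩) * (e ⟨a, haS⟩) = 1 := by
      have hc : ∀ q, e ⟨a, haS⟩ * q = q * e ⟨a, haS⟩ := fun q => by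
        rw [← e.apply_symm_apply q, ← map_mul, ← map_mul]
        exact congrArg e (Subtype.ext ((Subgroup.mem_center_iff.1 hac _).symm))
      exact quaternion_central_sq hN (hc _) (hc _)
    rw [← map_mul, ← map_one e] at hsq
    rcases huniq _ (e.injective hsq) with h | h
    · exact Or.inl (by rw [hxe, hr1, mul_one]; exact congrArg Subtype.val h)
    · exact Or.inr (by rw [hxe, hr1, mul_one]; exact congrArg Subtype.val h)
  refine Nat.card_eq_two_iff.2 ⟨1, ⟨z, hcen⟩, fun h => invol_ne_one hzo
    (congrArg Subtype.val h).symm, ?_⟩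
  ext ⟨x, hx⟩
  simp only [Set.mem_insert_iff, Set.mem_singleton_iff, Set.mem_univ, iff_true, Subtype.ext_iff,
    Subgroup.coe_one]
  exact hall x hx

end CfsgLib.Invol
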