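import Cfsg.Agent.Lib.Invol.CharTwo
import Cfsg.Agent.Lib.Coprime.Core
import Cfsg.Prelude.Def_Transfer
import Mathlib.GroupTheory.Complement

/-!
# Quotients by the odd core
-/

set_option autoImplicit false

namespace CfsgLib.Invol

open Subgroup

variable {G : Type*} [Group G] [Finite G]

/-- A solvable group without odd normal subgroups, all of whose elements of odd order centralize
`O₂`, is a 2-group. -/
theorem isPGroup_two_of_odd_centralizes [Group.IsSolvable G] (h : Cfsg.pPrimeCore 2 G = ⊥)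
    (hc : ∀ x : G, Odd (orderOf x) → x ∈ centralizer (Cfsg.pCore 2 G : Set G)) : IsPGroup 2 G := by
  haveI : Fact (Nat.Prime 2) := ⟨Nat.prime_two⟩
  intro g
  refine ⟨(orderOf g).factorization 2, ?_⟩
  have hodd : Odd (orderOf (g ^ 2 ^ (orderOf g).factorization 2)) := by
    rw [orderOf_pow, Nat.gcd_eq_right (Nat.ordProj_dvd _ _), Nat.odd_iff]
    have := Nat.not_dvd_ordCompl Nat.prime_two (orderOf_pos g).ne'
    omega
  have hmem := centralizer_pCore_le_of_solvable (p := 2) h (hc _ hodd)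
  obtain ⟨k, hk⟩ := (Coprime.pCore_isPGroup (G := G) 2) ⟨_, hmem⟩
  have hk' : (g ^ 2 ^ (orderOf g).factorization 2) ^ 2 ^ k = 1 := congrArg Subtype.val hk
  exact orderOf_eq_one_iff.1 (Nat.eq_one_of_dvd_coprimes
    (Nat.Coprime.pow_right k hodd.coprime_two_right) dvd_rfl (orderOf_dvd_of_pow_eq_one hk'))

/-- If `G / O(G)` is a 2-group, then `O(G)` is a normal 2-complement. -/
theorem hasNormalPComplement_of_isPGroup_quotient (N : Subgroup G) [N.Normal]
    (hN : (Nat.card N).Coprime 2) (hq : IsPGroup 2 (G ⧸ N)) : Cfsg.HasNormalPComplement 2 G := by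
  haveI : Fact (Nat.Prime 2) := ⟨Nat.prime_two⟩
  obtain ⟨P⟩ : Nonempty (Sylow 2 G) := inferInstance
  refine ⟨P, N, inferInstance, ?_⟩
  obtain ⟨a, ha⟩ := hq.exists_card_eq
  rw [← Subgroup.index_eq_card] at ha
  obtain ⟨b, hb⟩ := P.2.exists_card_eq
  have hG := N.card_mul_index
  rw [ha] at hG
  have hi : (P : Subgroup G).index.Coprime 2 :=
    ((Nat.prime_two.coprime_iff_not_dvd).2 P.not_dvd_index).symm
  have hPG := (P : Subgroup G).card_mul_index
  rw [hb, ← hG] at hPG
  have h1 : (2 : ℕ) ^ b = 2 ^ a := Nat.dvd_antisymm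
    ((Nat.Coprime.pow_left b hN.symm).dvd_of_dvd_mul_left (Dvd.intro _ hPG))
    ((Nat.Coprime.pow_left a hi.symm).dvd_of_dvd_mul_right (Dvd.intro_left _ hPG.symm))
  refine Subgroup.isComplement'_of_coprime (by rw [hb, h1, hG]) ?_
  rw [hb]
  exact Nat.Coprime.pow_right b hN

/-- A Sylow 2-subgroup maps isomorphically modulo an odd normal subgroup. -/
theorem exists_sylow_quotient_equiv (N : Subgroup G) [N.Normal] (hN : (Nat.card N).Coprime 2)
    (T : Sylow 2 G) : ∃ T' : Sylow 2 (G ⧸ N), Nonempty ((T : Subgroup G) ≃* (T' : Subgroup (G ⧸ N))) := by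
  haveI : Fact (Nat.Prime 2) := ⟨Nat.prime_two⟩
  refine ⟨T.mapSurjective (QuotientGroup.mk'_surjective N), ⟨?_⟩⟩
  refine (MulEquiv.ofBijective ((QuotientGroup.mk' N).subgroupMap (T : Subgroup G))
    ⟨(injective_iff_map_eq_one _).2 fun x hx => ?_,
      (QuotientGroup.mk' N).subgroupMap_surjective _⟩).trans
    (MulEquiv.subgroupCongr (Sylow.coe_mapSurjective (QuotientGroup.mk'_surjective N) T).symm)
  have h1 : QuotientGroup.mk' N (x : G) = 1 := congrArg Subtype.val hx
  obtain ⟨k, hk⟩ := T.2 x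
  have hk' : (x : G) ^ 2 ^ k = 1 := congrArg Subtype.val hk
  have h2 : orderOf (x : G) ∣ Nat.card N :=
    Subgroup.orderOf_dvd_natCard N ((QuotientGroup.eq_one_iff (x : G)).1 h1)
  exact Subtype.ext (orderOf_eq_one_iff.1 (Nat.eq_one_of_dvd_coprimes
    (Nat.Coprime.pow_right k hN) h2 (orderOf_dvd_of_pow_eq_one hk')))

end CfsgLib.Invol
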