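import Cfsg.Prelude.Def_Involutions
import Cfsg.Agent.Lib.Invol.Basic

/-!
# Strongly embedded subgroups: elementary criteria
-/

namespace CfsgLib.Invol

variable {G : Type*} [Group G] [Finite G]

/-- `H` is strongly embedded iff it is proper of even order and conjugating an involution of `H`
into `H` can only be done from inside `H`. -/
theorem stronglyEmbedded_iff {H : Subgroup G} (hH : H ≠ ⊤) (heven : Even (Nat.card H)) :
    Cfsg.IsStronglyEmbedded H ↔
      ∀ t ∈ H, orderOf t = 2 → ∀ g : G, g * t * g⁻¹ ∈ H → g ∈ H := by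
  constructor
  · rintro ⟨-, -, h⟩ t ht hto g hg
    by_contra hgH
    have hodd := h g hgH
    have hmem : g * t * g⁻¹ ∈ H ⊓ H.map (MulAut.conj g).toMonoidHom :=
      ⟨hg, Subgroup.mem_map.2 ⟨t, ht, rfl⟩⟩
    exact Nat.not_even_iff_odd.2 hodd (even_card_of_invol_mem hmem (invol_conj hto g))
  · intro h
    refine ⟨hH, heven, fun g hg => ?_⟩
    rw [← Nat.not_even_iff_odd]
    intro hev
    obtain ⟨s, hs, hso⟩ := exists_invol_mem hev
    obtain ⟨hs1, t, ht, rfl⟩ := hs
    refine hg (h t ht ?_ g hs1)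
    have := invol_conj hso g⁻¹
    simpa [mul_assoc] using this

theorem mem_of_conj_mem {H : Subgroup G} (h : Cfsg.IsStronglyEmbedded H) {t g : G} (ht : t ∈ H)
    (hto : orderOf t = 2) (hg : g * t * g⁻¹ ∈ H) : g ∈ H :=
  (stronglyEmbedded_iff h.1 h.2.1).1 h t ht hto g hg

end CfsgLib.Invol
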