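import Cfsg.Agent.Lib.Invol.NormalizerCriterion
import Cfsg.Agent.Lib.Invol.StronglyEmbedded
import Cfsg.Prelude.Def_EvenType

/-!
# The two definitions of strong embedding
-/

set_option autoImplicit false

namespace CfsgLib.Invol

variable {X : Type*} [Group X] [Finite X]

/-- A subgroup containing the normalizers of the nontrivial subgroups of a Sylow 2-subgroup, in
the sense of `IsStronglyPEmbedded`, is strongly embedded. -/
theorem stronglyEmbedded_of_stronglyPEmbedded {Y : Subgroup X}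
    (h : Cfsg.IsStronglyPEmbedded 2 Y) : Cfsg.IsStronglyEmbedded Y := by
  haveI : Fact (Nat.Prime 2) := ⟨Nat.prime_two⟩
  obtain ⟨hd, hY, P, hP⟩ := h
  have hN : ∀ T : Subgroup X, T ≤ (P : Subgroup X) → T ≠ ⊥ →
      Subgroup.normalizer (T : Set X) ≤ Y := by
    intro T hT hT1
    refine (le_iSup_of_le (f := fun Q : {Q : Subgroup X // Q ≤ (P : Subgroup X) ∧ ¬ Cfsg.PRankLE 2 (1 - 1) Q} =>
      Subgroup.normalizer ((Q : Subgroup X) : Set X)) ⟨T, hT, fun hr => hT1 ?_⟩ le_rfl).trans hP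
    rw [Nat.sub_self] at hr
    by_contra hne
    obtain ⟨k, hk⟩ := (P.2.to_le hT).exists_card_eq
    have h2 : 2 ∣ Nat.card T := by
      rw [hk]; refine dvd_pow_self 2 fun h0 => hne ?_
      rw [h0, pow_zero] at hk
      exact Subgroup.card_eq_one.1 hk
    obtain ⟨a, ha⟩ := exists_prime_orderOf_dvd_card' (G := T) 2 h2
    have h1 := hr (Subgroup.zpowers a) inferInstance fun b hb => by
      obtain ⟨i, rfl⟩ := Subgroup.mem_zpowers_iff.1 hb
      rw [← zpow_natCast (a ^ i), ← zpow_mul, mul_comm, zpow_mul, zpow_natCast, ← ha,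
        pow_orderOf_eq_one, one_zpow]
    rw [Nat.card_zpowers, ha, pow_zero] at h1
    omega
  have hPne : (P : Subgroup X) ≠ ⊥ := P.ne_bot_of_dvd_card hd
  have hPY : (P : Subgroup X) ≤ Y := Subgroup.le_normalizer.trans (hN _ le_rfl hPne)
  refine stronglyEmbedded_of_normalizers (H := Y) (P := P.subtype hPY) hY ?_ fun T hT hT1 => hN T ?_ hT1
  · rw [Sylow.coe_subtype, Ne, Subgroup.subgroupOf_eq_bot, disjoint_comm]
    intro hdis
    exact hPne (le_bot_iff.1 (hdis.symm le_rfl hPY))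
  · refine hT.trans ?_
    rw [Sylow.coe_subtype, Subgroup.subgroupOf_map_subtype]
    exact inf_le_left

/-- Conversely, a strongly embedded subgroup is strongly 2-embedded. -/
theorem stronglyPEmbedded_of_stronglyEmbedded {Y : Subgroup X} (h : Cfsg.IsStronglyEmbedded Y) :
    Cfsg.IsStronglyPEmbedded 2 Y := by
  haveI : Fact (Nat.Prime 2) := ⟨Nat.prime_two⟩
  obtain ⟨P0⟩ : Nonempty (Sylow 2 Y) := inferInstance
  obtain ⟨P, hP⟩ := ((P0.2.map Y.subtype : IsPGroup 2 ((P0 : Subgroup Y).map Y.subtype))).exists_le_sylow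
  have hev : Even (Nat.card Y) := h.2.1
  have hnorm : ∀ T : Subgroup X, IsPGroup 2 T → T ≠ ⊥ → T ≤ Y → Subgroup.normalizer (T : Set X) ≤ Y := by
    intro T hTp hT hTY g hg
    obtain ⟨k, hk⟩ := hTp.exists_card_eq
    have h2 : Even (Nat.card T) := by
      rw [hk, Nat.even_pow]
      refine ⟨even_two, fun h0 => hT ?_⟩
      rw [h0, pow_zero] at hk
      exact Subgroup.card_eq_one.1 hk
    obtain ⟨t, ht, hto⟩ := exists_invol_mem h2
    exact mem_of_conj_mem h (hTY ht) hto (hTY ((Subgroup.mem_normalizer_iff.1 hg t).1 ht))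
  have hP0ne : (P0 : Subgroup Y).map Y.subtype ≠ ⊥ := by
    rw [Ne, Subgroup.map_eq_bot_iff_of_injective _ Y.subtype_injective]
    exact P0.ne_bot_of_dvd_card hev.two_dvd
  have hPY : (P : Subgroup X) ≤ Y := by
    by_contra hne
    obtain ⟨x, hxP, hxN, hxD⟩ := exists_mem_normalizer_notMem P.2 hP
      (fun hle => hne (hle.trans (Subgroup.map_subtype_le _)))
    have hxY : x ∈ Y := hnorm _ (P.2.to_le hP) hP0ne (Subgroup.map_subtype_le _) hxN
    have h1 : (P : Subgroup X).subgroupOf Y = P0 := P0.3 (P.2.comap_of_injective _ Y.subtype_injective) (by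
      intro y hy
      exact hP ⟨y, hy, rfl⟩)
    exact hxD ⟨⟨x, hxY⟩, h1.le (show (⟨x, hxY⟩ : Y) ∈ (P : Subgroup X).subgroupOf Y from hxP), rfl⟩
  refine ⟨(hev.two_dvd.trans (Subgroup.card_subgroup_dvd_card Y)), h.1, P, iSup_le ?_⟩
  rintro ⟨Q, hQ, hQr⟩
  refine hnorm Q (P.2.to_le hQ) (fun e => hQr ?_) (hQ.trans hPY)
  intro A _ _
  have hA : Nat.card A ≤ Nat.card Q := Subgroup.card_le_card_group A
  have hQ1 : Nat.card Q = 1 := Subgroup.card_eq_one.2 e
  rw [Nat.sub_self, pow_zero]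
  omega

end CfsgLib.Invol
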