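import Cfsg.Agent.Lib.Fusion.Transfer
import Cfsg.Agent.Lib.Invol.Basic
import Mathlib.GroupTheory.SpecificGroups.KleinFour

/-!
# Groups with a Klein four Sylow 2-subgroup
-/

namespace CfsgLib.Invol

variable {G : Type*} [Group G] [Finite G]

theorem klein_invol (P : Sylow 2 G) (hP : IsKleinFour (P : Subgroup G)) {x : G} (hx : x ∈ P)
    (hx1 : x ≠ 1) : orderOf x = 2 := by
  rw [invol_iff]
  refine ⟨?_, hx1⟩
  have h := Monoid.pow_exponent_eq_one (⟨x, hx⟩ : (P : Subgroup G))
  rw [hP.exponent_two, pow_two] at h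
  exact congrArg Subtype.val h

theorem klein_comm (P : Sylow 2 G) (hP : IsKleinFour (P : Subgroup G)) :
    IsMulCommutative (P : Subgroup G) :=
  IsPGroup.isMulCommutative_of_card_eq_prime_sq (p := 2) (by rw [hP.card_four]; norm_num)

/-- Either `N(P)` fixes every nonidentity element of `P`, or all of them are conjugate. -/
theorem klein_dichotomy (P : Sylow 2 G) (hP : IsKleinFour (P : Subgroup G)) :
    (∀ x ∈ P, ∀ g ∈ Subgroup.normalizer ((P : Subgroup G) : Set G), g * x * g⁻¹ = x) ∨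
    (∀ x ∈ P, ∀ y ∈ P, x ≠ 1 → y ≠ 1 → IsConj x y) := by
  classical
  refine or_iff_not_imp_left.2 fun h => ?_
  push Not at h
  obtain ⟨x, hx, g₀, hg₀, hne⟩ := h
  set N := Subgroup.normalizer ((P : Subgroup G) : Set G) with hN
  set D := (Subgroup.centralizer ({x} : Set G)).subgroupOf N with hD
  have hx1 : x ≠ 1 := by rintro rfl; simp at hne
  have hcomm := klein_comm P hP
  have hodd : ¬ 2 ∣ D.index := by
    intro h
    have hPC : (P : Subgroup G) ≤ Subgroup.centralizer ({x} : Set G) := fun u hu =>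
      Subgroup.mem_centralizer_singleton_iff.2
        (congrArg Subtype.val (hcomm.is_comm.comm (⟨u, hu⟩ : (P : Subgroup G)) ⟨x, hx⟩))
    have h1 : D.index ∣ (P : Subgroup G).relIndex N :=
      Subgroup.relIndex_dvd_of_le_left N hPC
    exact P.not_dvd_index ((h.trans h1).trans
      (Subgroup.relIndex_dvd_index_of_le (P : Subgroup G).le_normalizer))
  let f : N ⧸ D → {y : (P : Subgroup G) // y ≠ 1} := fun q =>
    Quotient.liftOn' q
      (fun n => ⟨⟨n.1 * x * n.1⁻¹, (Subgroup.mem_normalizer_iff.1 n.2 x).1 hx⟩,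
        fun h => hx1 (conj_eq_one_iff.1 (congrArg Subtype.val h))⟩)
      (fun a b hab => by
        rw [QuotientGroup.leftRel_apply, hD, Subgroup.mem_subgroupOf,
          Subgroup.mem_centralizer_singleton_iff] at hab
        apply Subtype.ext; apply Subtype.ext
        show a.1 * x * a.1⁻¹ = b.1 * x * b.1⁻¹
        push_cast at hab
        calc a.1 * x * a.1⁻¹ = a.1 * (x * (a.1⁻¹ * b.1)) * b.1⁻¹ := by group
          _ = a.1 * (a.1⁻¹ * b.1 * x) * b.1⁻¹ := by rw [hab]
          _ = b.1 * x * b.1⁻¹ := by group)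
  have hinj : Function.Injective f := by
    intro a b
    induction a using Quotient.inductionOn' with | _ a => ?_
    induction b using Quotient.inductionOn' with | _ b => ?_
    intro h
    have h' : a.1 * x * a.1⁻¹ = b.1 * x * b.1⁻¹ :=
      congrArg (fun z => z.1.1) h
    apply Quotient.sound'
    rw [QuotientGroup.leftRel_apply, hD, Subgroup.mem_subgroupOf,
      Subgroup.mem_centralizer_singleton_iff]
    push_cast
    calc a.1⁻¹ * b.1 * x = a.1⁻¹ * (b.1 * x * b.1⁻¹) * b.1 := by group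
      _ = a.1⁻¹ * (a.1 * x * a.1⁻¹) * b.1 := by rw [h']
      _ = x * (a.1⁻¹ * b.1) := by group
  have hthree : Nat.card {y : (P : Subgroup G) // y ≠ 1} = 3 := by
    have := Fintype.ofFinite (P : Subgroup G)
    have hc := hP.card_four
    rw [Nat.card_eq_fintype_card] at hc
    rw [Nat.card_eq_fintype_card, Fintype.card_subtype_compl, Fintype.card_subtype_eq, hc]
  have hle : D.index ≤ 3 := by
    rw [← hthree, Subgroup.index_eq_card]
    exact Nat.card_le_card_of_injective f hinj
  have hne1 : D.index ≠ 1 := by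
    intro h
    rw [Subgroup.index_eq_one] at h
    apply hne
    have : (⟨g₀, hg₀⟩ : N) ∈ D := h ▸ Subgroup.mem_top _
    rw [hD, Subgroup.mem_subgroupOf, Subgroup.mem_centralizer_singleton_iff] at this
    exact mul_inv_eq_iff_eq_mul.2 this
  have h3 : D.index = 3 := by
    have h0 : D.index ≠ 0 := Subgroup.index_ne_zero_of_finite
    omega
  have hsurj : Function.Surjective f :=
    ((Nat.bijective_iff_injective_and_card f).2
      ⟨hinj, by rw [← Subgroup.index_eq_card, h3, hthree]⟩).2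
  have key : ∀ y ∈ P, y ≠ 1 → IsConj x y := by
    intro y hy hy1
    obtain ⟨q, hq⟩ := hsurj ⟨⟨y, hy⟩, fun h => hy1 (congrArg Subtype.val h)⟩
    induction q using Quotient.inductionOn' with | _ n => ?_
    exact isConj_iff.2 ⟨n.1, congrArg (fun z => z.1.1) hq⟩
  exact fun a ha b hb ha1 hb1 => (key a ha ha1).symm.trans (key b hb hb1)

/-- The number of classes of involutions as the number of classes meeting `P`. -/
theorem klein_card_classes (P : Sylow 2 G) (hP : IsKleinFour (P : Subgroup G)) :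
    (∀ x ∈ P, ∀ g ∈ Subgroup.normalizer ((P : Subgroup G) : Set G), g * x * g⁻¹ = x) →
      Nat.card {C : ConjClasses G // ∃ t : G, orderOf t = 2 ∧ ConjClasses.mk t = C} = 3 := by
  classical
  intro h
  let f : {y : (P : Subgroup G) // y ≠ 1} →
      {C : ConjClasses G // ∃ t : G, orderOf t = 2 ∧ ConjClasses.mk t = C} := fun y =>
    ⟨ConjClasses.mk y.1.1, y.1.1,
      klein_invol P hP y.1.2 (fun h => y.2 (Subtype.ext h)), rfl⟩
  have hbij : Function.Bijective f := by
    constructor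
    · intro a b hab
      obtain ⟨g, hg⟩ := isConj_iff.1 (ConjClasses.mk_eq_mk_iff_isConj.1 (congrArg Subtype.val hab))
      obtain ⟨n, hn, hn'⟩ := CfsgLib.Fusion.abelian_sylow_control P (klein_comm P hP) a.1.2 g
        (by rw [hg]; exact b.1.2)
      rw [h _ a.1.2 n hn, hg] at hn'
      exact Subtype.ext (Subtype.ext hn')
    · rintro ⟨C, t, ht, rfl⟩
      have hp : IsPGroup 2 (Subgroup.zpowers t) :=
        IsPGroup.of_card (n := 1) (by rw [Nat.card_zpowers, ht, pow_one])
      obtain ⟨k, hk⟩ := exists_conj_le_sylow hp P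
      refine ⟨⟨⟨_, hk t (Subgroup.mem_zpowers t)⟩, fun h1 =>
        invol_ne_one ht (conj_eq_one_iff.1 (congrArg Subtype.val h1))⟩, ?_⟩
      exact Subtype.ext (ConjClasses.mk_eq_mk_iff_isConj.2 (isConj_iff.2 ⟨k, rfl⟩).symm)
  rw [← Nat.card_eq_of_bijective f hbij]
  have := Fintype.ofFinite (P : Subgroup G)
  have hc := hP.card_four
  rw [Nat.card_eq_fintype_card] at hc
  rw [Nat.card_eq_fintype_card, Fintype.card_subtype_compl, Fintype.card_subtype_eq, hc]

theorem klein_card_classes_one (P : Sylow 2 G) (hP : IsKleinFour (P : Subgroup G))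
    (h : ∀ x ∈ P, ∀ y ∈ P, x ≠ 1 → y ≠ 1 → IsConj x y) :
    Nat.card {C : ConjClasses G // ∃ t : G, orderOf t = 2 ∧ ConjClasses.mk t = C} = 1 := by
  have hconj : ∀ t : G, orderOf t = 2 → ∃ y ∈ P, y ≠ 1 ∧ IsConj t y := by
    intro t ht
    have hp : IsPGroup 2 (Subgroup.zpowers t) :=
      IsPGroup.of_card (n := 1) (by rw [Nat.card_zpowers, ht, pow_one])
    obtain ⟨k, hk⟩ := exists_conj_le_sylow hp P
    exact ⟨_, hk t (Subgroup.mem_zpowers t), fun h1 => invol_ne_one ht (conj_eq_one_iff.1 h1),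
      isConj_iff.2 ⟨k, rfl⟩⟩
  have hne : (P : Subgroup G) ≠ ⊥ := by
    intro hb
    have := hP.card_four
    rw [hb, Subgroup.card_bot] at this
    omega
  obtain ⟨x, hx, hx1⟩ := (P : Subgroup G).ne_bot_iff_exists_ne_one.1 hne |> fun ⟨x, hx⟩ =>
    (⟨x.1, x.2, fun h => hx (Subtype.ext h)⟩ : ∃ x, x ∈ (P : Subgroup G) ∧ x ≠ 1)
  rw [Nat.card_eq_one_iff_exists]
  refine ⟨⟨ConjClasses.mk x, x, klein_invol P hP hx hx1, rfl⟩, ?_⟩
  rintro ⟨C, t, ht, rfl⟩
  obtain ⟨y, hy, hy1, hty⟩ := hconj t ht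
  exact Subtype.ext (ConjClasses.mk_eq_mk_iff_isConj.2 (hty.trans (h x hx y hy hx1 hy1).symm))

end CfsgLib.Invol
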