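import Cfsg.Agent.Lib.Invol.TI
import Mathlib.GroupTheory.Nilpotent

/-!
# The Baer–Suzuki theorem
-/

namespace CfsgLib.Invol

variable {G : Type*} [Group G] [Finite G] {p : ℕ} [Fact p.Prime]

/-- If a conjugation-invariant set `C` meets the `p`-subgroup `P` in more than its trace `D` on
`K ≤ P`, some element of `C ∩ P` outside `K` normalizes `closure D`. -/
theorem exists_normalizing {C : Set G} (hC : ∀ g : G, ∀ c ∈ C, g * c * g⁻¹ ∈ C) {P : Subgroup G}
    (hP : IsPGroup p P) {K : Subgroup G} (hKP : K ≤ P) (hne : ∃ a, a ∈ C ∧ a ∈ P ∧ a ∉ K) :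
    ∃ a ∈ C, a ∈ P ∧ a ∉ K ∧
      a ∈ Subgroup.normalizer ((Subgroup.closure (C ∩ K) : Subgroup G) : Set G) := by
  classical
  set L : Subgroup G := Subgroup.closure (C ∩ K) with hL
  have hLK : L ≤ K := (Subgroup.closure_le K).2 fun x hx => hx.2
  set N := Subgroup.normalizer (L : Set G) with hN
  by_cases hPN : P ≤ N
  · obtain ⟨a, haC, haP, haK⟩ := hne
    exact ⟨a, haC, haP, haK, hPN haP⟩
  · have : Group.IsNilpotent P := hP.isNilpotent
    have hlt : N.subgroupOf P < ⊤ :=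
      lt_top_iff_ne_top.2 fun e => hPN (Subgroup.subgroupOf_eq_top.1 e)
    obtain ⟨y, hy, hy'⟩ :=
      SetLike.exists_of_lt (normalizerCondition_of_isNilpotent (G := P) _ hlt)
    have hyN : y.1 ∉ N := fun h => hy' (Subgroup.mem_subgroupOf.2 h)
    -- some element of `C ∩ K` is moved out of `K` by `y`
    have hex : ∃ c ∈ C ∩ (K : Set G), y.1 * c * y.1⁻¹ ∉ K := by
      by_contra hcon
      push Not at hcon
      apply hyN
      have hmap : L.map (MulAut.conj y.1).toMonoidHom ≤ L := by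
        rw [hL, MonoidHom.map_closure, Subgroup.closure_le]
        rintro _ ⟨c, hc, rfl⟩
        exact Subgroup.subset_closure ⟨hC _ _ hc.1, hcon c hc⟩
      exact mem_normalizer_of_conj_map_eq
        (Subgroup.eq_of_le_of_card_ge hmap (card_conj_map L y.1).ge)
    obtain ⟨c, hc, hcK⟩ := hex
    refine ⟨_, hC y.1 c hc.1, mul_mem (mul_mem y.2 (hKP hc.2)) (inv_mem y.2), hcK, ?_⟩
    have hcN : c ∈ N := Subgroup.le_normalizer (Subgroup.subset_closure hc)
    have := (Subgroup.mem_normalizer_iff.1 hy ⟨c, hKP hc.2⟩).1 (Subgroup.mem_subgroupOf.2 hcN)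
    exact Subgroup.mem_subgroupOf.1 this

/-- **Baer–Suzuki**: an element which generates a `p`-group with each of its conjugates lies in a
normal `p`-subgroup. -/
theorem exists_normal_pGroup_mem {x : G}
    (h : ∀ g : G, IsPGroup p (Subgroup.closure ({x, g * x * g⁻¹} : Set G))) :
    ∃ N : Subgroup G, N.Normal ∧ IsPGroup p N ∧ x ∈ N := by
  classical
  set C : Set G := {c | IsConj x c} with hCdef
  have hC : ∀ g : G, ∀ c ∈ C, g * c * g⁻¹ ∈ C := fun g c hc =>
    IsConj.trans hc (isConj_iff.2 ⟨g, rfl⟩)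
  have hxC : x ∈ C := IsConj.refl x
  -- any two members of `C` generate a `p`-group
  have hpair : ∀ a ∈ C, ∀ b ∈ C, IsPGroup p (Subgroup.closure ({a, b} : Set G)) := by
    intro a ha b hb
    obtain ⟨g, rfl⟩ := isConj_iff.1 ha
    obtain ⟨k, rfl⟩ := isConj_iff.1 hb
    have hg := (h (g⁻¹ * k)).map (MulAut.conj g).toMonoidHom
    rw [MonoidHom.map_closure] at hg
    have e2 : (MulAut.conj g).toMonoidHom (g⁻¹ * k * x * (g⁻¹ * k)⁻¹) = k * x * k⁻¹ := by
      show g * (g⁻¹ * k * x * (g⁻¹ * k)⁻¹) * g⁻¹ = k * x * k⁻¹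
      group
    rw [Set.image_insert_eq, Set.image_singleton, e2] at hg
    exact hg
  by_cases hall : ∀ P Q : Sylow p G, C ∩ (P : Set G) ⊆ (Q : Set G)
  · have hsub : ∀ P : Sylow p G, C ⊆ (P : Set G) := by
      intro P c hc
      have hp : IsPGroup p (Subgroup.zpowers c) := (hpair c hc c hc).to_le
        (Subgroup.zpowers_le.2 (Subgroup.subset_closure (by simp)))
      obtain ⟨Q, hQ⟩ := hp.exists_le_sylow
      exact hall Q P ⟨hc, hQ (Subgroup.mem_zpowers c)⟩
    obtain ⟨P⟩ := (inferInstance : Nonempty (Sylow p G))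
    refine ⟨Subgroup.closure C, ⟨fun n hn g => ?_⟩,
      P.2.to_le ((Subgroup.closure_le _).2 (hsub P)), Subgroup.subset_closure hxC⟩
    have hmap : (Subgroup.closure C).map (MulAut.conj g).toMonoidHom ≤ Subgroup.closure C := by
      rw [MonoidHom.map_closure, Subgroup.closure_le]
      rintro _ ⟨c, hc, rfl⟩
      exact Subgroup.subset_closure (hC g c hc)
    exact hmap (Subgroup.mem_map.2 ⟨n, hn, rfl⟩)
  exfalso
  push Not at hall
  -- a pair of Sylow subgroups with different traces on `C` and maximal common trace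
  let f : Sylow p G × Sylow p G → ℕ := fun PQ =>
    Nat.card {c : G // c ∈ C ∧ c ∈ PQ.1 ∧ c ∈ PQ.2}
  have := Fintype.ofFinite (Sylow p G)
  obtain ⟨P₀, Q₀, h0⟩ := hall
  obtain ⟨⟨P, Q⟩, hPQ, hmax⟩ := Finset.exists_max_image
    (Finset.univ.filter fun PQ : Sylow p G × Sylow p G => ¬ C ∩ (PQ.1 : Set G) ⊆ (PQ.2 : Set G)) f
    ⟨(P₀, Q₀), Finset.mem_filter.2 ⟨Finset.mem_univ _, h0⟩⟩
  simp only [Finset.mem_filter, Finset.mem_univ, true_and] at hPQ hmax
  -- the traces of the Sylow subgroups on `C` all have the same size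
  have hcard : ∀ R S : Sylow p G, C ∩ (R : Set G) ⊆ (S : Set G) → C ∩ (S : Set G) ⊆ (R : Set G) := by
    intro R S hRS
    obtain ⟨g, rfl⟩ := MulAction.exists_smul_eq G R S
    let φ : {c : G // c ∈ C ∧ c ∈ R} → {c : G // c ∈ C ∧ c ∈ g • R} := fun c =>
      ⟨c.1, c.2.1, hRS ⟨c.2.1, c.2.2⟩⟩
    have hmem : ∀ c : G, c ∈ ((g • R : Sylow p G) : Subgroup G) ↔ g⁻¹ * c * g ∈ (R : Subgroup G) := by
      intro c
      rw [Sylow.coe_subgroup_smul, Subgroup.mem_pointwise_smul_iff_inv_smul_mem]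
      simp [MulAut.smul_def]
    let e : {c : G // c ∈ C ∧ c ∈ R} ≃ {c : G // c ∈ C ∧ c ∈ g • R} :=
      { toFun := fun c => ⟨g * c.1 * g⁻¹, hC g _ c.2.1, (hmem _).2 (by
          have e1 : g⁻¹ * (g * c.1 * g⁻¹) * g = c.1 := by group
          rw [e1]; exact c.2.2)⟩
        invFun := fun c => ⟨g⁻¹ * c.1 * g, by
          have := hC g⁻¹ _ c.2.1
          rwa [inv_inv] at this, (hmem _).1 c.2.2⟩
        left_inv := fun c => Subtype.ext (by simp [mul_assoc])
        right_inv := fun c => Subtype.ext (by simp [mul_assoc]) }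
    have hφ : Function.Injective φ := fun a b hab => Subtype.ext (congrArg (fun z => z.1) hab :)
    have hφs : Function.Surjective φ :=
      (Nat.bijective_iff_injective_and_card φ).2 ⟨hφ, Nat.card_congr e⟩ |>.2
    intro c hc
    obtain ⟨d, hd⟩ := hφs ⟨c, hc.1, hc.2⟩
    have : d.1 = c := congrArg Subtype.val hd
    exact this ▸ d.2.2
  have hQP : ¬ C ∩ (Q : Set G) ⊆ (P : Set G) := fun h' => hPQ (hcard Q P h')
  obtain ⟨a₀, ha₀, ha₀'⟩ := Set.not_subset.1 hPQ
  obtain ⟨b₀, hb₀, hb₀'⟩ := Set.not_subset.1 hQP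
  set K : Subgroup G := (P : Subgroup G) ⊓ (Q : Subgroup G) with hK
  obtain ⟨a, haC, haP, haK, haN⟩ := exists_normalizing hC P.2 (inf_le_left : K ≤ P)
    ⟨a₀, ha₀.1, ha₀.2, fun h' => ha₀' h'.2⟩
  obtain ⟨b, hbC, hbQ, hbK, hbN⟩ := exists_normalizing hC Q.2 (inf_le_right : K ≤ Q)
    ⟨b₀, hb₀.1, hb₀.2, fun h' => hb₀' h'.1⟩
  set L : Subgroup G := Subgroup.closure (C ∩ (K : Set G)) with hL
  have hLp : IsPGroup p L := P.2.to_le ((Subgroup.closure_le _).2 fun z hz => hz.2.1)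
  have hab : Subgroup.closure ({a, b} : Set G) ≤ Subgroup.normalizer (L : Set G) :=
    (Subgroup.closure_le _).2 fun z hz => by rcases hz with rfl | rfl <;> assumption
  obtain ⟨R, hR⟩ := ((hpair a haC b hbC).to_sup_of_normal_right' hLp hab).exists_le_sylow
  have haR : a ∈ R := hR (Subgroup.mem_sup_left (Subgroup.subset_closure (by simp)))
  have hbR : b ∈ R := hR (Subgroup.mem_sup_left (Subgroup.subset_closure (by simp)))
  have hDR : ∀ c ∈ C, c ∈ P → c ∈ Q → c ∈ R := fun c hc h1 h2 =>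
    hR (Subgroup.mem_sup_right (Subgroup.subset_closure ⟨hc, h1, h2⟩))
  have hgrow : ∀ (S : Sylow p G) (u : G), u ∈ C → u ∈ S → u ∉ K → u ∈ R →
      (∀ c ∈ C, c ∈ P → c ∈ Q → c ∈ S) → C ∩ (S : Set G) ⊆ (R : Set G) := by
    intro S u huC huS huK huR hDS
    by_contra hSR
    have hle := hmax (S, R) hSR
    let ι : {c : G // c ∈ C ∧ c ∈ (P, Q).1 ∧ c ∈ (P, Q).2} →
        {c : G // c ∈ C ∧ c ∈ (S, R).1 ∧ c ∈ (S, R).2} := fun c =>
      ⟨c.1, c.2.1, hDS c.1 c.2.1 c.2.2.1 c.2.2.2, hDR c.1 c.2.1 c.2.2.1 c.2.2.2⟩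
    have hι : Function.Injective ι := fun c d hcd => Subtype.ext (congrArg (fun z => z.1) hcd :)
    have hlt : f (P, Q) < f (S, R) := by
      have := Fintype.ofFinite G
      simp only [f, Nat.card_eq_fintype_card]
      refine Fintype.card_lt_of_injective_of_notMem ι hι (b := ⟨u, huC, huS, huR⟩) ?_
      rintro ⟨c, hc⟩
      have hcu : c.1 = u := congrArg Subtype.val hc
      exact huK (hcu ▸ ⟨c.2.2.1, c.2.2.2⟩)
    omega
  have h1 := hgrow P a haC haP haK haR fun c _ h1 _ => h1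
  have h2 := hgrow Q b hbC hbQ hbK hbR fun c _ _ h2 => h2
  exact hPQ fun c hc => hcard Q R h2 ⟨hc.1, h1 hc⟩

end CfsgLib.Invol
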