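import Cfsg.Prelude.Def_Balance
import Cfsg.Agent.Lib.Coprime.Core
import Cfsg.Agent.Lib.Coprime.Action

/-!
# Signalizer functors: the family, products, quotients, and transitivity

Basic theory of a solvable signalizer functor on an elementary abelian `p`-group `A`,
up to the transitivity theorem for the maximal `q`-members of the family.
-/

set_option autoImplicit false
set_option linter.unusedSectionVars false
set_option linter.style.haveILetI false

namespace CfsgLib.Invol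

open Subgroup
open CfsgLib.Coprime

universe u

variable {G : Type u} [Group G] [Finite G] {p : ℕ} [hp : Fact p.Prime]

theorem le_normalizer_of_forall_conj {A U : Subgroup G}
    (h : ∀ b ∈ A, ∀ x ∈ U, b * x * b⁻¹ ∈ U) : A ≤ normalizer (U : Set G) := by
  intro b hb
  rw [Subgroup.mem_normalizer_iff]
  refine fun x => ⟨h b hb x, fun hx => ?_⟩
  have := h b⁻¹ (inv_mem hb) _ hx
  simpa [mul_assoc] using this

theorem isPGroup_of_isElementaryAbelian {A : Subgroup G} (hA : Cfsg.IsElementaryAbelian p A) :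
    IsPGroup p A := fun a => ⟨1, by rw [pow_one]; exact Subtype.ext (hA.2 a a.2)⟩

theorem coprime_card_of_not_dvd {A U : Subgroup G} (hA : IsPGroup p A)
    (hU : ¬ p ∣ Nat.card U) : (Nat.card A).Coprime (Nat.card U) := by
  obtain ⟨n, hn⟩ := IsPGroup.iff_card.1 hA
  rw [hn]
  exact (hp.out.coprime_iff_not_dvd.2 hU).pow_left n

theorem zpowers_le_of_isElementaryAbelian {A : Subgroup G} {a : G} (ha : a ∈ A) :
    zpowers a ≤ A := zpowers_le.2 ha

/-- In an exponent `p` group, a nontrivial power of `a` has the centralizer of `a`. -/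
theorem centralizer_eq_of_mem_zpowers {A : Subgroup G} (hA : Cfsg.IsElementaryAbelian p A)
    {a b : G} (ha : a ∈ A) (hb : b ∈ zpowers a) (hb1 : b ≠ 1) :
    centralizer ({b} : Set G) = centralizer ({a} : Set G) := by
  have ha1 : a ≠ 1 := by
    rintro rfl
    rw [zpowers_one_eq_bot, mem_bot] at hb
    exact hb1 hb
  have hoa : orderOf a = p := orderOf_eq_prime (hA.2 a ha) ha1
  have hob : orderOf b = p := orderOf_eq_prime (hA.2 b (zpowers_le.2 ha hb)) hb1
  have e : zpowers b = zpowers a := eq_of_le_of_card_ge (zpowers_le.2 hb)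
    (by rw [Nat.card_zpowers, Nat.card_zpowers, hoa, hob])
  have key : ∀ {x y : G}, y ∈ zpowers x →
      centralizer ({x} : Set G) ≤ centralizer ({y} : Set G) := by
    intro x y hy g hg
    obtain ⟨n, rfl⟩ := mem_zpowers_iff.1 hy
    rw [mem_centralizer_singleton_iff] at hg ⊢
    exact (Commute.zpow_right hg n).eq
  exact le_antisymm (key (by rw [e]; exact mem_zpowers a)) (key hb)

/-- A point of a normal product fixed by a coprime group is a product of fixed points. -/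
theorem fixed_mul_exists {B X Y : Subgroup G} (hBs : Group.IsSolvable B)
    (hBX : B ≤ normalizer (X : Set G)) (hBY : B ≤ normalizer (Y : Set G))
    (hYX : Y ≤ normalizer (X : Set G))
    (hcop : (Nat.card B).Coprime (Nat.card X)) {g : G} (hg : g ∈ X ⊔ Y)
    (hgB : g ∈ centralizer (B : Set G)) :
    ∃ x ∈ X ⊓ centralizer (B : Set G), ∃ y ∈ Y ⊓ centralizer (B : Set G), x * y = g := by
  obtain ⟨x, hx, y, hy, rfl⟩ := mem_sup_exists hYX hg
  have hfix : ∀ b ∈ B, b * y * b⁻¹ * y⁻¹ ∈ X ⊓ Y := by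
    intro b hb
    refine Subgroup.mem_inf.2 ⟨?_, mul_mem (conj_mem_of_le_normalizer hBY hb hy) (inv_mem hy)⟩
    have h := mem_centralizer_iff_conj_eq.1 hgB b hb
    have e : b * y * b⁻¹ * y⁻¹ = (b * x * b⁻¹)⁻¹ * x := by
      have h2 : (b * x * b⁻¹) * (b * y * b⁻¹) = x * y := by
        rw [← h]; group
      calc b * y * b⁻¹ * y⁻¹ = (b * x * b⁻¹)⁻¹ * ((b * x * b⁻¹) * (b * y * b⁻¹)) * y⁻¹ := by group
        _ = (b * x * b⁻¹)⁻¹ * (x * y) * y⁻¹ := by rw [h2]
        _ = _ := by group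
    rw [e]
    exact mul_mem (inv_mem (conj_mem_of_le_normalizer hBX hb hx)) hx
  have hyN : y ∈ normalizer ((X ⊓ Y : Subgroup G) : Set G) :=
    inf_le_normalizer (A := Y) hYX le_normalizer hy
  obtain ⟨n, hn, hyn⟩ := exists_fixed_in_coset (inf_le_normalizer hBX hBY)
    (hcop.coprime_dvd_right (card_dvd_of_le inf_le_left)) (Or.inl hBs) hyN hfix
  obtain ⟨hn1, hn2⟩ := Subgroup.mem_inf.1 hn
  have hyx : y * n⁻¹ * y⁻¹ ∈ X :=
    (Subgroup.mem_normalizer_iff.1 (hYX hy) _).1 (inv_mem hn1)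
  have hy' : y * n ∈ Y := mul_mem hy hn2
  refine ⟨x * (y * n⁻¹ * y⁻¹), Subgroup.mem_inf.2 ⟨mul_mem hx hyx, ?_⟩, y * n,
    Subgroup.mem_inf.2 ⟨hy', hyn⟩, by group⟩
  have e : x * (y * n⁻¹ * y⁻¹) = (x * y) * (y * n)⁻¹ := by group
  rw [e]
  exact mul_mem hgB (inv_mem hyn)

theorem isSolvable_sup {X Y : Subgroup G} (hYX : Y ≤ normalizer (X : Set G))
    (hX : Group.IsSolvable X) (hY : Group.IsSolvable Y) : Group.IsSolvable ↥(X ⊔ Y) := by
  haveI : (X.subgroupOf (X ⊔ Y)).Normal :=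
    (normal_subgroupOf_iff_le_normalizer le_sup_left).2 (sup_le le_normalizer hYX)
  haveI : Group.IsSolvable (X.subgroupOf (X ⊔ Y)) := isSolvable_subgroupOf hX
  haveI := hY
  have hs : Function.Surjective ((QuotientGroup.mk' (X.subgroupOf (X ⊔ Y))).comp
      (inclusion (le_sup_right : Y ≤ X ⊔ Y))) := by
    intro z
    obtain ⟨g, rfl⟩ := QuotientGroup.mk'_surjective _ z
    obtain ⟨x, hx, y, hy, e⟩ := mem_sup_exists hYX g.2
    refine ⟨⟨y, hy⟩, ?_⟩
    rw [MonoidHom.comp_apply, QuotientGroup.mk'_apply, QuotientGroup.mk'_apply, QuotientGroup.eq]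
    show ((inclusion le_sup_right ⟨y, hy⟩ : ↥(X ⊔ Y))⁻¹ * g : ↥(X ⊔ Y)) ∈ X.subgroupOf (X ⊔ Y)
    rw [mem_subgroupOf]
    show y⁻¹ * (g : G) ∈ X
    rw [← e, ← mul_assoc]
    exact (Subgroup.mem_normalizer_iff''.1 (hYX hy) x).1 hx
  haveI : Group.IsSolvable (↥(X ⊔ Y) ⧸ X.subgroupOf (X ⊔ Y)) :=
    Group.isSolvable_of_surjective hs
  exact Group.isSolvable_of_ker_le_range (X.subgroupOf (X ⊔ Y)).subtype
    (QuotientGroup.mk' (X.subgroupOf (X ⊔ Y))) (by rw [QuotientGroup.ker_mk', range_subtype])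

variable {A : Subgroup G} {θ : G → Subgroup G}

theorem family_normalizer {U : Subgroup G} (hU : U ∈ Cfsg.signalizerFamily p A θ) :
    A ≤ normalizer (U : Set G) :=
  le_normalizer_of_forall_conj hU.2.2.1

theorem theta_mem_family (hθ : Cfsg.IsSolvableSignalizerFunctor p A θ) {a : G} (ha : a ∈ A)
    (ha1 : a ≠ 1) : θ a ∈ Cfsg.signalizerFamily p A θ :=
  ⟨hθ.2 a ha ha1, hθ.1.2.1 a ha ha1, fun b hb x hx => hθ.1.2.2.1 a ha ha1 b hb x hx,
    fun b hb hb1 => hθ.1.2.2.2 a ha ha1 b hb hb1⟩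

theorem mem_family_of_le {U X : Subgroup G} (hX : X ∈ Cfsg.signalizerFamily p A θ) (hle : U ≤ X)
    (hinv : A ≤ normalizer (U : Set G)) : U ∈ Cfsg.signalizerFamily p A θ :=
  ⟨isSolvable_of_le hle hX.1, fun h => hX.2.1 (h.trans (card_dvd_of_le hle)),
    fun _ hb _ hu => conj_mem_of_le_normalizer hinv hb hu,
    fun a ha ha1 => (inf_le_inf_right _ hle).trans (hX.2.2.2 a ha ha1)⟩

theorem bot_mem_family : (⊥ : Subgroup G) ∈ Cfsg.signalizerFamily p A θ := by
  refine ⟨inferInstance, ?_, ?_, fun a _ _ => inf_le_left.trans bot_le⟩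
  · rw [card_bot]; exact hp.out.not_dvd_one
  · intro b _ x hx
    rw [mem_bot] at hx ⊢
    rw [hx, mul_one, mul_inv_cancel]

theorem sup_mem_family (hA : Cfsg.IsElementaryAbelian p A) {X Y : Subgroup G}
    (hX : X ∈ Cfsg.signalizerFamily p A θ) (hY : Y ∈ Cfsg.signalizerFamily p A θ)
    (hn : Y ≤ normalizer (X : Set G)) : X ⊔ Y ∈ Cfsg.signalizerFamily p A θ := by
  refine ⟨isSolvable_sup hn hX.1 hY.1, fun h => ?_, ?_, ?_⟩
  · have := card_sup_dvd_of_le_normalizer hn
    rw [sup_comm] at h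
    rcases hp.out.dvd_mul.1 (h.trans this) with h | h
    · exact hY.2.1 h
    · exact hX.2.1 h
  · intro b hb u hu
    exact conj_mem_of_le_normalizer
      (Coprime.sup_le_normalizer (family_normalizer hX) (family_normalizer hY)) hb hu
  · intro a ha ha1 g hg
    have hz : zpowers a ≤ A := zpowers_le.2 ha
    have hgB : g ∈ centralizer (zpowers a : Set G) := by
      refine mem_centralizer_iff.2 fun z hz' => ?_
      obtain ⟨n, rfl⟩ := mem_zpowers_iff.1 hz'
      exact (Commute.zpow_left (mem_centralizer_iff.1 hg.2 a rfl) n).eq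
    have hBp : IsPGroup p (zpowers a) := (isPGroup_of_isElementaryAbelian hA).to_le hz
    obtain ⟨x, hx, y, hy, rfl⟩ := fixed_mul_exists
      (isSolvable_of_isMulCommutative inferInstance) (hz.trans (family_normalizer hX))
      (hz.trans (family_normalizer hY)) hn (coprime_card_of_not_dvd hBp hX.2.1) hg.1 hgB
    have hc : centralizer (zpowers a : Set G) ≤ centralizer ({a} : Set G) :=
      centralizer_le (Set.singleton_subset_iff.2 (mem_zpowers a))
    exact mul_mem (hX.2.2.2 a ha ha1 ⟨hx.1, hc hx.2⟩) (hY.2.2.2 a ha ha1 ⟨hy.1, hc hy.2⟩)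

theorem quotient_balance (hA : Cfsg.IsElementaryAbelian p A)
    (hθ : Cfsg.IsSolvableSignalizerFunctor p A θ) (N : Subgroup G) [hNn : N.Normal]
    {a b : G} (ha : a ∈ A) (ha1 : a ≠ 1) (hb : b ∈ A) (hb1 : b ≠ 1) :
    (θ a).map (QuotientGroup.mk' N) ⊓ centralizer {QuotientGroup.mk' N b} ≤
      (θ b).map (QuotientGroup.mk' N) := by
  rintro z ⟨⟨x, hx, rfl⟩, hz⟩
  have hW := theta_mem_family hθ ha ha1
  have hzA : zpowers b ≤ A := zpowers_le.2 hb
  have hBp : IsPGroup p (zpowers b) := (isPGroup_of_isElementaryAbelian hA).to_le hzA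
  have hBM : zpowers b ≤ normalizer ((θ a ⊓ N : Subgroup G) : Set G) :=
    inf_le_normalizer (hzA.trans (family_normalizer hW))
      (by rw [Subgroup.normalizer_eq_top]; exact le_top)
  have hxM : x ∈ normalizer ((θ a ⊓ N : Subgroup G) : Set G) :=
    inf_le_normalizer (A := θ a) le_normalizer
      (by rw [Subgroup.normalizer_eq_top]; exact le_top) hx
  have hfix : ∀ c ∈ zpowers b, c * x * c⁻¹ * x⁻¹ ∈ θ a ⊓ N := by
    intro c hc
    refine Subgroup.mem_inf.2 ⟨mul_mem (hW.2.2.1 c (hzA hc) x hx) (inv_mem hx), ?_⟩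
    obtain ⟨n, rfl⟩ := mem_zpowers_iff.1 hc
    have hcomm : Commute (QuotientGroup.mk' N b) (QuotientGroup.mk' N x) :=
      mem_centralizer_iff.1 hz _ rfl
    rw [← QuotientGroup.eq_one_iff, QuotientGroup.mk_mul, QuotientGroup.mk_mul,
      QuotientGroup.mk_mul, QuotientGroup.mk_inv, QuotientGroup.mk_inv]
    show QuotientGroup.mk' N (b ^ n) * QuotientGroup.mk' N x * (QuotientGroup.mk' N (b ^ n))⁻¹ *
      (QuotientGroup.mk' N x)⁻¹ = 1
    rw [map_zpow, (hcomm.zpow_left n).eq]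
    group
  obtain ⟨m, hm, hxm⟩ := exists_fixed_in_coset hBM
    (coprime_card_of_not_dvd hBp fun h => hW.2.1 (h.trans (card_dvd_of_le inf_le_left)))
    (Or.inl (isSolvable_of_isMulCommutative inferInstance)) hxM hfix
  refine ⟨x * m, hW.2.2.2 b hb hb1 ⟨mul_mem hx hm.1,
    centralizer_le (Set.singleton_subset_iff.2 (mem_zpowers b)) hxm⟩, ?_⟩
  show QuotientGroup.mk' N (x * m) = QuotientGroup.mk' N x
  rw [map_mul, show QuotientGroup.mk' N m = 1 from (QuotientGroup.eq_one_iff m).2 hm.2, mul_one]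

/-- For an acted-on subgroup `R` not inside `D`, some subgroup of index at most `p` in `A`
has a fixed point of `R` outside `D`. -/
theorem exists_large_fixing {A R D : Subgroup G} (hA : Cfsg.IsElementaryAbelian p A)
    (hR : ¬ p ∣ Nat.card R) (hAR : A ≤ normalizer (R : Set G)) (hRD : ¬ R ≤ D) :
    ∃ B : Subgroup G, B ≤ A ∧ ¬ R ⊓ centralizer (B : Set G) ≤ D ∧
      Nat.card A ≤ p * Nat.card B := by
  obtain ⟨B, -, hB⟩ := exists_maximal_ge_of_wellFoundedGT
    (fun B : Subgroup G => B ≤ A ∧ ¬ R ⊓ centralizer (B : Set G) ≤ D) ⊥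
    ⟨bot_le, fun h => hRD (le_trans (le_inf le_rfl (fun x _ => by
      rw [mem_centralizer_iff]
      intro y hy
      rw [SetLike.mem_coe, mem_bot] at hy
      rw [hy, one_mul, mul_one])) h)⟩
  obtain ⟨hBA, hBD⟩ := hB.prop
  refine ⟨B, hBA, hBD, ?_⟩
  by_contra hlt
  push Not at hlt
  haveI := hA.1
  have hAc : ∀ x ∈ A, ∀ y ∈ A, x * y = y * x := fun x hx y hy =>
    congrArg Subtype.val (mul_comm' (⟨x, hx⟩ : A) ⟨y, hy⟩)
  obtain ⟨c, hcA, hcB⟩ : ∃ c ∈ A, c ∉ B := by
    by_contra h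
    push Not at h
    have : Nat.card A ≤ Nat.card B := Nat.le_of_dvd Nat.card_pos (card_dvd_of_le h)
    have h2 := Nat.le_mul_of_pos_left (Nat.card B) hp.out.pos
    omega
  have hcardsup : ∀ c ∈ A, Nat.card ↥(zpowers c ⊔ B) ≤ p * Nat.card B := by
    intro c hc
    have hn : zpowers c ≤ normalizer (B : Set G) := by
      refine (zpowers_le.2 ?_)
      rw [Subgroup.mem_normalizer_iff]
      intro x
      constructor
      · intro hx
        rwa [hAc c hc x (hBA hx), mul_inv_cancel_right]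
      · intro hx
        have hxA : x ∈ A := by
          have h1 := mul_mem (mul_mem (inv_mem hc) (hBA hx)) hc
          rwa [show c⁻¹ * (c * x * c⁻¹) * c = x by group] at h1
        rwa [hAc c hc x hxA, mul_inv_cancel_right] at hx
    refine (Nat.le_of_dvd (Nat.mul_pos Nat.card_pos Nat.card_pos)
      (card_sup_dvd_of_le_normalizer hn)).trans ?_
    refine Nat.mul_le_mul_right _ ?_
    rw [Nat.card_zpowers]
    exact Nat.le_of_dvd hp.out.pos (orderOf_dvd_of_pow_eq_one (hA.2 c hc))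
  obtain ⟨d, hdA, hdB⟩ : ∃ d ∈ A, d ∉ zpowers c ⊔ B := by
    by_contra h
    push Not at h
    have h1 : Nat.card A ≤ Nat.card ↥(zpowers c ⊔ B) :=
      Nat.le_of_dvd Nat.card_pos (card_dvd_of_le h)
    have h2 := hcardsup c hcA
    omega
  set C := zpowers c ⊔ zpowers d with hC
  have hCA : C ≤ A := sup_le (zpowers_le.2 hcA) (zpowers_le.2 hdA)
  haveI : IsMulCommutative C :=
    ⟨⟨fun x y => Subtype.ext (hAc x (hCA x.2) y (hCA y.2))⟩⟩
  have hCB : C ⊓ B = ⊥ := by
    refine (eq_bot_iff_forall _).2 fun x hx => ?_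
    obtain ⟨u, hu, v, hv, rfl⟩ := mem_sup_exists (N := zpowers c) (H := zpowers d)
      (fun y hy => by
        rw [Subgroup.mem_normalizer_iff]
        intro z
        have hyA : y ∈ A := zpowers_le.2 hdA hy
        constructor
        · intro hz
          rwa [hAc y hyA z (zpowers_le.2 hcA hz), mul_inv_cancel_right]
        · intro hz
          have hzA : z ∈ A := by
            have h1 := mul_mem (mul_mem (inv_mem hyA) (zpowers_le.2 hcA hz)) hyA
            rwa [show y⁻¹ * (y * z * y⁻¹) * y = z by group] at h1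
          rwa [hAc y hyA z hzA, mul_inv_cancel_right] at hz) hx.1
    have hv' : v ∈ zpowers c ⊔ B := by
      have := mul_mem ((le_sup_left : zpowers c ≤ zpowers c ⊔ B) (inv_mem hu))
        ((le_sup_right : B ≤ zpowers c ⊔ B) hx.2)
      rwa [inv_mul_cancel_left] at this
    have hv1 : v = 1 := by
      by_contra hv1
      have hd1 : d ≠ 1 := fun e => hdB (e ▸ one_mem _)
      have hod : orderOf d = p := orderOf_eq_prime (hA.2 d hdA) hd1
      have hov : orderOf v = p := orderOf_eq_prime (hA.2 v (zpowers_le.2 hdA hv)) hv1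
      have e : zpowers v = zpowers d := eq_of_le_of_card_ge (zpowers_le.2 hv)
        (by rw [Nat.card_zpowers, Nat.card_zpowers, hod, hov])
      exact hdB ((zpowers_le.2 hv' : zpowers v ≤ _) (e.symm ▸ mem_zpowers d))
    subst hv1
    rw [mul_one] at hx ⊢
    by_contra hu1
    have hc1 : c ≠ 1 := fun e => hcB (e ▸ one_mem _)
    have hoc : orderOf c = p := orderOf_eq_prime (hA.2 c hcA) hc1
    have hou : orderOf u = p := orderOf_eq_prime (hA.2 u (zpowers_le.2 hcA hu)) hu1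
    have e : zpowers u = zpowers c := eq_of_le_of_card_ge (zpowers_le.2 hu)
      (by rw [Nat.card_zpowers, Nat.card_zpowers, hoc, hou])
    exact hcB ((zpowers_le.2 hx.2 : zpowers u ≤ B) (e.symm ▸ mem_zpowers c))
  have hCnc : ¬ IsCyclic C := by
    intro hcyc
    obtain ⟨g, hg⟩ := hcyc.exists_generator
    have hC2 : zpowers (g : G) = C := by
      refine le_antisymm (zpowers_le.2 g.2) fun x hx => ?_
      obtain ⟨n, hn⟩ := mem_zpowers_iff.1 (hg ⟨x, hx⟩)
      exact mem_zpowers_iff.2 ⟨n, by rw [← SubgroupClass.coe_zpow, hn]⟩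
    have hcard : Nat.card C ≤ p := by
      rw [← hC2, Nat.card_zpowers]
      exact Nat.le_of_dvd hp.out.pos (orderOf_dvd_of_pow_eq_one (hA.2 _ (hCA g.2)))
    have hc1 : c ≠ 1 := fun e => hcB (e ▸ one_mem _)
    have hoc : orderOf c = p := orderOf_eq_prime (hA.2 c hcA) hc1
    have e : zpowers c = C := eq_of_le_of_card_ge le_sup_left
      (by rw [Nat.card_zpowers, hoc]; exact hcard)
    exact hdB ((le_sup_left : zpowers c ≤ zpowers c ⊔ B) (e.symm ▸
      ((le_sup_right : zpowers d ≤ C) (mem_zpowers d))))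
  have hW : A ≤ normalizer ((R ⊓ centralizer (B : Set G) : Subgroup G) : Set G) := by
    refine inf_le_normalizer hAR (le_trans ?_ le_normalizer)
    intro x hx
    rw [mem_centralizer_iff]
    exact fun y hy => hAc y (hBA hy) x hx
  have hWp : ¬ p ∣ Nat.card ↥(R ⊓ centralizer (B : Set G)) :=
    fun h => hR (h.trans (card_dvd_of_le inf_le_left))
  apply hBD
  refine le_of_centralizers_le (A := C) hCnc (hCA.trans hW)
    (coprime_card_of_not_dvd ((isPGroup_of_isElementaryAbelian hA).to_le hCA) hWp) ?_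
  intro e he he1
  by_contra hnot
  have hB' : B ⊔ zpowers e ≤ A := sup_le hBA (zpowers_le.2 (hCA he))
  have heq : B = B ⊔ zpowers e := hB.eq_of_le ⟨hB', fun h => hnot (le_trans (fun x hx => by
    refine ⟨hx.1.1, ?_⟩
    have : B ⊔ zpowers e ≤ centralizer ({x} : Set G) :=
      sup_le (fun y hy => mem_centralizer_singleton_iff.2 ((mem_centralizer_iff.1 hx.1.2 y hy)))
        (zpowers_le.2 (mem_centralizer_singleton_iff.2 (mem_centralizer_iff.1 hx.2 e rfl)))
    show x ∈ centralizer (((B ⊔ zpowers e : Subgroup G)) : Set G)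
    rw [mem_centralizer_iff]
    intro y hy
    exact mem_centralizer_singleton_iff.1 (this hy)) h)⟩ le_sup_left
  have : e ∈ C ⊓ B := ⟨he, heq ▸ (le_sup_right : zpowers e ≤ B ⊔ zpowers e) (mem_zpowers e)⟩
  rw [hCB, mem_bot] at this
  exact he1 this

theorem normalizer_grows {q : ℕ} [Fact q.Prime] {Q D : Subgroup G} (hQ : IsPGroup q Q)
    (hDQ : D ≤ Q) (hne : D ≠ Q) : ¬ normalizer (D : Set G) ⊓ Q ≤ D := by
  intro h
  haveI : Group.IsNilpotent Q := hQ.isNilpotent
  have hlt : D.subgroupOf Q < ⊤ := lt_of_le_of_ne le_top fun e =>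
    hne (le_antisymm hDQ (subgroupOf_eq_top.1 e))
  obtain ⟨x, hxN, hxD⟩ := SetLike.exists_of_lt (Group.normalizerCondition_of_isNilpotent _ hlt)
  refine hxD (h (Subgroup.mem_inf.2 ⟨?_, x.2⟩))
  rw [Subgroup.subtype_apply]
  rw [Subgroup.mem_normalizer_iff]
  intro y
  constructor <;> intro hy
  · exact (Subgroup.mem_normalizer_iff.1 hxN ⟨y, hDQ hy⟩).1 hy
  · have hyQ : y ∈ Q := by
      have h1 := mul_mem (mul_mem (inv_mem x.2) (hDQ hy)) x.2
      rwa [show (x : G)⁻¹ * ((x : G) * y * (x : G)⁻¹) * (x : G) = y by group] at h1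
    exact (Subgroup.mem_normalizer_iff.1 hxN ⟨y, hyQ⟩).2 hy

/-- Two invariant `q`-subgroups properly containing their meet share an element of `A`. -/
theorem exists_common_fixing (hA : Cfsg.IsElementaryAbelian p A) (hA3 : p ^ 3 ≤ Nat.card A)
    {q : ℕ} [Fact q.Prime] (hqp : q ≠ p) {Q₁ Q₂ : Subgroup G}
    (h₁ : IsPGroup q Q₁) (h₂ : IsPGroup q Q₂) (hA₁ : A ≤ normalizer (Q₁ : Set G))
    (hA₂ : A ≤ normalizer (Q₂ : Set G)) (hD₁ : Q₁ ⊓ Q₂ ≠ Q₁) (hD₂ : Q₁ ⊓ Q₂ ≠ Q₂) :
    ∃ a ∈ A, a ≠ 1 ∧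
      ¬ (normalizer ((Q₁ ⊓ Q₂ : Subgroup G) : Set G) ⊓ Q₁ ⊓ centralizer {a} ≤ Q₁ ⊓ Q₂) ∧
      ¬ (normalizer ((Q₁ ⊓ Q₂ : Subgroup G) : Set G) ⊓ Q₂ ⊓ centralizer {a} ≤ Q₁ ⊓ Q₂) := by
  set D := Q₁ ⊓ Q₂ with hD
  have hND : A ≤ normalizer (normalizer (D : Set G) : Set G) :=
    (inf_le_normalizer hA₁ hA₂).trans le_normalizer
  have key : ∀ Q : Subgroup G, IsPGroup q Q → A ≤ normalizer (Q : Set G) → D ≤ Q → D ≠ Q →
      ∃ B : Subgroup G, B ≤ A ∧
        ¬ normalizer (D : Set G) ⊓ Q ⊓ centralizer (B : Set G) ≤ D ∧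
        Nat.card A ≤ p * Nat.card B := by
    intro Q hQ hAQ hDQ hne
    refine exists_large_fixing hA ?_ (inf_le_normalizer hND hAQ) (normalizer_grows hQ hDQ hne)
    intro h
    obtain ⟨n, hn⟩ := IsPGroup.iff_card.1 hQ
    have := h.trans (card_dvd_of_le inf_le_right)
    rw [hn] at this
    exact hqp ((Nat.prime_dvd_prime_iff_eq hp.out Fact.out).1 (hp.out.dvd_of_dvd_pow this)).symm
  obtain ⟨B₁, hB₁A, hB₁, hc₁⟩ := key Q₁ h₁ hA₁ inf_le_left hD₁
  obtain ⟨B₂, hB₂A, hB₂, hc₂⟩ := key Q₂ h₂ hA₂ inf_le_right hD₂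
  have hne : B₁ ⊓ B₂ ≠ ⊥ := by
    intro hbot
    haveI := hA.1
    have hle : Nat.card B₁ * Nat.card B₂ ≤ Nat.card A := by
      rw [← Nat.card_prod]
      refine Nat.card_le_card_of_injective
        (fun x : B₁ × B₂ => (⟨x.1 * x.2, mul_mem (hB₁A x.1.2) (hB₂A x.2.2)⟩ : A)) ?_
      intro x y hxy
      exact mul_injective_of_disjoint (disjoint_iff.2 hbot) (congrArg Subtype.val hxy)
    have h4 : Nat.card A * Nat.card A ≤ p * p * Nat.card A := by
      calc Nat.card A * Nat.card A ≤ (p * Nat.card B₁) * (p * Nat.card B₂) :=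
            Nat.mul_le_mul hc₁ hc₂
        _ = p * p * (Nat.card B₁ * Nat.card B₂) := by ring
        _ ≤ _ := Nat.mul_le_mul_left _ hle
    have h5 : Nat.card A ≤ p * p := Nat.le_of_mul_le_mul_right h4 Nat.card_pos
    have h6 : p * p < p ^ 3 := by
      rw [pow_succ, sq]
      exact lt_mul_of_one_lt_right (Nat.mul_pos hp.out.pos hp.out.pos) hp.out.one_lt
    omega
  obtain ⟨a, ha, hne'⟩ := (bot_or_exists_ne_one (B₁ ⊓ B₂)).resolve_left hne
  refine ⟨a, hB₁A ha.1, hne', fun h => hB₁ (le_trans (inf_le_inf_left _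
    (centralizer_le (Set.singleton_subset_iff.2 ha.1))) h), fun h => hB₂ (le_trans
    (inf_le_inf_left _ (centralizer_le (Set.singleton_subset_iff.2 ha.2))) h)⟩

end CfsgLib.Invol
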