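import Cfsg.Agent.Lib.Invol.Counting

/-!
# Non-conjugate involutions; the Thompson order formula for two classes
-/

namespace CfsgLib.Invol

variable {G : Type*} [Group G] [Finite G]

theorem even_of_not_isConj {a b : G} (ha : orderOf a = 2) (hb : orderOf b = 2)
    (h : ¬ IsConj a b) : Even (orderOf (a * b)) := by
  rw [← Nat.not_odd_iff_even]
  exact fun ho => h (isConj_of_odd ha hb ho)

/-- Two non-conjugate involutions centralize a common involution. -/
theorem exists_invol_commute_both {a b : G} (ha : orderOf a = 2) (hb : orderOf b = 2)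
    (h : ¬ IsConj a b) : ∃ z : G, orderOf z = 2 ∧ Commute z a ∧ Commute z b :=
  ⟨_, orderOf_pow_half (even_of_not_isConj ha hb h),
    commute_pow_half (invol_conj_mul ha hb) (even_of_not_isConj ha hb h),
    commute_pow_half (invol_conj_mul' ha hb) (even_of_not_isConj ha hb h)⟩

theorem invol_zpowers_unique {w z z' : G} (hz : orderOf z = 2) (hz' : orderOf z' = 2)
    (h : z ∈ Subgroup.zpowers w) (h' : z' ∈ Subgroup.zpowers w) : z = z' := by
  classical
  have := Fintype.ofFinite (Subgroup.zpowers w)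
  have hc := IsCyclic.card_pow_eq_one_le (α := Subgroup.zpowers w) (n := 2) (by norm_num)
  by_contra hne
  have hsub : ({⟨1, one_mem _⟩, ⟨z, h⟩, ⟨z', h'⟩} : Finset (Subgroup.zpowers w)) ⊆
      Finset.univ.filter (fun a => a ^ 2 = 1) := by
    intro a ha
    simp only [Finset.mem_insert, Finset.mem_singleton] at ha
    simp only [Finset.mem_filter, Finset.mem_univ, true_and]
    rcases ha with rfl | rfl | rfl <;> apply Subtype.ext
    · simp
    · show z ^ 2 = 1
      rw [pow_two, invol_mul_self hz]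
    · show z' ^ 2 = 1
      rw [pow_two, invol_mul_self hz']
  have h3 : ({⟨1, one_mem _⟩, ⟨z, h⟩, ⟨z', h'⟩} : Finset (Subgroup.zpowers w)).card = 3 := by
    rw [Finset.card_insert_of_notMem, Finset.card_pair]
    · intro e; exact hne (congrArg Subtype.val e)
    · simp only [Finset.mem_insert, Finset.mem_singleton, not_or, Subtype.mk.injEq]
      exact ⟨(invol_ne_one hz).symm, (invol_ne_one hz').symm⟩
  have := Finset.card_le_card hsub
  omega

theorem card_isConj_mul (x : G) :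
    Nat.card {y : G // IsConj x y} * Nat.card (Subgroup.centralizer ({x} : Set G)) = Nat.card G := by
  rw [Subgroup.centralizer_eq_comap_stabilizer]
  have h := MulAction.index_stabilizer (ConjAct G) x
  have h1 : Nat.card {y : G // IsConj x y} = (MulAction.orbit (ConjAct G) x).ncard := by
    rw [← Nat.card_coe_set_eq]
    exact Nat.card_congr (Equiv.subtypeEquivRight fun y => by
      rw [ConjAct.mem_orbit_conjAct]; exact isConj_comm)
  rw [h1, ← h, mul_comm]
  have h2 := (Subgroup.comap ConjAct.toConjAct.toMonoidHom (MulAction.stabilizer (ConjAct G) x)).card_mul_index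
  have h3 : (Subgroup.comap ConjAct.toConjAct.toMonoidHom (MulAction.stabilizer (ConjAct G) x)).index
      = (MulAction.stabilizer (ConjAct G) x).index :=
    Subgroup.index_comap_of_surjective _ ConjAct.toConjAct.surjective
  rw [h3] at h2
  exact h2

/-- The pairs in `X₁ × X₂` with `x₁ ∈ ⟨ab⟩`, translated to every member of the class of `x₁`. -/
theorem card_pairs_over (x₁ x₂ z : G) (p : G → G → Prop) (hp : ∀ g a b, p a b ↔ p (g * a * g⁻¹) (g * b * g⁻¹))
    (hz : IsConj x₁ z) :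
    Nat.card {q : G × G // IsConj x₂ q.1 ∧ p q.1 q.2 ∧ z ∈ Subgroup.zpowers (q.1 * q.2)} =
      Nat.card {q : G × G // IsConj x₂ q.1 ∧ p q.1 q.2 ∧ x₁ ∈ Subgroup.zpowers (q.1 * q.2)} := by
  obtain ⟨g, rfl⟩ := isConj_iff.1 hz
  symm
  refine Nat.card_congr ((Equiv.prodCongr (MulAut.conj g).toEquiv (MulAut.conj g).toEquiv).subtypeEquiv
    fun q => ?_)
  show _ ↔ IsConj x₂ (g * q.1 * g⁻¹) ∧ p (g * q.1 * g⁻¹) (g * q.2 * g⁻¹) ∧
    g * x₁ * g⁻¹ ∈ Subgroup.zpowers (g * q.1 * g⁻¹ * (g * q.2 * g⁻¹))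
  rw [← hp]
  refine and_congr ⟨fun h => h.trans (isConj_iff.2 ⟨g, rfl⟩), fun h =>
    h.trans (isConj_iff.2 ⟨g⁻¹, by group⟩)⟩ (and_congr Iff.rfl ?_)
  have e : g * q.1 * g⁻¹ * (g * q.2 * g⁻¹) = MulAut.conj g (q.1 * q.2) := by
    simp [mul_assoc]
  rw [e]
  constructor
  · intro h
    obtain ⟨k, hk⟩ := Subgroup.mem_zpowers_iff.1 h
    exact Subgroup.mem_zpowers_iff.2 ⟨k, by rw [← map_zpow, hk]; rfl⟩
  · intro h
    obtain ⟨k, hk⟩ := Subgroup.mem_zpowers_iff.1 h
    refine Subgroup.mem_zpowers_iff.2 ⟨k, (MulAut.conj g).injective ?_⟩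
    rw [map_zpow, hk]; rfl

theorem thompson_two_classes (x₁ x₂ : G) (h₁ : orderOf x₁ = 2) (h₂ : orderOf x₂ = 2)
    (hnc : ¬ IsConj x₁ x₂) (hall : ∀ t : G, orderOf t = 2 → IsConj x₁ t ∨ IsConj x₂ t) :
    Nat.card G =
      Nat.card (Subgroup.centralizer ({x₂} : Set G)) *
        Nat.card {p : G × G // IsConj x₁ p.1 ∧ IsConj x₂ p.2 ∧ x₁ ∈ Subgroup.zpowers (p.1 * p.2)} +
      Nat.card (Subgroup.centralizer ({x₁} : Set G)) *
        Nat.card {p : G × G // IsConj x₁ p.1 ∧ IsConj x₂ p.2 ∧ x₂ ∈ Subgroup.zpowers (p.1 * p.2)} := by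
  classical
  have := Fintype.ofFinite G
  have hinv : ∀ {x y : G}, orderOf x = 2 → IsConj x y → orderOf y = 2 := by
    intro x y hx hxy
    obtain ⟨g, rfl⟩ := isConj_iff.1 hxy
    exact invol_conj hx g
  set A := {y : G // IsConj x₁ y}
  set B := {y : G // IsConj x₂ y}
  set N₁ := Nat.card {p : G × G // IsConj x₁ p.1 ∧ IsConj x₂ p.2 ∧ x₁ ∈ Subgroup.zpowers (p.1 * p.2)}
  set N₂ := Nat.card {p : G × G // IsConj x₁ p.1 ∧ IsConj x₂ p.2 ∧ x₂ ∈ Subgroup.zpowers (p.1 * p.2)}
  -- count the pairs by the class of their central involution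
  have hN : ∀ (x : G) (z : {y : G // IsConj x y}),
      Nat.card {p : G × G // IsConj x₁ p.1 ∧ IsConj x₂ p.2 ∧ z.1 ∈ Subgroup.zpowers (p.1 * p.2)} =
      Nat.card {p : G × G // IsConj x₁ p.1 ∧ IsConj x₂ p.2 ∧ x ∈ Subgroup.zpowers (p.1 * p.2)} :=
    fun x z => card_pairs_over x x₁ z.1 (fun _ b => IsConj x₂ b)
      (fun g _ b => ⟨fun h => h.trans (isConj_iff.2 ⟨g, rfl⟩),
        fun h => h.trans (isConj_iff.2 ⟨g⁻¹, by group⟩)⟩) z.2
  let P := fun z : G => {p : G × G // IsConj x₁ p.1 ∧ IsConj x₂ p.2 ∧ z ∈ Subgroup.zpowers (p.1 * p.2)}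
  let F : (Σ z : A, P z.1) ⊕ (Σ z : B, P z.1) → A × B
    | Sum.inl q => (⟨q.2.1.1, q.2.2.1⟩, ⟨q.2.1.2, q.2.2.2.1⟩)
    | Sum.inr q => (⟨q.2.1.1, q.2.2.1⟩, ⟨q.2.1.2, q.2.2.2.1⟩)
  have hFbij : Function.Bijective F := by
    refine ⟨?_, ?_⟩
    · rintro (⟨z, p, hp1, hp2, hp3⟩ | ⟨z, p, hp1, hp2, hp3⟩) (⟨w, q, hq1, hq2, hq3⟩ | ⟨w, q, hq1, hq2, hq3⟩) h <;>
        (obtain rfl : p = q := Prod.ext
          (congrArg (fun r => r.1.1) h :) (congrArg (fun r => r.2.1) h :))
      · obtain rfl : z = w := Subtype.ext (invol_zpowers_unique (hinv h₁ z.2) (hinv h₁ w.2) hp3 hq3)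
        rfl
      · exact absurd (z.2.trans ((invol_zpowers_unique (hinv h₁ z.2) (hinv h₂ w.2) hp3 hq3) ▸ w.2.symm)) hnc
      · exact absurd (w.2.trans ((invol_zpowers_unique (hinv h₁ w.2) (hinv h₂ z.2) hq3 hp3) ▸ z.2.symm)) hnc
      · obtain rfl : z = w := Subtype.ext (invol_zpowers_unique (hinv h₂ z.2) (hinv h₂ w.2) hp3 hq3)
        rfl
    · rintro ⟨⟨a, ha⟩, ⟨b, hb⟩⟩
      have hev : Even (orderOf (a * b)) :=
        even_of_not_isConj (hinv h₁ ha) (hinv h₂ hb) fun h => hnc (ha.trans (h.trans hb.symm))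
      have hz := orderOf_pow_half hev
      have hmem : (a * b) ^ (orderOf (a * b) / 2) ∈ Subgroup.zpowers (a * b) :=
        Subgroup.npow_mem_zpowers _ _
      rcases hall _ hz with h | h
      · exact ⟨Sum.inl ⟨⟨_, h⟩, (a, b), ha, hb, hmem⟩, rfl⟩
      · exact ⟨Sum.inr ⟨⟨_, h⟩, (a, b), ha, hb, hmem⟩, rfl⟩
  have hcount := Nat.card_eq_of_bijective F hFbij
  rw [Nat.card_sum, Nat.card_sigma, Nat.card_sigma, Nat.card_prod,
    Finset.sum_congr rfl fun z _ => hN x₁ z, Finset.sum_congr rfl fun z _ => hN x₂ z,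
    Finset.sum_const, Finset.sum_const, smul_eq_mul, smul_eq_mul, Finset.card_univ, Finset.card_univ,
    ← Nat.card_eq_fintype_card, ← Nat.card_eq_fintype_card] at hcount
  have e1 : Nat.card A * Nat.card (Subgroup.centralizer ({x₁} : Set G)) = Nat.card G := card_isConj_mul x₁
  have e2 : Nat.card B * Nat.card (Subgroup.centralizer ({x₂} : Set G)) = Nat.card G := card_isConj_mul x₂
  set c₁ := Nat.card (Subgroup.centralizer ({x₁} : Set G))
  set c₂ := Nat.card (Subgroup.centralizer ({x₂} : Set G))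
  set g := Nat.card G
  have hg : 0 < g := Nat.card_pos
  refine Nat.eq_of_mul_eq_mul_left hg ?_
  calc g * g = (Nat.card A * Nat.card B) * (c₁ * c₂) := by rw [mul_mul_mul_comm, e1, e2]
    _ = (Nat.card A * N₁ + Nat.card B * N₂) * (c₁ * c₂) := by rw [hcount]
    _ = (Nat.card A * c₁) * (c₂ * N₁) + (Nat.card B * c₂) * (c₁ * N₂) := by ring
    _ = g * (c₂ * N₁ + c₁ * N₂) := by rw [e1, e2]; ring

theorem card_lt_cube {s t : G} (hs : orderOf s = 2) (ht : orderOf t = 2) (hnc : ¬ IsConj s t)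
    (hmax : ∀ u : G, orderOf u = 2 → Nat.card (Subgroup.centralizer ({u} : Set G)) ≤
      Nat.card (Subgroup.centralizer ({t} : Set G))) :
    Nat.card G < Nat.card (Subgroup.centralizer ({t} : Set G)) ^ 3 := by
  classical
  have := Fintype.ofFinite G
  set c := Nat.card (Subgroup.centralizer ({t} : Set G))
  set Z := Finset.univ.filter (fun z : G => orderOf z = 2 ∧ Commute z t) with hZ
  set A := Finset.univ.filter (fun a : G => IsConj s a) with hA
  have hZc : Z.card < c := by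
    have := card_commuting_invol_lt t
    rwa [Nat.card_eq_fintype_card (α := {z : G // orderOf z = 2 ∧ Commute z t}),
      Fintype.card_subtype] at this
  have hsub : A ⊆ Z.biUnion fun z => Finset.univ.filter fun a => orderOf a = 2 ∧ Commute a z := by
    intro a ha
    simp only [hA, Finset.mem_filter, Finset.mem_univ, true_and] at ha
    obtain ⟨g, rfl⟩ := isConj_iff.1 ha
    obtain ⟨z, hz, hza, hzt⟩ := exists_invol_commute_both (invol_conj hs g) ht
      fun h => hnc ((isConj_iff.2 ⟨g, rfl⟩ : IsConj s (g * s * g⁻¹)).trans h)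
    simp only [Finset.mem_biUnion, hZ, Finset.mem_filter, Finset.mem_univ, true_and]
    exact ⟨z, ⟨hz, hzt⟩, invol_conj hs g, hza.symm⟩
  have hbound : A.card ≤ Z.card * c := by
    refine (Finset.card_le_card hsub).trans (Finset.card_biUnion_le.trans ?_)
    refine (Finset.sum_le_card_nsmul _ _ c fun z hz => ?_).trans_eq (smul_eq_mul ..)
    have h1 := card_commuting_invol_lt z
    have h2 := hmax z (Finset.mem_filter.1 hz).2.1
    rw [Nat.card_eq_fintype_card (α := {a : G // orderOf a = 2 ∧ Commute a z}),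
      Fintype.card_subtype] at h1
    exact (h1.le.trans h2)
  have hcls := card_isConj_mul s
  rw [Nat.card_eq_fintype_card (α := {y : G // IsConj s y}), Fintype.card_subtype] at hcls
  have hcs : 0 < Nat.card (Subgroup.centralizer ({s} : Set G)) := Nat.card_pos
  have hcsle := hmax s hs
  calc Nat.card G = A.card * Nat.card (Subgroup.centralizer ({s} : Set G)) := hcls.symm
    _ ≤ Z.card * c * Nat.card (Subgroup.centralizer ({s} : Set G)) := Nat.mul_le_mul_right _ hbound
    _ < c * c * Nat.card (Subgroup.centralizer ({s} : Set G)) :=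
      Nat.mul_lt_mul_of_pos_right (Nat.mul_lt_mul_of_pos_right hZc (by omega)) hcs
    _ ≤ c * c * c := Nat.mul_le_mul_left _ hcsle
    _ = c ^ 3 := by ring

end CfsgLib.Invol
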