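import Cfsg.Agent.Lib.Invol.Basic
import Cfsg.Agent.Lib.Invol.TwoClasses
import Mathlib.GroupTheory.Transfer

/-!
# Cyclic Sylow 2-subgroups
-/

namespace CfsgLib.Invol

variable {G : Type*} [Group G] [Finite G]

theorem exists_index_two_of_cyclic (heven : Even (Nat.card G)) (T : Sylow 2 G)
    (hT : IsCyclic (T : Subgroup G)) : ∃ H : Subgroup G, H.index = 2 := by
  have hp : (Nat.card G).minFac = 2 := by
    rw [Nat.minFac_eq_two_iff]; exact heven.two_dvd
  have hc := IsCyclic.isComplement' hp hT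
  set N := (MonoidHom.transferSylow T (IsCyclic.normalizer_le_centralizer hp hT)).ker with hN
  have hidx : N.index = Nat.card (T : Subgroup G) := hc.symm.index_eq_card
  obtain ⟨k, hk⟩ := T.2.exists_card_eq
  rcases k with _ | k
  · exfalso
    have h1 := T.dvd_card_of_dvd_card heven.two_dvd
    rw [hk] at h1; norm_num at h1
  rw [hk] at hidx
  obtain ⟨K, hK⟩ := Sylow.exists_subgroup_card_pow_prime 2 (n := k) (G := G ⧸ N)
    (by rw [← Subgroup.index_eq_card, hidx]; exact pow_dvd_pow 2 (by omega))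
  refine ⟨K.comap (QuotientGroup.mk' N), ?_⟩
  rw [Subgroup.index_comap_of_surjective _ (QuotientGroup.mk'_surjective N)]
  have h1 := K.card_mul_index
  rw [hK, ← Subgroup.index_eq_card, hidx, pow_succ] at h1
  exact Nat.eq_of_mul_eq_mul_left (by positivity) h1

theorem exists_index_two_of_cyclic_sylow_eq_centralizer {x : G} (hx : orderOf x = 2)
    {C : Subgroup G} (hC : C = Subgroup.centralizer ({x} : Set G))
    (S : Sylow 2 C) (hS : IsCyclic (S : Subgroup C)) :
    ∃ H : Subgroup G, H.index = 2 := by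
  classical
  set R := (S : Subgroup C).map C.subtype with hR
  have hRc : IsCyclic R :=
    (Subgroup.equivMapOfInjective (S : Subgroup C) C.subtype Subtype.coe_injective).isCyclic.1 hS
  obtain ⟨T, hT⟩ := (S.2.map C.subtype).exists_le_sylow
  -- `T ⊓ C = R`
  have hTC : ∀ u ∈ (T : Subgroup G), u ∈ C → u ∈ R := by
    intro u huT huC
    have hsub : (S : Subgroup C) ≤ (T : Subgroup G).comap C.subtype := fun w hw =>
      hT (Subgroup.mem_map.2 ⟨w, hw, rfl⟩)
    have heq := S.is_maximal' (T.2.comap_of_injective C.subtype Subtype.coe_injective) hsub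
    exact Subgroup.mem_map.2 ⟨⟨u, huC⟩, heq ▸ (Subgroup.mem_comap.2 huT), rfl⟩
  have hxR : x ∈ R := by
    have hxC : x ∈ C := hC ▸ Subgroup.mem_centralizer_singleton_iff.2 rfl
    -- `x` is central in `C`, so lies in every Sylow 2-subgroup
    have hp : IsPGroup 2 (Subgroup.zpowers (⟨x, hxC⟩ : C)) :=
      IsPGroup.of_card (n := 1) (by rw [Nat.card_zpowers, ← Subgroup.orderOf_coe, hx, pow_one])
    obtain ⟨k, hk⟩ := exists_conj_le_sylow hp S
    have h1 := hk _ (Subgroup.mem_zpowers _)
    have e : k * (⟨x, hxC⟩ : C) * k⁻¹ = ⟨x, hxC⟩ := by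
      apply Subtype.ext
      show (k : G) * x * (k : G)⁻¹ = x
      rw [Subgroup.mem_centralizer_singleton_iff.1 (hC.le k.2), mul_inv_cancel_right]
    rw [e] at h1
    exact Subgroup.mem_map.2 ⟨_, h1, rfl⟩
  -- the centre of `T` contains an involution, necessarily `x`
  have hTnt : Nontrivial (T : Subgroup G) :=
    (Subgroup.nontrivial_iff_ne_bot _).2 fun hb => invol_ne_one hx
      (Subgroup.mem_bot.1 (hb ▸ hT hxR))
  have : Nontrivial (Subgroup.center (T : Subgroup G)) := T.2.center_nontrivial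
  have hZ : Even (Nat.card (Subgroup.center (T : Subgroup G))) := by
    obtain ⟨k, hk⟩ := (T.2.to_subgroup (Subgroup.center (T : Subgroup G))).exists_card_eq
    rcases k with _ | k
    · have := Finite.one_lt_card (α := Subgroup.center (T : Subgroup G))
      rw [hk] at this; norm_num at this
    · exact even_iff_two_dvd.2 (hk ▸ dvd_pow_self 2 (Nat.succ_ne_zero k))
  obtain ⟨z, hz, hzo⟩ := exists_invol_mem hZ
  rw [← Subgroup.orderOf_coe] at hzo
  have hzx : (z : G) = x := by
    have hzR : (z : G) ∈ R := hTC _ z.2 (hC.ge <| Subgroup.mem_centralizer_singleton_iff.2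
      (congrArg Subtype.val (Subgroup.mem_center_iff.1 hz (⟨x, hT hxR⟩ : (T : Subgroup G)))).symm)
    obtain ⟨w, hw⟩ := hRc.exists_generator
    refine invol_zpowers_unique (w := (w : G)) hzo hx ?_ ?_
    · obtain ⟨k, hk⟩ := Subgroup.mem_zpowers_iff.1 (hw ⟨z, hzR⟩)
      exact Subgroup.mem_zpowers_iff.2 ⟨k, congrArg Subtype.val hk⟩
    · obtain ⟨k, hk⟩ := Subgroup.mem_zpowers_iff.1 (hw ⟨x, hxR⟩)
      exact Subgroup.mem_zpowers_iff.2 ⟨k, congrArg Subtype.val hk⟩
  have hTR : (T : Subgroup G) = R := by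
    refine le_antisymm (fun u hu => hTC u hu (hC.ge ?_)) hT
    rw [Subgroup.mem_centralizer_singleton_iff, ← hzx]
    exact congrArg Subtype.val (Subgroup.mem_center_iff.1 hz (⟨u, hu⟩ : (T : Subgroup G)))
  exact exists_index_two_of_cyclic (by
    rw [even_iff_two_dvd, ← hx]; exact orderOf_dvd_natCard x) T (hTR ▸ hRc)

theorem exists_index_two_of_centralizer_cyclic {x : G} (hx : orderOf x = 2)
    (S : Sylow 2 (Subgroup.centralizer ({x} : Set G)))
    (hS : IsCyclic (S : Subgroup (Subgroup.centralizer ({x} : Set G)))) :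
    ∃ H : Subgroup G, H.index = 2 :=
  exists_index_two_of_cyclic_sylow_eq_centralizer hx rfl S hS

end CfsgLib.Invol
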