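import Cfsg.Agent.Lib.Invol.Basic
import Mathlib.GroupTheory.Transfer
import Mathlib.Tactic.NormNum.Prime
import Mathlib.GroupTheory.SpecificGroups.Alternating

/-!
# Simple groups of order at most 100
-/

namespace CfsgLib.Invol

/-- Primes below 100. -/
def primesHundred : List ℕ :=
  [2, 3, 5, 7, 11, 13, 17, 19, 23, 29, 31, 37, 41, 43, 47, 53, 59, 61, 67, 71, 73, 79, 83, 89, 97]

/-- Sylow counting for the prime `p` and exponent `k` rules out a simple group of order `g`. -/
def sylowExcludes (g p k : ℕ) : Bool :=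
  decide (p ^ k ∣ g) && decide (¬ p ^ (k + 1) ∣ g) &&
    (List.range (g / p ^ k + 1)).all fun d =>
      decide (¬ d ∣ g / p ^ k) || decide (d % p ≠ 1) || decide (d = 1) ||
        decide (¬ 2 * g ∣ Nat.factorial d)

/-- `g` is a prime power, `4k+2`, one of 56, 60, or excluded by Sylow counting. -/
def orderExcluded (g : ℕ) : Bool :=
  decide (g ≤ 1) || decide (g % 4 = 2) || decide (g = 56) || decide (g = 60) ||
    primesHundred.any (fun p => (List.range 8).any fun k => decide (g = p ^ k)) ||
    primesHundred.any (fun p => (List.range 7).any fun k => decide (k ≠ 0) && sylowExcludes g p k)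

theorem orderExcluded_all : (List.range 101).all orderExcluded = true := by decide +kernel

theorem primesHundred_prime : ∀ p ∈ primesHundred, Nat.Prime p := by
  intro p hp
  simp only [primesHundred, List.mem_cons, List.not_mem_nil, or_false] at hp
  rcases hp with rfl | rfl | rfl | rfl | rfl | rfl | rfl | rfl | rfl | rfl | rfl | rfl | rfl |
    rfl | rfl | rfl | rfl | rfl | rfl | rfl | rfl | rfl | rfl | rfl | rfl <;> norm_num

section

variable {G : Type*} [Group G] [Finite G] [IsSimpleGroup G]

theorem not_isPGroup_of_simple {p : ℕ} [Fact p.Prime] (hG : ¬ IsMulCommutative G)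
    (h : IsPGroup p G) : False := by
  have : Nontrivial (Subgroup.center G) := h.center_nontrivial
  rcases IsSimpleGroup.eq_bot_or_eq_top_of_normal (Subgroup.center G) inferInstance with hb | ht
  · exact (Subgroup.nontrivial_iff_ne_bot _).1 this hb
  · exact hG ⟨⟨fun a b => (Subgroup.mem_center_iff.1 (ht ▸ Subgroup.mem_top b) a)⟩⟩

theorem not_isMulCommutative_index_ne_two (hG : ¬ IsMulCommutative G) (H : Subgroup G) :
    H.index ≠ 2 := by
  intro h
  have : H.Normal := Subgroup.normal_of_index_eq_two h
  rcases IsSimpleGroup.eq_bot_or_eq_top_of_normal H inferInstance with rfl | rfl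
  · rw [Subgroup.index_bot] at h
    have : Fact (Nat.Prime 2) := ⟨Nat.prime_two⟩
    exact hG (isCyclic_of_prime_card h).isMulCommutative
  · simp at h

/-- A simple non-abelian group acting nontrivially on `n` points has order dividing `n! / 2`. -/
theorem two_mul_card_dvd_factorial (hG : ¬ IsMulCommutative G) {α : Type*} [Finite α]
    [MulAction G α] (hne : ∃ (g : G) (a : α), g • a ≠ a) :
    2 * Nat.card G ∣ (Nat.card α).factorial := by
  classical
  have := Fintype.ofFinite α
  let f := MulAction.toPermHom G α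
  have hinj : Function.Injective f := by
    rw [← MonoidHom.ker_eq_bot_iff]
    refine (IsSimpleGroup.eq_bot_or_eq_top_of_normal f.ker inferInstance).resolve_right fun h => ?_
    obtain ⟨g, a, hga⟩ := hne
    exact hga (congrArg (fun σ : Equiv.Perm α => σ a) (MonoidHom.mem_ker.1 (h ▸ Subgroup.mem_top g)))
  have hle : f.range ≤ alternatingGroup α := by
    rintro _ ⟨g, rfl⟩
    rw [Equiv.Perm.mem_alternatingGroup]
    let s := Equiv.Perm.sign.comp f
    rcases IsSimpleGroup.eq_bot_or_eq_top_of_normal s.ker inferInstance with h | h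
    · refine absurd ⟨⟨fun a b => ?_⟩⟩ hG
      exact (MonoidHom.ker_eq_bot_iff s).1 h (by rw [map_mul, map_mul, mul_comm])
    · exact MonoidHom.mem_ker.1 (show g ∈ s.ker from h ▸ Subgroup.mem_top g)
  have hnt : Nontrivial α := by
    obtain ⟨g, a, hga⟩ := hne
    exact ⟨⟨g • a, a, hga⟩⟩
  have h1 := Subgroup.card_dvd_of_le hle
  rw [← Nat.card_congr (MonoidHom.ofInjective hinj).toEquiv] at h1
  have h2 : 2 * Nat.card (alternatingGroup α) = (Nat.card α).factorial := by
    have := two_mul_card_alternatingGroup (α := α)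
    rwa [← Nat.card_eq_fintype_card, ← Nat.card_eq_fintype_card, Nat.card_perm] at this
  rw [← h2]
  exact mul_dvd_mul_left 2 h1

/-- In a simple non-abelian group every prime divisor has a non-normal Sylow subgroup. -/
theorem one_lt_card_sylow (hG : ¬ IsMulCommutative G) {p : ℕ} [Fact p.Prime]
    (hp : p ∣ Nat.card G) : 1 < Nat.card (Sylow p G) := by
  by_contra hcon
  have : Subsingleton (Sylow p G) := Finite.card_le_one_iff_subsingleton.1 (by omega)
  obtain ⟨P⟩ := (inferInstance : Nonempty (Sylow p G))
  have := Sylow.normal_of_subsingleton P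
  rcases IsSimpleGroup.eq_bot_or_eq_top_of_normal (P : Subgroup G) inferInstance with h | h
  · exact P.ne_bot_of_dvd_card hp h
  · exact not_isPGroup_of_simple hG (p := p) (fun g => by
      obtain ⟨k, hk⟩ := P.2 ⟨g, h ▸ Subgroup.mem_top g⟩
      exact ⟨k, congrArg Subtype.val hk⟩)

theorem sylow_dvd_factorial (hG : ¬ IsMulCommutative G) {p : ℕ} [Fact p.Prime]
    (hp : p ∣ Nat.card G) : 2 * Nat.card G ∣ (Nat.card (Sylow p G)).factorial := by
  refine two_mul_card_dvd_factorial hG (α := Sylow p G) ?_
  obtain ⟨P, Q, hPQ⟩ := (Finite.one_lt_card_iff_nontrivial.1 (one_lt_card_sylow hG hp)).exists_pair_ne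
  obtain ⟨g, hg⟩ := MulAction.exists_smul_eq G P Q
  exact ⟨g, P, fun h => hPQ (h.symm.trans hg)⟩

theorem card_mod_four_ne_two (hG : ¬ IsMulCommutative G) : Nat.card G % 4 ≠ 2 := by
  intro h
  have hp : (Nat.card G).minFac = 2 := by rw [Nat.minFac_eq_two_iff]; omega
  have : Fact (Nat.Prime 2) := ⟨Nat.prime_two⟩
  obtain ⟨T⟩ := (inferInstance : Nonempty (Sylow 2 G))
  have hTc : Nat.card (T : Subgroup G) = 2 := by
    obtain ⟨k, hk⟩ := T.2.exists_card_eq
    have h1 := T.card_eq_multiplicity
    have h2 : 2 ∣ Nat.card (T : Subgroup G) := T.dvd_card_of_dvd_card (by omega)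
    rcases k with _ | _ | k
    · rw [hk] at h2; norm_num at h2
    · simpa using hk
    · have h3 := Subgroup.card_subgroup_dvd_card (T : Subgroup G)
      rw [hk] at h3
      have h4 : 4 ∣ Nat.card G := (pow_dvd_pow 2 (by omega : 2 ≤ k + 1 + 1)).trans h3
      omega
  have hc := IsCyclic.isComplement' hp (P := T) (isCyclic_of_prime_card hTc)
  have hidx := hc.symm.index_eq_card
  rw [hTc] at hidx
  exact not_isMulCommutative_index_ne_two hG _ hidx

theorem card_ne_fiftySix (hG : ¬ IsMulCommutative G) : Nat.card G ≠ 56 := by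
  classical
  intro hg
  have : Fact (Nat.Prime 2) := ⟨Nat.prime_two⟩
  have : Fact (Nat.Prime 7) := ⟨by norm_num⟩
  have hQcard : ∀ Q : Sylow 7 G, Nat.card (Q : Subgroup G) = 7 := by
    intro Q
    obtain ⟨k, hk⟩ := Q.2.exists_card_eq
    have h1 := Subgroup.card_subgroup_dvd_card (Q : Subgroup G)
    have h2 : 7 ∣ Nat.card (Q : Subgroup G) := Q.dvd_card_of_dvd_card (by omega)
    rw [hk] at h1 h2
    rw [hg] at h1
    rcases k with _ | _ | k
    · norm_num at h2
    · simpa using hk
    · have := (pow_dvd_pow 7 (by omega : 2 ≤ k + 1 + 1)).trans h1; norm_num at this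
  obtain ⟨Q₀⟩ := (inferInstance : Nonempty (Sylow 7 G))
  have hn7 : Nat.card (Sylow 7 G) = 8 := by
    have h1 := Q₀.card_dvd_index
    have h2 : (Q₀ : Subgroup G).index = 8 := by
      have := (Q₀ : Subgroup G).card_mul_index
      rw [hQcard, hg] at this; omega
    rw [h2] at h1
    have h3 := card_sylow_modEq_one 7 G
    have h4 := one_lt_card_sylow hG (p := 7) (by omega)
    have h5 := Nat.le_of_dvd (by norm_num) h1
    simp only [Nat.ModEq] at h3
    omega
  obtain ⟨P, P', hPP⟩ :=
    (Finite.one_lt_card_iff_nontrivial.1 (one_lt_card_sylow hG (p := 2) (by omega))).exists_pair_ne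
  have := Fintype.ofFinite G
  have := Fintype.ofFinite (Sylow 7 G)
  let S : Finset G :=
    Finset.univ.biUnion fun Q : Sylow 7 G => Finset.univ.filter fun x => x ∈ Q ∧ x ≠ 1
  have hScard : S.card = 48 := by
    have h6 : ∀ Q : Sylow 7 G, (Finset.univ.filter fun x => x ∈ Q ∧ x ≠ 1).card = 6 := by
      intro Q
      have : (Finset.univ.filter fun x => x ∈ Q ∧ x ≠ 1) =
          (Finset.univ.filter fun x => x ∈ (Q : Subgroup G)).erase 1 := by
        ext x
        simp only [Finset.mem_erase, Finset.mem_filter, Finset.mem_univ, true_and]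
        exact and_comm
      rw [this, Finset.card_erase_of_mem (Finset.mem_filter.2 ⟨Finset.mem_univ _, one_mem _⟩),
        ← Fintype.card_subtype, ← Nat.card_eq_fintype_card]
      show Nat.card (Q : Subgroup G) - 1 = 6
      rw [hQcard]
    simp only [S]
    rw [Finset.card_biUnion]
    · simp only [h6, Finset.sum_const, smul_eq_mul, Finset.card_univ, ← Nat.card_eq_fintype_card, hn7]
    · intro Q _ R _ hQR
      simp only [Function.onFun, Finset.disjoint_filter]
      rintro x - ⟨hxQ, hx1⟩ ⟨hxR, -⟩
      apply hQR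
      have hz : ∀ T : Sylow 7 G, x ∈ T → Subgroup.zpowers x = (T : Subgroup G) := by
        intro T hxT
        have hle : Subgroup.zpowers x ≤ (T : Subgroup G) := Subgroup.zpowers_le.2 hxT
        refine Subgroup.eq_of_le_of_card_ge hle ?_
        have hd := Subgroup.card_dvd_of_le hle
        rw [hQcard, Nat.dvd_prime (by norm_num : Nat.Prime 7), Nat.card_zpowers] at hd
        rw [hQcard, Nat.card_zpowers]
        rcases hd with h | h
        · exact absurd (orderOf_eq_one_iff.1 h) hx1
        · omega
      exact Sylow.ext ((hz Q hxQ).symm.trans (hz R hxR))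
  have hout : ∀ (T : Sylow 2 G) (x : G), x ∈ T → x ∉ S := by
    intro T x hxT hxS
    simp only [S, Finset.mem_biUnion, Finset.mem_filter, Finset.mem_univ, true_and] at hxS
    obtain ⟨Q, hxQ, hx1⟩ := hxS
    obtain ⟨s, hs⟩ := orderOf_pow_two_of_mem hxT
    have hd := Subgroup.orderOf_dvd_natCard (Q : Subgroup G) hxQ
    rw [hQcard, Nat.dvd_prime (by norm_num : Nat.Prime 7), hs] at hd
    rcases hd with h | h
    · exact hx1 (orderOf_eq_one_iff.1 (hs.trans h))
    · rcases s with _ | s
      · norm_num at h
      · rw [pow_succ] at h; omega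
  have hPcard : Nat.card (P : Subgroup G) = 8 := by
    obtain ⟨k, hk⟩ := P.2.exists_card_eq
    have h1 := Subgroup.card_subgroup_dvd_card (P : Subgroup G)
    have h7 := P.not_dvd_index
    have h3 := (P : Subgroup G).card_mul_index
    rw [hk, hg] at h3
    rw [hk, hg] at h1
    have : k ≤ 5 := by
      by_contra hc
      exact absurd (Nat.le_of_dvd (by norm_num) h1) (by
        have : (2 : ℕ) ^ 6 ≤ 2 ^ k := Nat.pow_le_pow_right (by norm_num) (by omega)
        omega)
    interval_cases k <;> norm_num at h3 hk ⊢ <;> omega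
  obtain ⟨x, hxP', hxP⟩ : ∃ x, x ∈ (P' : Subgroup G) ∧ x ∉ (P : Subgroup G) := by
    by_contra hc
    push Not at hc
    exact hPP (Sylow.ext (P'.is_maximal' P.2 hc))
  let U : Finset G := insert x (Finset.univ.filter fun y => y ∈ (P : Subgroup G))
  have hU : U.card = 9 := by
    simp only [U]
    rw [Finset.card_insert_of_notMem (by simp [hxP]), ← Fintype.card_subtype, ← Nat.card_eq_fintype_card]
    show Nat.card (P : Subgroup G) + 1 = 9
    rw [hPcard]
  have hd : Disjoint S U := by
    rw [Finset.disjoint_left]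
    intro y hyS hyU
    simp only [U, Finset.mem_insert, Finset.mem_filter, Finset.mem_univ, true_and] at hyU
    rcases hyU with rfl | hyP
    · exact hout P' _ hxP' hyS
    · exact hout P _ hyP hyS
  have := Finset.card_le_univ (S ∪ U)
  rw [Finset.card_union_of_disjoint hd, hScard, hU, ← Nat.card_eq_fintype_card, hg] at this
  omega

/-- The non-abelian simple groups of order at most 100 have order 60. -/
theorem card_eq_sixty_of_le_hundred (hG : ¬ IsMulCommutative G) (h : Nat.card G ≤ 100) :
    Nat.card G = 60 := by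
  have hall := List.all_eq_true.1 orderExcluded_all (Nat.card G) (List.mem_range.2 (by omega))
  simp only [orderExcluded, Bool.or_eq_true, Bool.and_eq_true, decide_eq_true_eq, List.any_eq_true,
    List.mem_range] at hall
  rcases hall with ((((h1 | h4) | h56) | h60) | ⟨p, hp, k, -, hpk⟩) | ⟨p, hp, k, -, hk, hs⟩
  · have : Nontrivial G := inferInstance
    have := Finite.one_lt_card (α := G)
    omega
  · exact absurd h4 (card_mod_four_ne_two hG)
  · exact absurd h56 (card_ne_fiftySix hG)
  · exact h60
  · have := Fact.mk (primesHundred_prime p hp)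
    exact (not_isPGroup_of_simple hG (IsPGroup.of_card hpk)).elim
  · exfalso
    have := Fact.mk (primesHundred_prime p hp)
    simp only [sylowExcludes, Bool.and_eq_true, Bool.or_eq_true, decide_eq_true_eq, List.all_eq_true,
      List.mem_range] at hs
    obtain ⟨⟨hdvd, hnd⟩, hd⟩ := hs
    obtain ⟨P⟩ := (inferInstance : Nonempty (Sylow p G))
    have hP : Nat.card (P : Subgroup G) = p ^ k := by
      obtain ⟨j, hj⟩ := P.2.exists_card_eq
      have h1 := Subgroup.card_subgroup_dvd_card (P : Subgroup G)
      rw [hj] at h1 ⊢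
      rcases lt_trichotomy j k with hjk | rfl | hjk
      · exfalso
        apply P.not_dvd_index
        obtain ⟨c, hc⟩ := hdvd
        have h2 := (P : Subgroup G).card_mul_index
        rw [hj, hc, show p ^ k = p ^ j * p ^ (k - j) by rw [← pow_add]; congr 1; omega, mul_assoc] at h2
        rw [Nat.eq_of_mul_eq_mul_left (pow_pos (Fact.out : p.Prime).pos _) h2]
        exact Dvd.dvd.mul_right (dvd_pow_self p (by omega)) _
      · rfl
      · exact absurd ((pow_dvd_pow p hjk).trans h1) hnd
    have hidx : (P : Subgroup G).index = Nat.card G / p ^ k := by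
      rw [← (P : Subgroup G).card_mul_index, hP, Nat.mul_div_cancel_left _
        (pow_pos (Fact.out : p.Prime).pos _)]
    have hdv := P.card_dvd_index
    rw [hidx] at hdv
    have hpos : 0 < Nat.card G / p ^ k := hidx ▸ Nat.pos_of_ne_zero Subgroup.index_ne_zero_of_finite
    have hpg : p ∣ Nat.card G := (dvd_pow_self p hk).trans hdvd
    rcases hd (Nat.card (Sylow p G)) (Nat.lt_succ_of_le (Nat.le_of_dvd hpos hdv)) with
      ((h1 | h1) | h1) | h1
    · exact h1 hdv
    · apply h1
      have := card_sylow_modEq_one p G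
      rw [Nat.ModEq, Nat.one_mod_eq_one.2 (Fact.out : p.Prime).ne_one] at this
      exact this
    · exact absurd h1 (one_lt_card_sylow hG hpg).ne'
    · exact h1 (sylow_dvd_factorial hG hpg)

end

end CfsgLib.Invol

namespace CfsgLib.Invol

theorem isCyclic_of_comm {G : Type*} [Group G] [Finite G] [IsSimpleGroup G]
    (hc : IsMulCommutative G) : IsCyclic G := by
  obtain ⟨x, hx⟩ := exists_ne (1 : G)
  have hn : (Subgroup.zpowers x).Normal :=
    ⟨fun n hn g => by rwa [hc.is_comm.comm g n, mul_inv_cancel_right]⟩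
  rcases IsSimpleGroup.eq_bot_or_eq_top_of_normal _ hn with h1 | h1
  · exact absurd (by rwa [Subgroup.zpowers_eq_bot] at h1) hx
  · exact ⟨⟨x, fun y => show y ∈ Subgroup.zpowers x from h1.symm ▸ Subgroup.mem_top y⟩⟩

end CfsgLib.Invol
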