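import Cfsg.Agent.Lib.Invol.BrauerSuzuki
import Cfsg.Agent.Lib.Coprime.Action
import Cfsg.Agent.Lib.Coprime.Solvable

/-!
# A class of involutions with pairwise products of odd prime power order
-/

open Subgroup

set_option autoImplicit false
set_option linter.style.haveILetI false

namespace CfsgLib.Invol

universe u

variable {G : Type u} [Group G] [Finite G]

/-- The products of two members of such a class lie in `O_p`. -/
theorem mul_conj_mem_pCore {p : ℕ} (hp : p.Prime) (hp2 : p ≠ 2) {d : G} (hd : orderOf d = 2)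
    (h : ∀ g : G, ∃ k : ℕ, orderOf (d * (g * d * g⁻¹)) = p ^ k) (g : G) :
    d * (g * d * g⁻¹) ∈ Cfsg.pCore p G := by
  classical
  haveI : Fact p.Prime := ⟨hp⟩
  haveI : Fact (Nat.Prime 2) := ⟨Nat.prime_two⟩
  have hiso : Cfsg.IsIsolatedInvolution d := by
    refine ⟨hd, fun g hg => ?_⟩
    obtain ⟨k, hk⟩ := h g
    have hg2 := invol_conj hd g
    have h1 : (d * (g * d * g⁻¹)) ^ 2 = 1 := by
      rw [hg.mul_pow, pow_two, pow_two, invol_mul_self hd, invol_mul_self hg2, one_mul]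
    have h2 : d * (g * d * g⁻¹) = 1 := by
      rw [← orderOf_eq_one_iff]
      have h3 := orderOf_dvd_of_pow_eq_one h1
      rw [hk] at h3 ⊢
      exact Nat.eq_one_of_dvd_coprimes
        (Nat.Coprime.pow_left k ((Nat.coprime_primes hp Nat.prime_two).2 hp2)) dvd_rfl h3
    exact (inv_eq_of_mul_eq_one_right h2).symm.trans (invol_inv hd)
  set O := Cfsg.pPrimeCore 2 G with hOd
  haveI hOn : O.Normal := by
    haveI := Coprime.pPrimeCore_characteristic (G := G) 2
    rw [hOd]; infer_instance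
  have hOodd : ¬ 2 ∣ Nat.card O := Coprime.pPrimeCore_not_dvd Nat.prime_two
  -- `[d, x]` as a product of two members of the class
  have hcomm : ∀ x : G, d * x * d⁻¹ * x⁻¹ = d * (x * d * x⁻¹) := fun x => by
    rw [invol_inv hd]; group
  have hdA : Subgroup.zpowers d ≤ normalizer (O : Set G) := by
    rw [Subgroup.normalizer_eq_top_iff.2 hOn]; exact le_top
  have hcop : (Nat.card (Subgroup.zpowers d)).Coprime (Nat.card O) := by
    rw [Nat.card_zpowers, hd]; exact (Nat.prime_two.coprime_iff_not_dvd).2 hOodd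
  have hsol : Group.IsSolvable (Subgroup.zpowers d) ∨ Group.IsSolvable O :=
    Or.inl (Coprime.isSolvable_of_isMulCommutative inferInstance)
  obtain ⟨P, hP, hPA⟩ := Coprime.exists_invariant_sylow hdA hcop hsol p
  set C := O ⊓ Subgroup.centralizer ({d} : Set G) with hC
  have hPO : P ≤ O := hP.1
  -- the index of the fixed points is a power of `p`
  have hidx : ∀ q : ℕ, q.Prime → q ≠ p → ¬ q ∣ C.relIndex O := by
    intro q hq hqp hdvd
    haveI : Fact q.Prime := ⟨hq⟩
    obtain ⟨Q, hQ, hQA⟩ := Coprime.exists_invariant_sylow hdA hcop hsol q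
    have hQC : Q ≤ C := by
      intro x hx
      refine Subgroup.mem_inf.2 ⟨hQ.1 hx, ?_⟩
      obtain ⟨k, hk⟩ := h x
      have hxQ : d * x * d⁻¹ * x⁻¹ ∈ Q :=
        mul_mem ((Subgroup.mem_normalizer_iff.1 (hQA (Subgroup.mem_zpowers d)) x).1 hx) (inv_mem hx)
      obtain ⟨j, hj⟩ := hQ.isPGroup ⟨_, hxQ⟩
      have h1 : orderOf (d * x * d⁻¹ * x⁻¹) ∣ q ^ j :=
        orderOf_dvd_of_pow_eq_one (by simpa using congrArg Subtype.val hj)
      rw [hcomm, hk] at h1
      have h2 : d * x * d⁻¹ * x⁻¹ = 1 := by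
        rw [hcomm, ← orderOf_eq_one_iff, hk]
        exact Nat.eq_one_of_dvd_coprimes
          (Nat.Coprime.pow k j ((Nat.coprime_primes hp hq).2 (Ne.symm hqp))) dvd_rfl h1
      rw [mul_inv_eq_one, mul_inv_eq_iff_eq_mul] at h2
      exact Subgroup.mem_centralizer_singleton_iff.2 h2.symm
    exact (hQ.toSylow).not_dvd_index (hdvd.trans (Subgroup.relIndex_dvd_of_le_left O hQC))
  have hPidx : ¬ p ∣ P.relIndex O := hP.toSylow.not_dvd_index
  have hcopi : (P.subgroupOf O).index.Coprime (C.subgroupOf O).index := by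
    refine Nat.coprime_of_dvd fun q hq h1 h2 => ?_
    by_cases hqp : q = p
    · exact hPidx (hqp ▸ h1)
    · exact hidx q hq hqp h2
  have hgen : ∀ o ∈ O, d * o * d⁻¹ * o⁻¹ ∈ P := by
    intro o ho
    obtain ⟨a, ha, c, hc, he⟩ := Coprime.mul_eq_univ_of_coprime hcopi ⟨o, ho⟩
    have he' : o = (a : G) * c := congrArg Subtype.val he
    have hc' : (c : G) ∈ C := hc
    have hcd : Commute (c : G) d :=
      Subgroup.mem_centralizer_singleton_iff.1 (Subgroup.mem_inf.1 hc').2
    have e : d * o * d⁻¹ * o⁻¹ = d * (a : G) * d⁻¹ * (a : G)⁻¹ := by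
      rw [he', mul_inv_rev, ← mul_assoc d, mul_assoc (d * (a : G)) (c : G) d⁻¹, hcd.inv_right.eq]
      group
    rw [e]
    exact mul_mem ((Subgroup.mem_normalizer_iff.1 (hPA (Subgroup.mem_zpowers d)) _).1 ha) (inv_mem ha)
  set K : Subgroup G := Subgroup.closure {x | ∃ o ∈ O, x = d * o * d⁻¹ * o⁻¹} with hK
  have hKP : K ≤ P := (Subgroup.closure_le _).2 fun x ⟨o, ho, he⟩ => he ▸ hgen o ho
  have hKO : K ≤ O := hKP.trans hPO
  have hKn : O ≤ normalizer (K : Set G) := by
    have key : ∀ o1 ∈ O, ∀ x ∈ K, o1 * x * o1⁻¹ ∈ K := by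
      intro o1 ho1 x hx
      have hle : K ≤ K.comap (MulAut.conj o1).toMonoidHom := by
        refine (Subgroup.closure_le _).2 ?_
        rintro _ ⟨o, ho, rfl⟩
        show o1 * (d * o * d⁻¹ * o⁻¹) * o1⁻¹ ∈ K
        have e : o1 * (d * o * d⁻¹ * o⁻¹) * o1⁻¹ =
            (d * o1 * d⁻¹ * o1⁻¹)⁻¹ * (d * (o1 * o) * d⁻¹ * (o1 * o)⁻¹) := by group
        rw [e]
        exact mul_mem (inv_mem (Subgroup.subset_closure ⟨o1, ho1, rfl⟩))
          (Subgroup.subset_closure ⟨o1 * o, mul_mem ho1 ho, rfl⟩)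
      exact hle hx
    intro o1 ho1
    rw [Subgroup.mem_normalizer_iff]
    exact fun x => ⟨key o1 ho1 x, fun hx => by
      simpa [mul_assoc] using key o1⁻¹ (inv_mem ho1) _ hx⟩
  haveI : (K.subgroupOf O).Normal := (normal_subgroupOf_iff_le_normalizer hKO).2 hKn
  have hKp : IsPGroup p (K.subgroupOf O) :=
    ((hP.isPGroup).to_le hKP).of_equiv (Subgroup.subgroupOfEquivOfLe hKO).symm
  have hKle : K ≤ Cfsg.pCore p G := by
    have h1 := Coprime.le_pCore hKp
    have h2 := Subgroup.map_mono (f := O.subtype) h1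
    rw [Subgroup.map_subgroupOf_eq_of_le hKO] at h2
    haveI := Coprime.pCore_characteristic (G := O) p
    haveI := Coprime.map_subtype_normal_of_characteristic O (Cfsg.pCore p O)
    exact h2.trans (Coprime.le_pCore ((Coprime.pCore_isPGroup p).map _))
  -- every `[d, g]` is inverted by `d` and lies in the odd core
  set x := d * (g * d * g⁻¹) with hx
  have hxO : x ∈ O := by
    have := zstar hiso g
    rwa [hcomm] at this
  have hdx : d * x * d⁻¹ = x⁻¹ := invol_conj_mul hd (invol_conj hd g)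
  obtain ⟨y, hy, hyy⟩ := exists_sqrt_of_odd (x := x)
    (Nat.odd_iff.2 (Nat.two_dvd_ne_zero.1 fun h' => hOodd (h'.trans (by
      rw [← Subgroup.orderOf_mk x hxO]; exact orderOf_dvd_natCard _))))
  obtain ⟨l, rfl⟩ := Subgroup.mem_zpowers_iff.1 hy
  have h1 := conj_zpow_of_inverts hdx (-l)
  rw [neg_neg] at h1
  refine hKle ?_
  refine Subgroup.subset_closure ⟨(x ^ (-l)), zpow_mem hxO _, ?_⟩
  rw [h1, ← zpow_neg, neg_neg, hyy]

end CfsgLib.Invol
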