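import Mathlib.GroupTheory.Transfer
import Mathlib.GroupTheory.IndexNormal
import Mathlib.GroupTheory.PGroup

/-!
# Transfer of elements of large order into a maximal subgroup
-/

set_option autoImplicit false

namespace CfsgLib.Invol

open Subgroup MulAction

variable {G : Type*} [Group G] [Finite G]

/-- If every element of `S \ M` has order `> 2^(n-1)` and an element `x₀` of order `2^n` has no
conjugate in `M`, then a subgroup of index two omits all such elements. -/
theorem exists_index_two_forall_notMem (S : Sylow 2 G) (M : Subgroup G) (_hMS : M ≤ (S : Subgroup G))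
    (hM : M.relIndex (S : Subgroup G) = 2) {n : ℕ}
    (hord : ∀ y ∈ (S : Subgroup G), y ∉ M → 2 ^ (n - 1) < orderOf y) (x₀ : G)
    (hxn₀ : orderOf x₀ = 2 ^ n) (hno₀ : ∀ g : G, g * x₀ * g⁻¹ ∉ M) :
    ∃ H : Subgroup G, H.index = 2 ∧
      ∀ x : G, orderOf x = 2 ^ n → (∀ g : G, g * x * g⁻¹ ∉ M) → x ∉ H := by
  classical
  haveI : Fact (Nat.Prime 2) := ⟨Nat.prime_two⟩
  set M' := M.subgroupOf (S : Subgroup G) with hM'
  have hM2 : M'.index = 2 := hM
  let ϕ : (S : Subgroup G) →* ℤˣ := MonoidHom.mk' (fun s => if s ∈ M' then 1 else -1) (fun a b => by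
    by_cases ha : a ∈ M' <;> by_cases hb : b ∈ M' <;>
      simp [ha, hb, Subgroup.mul_mem_iff_of_index_two hM2])
  haveI : (S : Subgroup G).FiniteIndex := inferInstance
  set f := MonoidHom.transfer ϕ with hf
  suffices key : ∀ x : G, orderOf x = 2 ^ n → (∀ g : G, g * x * g⁻¹ ∉ M) → f x = -1 by
    refine ⟨f.ker, ?_, fun x hxn hno hx => by
      rw [MonoidHom.mem_ker, key x hxn hno] at hx; exact absurd hx (by decide)⟩
    have hr : Function.Surjective f := fun z => by
      rcases Int.units_eq_one_or z with rfl | rfl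
      · exact ⟨1, map_one f⟩
      · exact ⟨x₀, key x₀ hxn₀ hno₀⟩
    rw [Subgroup.index_ker, MonoidHom.range_eq_top.2 hr, Subgroup.card_top,
      Nat.card_eq_fintype_card, Fintype.card_units_int]
  intro x hxn hno
  letI : Fintype (Quotient (orbitRel (zpowers x) (G ⧸ (S : Subgroup G)))) := Fintype.ofFinite _
  have hfactor : ∀ (q : Quotient (orbitRel (zpowers x) (G ⧸ (S : Subgroup G))))
      (h : q.out.out⁻¹ * x ^ Function.minimalPeriod (x • ·) q.out * q.out.out ∈ (S : Subgroup G)),
      ϕ ⟨_, h⟩ = if Function.minimalPeriod (x • ·) q.out = 1 then -1 else 1 := by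
    intro q h
    split_ifs with h1
    · show (if _ ∈ M' then (1 : ℤˣ) else -1) = -1
      rw [if_neg]
      intro hm
      have hm' : q.out.out⁻¹ * x ^ Function.minimalPeriod (x • ·) q.out * q.out.out ∈ M := hm
      rw [h1, pow_one] at hm'
      exact hno q.out.out⁻¹ (by rwa [inv_inv])
    · show (if _ ∈ M' then (1 : ℤˣ) else -1) = 1
      rw [if_pos]
      by_contra hm
      have hlt := hord _ h hm
      have hc : orderOf (q.out.out⁻¹ * x ^ Function.minimalPeriod (x • ·) q.out * q.out.out) =
          orderOf (x ^ Function.minimalPeriod (x • ·) q.out) := by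
        rw [show q.out.out⁻¹ * x ^ Function.minimalPeriod (x • ·) q.out * q.out.out =
          MulAut.conj q.out.out⁻¹ (x ^ Function.minimalPeriod (x • ·) q.out) by simp]
        exact MulEquiv.orderOf_eq _ _
      rw [hc] at hlt
      -- the period is a proper power of two
      have hper : Function.minimalPeriod (x • ·) q.out ∣ 2 ^ n := by
        refine Function.IsPeriodicPt.minimalPeriod_dvd ?_
        show (x • ·)^[2 ^ n] q.out = q.out
        rw [smul_iterate]
        show x ^ 2 ^ n • q.out = _
        rw [← hxn, pow_orderOf_eq_one, one_smul]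
      obtain ⟨i, hi, hi'⟩ := (Nat.dvd_prime_pow Nat.prime_two).1 hper
      have hi0 : 1 ≤ i := by
        by_contra h0
        exact h1 (by rw [hi', show i = 0 by omega, pow_zero])
      rw [hi', orderOf_pow, hxn, Nat.gcd_eq_right (pow_dvd_pow 2 hi),
        Nat.pow_div hi two_pos] at hlt
      exact absurd hlt (not_lt.2 (Nat.pow_le_pow_right two_pos (by omega)))
  have hval : f x = (-1) ^ Nat.card {q : Quotient (orbitRel (zpowers x) (G ⧸ (S : Subgroup G))) //
      Function.minimalPeriod (x • ·) q.out = 1} := by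
    rw [hf, MonoidHom.transfer_eq_prod_quotient_orbitRel_zpowers_quot ϕ x,
      Finset.prod_congr rfl (fun q _ => hfactor q _), Finset.prod_ite, Finset.prod_const_one, mul_one,
      Finset.prod_const, Nat.card_eq_fintype_card, Fintype.card_subtype]
  -- singleton orbits are fixed points
  have hfix : ∀ a : G ⧸ (S : Subgroup G),
      a ∈ fixedPoints (zpowers x) (G ⧸ (S : Subgroup G)) ↔ x • a = a := by
    intro a
    refine ⟨fun h => h ⟨x, mem_zpowers x⟩, fun h g => ?_⟩
    obtain ⟨i, hi⟩ := Subgroup.mem_zpowers_iff.1 g.2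
    show (g : G) • a = a
    rw [← hi]
    exact (zpow_mem (show x ∈ stabilizer G a from h) i :)
  have hb : Nat.card {q : Quotient (orbitRel (zpowers x) (G ⧸ (S : Subgroup G))) //
      Function.minimalPeriod (x • ·) q.out = 1} =
      Nat.card (fixedPoints (zpowers x) (G ⧸ (S : Subgroup G))) := by
    refine Nat.card_congr
      { toFun := fun q => ⟨q.1.out, (hfix _).2 ?_⟩
        invFun := fun a => ⟨Quotient.mk'' a.1, ?_⟩
        left_inv := fun q => Subtype.ext (Quotient.out_eq' q.1)
        right_inv := fun a => Subtype.ext ?_ }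
    · exact Function.minimalPeriod_eq_one_iff_isFixedPt.1 q.2
    · have h1 : orbitRel (zpowers x) (G ⧸ (S : Subgroup G)) (Quotient.mk'' a.1 : Quotient (orbitRel (zpowers x) (G ⧸ (S : Subgroup G)))).out a.1 :=
        Quotient.mk_out (s := orbitRel (zpowers x) (G ⧸ (S : Subgroup G))) a.1
      obtain ⟨g, hg⟩ := h1
      have hg' : g • a.1 = a.1 := a.2 g
      rw [Function.minimalPeriod_eq_one_iff_isFixedPt]
      show x • _ = _
      rw [← hg]
      show x • g • a.1 = g • a.1
      rw [hg']
      exact (hfix _).1 a.2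
    · have h1 : orbitRel (zpowers x) (G ⧸ (S : Subgroup G)) (Quotient.mk'' a.1 : Quotient (orbitRel (zpowers x) (G ⧸ (S : Subgroup G)))).out a.1 :=
        Quotient.mk_out (s := orbitRel (zpowers x) (G ⧸ (S : Subgroup G))) a.1
      obtain ⟨g, hg⟩ := h1
      exact hg.symm.trans (a.2 g)
  have hodd : Odd (Nat.card (fixedPoints (zpowers x) (G ⧸ (S : Subgroup G)))) := by
    have hm := (IsPGroup.of_card (p := 2) (n := n) (G := zpowers x)
      (by rw [Nat.card_zpowers, hxn])).card_modEq_card_fixedPoints (G ⧸ (S : Subgroup G))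
    have h1 : Nat.card (G ⧸ (S : Subgroup G)) % 2 = 1 := by
      have h' := S.not_dvd_index
      rw [Subgroup.index_eq_card] at h'
      omega
    rw [Nat.odd_iff, ← hm]; exact h1
  rw [hval, hb, hodd.neg_one_pow]

/-- If every element of `S \ M` has order `> 2^(n-1)` and an element `x` of order `2^n` has no
conjugate in `M`, then a subgroup of index two omits `x`. -/
theorem exists_index_two_notMem (S : Sylow 2 G) (M : Subgroup G) (hMS : M ≤ (S : Subgroup G))
    (hM : M.relIndex (S : Subgroup G) = 2) {n : ℕ}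
    (hord : ∀ y ∈ (S : Subgroup G), y ∉ M → 2 ^ (n - 1) < orderOf y) (x : G)
    (hxn : orderOf x = 2 ^ n) (hno : ∀ g : G, g * x * g⁻¹ ∉ M) :
    ∃ H : Subgroup G, H.index = 2 ∧ x ∉ H :=
  (exists_index_two_forall_notMem S M hMS hM hord x hxn hno).imp fun _ h => ⟨h.1, h.2 x hxn hno⟩

/-- If every element of `S \ M` has order `> 2^(n-1)` and an element `x` of order `2^n` has no
conjugate in `M`, then `G` has a subgroup of index two. -/
theorem exists_index_two_of_no_conj (S : Sylow 2 G) (M : Subgroup G) (hMS : M ≤ (S : Subgroup G))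
    (hM : M.relIndex (S : Subgroup G) = 2) {n : ℕ}
    (hord : ∀ y ∈ (S : Subgroup G), y ∉ M → 2 ^ (n - 1) < orderOf y) (x : G)
    (hxn : orderOf x = 2 ^ n) (hno : ∀ g : G, g * x * g⁻¹ ∉ M) :
    ∃ H : Subgroup G, H.index = 2 :=
  (exists_index_two_notMem S M hMS hM hord x hxn hno).imp fun _ h => h.1

end CfsgLib.Invol
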