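import Cfsg.Agent.Lib.Invol.QDFusion
import Cfsg.Agent.Lib.Invol.TransferOrder
import Cfsg.Agent.Lib.Fusion.Tate
import Cfsg.Agent.Lib.Coprime.UniqueOrderP

/-!
# The four transfer cases for quasidihedral Sylow 2-subgroups
-/

set_option autoImplicit false
set_option linter.style.haveILetI false
set_option linter.unusedSectionVars false

namespace CfsgLib.Invol

namespace QDFrame

open Subgroup

variable {G : Type*} [Group G] [Finite G] {S : Sylow 2 G} {h : ℤ} {a b : (S : Subgroup G)}

theorem exists_conj_mem {t : G} {k : ℕ} (ht : orderOf t = 2 ^ k) :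
    ∃ g : G, g * t * g⁻¹ ∈ (S : Subgroup G) := by
  haveI : Fact (Nat.Prime 2) := ⟨Nat.prime_two⟩
  obtain ⟨g, hg⟩ := exists_conj_le_sylow
    (IsPGroup.of_card (n := k) (by rw [Nat.card_zpowers, ht]) : IsPGroup 2 (zpowers t)) S
  exact ⟨g, hg t (mem_zpowers t)⟩

/-- Every involution is conjugate to the central one or to `b`. -/
theorem invol_conj_cases (Q : QDFrame h a b) {t : G} (ht : orderOf t = 2) :
    IsConj t (rotG a (2 * h)) ∨ IsConj t (refG a b 0) := by
  obtain ⟨g, hg⟩ := exists_conj_mem (S := S) (k := 1) (by rw [ht, pow_one])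
  rcases Q.invol_casesG hg (invol_conj ht g) with e | ⟨i, hi, e⟩
  · exact Or.inl (isConj_iff.2 ⟨g, e⟩)
  · exact Or.inr ((isConj_iff.2 ⟨g, e⟩ : IsConj t _).trans
      (Q.isConj_refG (by rw [zero_sub]; exact hi.neg_right)))

/-- Every element of order four is conjugate to the quarter turn or to `a b`. -/
theorem four_conj_cases (Q : QDFrame h a b) {t : G} (ht : orderOf t = 4) :
    IsConj t (rotG a h) ∨ IsConj t (refG a b 1) := by
  obtain ⟨g, hg⟩ := exists_conj_mem (S := S) (k := 2) (by rw [ht]; norm_num)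
  rcases Q.order_four_casesG hg (((MulAut.conj g).orderOf_eq t).trans ht) with e | e | ⟨i, hi, e⟩
  · exact Or.inl (isConj_iff.2 ⟨g, e⟩)
  · exact Or.inl ((isConj_iff.2 ⟨g, e⟩ : IsConj t _).trans Q.isConj_quarter_neg)
  · exact Or.inr ((isConj_iff.2 ⟨g, e⟩ : IsConj t _).trans (Q.isConj_refG (by omega)))

theorem fusedTwo_iff (Q : QDFrame h a b) :
    FusedTwo a b h ↔ IsConj (refG a b 0) (rotG a (2 * h)) :=
  ⟨fun ⟨_, hi, hc⟩ => (Q.isConj_refG (by rwa [sub_zero])).trans hc, fun hc => ⟨0, dvd_zero 2, hc⟩⟩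

theorem fusedFour_iff (Q : QDFrame h a b) :
    FusedFour a b h ↔ IsConj (refG a b 1) (rotG a h) :=
  ⟨fun ⟨_, hi, hc⟩ => (Q.isConj_refG (by omega)).trans hc, fun hc => ⟨1, by norm_num, hc⟩⟩

theorem card_invol_classes (Q : QDFrame h a b) :
    (FusedTwo a b h →
      Nat.card {C : ConjClasses G // ∃ t : G, orderOf t = 2 ∧ ConjClasses.mk t = C} = 1) ∧
    (¬ FusedTwo a b h →
      Nat.card {C : ConjClasses G // ∃ t : G, orderOf t = 2 ∧ ConjClasses.mk t = C} = 2) := by
  refine ⟨fun hf => card_classes_one Q.orderOf_centerG fun t ht => ?_, fun hf =>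
    card_classes_two (fun hc => hf (Q.fusedTwo_iff.2 hc.symm)) Q.orderOf_centerG
      (Q.orderOf_refG_even (dvd_zero 2)) fun t ht => Q.invol_conj_cases ht⟩
  exact (Q.invol_conj_cases ht).elim id fun hc => hc.trans (Q.fusedTwo_iff.1 hf)

theorem card_four_classes (Q : QDFrame h a b) :
    (FusedFour a b h →
      Nat.card {C : ConjClasses G // ∃ t : G, orderOf t = 4 ∧ ConjClasses.mk t = C} = 1) ∧
    (¬ FusedFour a b h →
      Nat.card {C : ConjClasses G // ∃ t : G, orderOf t = 4 ∧ ConjClasses.mk t = C} = 2) := by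
  refine ⟨fun hf => card_classes_one Q.orderOf_quarterG fun t ht => ?_, fun hf =>
    card_classes_two (fun hc => hf (Q.fusedFour_iff.2 hc.symm)) Q.orderOf_quarterG
      (Q.orderOf_refG_odd (by norm_num)) fun t ht => Q.four_conj_cases ht⟩
  exact (Q.four_conj_cases ht).elim id fun hc => hc.trans (Q.fusedFour_iff.1 hf)

theorem mem_of_isConj {H : Subgroup G} [H.Normal] {x y : G} (h : IsConj x y) (hx : x ∈ H) :
    y ∈ H := by
  obtain ⟨g, rfl⟩ := isConj_iff.1 h
  exact Subgroup.Normal.conj_mem inferInstance x hx g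

theorem rot_even_mem {H : Subgroup G} (hH : H.index = 2) {q : ℤ} (hq : 2 ∣ q) : rotG a q ∈ H := by
  obtain ⟨l, rfl⟩ := hq
  rw [two_mul, rotG_add]
  exact Subgroup.mul_self_mem_of_index_two hH _

theorem quarter_mem (Q : QDFrame h a b) {H : Subgroup G} (hH : H.index = 2) : rotG a h ∈ H := by
  obtain ⟨u, hu⟩ := Q.even
  exact rot_even_mem hH ⟨u, hu⟩

theorem refG_mem_of_even (b : (S : Subgroup G)) {H : Subgroup G} (hH : H.index = 2) {i q : ℤ}
    (hi : refG a b i ∈ H) (hq : 2 ∣ q - i) : refG a b q ∈ H := by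
  rw [show q = (q - i) + i by ring, refG_eq]
  exact mul_mem (rot_even_mem hH hq) hi

theorem le_of_refs (Q : QDFrame h a b) {H : Subgroup G} (h0 : refG a b 0 ∈ H) (h1 : refG a b 1 ∈ H) :
    (S : Subgroup G) ≤ H := by
  have hr : rotG a 1 ∈ H := by
    rw [show rotG a 1 = refG a b 1 * (refG a b 0)⁻¹ by
      rw [← mul_inv_eq_iff_eq_mul.2 (refG_eq a b 1 0), add_zero]]
    exact mul_mem h1 (inv_mem h0)
  have hall : ∀ q : ℤ, rotG a q ∈ H := fun q => by
    rw [show rotG a q = rotG a 1 ^ q by simp [rotG]]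
    exact zpow_mem hr q
  intro x hx
  obtain ⟨q, e | e⟩ := Q.exists_eq (⟨x, hx⟩ : (S : Subgroup G))
  · rw [show x = rotG a q from congrArg Subtype.val e]; exact hall q
  · rw [show x = refG a b q from congrArg Subtype.val e, show q = q + 0 by ring, refG_eq]
    exact mul_mem (hall q) h0

theorem not_sylow_le {H : Subgroup G} (hH : H.index = 2) : ¬ (S : Subgroup G) ≤ H := fun hle => by
  haveI : Fact (Nat.Prime 2) := ⟨Nat.prime_two⟩
  have := Subgroup.index_dvd_of_le hle
  rw [hH] at this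
  exact S.not_dvd_index this

/-- Both fusions: no subgroup of index two. -/
theorem index_ne_two (Q : QDFrame h a b) (h2 : FusedTwo a b h) (h4 : FusedFour a b h)
    (H : Subgroup G) : H.index ≠ 2 := by
  intro hH
  haveI := Subgroup.normal_of_index_eq_two hH
  exact not_sylow_le (S := S) hH (Q.le_of_refs
    (mem_of_isConj (Q.fusedTwo_iff.1 h2).symm (rot_even_mem hH (dvd_mul_right 2 h)))
    (mem_of_isConj (Q.fusedFour_iff.1 h4).symm (Q.quarter_mem hH)))

/-- The maximal subgroup made of the even rotations and the reflections of a given parity. -/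
theorem exists_maxSub (Q : QDFrame h a b) (i : ℤ) : ∃ M : Subgroup G, M ≤ (S : Subgroup G) ∧
    M.relIndex (S : Subgroup G) = 2 ∧ (∀ q : ℤ, rotG a q ∈ M ↔ 2 ∣ q) ∧
    ∀ q : ℤ, refG a b q ∈ M ↔ 2 ∣ q - i := by
  obtain ⟨N, hN, F⟩ := Q.frame
  have hh := Q.two_le
  obtain ⟨U, hU1, hU2, hU3⟩ := Q.exists_sub (d := 2) (i := i) (dvd_mul_right 2 h)
  have hc := hU3 (2 * h).toNat (by rw [Int.toNat_of_nonneg (by omega)]; ring)
  have hUi : U.index = 2 := by
    have := U.card_mul_index
    rw [hc, F.card] at this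
    have hN' : N = 2 * (2 * h).toNat := by
      zify
      rw [Int.toNat_of_nonneg (by omega), hN]; ring
    rw [hN'] at this
    exact Nat.eq_of_mul_eq_mul_left (n := 2 * (2 * h).toNat) (by omega) (by rw [this]; ring)
  refine ⟨U.map (S : Subgroup G).subtype, map_subtype_le U, ?_, fun q => ?_, fun q => ?_⟩
  · rw [Subgroup.relIndex, Subgroup.subgroupOf,
      Subgroup.comap_map_eq_self_of_injective (Subgroup.subtype_injective _), hUi]
  · exact (Subgroup.mem_map_iff_mem (Subgroup.subtype_injective _)).trans (hU1 q)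
  · exact (Subgroup.mem_map_iff_mem (Subgroup.subtype_injective _)).trans (hU2 q)

/-- Without fusion of order four a normal subgroup of index two omits `a b`. -/
theorem exists_index_two_four (Q : QDFrame h a b) (h4 : ¬ FusedFour a b h) :
    ∃ H : Subgroup G, H.index = 2 ∧ refG a b 1 ∉ H := by
  obtain ⟨M, hMS, hMi, hM1, hM2⟩ := Q.exists_maxSub 0
  refine exists_index_two_notMem S M hMS hMi (n := 2) (fun y hy hyM => ?_) _
    (Q.orderOf_refG_odd (by norm_num)) fun g hg => ?_
  · obtain ⟨q, e | e⟩ := Q.exists_eq (⟨y, hy⟩ : (S : Subgroup G))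
    · have hye : y = rotG a q := congrArg Subtype.val e
      rw [hye] at hyM ⊢
      rw [hM1] at hyM
      by_contra hlt
      have hpow : rotG a q ^ 2 = 1 := by
        have hpos := orderOf_pos (rotG a q)
        have hcase : orderOf (rotG a q) = 1 ∨ orderOf (rotG a q) = 2 := by norm_num at hlt; omega
        rcases hcase with e' | e'
        · rw [orderOf_eq_one_iff.1 e', one_pow]
        · rw [← e', pow_orderOf_eq_one]
      exact hyM ((dvd_mul_right 2 h).trans (Q.rot_sq_eq_one_iff.1 (Subtype.ext hpow)))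
    · have hye : y = refG a b q := congrArg Subtype.val e
      rw [hye] at hyM ⊢
      rw [hM2, sub_zero] at hyM
      rw [Q.orderOf_refG_odd hyM]
      norm_num
  · rcases Q.order_four_casesG (hMS hg)
      (((MulAut.conj g).orderOf_eq _).trans (Q.orderOf_refG_odd (by norm_num))) with e | e | ⟨q, hq, e⟩
    · exact h4 (Q.fusedFour_iff.2 (isConj_iff.2 ⟨g, e⟩))
    · exact h4 (Q.fusedFour_iff.2 ((isConj_iff.2 ⟨g, e⟩ : IsConj (refG a b 1) _).trans
        Q.isConj_quarter_neg))
    · rw [e, hM2, sub_zero] at hg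
      exact hq hg

/-- Without fusion of involutions a normal subgroup of index two omits `b`. -/
theorem exists_index_two_two (Q : QDFrame h a b) (h2 : ¬ FusedTwo a b h) :
    ∃ H : Subgroup G, H.index = 2 ∧ refG a b 0 ∉ H := by
  obtain ⟨M, hMS, hMi, hM1, hM2⟩ := Q.exists_maxSub 1
  have hno : ∀ g : G, g * refG a b 0 * g⁻¹ ∉ M := by
    intro g hg
    rcases Q.invol_casesG (hMS hg) (invol_conj (Q.orderOf_refG_even (dvd_zero 2)) g) with e | ⟨q, hq, e⟩
    · exact h2 (Q.fusedTwo_iff.2 (isConj_iff.2 ⟨g, e⟩))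
    · rw [e, hM2] at hg
      omega
  obtain ⟨H, -, hH, hu⟩ := CfsgLib.Fusion.thompson_transfer S hMS hMi (u := refG a b 0)
    (by rw [← Q.orderOf_refG_even (dvd_zero 2), pow_orderOf_eq_one]) hno
  exact ⟨H, hH, hu⟩

/-- Elements of `S` in a normal subgroup of index two omitting the other parity of reflections. -/
theorem mem_inf_iff (Q : QDFrame h a b) {H : Subgroup G} (hH : H.index = 2) {i : ℤ}
    (hi : refG a b i ∈ H) (hi' : refG a b (i + 1) ∉ H) (x : G) :
    x ∈ (S : Subgroup G) ⊓ H ↔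
      (∃ q, 2 ∣ q ∧ x = rotG a q) ∨ ∃ q, 2 ∣ q - i ∧ x = refG a b q := by
  constructor
  · rintro ⟨hxS, hxH⟩
    obtain ⟨q, e | e⟩ := Q.exists_eq (⟨x, hxS⟩ : (S : Subgroup G))
    · refine Or.inl ⟨q, ?_, congrArg Subtype.val e⟩
      by_contra hq
      refine hi' ?_
      rw [show i + 1 = q + (i + 1 - q) by ring, refG_eq]
      exact mul_mem (by rw [← show x = rotG a q from congrArg Subtype.val e]; exact hxH)
        (refG_mem_of_even b hH hi (by omega))
    · refine Or.inr ⟨q, ?_, congrArg Subtype.val e⟩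
      by_contra hq
      refine hi' ?_
      rw [show i + 1 = (i + 1 - q) + q by ring, refG_eq]
      exact mul_mem (rot_even_mem hH (by omega))
        (by rw [← show x = refG a b q from congrArg Subtype.val e]; exact hxH)
  · rintro (⟨q, hq, rfl⟩ | ⟨q, hq, rfl⟩)
    · exact ⟨rotG_mem a q, rot_even_mem hH hq⟩
    · exact ⟨refG_mem a b q, refG_mem_of_even b hH hi hq⟩

/-- The Sylow 2-subgroups of a normal subgroup are isomorphic to its intersection with `S`. -/
theorem nonempty_sylow_equiv (H : Subgroup G) [H.Normal] (P : Sylow 2 H) :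
    Nonempty ((P : Subgroup H) ≃* ↥((S : Subgroup G) ⊓ H)) := by
  haveI : Fact (Nat.Prime 2) := ⟨Nat.prime_two⟩
  let P' : Sylow 2 H :=
    ((S.2.to_le inf_le_left).of_equiv (subgroupOfEquivOfLe (inf_le_right : (S : Subgroup G) ⊓ H ≤ H)).symm).toSylow
      (CfsgLib.Fusion.not_dvd_relIndex_inf_of_normal S H)
  exact ⟨(Sylow.equiv P P').trans (subgroupOfEquivOfLe inf_le_right)⟩

/-- A subgroup of `H` containing `S ⊓ H` has odd index. -/
theorem index_ne_two_of_inf_le {H : Subgroup G} [H.Normal] {L : Subgroup H}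
    (hle : ∀ x, ∀ hx : x ∈ (S : Subgroup G) ⊓ H, (⟨x, hx.2⟩ : H) ∈ L) : L.index ≠ 2 := fun hL => by
  haveI : Fact (Nat.Prime 2) := ⟨Nat.prime_two⟩
  refine CfsgLib.Fusion.not_dvd_relIndex_inf_of_normal S H ?_
  have := Subgroup.index_dvd_of_le
    (show ((S : Subgroup G) ⊓ H).subgroupOf H ≤ L from fun x hx => hle x (mem_subgroupOf.1 hx))
  rwa [hL] at this

/-- A fusion into the centre of `S` can be realised inside a normal subgroup of index two. -/
theorem exists_mem_conj {H : Subgroup G} (hH : H.index = 2) {u v : G} (huv : IsConj u v) :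
    ∃ k ∈ H, ∃ s ∈ (S : Subgroup G), k * u * k⁻¹ = s * v * s⁻¹ := by
  haveI := Subgroup.normal_of_index_eq_two hH
  obtain ⟨g, hg⟩ := isConj_iff.1 huv
  obtain ⟨s₀, hs₀, hs₀H⟩ := SetLike.not_le_iff_exists.1 (not_sylow_le (S := S) hH)
  by_cases hgH : g ∈ H
  · exact ⟨g, hgH, 1, one_mem _, by rw [hg]; group⟩
  · refine ⟨s₀⁻¹ * g, (Subgroup.mul_mem_iff_of_index_two hH).2
      (iff_of_false (by rwa [inv_mem_iff]) hgH), s₀⁻¹, inv_mem hs₀, ?_⟩
    rw [← hg]; group

/-- Fusion of involutions only: dihedral case. -/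
theorem dihedral_case (Q : QDFrame h a b) (h2 : FusedTwo a b h) (h4 : ¬ FusedFour a b h) :
    ∃ K : Subgroup G, K.Normal ∧ K.index = 2 ∧
      (∀ P : Sylow 2 ↥K, ∃ m : ℕ, Nonempty ((P : Subgroup ↥K) ≃* DihedralGroup m)) ∧
      (∀ H : Subgroup ↥K, H.index ≠ 2) := by
  obtain ⟨K, hK, hK1⟩ := Q.exists_index_two_four h4
  haveI := Subgroup.normal_of_index_eq_two hK
  have hK0 : refG a b 0 ∈ K :=
    mem_of_isConj (Q.fusedTwo_iff.1 h2).symm (rot_even_mem hK (dvd_mul_right 2 h))
  have hmem := Q.mem_inf_iff hK hK0 (by rwa [zero_add])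
  have e2 : refG a b 2 = rotG a 2 * refG a b 0 := by rw [← refG_eq, add_zero]
  refine ⟨K, inferInstance, hK, fun P => ?_, fun L hL => ?_⟩
  · obtain ⟨eP⟩ := nonempty_sylow_equiv (S := S) K P
    have hM : (S : Subgroup G) ⊓ K = closure {refG a b 0, refG a b 2} := by
      refine le_antisymm (fun x hx => ?_) ((closure_le _).2 ?_)
      · have h0 : refG a b 0 ∈ closure {refG a b 0, refG a b 2} := subset_closure (by simp)
        have h2' : refG a b 2 ∈ closure {refG a b 0, refG a b 2} := subset_closure (by simp)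
        have hr : ∀ q : ℤ, 2 ∣ q → rotG a q ∈ closure {refG a b 0, refG a b 2} := by
          rintro _ ⟨l, rfl⟩
          rw [show rotG a (2 * l) = rotG a 2 ^ l by simp [rotG, zpow_mul]]
          refine zpow_mem ?_ l
          rw [show rotG a 2 = refG a b 2 * (refG a b 0)⁻¹ by rw [e2, mul_inv_cancel_right]]
          exact mul_mem h2' (inv_mem h0)
        rcases (hmem x).1 hx with ⟨q, hq, rfl⟩ | ⟨q, hq, rfl⟩
        · exact hr q hq
        · rw [show q = q + 0 by ring, refG_eq]
          exact mul_mem (hr q (by rwa [sub_zero] at hq)) h0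
      · rintro x (rfl | rfl)
        · exact (hmem _).2 (Or.inr ⟨0, by norm_num, rfl⟩)
        · exact (hmem _).2 (Or.inr ⟨2, by norm_num, rfl⟩)
    exact ⟨_, ⟨(eP.trans (MulEquiv.subgroupCongr hM)).trans (dihedralEquiv
      (Q.orderOf_refG_even (dvd_zero 2)) (Q.orderOf_refG_even dvd_rfl))⟩⟩
  · haveI := Subgroup.normal_of_index_eq_two hL
    have hz : (⟨rotG a (2 * h), rot_even_mem hK (dvd_mul_right 2 h)⟩ : K) ∈ L := by
      have := Subgroup.mul_self_mem_of_index_two hL ⟨rotG a h, Q.quarter_mem hK⟩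
      convert this using 1
      exact Subtype.ext sq_quarter.symm
    have href : ∀ q, 2 ∣ q → ∀ hq : refG a b q ∈ K, (⟨refG a b q, hq⟩ : K) ∈ L := by
      intro q hq2 hq
      obtain ⟨k, hk, s, hs, he⟩ := exists_mem_conj (S := S) hK
        ((Q.isConj_refG (i := q) (j := 0) (by rw [zero_sub]; exact hq2.neg_right)).trans
          (Q.fusedTwo_iff.1 h2))
      rw [mul_inv_eq_iff_eq_mul.2 (Q.commute_center hs)] at he
      have := (inferInstance : L.Normal).conj_mem _ hz (⟨k, hk⟩ : K)⁻¹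
      convert this using 1
      refine Subtype.ext ?_
      push_cast
      rw [← he]; group
    refine index_ne_two_of_inf_le (S := S) (fun x hx => ?_) hL
    rcases (hmem x).1 hx with ⟨q, hq, rfl⟩ | ⟨q, hq, rfl⟩
    · have h1 := href 0 (dvd_zero 2) hK0
      have h3 := href q hq (refG_mem_of_even b hK hK0 (by rwa [sub_zero]))
      have := mul_mem h3 (inv_mem h1)
      convert this using 1
      refine Subtype.ext ?_
      push_cast
      rw [show refG a b q = rotG a q * refG a b 0 by rw [← refG_eq, add_zero], mul_inv_cancel_right]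
    · exact href q (by rwa [sub_zero] at hq) _

/-- Fusion of elements of order four only: quaternion case. -/
theorem quaternion_case (Q : QDFrame h a b) (h2 : ¬ FusedTwo a b h) (h4 : FusedFour a b h) :
    ∃ K : Subgroup G, K.Normal ∧ K.index = 2 ∧
      (∀ P : Sylow 2 ↥K, ∃ m : ℕ, 1 ≤ m ∧ Nonempty ((P : Subgroup ↥K) ≃* QuaternionGroup (2 ^ m))) ∧
      (∀ H : Subgroup ↥K, H.index ≠ 2) := by
  haveI : Fact (Nat.Prime 2) := ⟨Nat.prime_two⟩
  obtain ⟨K, hK, hK0⟩ := Q.exists_index_two_two h2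
  haveI := Subgroup.normal_of_index_eq_two hK
  have hK1 : refG a b 1 ∈ K := mem_of_isConj (Q.fusedFour_iff.1 h4).symm (Q.quarter_mem hK)
  have hmem := Q.mem_inf_iff hK hK1 (fun e => hK0 (refG_mem_of_even b hK e (by norm_num)))
  have hh := Q.two_le
  refine ⟨K, inferInstance, hK, fun P => ?_, fun L hL => ?_⟩
  · obtain ⟨eP⟩ := nonempty_sylow_equiv (S := S) K P
    set M := (S : Subgroup G) ⊓ K
    have hzM : rotG a (2 * h) ∈ M := (hmem _).2 (Or.inl ⟨_, dvd_mul_right 2 h, rfl⟩)
    have huniq : CfsgLib.Coprime.UniqueOrderP 2 M := by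
      have key : ∀ x : M, x ^ 2 = 1 → x ≠ 1 → (x : G) = rotG a (2 * h) := by
        intro x hx hx1
        have ho : orderOf (x : G) = 2 := by
          rw [Subgroup.orderOf_coe]; exact orderOf_eq_prime hx hx1
        rcases Q.invol_casesG x.2.1 ho with e | ⟨q, hq, e⟩
        · exact e
        · rcases (hmem _).1 x.2 with ⟨q', -, e'⟩ | ⟨q', hq', e'⟩
          · exact absurd (e'.symm.trans e) (Q.rotG_ne_refG _ _)
          · obtain ⟨c, hc⟩ := Q.refG_eq_iff.1 (e'.symm.trans e)
            have h5 : (2 : ℤ) ∣ q - q' := ⟨2 * h * c, by rw [hc]; ring⟩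
            omega
      intro x y hx hy hx1
      by_cases hy1 : y = 1
      · rw [hy1]; exact one_mem _
      · rw [show y = x from Subtype.ext ((key y hy hy1).trans (key x hx hx1).symm)]
        exact mem_zpowers x
    have hnc : ¬ IsCyclic M := by
      intro hc
      letI := hc.commGroup
      have hu := mul_comm (⟨rotG a h, (hmem _).2 (Or.inl ⟨_, by obtain ⟨u, hu⟩ := Q.even; exact ⟨u, hu⟩, rfl⟩)⟩ : M)
        ⟨refG a b 1, (hmem _).2 (Or.inr ⟨1, by norm_num, rfl⟩)⟩
      have h6 := Q.rot_ref_commute_iff.1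
        (Subtype.ext (congrArg (Subtype.val : M → G) hu) :
          a ^ h * (a ^ (1 : ℤ) * b) = a ^ (1 : ℤ) * b * a ^ h)
      have := Int.le_of_dvd (by omega) h6
      omega
    rcases CfsgLib.Coprime.cyclic_or_quaternion_of_unique_two (S.2.to_le inf_le_left) huniq with
      hc | ⟨n, ⟨e⟩⟩
    · exact absurd hc hnc
    · refine ⟨n, ?_, ⟨eP.trans e⟩⟩
      by_contra hn
      obtain rfl : n = 0 := by omega
      haveI : IsCyclic (QuaternionGroup (2 ^ 0)) := QuaternionGroup.quaternionGroup_one_isCyclic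
      exact hnc (isCyclic_of_surjective e.symm.toMonoidHom e.symm.surjective)
  · haveI := Subgroup.normal_of_index_eq_two hL
    set x' : K := ⟨rotG a h, Q.quarter_mem hK⟩
    have href : ∀ q, ¬ 2 ∣ q → ∀ hq : refG a b q ∈ K, ((⟨refG a b q, hq⟩ : K) ∈ L ↔ x' ∈ L) := by
      intro q hq2 hq
      obtain ⟨k, hk, s, hs, he⟩ := exists_mem_conj (S := S) hK
        ((Q.isConj_refG (i := q) (j := 1) (by omega)).trans (Q.fusedFour_iff.1 h4))
      set v : K := ⟨s * rotG a h * s⁻¹, (inferInstance : K.Normal).conj_mem _ (Q.quarter_mem hK) s⟩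
      have hv : v ∈ L ↔ x' ∈ L := by
        rcases Q.conj_quarterG hs with e | e
        · rw [show v = x' from Subtype.ext e]
        · rw [show v = x'⁻¹ from Subtype.ext (e.trans (rotG_neg a h)), inv_mem_iff]
      refine Iff.trans ⟨fun hm => ?_, fun hm => ?_⟩ hv
      · have := (inferInstance : L.Normal).conj_mem _ hm (⟨k, hk⟩ : K)
        convert this using 1
        exact Subtype.ext he.symm
      · have := (inferInstance : L.Normal).conj_mem _ hm (⟨k, hk⟩ : K)⁻¹
        convert this using 1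
        refine Subtype.ext ?_
        show refG a b q = k⁻¹ * (s * rotG a h * s⁻¹) * k⁻¹⁻¹
        rw [← he]; group
    have hxL : x' ∈ L := by
      by_contra hx
      obtain ⟨u, hu⟩ := Q.even
      have hh1 : refG a b (h + 1) ∈ K := refG_mem_of_even b hK hK1 ⟨u, by rw [hu]; ring⟩
      have h1 : (⟨refG a b 1, hK1⟩ : K) ∉ L := fun e => hx ((href 1 (by norm_num) hK1).1 e)
      have h2' : (⟨refG a b (h + 1), hh1⟩ : K) ∉ L := fun e => hx ((href _ (by omega) hh1).1 e)
      refine h2' ?_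
      rw [show (⟨refG a b (h + 1), hh1⟩ : K) = x' * ⟨refG a b 1, hK1⟩ from
        Subtype.ext (refG_eq a b h 1)]
      exact (Subgroup.mul_mem_iff_of_index_two hL).2 (iff_of_false hx h1)
    refine index_ne_two_of_inf_le (S := S) (fun x hx => ?_) hL
    rcases (hmem x).1 hx with ⟨q, hq, rfl⟩ | ⟨q, hq, rfl⟩
    · have hq1 : refG a b (q + 1) ∈ K := refG_mem_of_even b hK hK1 (by simpa using hq)
      have := mul_mem ((href (q + 1) (by omega) hq1).2 hxL)
        (inv_mem ((href 1 (by norm_num) hK1).2 hxL))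
      convert this using 1
      refine Subtype.ext ?_
      push_cast
      rw [refG_eq, mul_inv_cancel_right]
    · exact (href q (by omega) _).2 hxL

/-- The centre of `S` is weakly closed when involutions are not fused. -/
theorem center_weaklyClosed (Q : QDFrame h a b) (h2 : ¬ FusedTwo a b h) :
    Cfsg.IsWeaklyClosed ((center (S : Subgroup G)).map (S : Subgroup G).subtype)
      (S : Subgroup G) := by
  refine ⟨map_subtype_le _, fun g hg => ?_⟩
  rw [Q.center_eq, MonoidHom.map_zpowers] at hg ⊢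
  rw [MonoidHom.map_zpowers] at hg ⊢
  have hz : g * rotG a (2 * h) * g⁻¹ ∈ (S : Subgroup G) := hg (mem_zpowers _)
  rcases Q.invol_casesG hz (invol_conj Q.orderOf_centerG g) with e | ⟨q, hq, e⟩
  · exact congrArg zpowers e
  · exact absurd ⟨q, hq, (isConj_iff.2 ⟨g, e⟩ : IsConj _ (refG a b q)).symm⟩ h2

/-- No fusion: a normal 2-complement. -/
theorem nilpotent_case (Q : QDFrame h a b) (h2 : ¬ FusedTwo a b h) (h4 : ¬ FusedFour a b h) :
    Cfsg.HasNormalPComplement 2 G := by
  haveI : Fact (Nat.Prime 2) := ⟨Nat.prime_two⟩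
  obtain ⟨H₁, hH₁, h11⟩ := Q.exists_index_two_four h4
  obtain ⟨H₂, hH₂, h20⟩ := Q.exists_index_two_two h2
  haveI := Subgroup.normal_of_index_eq_two hH₁
  haveI := Subgroup.normal_of_index_eq_two hH₂
  set M := H₁ ⊓ H₂
  have hMp : IsPGroup 2 (G ⧸ M) := by
    intro q
    obtain ⟨g, rfl⟩ := QuotientGroup.mk_surjective q
    refine ⟨1, (QuotientGroup.eq_one_iff (N := M) _).2 ?_⟩
    show g ^ 2 ^ 1 ∈ M
    rw [pow_one, pow_two]
    exact ⟨Subgroup.mul_self_mem_of_index_two hH₁ g, Subgroup.mul_self_mem_of_index_two hH₂ g⟩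
  obtain ⟨P⟩ : Nonempty (Sylow 2 M) := inferInstance
  obtain ⟨eP⟩ := nonempty_sylow_equiv (S := S) M P
  have hle : (S : Subgroup G) ⊓ M ≤ (zpowers a).map (S : Subgroup G).subtype := by
    rintro x ⟨hxS, hx1, hx2⟩
    obtain ⟨q, e | e⟩ := Q.exists_eq (⟨x, hxS⟩ : (S : Subgroup G))
    · exact ⟨a ^ q, zpow_mem_zpowers a q, (congrArg Subtype.val e).symm⟩
    · exfalso
      rw [show x = refG a b q from congrArg Subtype.val e] at hx1 hx2
      by_cases hq : 2 ∣ q
      · exact h20 (refG_mem_of_even b hH₂ hx2 (by rw [zero_sub]; exact hq.neg_right))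
      · exact h11 (refG_mem_of_even b hH₁ hx1 (by omega))
  haveI : IsCyclic ((zpowers a).map (S : Subgroup G).subtype) :=
    isCyclic_of_surjective ((zpowers a).equivMapOfInjective _ (Subgroup.subtype_injective _)).toMonoidHom
      (MulEquiv.surjective _)
  haveI : IsCyclic ↥((S : Subgroup G) ⊓ M) := isCyclic_of_injective (Subgroup.inclusion hle)
    (Subgroup.inclusion_injective hle)
  exact hasNormalPComplement_of_normal_two hMp (hasNormalPComplement_two_of_isCyclic P
    (isCyclic_of_surjective eP.symm.toMonoidHom eP.symm.surjective))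

end QDFrame

end CfsgLib.Invol
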