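import Cfsg.Agent.Lib.Invol.TriangleRows
import Mathlib.Tactic.IntervalCases

/-!
# Integer vectors attached to the images of the four virtual characters
-/

set_option autoImplicit false

namespace CfsgLib.Invol

variable {ι : Type*}

theorem small_of_norm_three (s : Finset ι) (v : ι → ℤ) (hv : ∑ x ∈ s, v x ^ 2 ≤ 3) {x : ι}
    (hx : x ∈ s) : v x = 0 ∨ v x = 1 ∨ v x = -1 := by
  have h1 : v x ^ 2 ≤ 3 := le_trans (Finset.single_le_sum (fun y _ => sq_nonneg (v y)) hx) hv
  have hlo : -2 < v x := by nlinarith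
  have hhi : v x < 2 := by nlinarith
  omega

theorem sum_mul_of_support [DecidableEq ι] (s : Finset ι) (v w : ι → ℤ) {a b : ι} (ha : a ∈ s)
    (hb : b ∈ s) (hab : a ≠ b) (hv : ∀ x ∈ s, x ≠ a → x ≠ b → v x = 0) :
    ∑ x ∈ s, v x * w x = v a * w a + v b * w b := by
  refine (Finset.sum_subset (s₁ := ({a, b} : Finset ι)) ?_ fun x hx hx' => ?_).symm.trans
    (Finset.sum_pair hab)
  · intro x hx
    simp only [Finset.mem_insert, Finset.mem_singleton] at hx
    rcases hx with rfl | rfl <;> assumption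
  · simp only [Finset.mem_insert, Finset.mem_singleton, not_or] at hx'
    rw [hv x hx hx'.1 hx'.2, zero_mul]

theorem eq_zero_of_norm [DecidableEq ι] (s : Finset ι) (v : ι → ℤ) {a b : ι} (ha : a ∈ s)
    (hb : b ∈ s) (hab : a ≠ b) (hv : ∑ x ∈ s, v x ^ 2 ≤ v a ^ 2 + v b ^ 2) :
    ∀ x ∈ s, x ≠ a → x ≠ b → v x = 0 := by
  intro x hx hxa hxb
  have h1 : ∑ y ∈ ({a, b, x} : Finset ι), v y ^ 2 ≤ ∑ y ∈ s, v y ^ 2 := by
    refine Finset.sum_le_sum_of_subset_of_nonneg ?_ fun _ _ _ => sq_nonneg _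
    intro y hy
    simp only [Finset.mem_insert, Finset.mem_singleton] at hy
    rcases hy with rfl | rfl | rfl <;> assumption
  rw [Finset.sum_insert (by simp [hab, Ne.symm hxa]), Finset.sum_insert (by simp [Ne.symm hxb]),
    Finset.sum_singleton] at h1
  by_contra hvx
  have := mul_self_pos.2 hvx
  rw [← pow_two] at this
  omega

/-- The shared constituent of the four vectors. -/
theorem exists_shared [DecidableEq ι] (s : Finset ι) (n0 na nb nc : ι → ℤ)
    (h00 : ∑ x ∈ s, n0 x ^ 2 = 3) (haa : ∑ x ∈ s, na x ^ 2 = 2) (hbb : ∑ x ∈ s, nb x ^ 2 = 2)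
    (hcc : ∑ x ∈ s, nc x ^ 2 = 3) (h0a : ∑ x ∈ s, n0 x * na x = -1)
    (h0b : ∑ x ∈ s, n0 x * nb x = -1) (h0c : ∑ x ∈ s, n0 x * nc x = -2)
    (hab : ∑ x ∈ s, na x * nb x = 0) (hac : ∑ x ∈ s, na x * nc x = 1) :
    ∃ A ∈ s, ∃ H ∈ s, ∃ e t : ℤ, A ≠ H ∧ (e = 1 ∨ e = -1) ∧ (t = 1 ∨ t = -1) ∧
      n0 A = e ∧ na A = -e ∧ na H = t ∧ (∀ x ∈ s, x ≠ A → x ≠ H → na x = 0) ∧
      ((nb A = 0 ∧ nc A = -e) ∨
        (na A + nb A = -2 * e ∧ ∀ x ∈ s, x ≠ A → na x + nb x = 0) ∨
        (n0 A + nc A = e ∧ n0 H + nc H = t ∧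
          ∀ x ∈ s, x ≠ A → x ≠ H → n0 x + nc x = 0)) := by
  obtain ⟨A, hA, hneg⟩ : ∃ A ∈ s, n0 A * na A < 0 := by
    by_contra hne
    push Not at hne
    have := Finset.sum_nonneg hne
    omega
  have ht0 := small_of_norm_three s n0 h00.le hA
  have hta := mem_trichotomy s na haa hA
  have he : n0 A = 1 ∨ n0 A = -1 := by
    rcases ht0 with h | h | h
    · rw [h, zero_mul] at hneg; omega
    · exact Or.inl h
    · exact Or.inr h
  have hnaA : na A = -n0 A := by
    rcases he with h | h <;> rcases hta with h' | h' | h' <;> rw [h, h'] at hneg <;> omega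
  obtain ⟨H, hH, hHA, hH0⟩ : ∃ H ∈ s, H ≠ A ∧ na H ≠ 0 := by
    by_contra hne
    push Not at hne
    rw [Finset.sum_eq_single A (fun x hx hxA => by rw [hne x hx hxA]; rfl) (fun h => absurd hA h),
      hnaA, neg_sq] at haa
    rcases he with h | h <;> rw [h] at haa <;> omega
  have htH : na H = 1 ∨ na H = -1 := (mem_trichotomy s na haa hH).resolve_left hH0
  have hsup := two_nonzero s na haa hA hH hHA.symm (by omega) hH0
  have hdot : ∀ w : ι → ℤ, ∑ x ∈ s, na x * w x = na A * w A + na H * w H := fun w =>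
    sum_mul_of_support s na w hA hH hHA.symm hsup
  have hH00 : n0 H = 0 := by
    have h : ∑ x ∈ s, na x * n0 x = -1 := by
      rw [← h0a]; exact Finset.sum_congr rfl fun x _ => mul_comm _ _
    rw [hdot, hnaA] at h
    have e1 : -n0 A * n0 A = -1 := by rcases he with h | h <;> rw [h] <;> norm_num
    rw [e1] at h
    rcases htH with h' | h' <;> rw [h'] at h <;> omega
  refine ⟨A, hA, H, hH, n0 A, na H, hHA.symm, he, htH, rfl, hnaA, rfl, hsup, ?_⟩
  rw [hdot, hnaA] at hab hac
  have hbA := mem_trichotomy s nb hbb hA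
  have hbH := mem_trichotomy s nb hbb hH
  by_cases hb0 : nb A = 0
  · by_cases hc0 : nc A = -n0 A
    · exact Or.inl ⟨hb0, hc0⟩
    · refine Or.inr (Or.inr ?_)
      have hsum : ∑ x ∈ s, (n0 x + nc x) ^ 2 = 2 := by
        have e1 : ∀ x, (n0 x + nc x) ^ 2 = n0 x ^ 2 + nc x ^ 2 + 2 * (n0 x * nc x) := fun x => by ring
        simp only [e1, Finset.sum_add_distrib, ← Finset.mul_sum, h00, hcc, h0c]; norm_num
      have hcA := small_of_norm_three s nc hcc.le hA
      have hsA := mem_trichotomy s (fun x => n0 x + nc x) hsum hA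
      have hcA0 : nc A = 0 := by omega
      have hcH : nc H = na H := by
        rw [hcA0, mul_zero, zero_add] at hac
        rcases htH with h' | h' <;> rw [h'] at hac ⊢ <;> omega
      refine ⟨by rw [hcA0, add_zero], by rw [hH00, zero_add, hcH], ?_⟩
      refine eq_zero_of_norm s (fun x => n0 x + nc x) hA hH hHA.symm ?_
      rw [hsum, hcA0, add_zero, hH00, zero_add, hcH]
      rcases he with h | h <;> rcases htH with h' | h' <;> rw [h, h'] <;> norm_num
  · refine Or.inr (Or.inl ?_)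
    have hbA' : nb A = -n0 A := by
      by_contra hne
      have hbA2 : nb A = n0 A := by omega
      rw [hbA2] at hab
      have hbH2 : nb H = na H := by
        rcases he with h | h <;> rcases htH with h' | h' <;> rw [h, h'] at hab <;> omega
      have hsupb := two_nonzero s nb hbb hA hH hHA.symm (by omega) (by omega)
      have h0 : ∑ x ∈ s, nb x * n0 x = -1 := by
        rw [← h0b]; exact Finset.sum_congr rfl fun x _ => mul_comm _ _
      rw [sum_mul_of_support s nb n0 hA hH hHA.symm hsupb, hH00, mul_zero, add_zero, hbA2] at h0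
      rcases he with h | h <;> rw [h] at h0 <;> omega
    refine ⟨by rw [hnaA, hbA']; ring, ?_⟩
    rw [hbA'] at hab
    have hbH2 : nb H = -na H := by
      rcases he with h | h <;> rcases htH with h' | h' <;> rw [h, h'] at hab <;> omega
    have hsupb := two_nonzero s nb hbb hA hH hHA.symm (by omega) (by omega)
    intro x hx hxA
    by_cases hxH : x = H
    · subst hxH; omega
    · rw [hsup x hx hxA hxH, hsupb x hx hxA hxH]; rfl

end CfsgLib.Invol
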