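import Cfsg.Agent.Lib.Char.Brauer
import Cfsg.Agent.Lib.Char.Virtual
import Mathlib.GroupTheory.Nilpotent

/-!
# Composition with the odd part of an element
-/

set_option autoImplicit false

namespace CfsgLib.Invol

open Cfsg

universe u

variable {G : Type u} [Group G] [Finite G]

/-- An exponent sending each element to its part of odd order. -/
theorem exists_odd_part_exponent (G : Type u) [Group G] [Finite G] :
    ∃ e : ℕ, (∀ g : G, (∃ j : ℕ, orderOf g = 2 ^ j) → g ^ e = 1) ∧
      ∀ g : G, ¬ 2 ∣ orderOf g → g ^ e = g := by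
  have hn0 : Nat.card G ≠ 0 := Nat.card_pos.ne'
  set a := (Nat.card G).factorization 2 with ha
  obtain ⟨e, h1, h2⟩ := Nat.chineseRemainder
    ((Nat.coprime_ordCompl Nat.prime_two hn0).pow_left a) 0 1
  refine ⟨e, fun g ⟨j, hj⟩ => orderOf_dvd_iff_pow_eq_one.1 ?_, fun g hg => ?_⟩
  · refine (?_ : orderOf g ∣ 2 ^ a).trans (Nat.modEq_zero_iff_dvd.1 h1)
    rw [hj]
    refine pow_dvd_pow 2 ((Nat.prime_two.pow_dvd_iff_le_factorization hn0).1 ?_)
    rw [← hj]; exact orderOf_dvd_natCard g
  · have h3 : orderOf g ∣ ordCompl[2] (Nat.card G) := by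
      refine (((Nat.prime_two.coprime_iff_not_dvd).2 hg).pow_left a).symm.dvd_of_dvd_mul_left ?_
      rw [ha, Nat.ordProj_mul_ordCompl_eq_self]
      exact orderOf_dvd_natCard g
    conv_rhs => rw [← pow_one g]
    exact pow_eq_pow_iff_modEq.2 (h2.of_dvd h3)

/-- On a nilpotent subgroup the odd part is multiplicative. -/
theorem mul_pow_odd_part {e : ℕ} (he2 : ∀ g : G, (∃ j : ℕ, orderOf g = 2 ^ j) → g ^ e = 1)
    (heodd : ∀ g : G, ¬ 2 ∣ orderOf g → g ^ e = g) (E : Subgroup G) [Group.IsNilpotent E]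
    (x y : E) : (x * y) ^ e = x ^ e * y ^ e := by
  obtain ⟨φ⟩ := ((Group.isNilpotent_of_finite_tfae (G := E)).out 0 4 rfl rfl).1 ‹_›
  apply φ.symm.injective
  simp only [map_mul, map_pow]
  funext p P
  simp only [Pi.mul_apply, Pi.pow_apply]
  haveI : Fact (p : ℕ).Prime := ⟨Nat.prime_of_mem_primeFactors p.2⟩
  have hval : ∀ w : (P : Subgroup E), w ^ e = if (p : ℕ) = 2 then 1 else w := by
    intro w
    obtain ⟨j, hj⟩ := (IsPGroup.iff_orderOf.1 P.2) w
    have hj' : orderOf (((w : E)) : G) = (p : ℕ) ^ j := by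
      rw [Subgroup.orderOf_coe, Subgroup.orderOf_coe, hj]
    split_ifs with hp
    · refine Subtype.ext (Subtype.ext ?_)
      exact he2 _ ⟨j, by rw [hj', hp]⟩
    · refine Subtype.ext (Subtype.ext ?_)
      refine heodd _ fun h => hp ?_
      rw [hj'] at h
      exact ((Nat.prime_dvd_prime_iff_eq Nat.prime_two
        (Nat.prime_of_mem_primeFactors p.2)).1 (Nat.prime_two.dvd_of_dvd_pow h)).symm
  simp only [hval]
  split_ifs <;> simp

/-- A character composed with the odd part is a generalized character. -/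
theorem isGeneralized_comp_odd_part [Fintype G] {e : ℕ}
    (he2 : ∀ g : G, (∃ j : ℕ, orderOf g = 2 ^ j) → g ^ e = 1)
    (heodd : ∀ g : G, ¬ 2 ∣ orderOf g → g ^ e = g) (χ : IrrCharacter G) :
    IsGeneralizedCharacter G (fun g => (χ : G → ℂ) (g ^ e)) := by
  refine Char.isGeneralizedCharacter_of_elementary (fun g h => ?_) fun E p hp hE => ?_
  · show (χ : G → ℂ) ((h * g * h⁻¹) ^ e) = (χ : G → ℂ) (g ^ e)
    rw [conj_pow, Char.isClassFunction_irr χ]
  · have := Char.isNilpotent_of_isElementary hp hE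
    exact Char.isGeneralizedCharacter_comp
      (Char.isGeneralizedCharacter_of_isCharacter (Char.isCharacter_irr χ))
      (E.subtype.comp (MonoidHom.mk' (fun x : E => x ^ e) (mul_pow_odd_part he2 heodd E)))

end CfsgLib.Invol
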