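import Mathlib.Algebra.BigOperators.Ring.Finset
import Mathlib.Algebra.Order.BigOperators.Group.Finset
import Mathlib.Tactic.Linarith
import Mathlib.Algebra.Ring.Int.Parity
import Mathlib.Tactic.Ring

/-!
# Three integer vectors of norm two with inner products one
-/

set_option autoImplicit false

namespace CfsgLib.Invol

theorem two_nonzero {ι : Type*} [DecidableEq ι] (s : Finset ι) (v : ι → ℤ)
    (hv : ∑ x ∈ s, v x ^ 2 = 2) {a b : ι} (ha : a ∈ s) (hb : b ∈ s) (hab : a ≠ b) (hva : v a ≠ 0)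
    (hvb : v b ≠ 0) : ∀ x ∈ s, x ≠ a → x ≠ b → v x = 0 := by
  intro x hx hxa hxb
  have h1 : ∑ y ∈ ({a, b, x} : Finset ι), v y ^ 2 ≤ ∑ y ∈ s, v y ^ 2 := by
    refine Finset.sum_le_sum_of_subset_of_nonneg ?_ fun _ _ _ => sq_nonneg _
    intro y hy
    simp only [Finset.mem_insert, Finset.mem_singleton] at hy
    rcases hy with rfl | rfl | rfl <;> assumption
  rw [Finset.sum_insert (by simp [hab, Ne.symm hxa]), Finset.sum_insert (by simp [Ne.symm hxb]),
    Finset.sum_singleton, hv] at h1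
  by_contra hvx
  have := mul_self_pos.2 hva
  have := mul_self_pos.2 hvb
  have := mul_self_pos.2 hvx
  rw [pow_two, pow_two, pow_two] at h1
  omega

theorem mem_trichotomy {ι : Type*} (s : Finset ι) (v : ι → ℤ) (hv : ∑ x ∈ s, v x ^ 2 = 2) {x : ι}
    (hx : x ∈ s) : v x = 0 ∨ v x = 1 ∨ v x = -1 := by
  have h1 : v x ^ 2 ≤ 2 := hv ▸ Finset.single_le_sum (fun y _ => sq_nonneg (v y)) hx
  have hlo : -2 < v x := by nlinarith
  have hhi : v x < 2 := by nlinarith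
  omega

/-- Some coordinate is `±1` in both vectors with the same sign, and zero in the third. -/
theorem exists_pair_row {ι : Type*} (s : Finset ι) (v w t : ι → ℤ) (hv : ∑ x ∈ s, v x ^ 2 = 2)
    (hw : ∑ x ∈ s, w x ^ 2 = 2) (ht : ∑ x ∈ s, t x ^ 2 = 2) (hvw : ∑ x ∈ s, v x * w x = 1)
    (heven : ∀ x ∈ s, Even (v x + w x + t x)) :
    ∃ a ∈ s, (v a = 1 ∨ v a = -1) ∧ w a = v a ∧ t a = 0 := by
  by_contra hne
  push Not at hne
  have h : ∑ x ∈ s, v x * w x ≤ 0 := Finset.sum_nonpos fun x hx => by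
    rcases mem_trichotomy s v hv hx with h1 | h1 | h1
    · simp [h1]
    all_goals
      rcases mem_trichotomy s w hw hx with h2 | h2 | h2 <;> simp only [h1, h2] <;> norm_num
      have h3 := hne x hx (by simp [h1]) (by rw [h1, h2])
      obtain ⟨k, hk⟩ := heven x hx
      rcases mem_trichotomy s t ht hx with h4 | h4 | h4
      · exact h3 h4
      all_goals (rw [h1, h2, h4] at hk; omega)
  omega

/-- The triangle of rows. -/
theorem exists_triangle {ι : Type*} [DecidableEq ι] (s : Finset ι) (n : Fin 3 → ι → ℤ)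
    (h : ∀ i j : Fin 3, ∑ x ∈ s, n i x * n j x = if i = j then 2 else 1)
    (heven : ∀ x ∈ s, Even (n 0 x + n 1 x + n 2 x))
    (hne : ∀ x ∈ s, n 0 x ≠ 0 ∨ n 1 x ≠ 0 ∨ n 2 x ≠ 0) :
    ∃ a b c : ι, ∃ p q r : ℤ, (p = 1 ∨ p = -1) ∧ (q = 1 ∨ q = -1) ∧ (r = 1 ∨ r = -1) ∧
      a ≠ b ∧ a ≠ c ∧ b ≠ c ∧ s = {a, b, c} ∧
      (n 0 a = p ∧ n 1 a = p ∧ n 2 a = 0) ∧ (n 0 b = q ∧ n 1 b = 0 ∧ n 2 b = q) ∧
      (n 0 c = 0 ∧ n 1 c = r ∧ n 2 c = r) := by
  have hsq : ∀ i, ∑ x ∈ s, n i x ^ 2 = 2 := fun i => by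
    simp only [pow_two]; rw [h i i, if_pos rfl]
  obtain ⟨a, ha, hp, ha1, ha2⟩ := exists_pair_row s (n 0) (n 1) (n 2) (hsq 0) (hsq 1) (hsq 2)
    (by rw [h]; decide) heven
  obtain ⟨b, hb, hq, hb2, hb1⟩ := exists_pair_row s (n 0) (n 2) (n 1) (hsq 0) (hsq 2) (hsq 1)
    (by rw [h]; decide) (fun x hx => by have := heven x hx; rwa [add_right_comm] at this)
  obtain ⟨c, hc, hr, hc2, hc0⟩ := exists_pair_row s (n 1) (n 2) (n 0) (hsq 1) (hsq 2) (hsq 0)
    (by rw [h]; decide) (fun x hx => by have := heven x hx; rwa [add_comm _ (n 0 x), ← add_assoc])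
  have hab : a ≠ b := fun e => by subst e; omega
  have hac : a ≠ c := fun e => by subst e; omega
  have hbc : b ≠ c := fun e => by subst e; omega
  refine ⟨a, b, c, n 0 a, n 0 b, n 1 c, hp, hq, hr, hab, hac, hbc, ?_, ⟨rfl, ha1, ha2⟩,
    ⟨rfl, hb1, hb2⟩, ⟨hc0, rfl, hc2⟩⟩
  ext x
  simp only [Finset.mem_insert, Finset.mem_singleton]
  refine ⟨fun hx => ?_, by rintro (rfl | rfl | rfl) <;> assumption⟩
  by_contra hx'
  push Not at hx'
  obtain ⟨hxa, hxb, hxc⟩ := hx'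
  rcases hne x hx with h0 | h0 | h0 <;> apply h0
  · exact two_nonzero s (n 0) (hsq 0) ha hb hab (by omega) (by omega) x hx hxa hxb
  · exact two_nonzero s (n 1) (hsq 1) ha hc hac (by omega) (by omega) x hx hxa hxc
  · exact two_nonzero s (n 2) (hsq 2) hb hc hbc (by omega) (by omega) x hx hxb hxc

end CfsgLib.Invol
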