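import Cfsg.Agent.Lib.Invol.QuaternionBlock
import Cfsg.Agent.Lib.Invol.OddPartHom
import Cfsg.Agent.Lib.Invol.TriangleRows

/-!
# The principal block of a centralizer with a quaternion Sylow subgroup of order eight: shape
-/

open scoped ComplexConjugate
open Subgroup

set_option autoImplicit false
set_option linter.unusedSectionVars false

namespace CfsgLib.Invol

open Cfsg CfsgLib.Block

universe u

/-- The seven characters of the principal block, with signs, and their regular values. -/
structure EightFrame {C : Type u} [Group C] [Fintype C] (D : EightData C) (M : Ideal AlgInt) where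
  /-- the characters trivial at the involution -/
  f : Fin 4 → C → ℂ
  /-- the characters faithful at the involution -/
  h : Fin 3 → C → ℂ
  f_gen : ∀ j, IsGeneralizedCharacter C (f j)
  h_gen : ∀ i, IsGeneralizedCharacter C (h i)
  f_zero : ∀ g, f 0 g = 1
  f_orth : ∀ i j, classInner (f i) (f j) = if i = j then 1 else 0
  h_orth : ∀ i j, classInner (h i) (h j) = if i = j then 1 else 0
  fh_orth : ∀ i j, classInner (f i) (h j) = 0
  f_u : ∀ j g, f j (D.u * g) = f j g
  h_u : ∀ i g, h i (D.u * g) = -h i g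
  f_four : ∀ j g, 4 ∣ orderOf g → f j g = 1
  h_four : ∀ i g, 4 ∣ orderOf g → h i g = 0
  f_sum : ∀ g, ¬ 2 ∣ orderOf g → ∑ j, f j g = 0
  h0_reg : ∀ g, ¬ 2 ∣ orderOf g → h 0 g = f 0 g + f 1 g
  h1_reg : ∀ g, ¬ 2 ∣ orderOf g → h 1 g = f 0 g + f 2 g
  h2_reg : ∀ g, ¬ 2 ∣ orderOf g → h 2 g = f 1 g + f 2 g
  part : ∀ (r : C → ℂ) g, blockPart (principalBlock M C) r g =
    ∑ j, classInner r (f j) * f j g + ∑ i, classInner r (h i) * h i g
  f_one_ne : ∀ j, f j 1 ≠ 0

namespace EightData

variable {C : Type u} [Group C] [Fintype C] [DecidableEq C] [Fintype (IrrCharacter C)]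
  (D : EightData C) {M : Ideal AlgInt} [M.IsMaximal]

include D

theorem apply_four (hM : IsPModular 2 M) {ψ : IrrCharacter C} (hψ : ψ ∈ principalBlock M C) {g : C}
    (hg : 4 ∣ orderOf g) : (ψ : C → ℂ) g = (ψ : C → ℂ) D.c := by
  classical
  have := Fintype.ofFinite D.L
  have := Fintype.ofFinite (IrrCharacter D.L)
  obtain ⟨φ, hφc, hφ4⟩ := D.exists_phi
  rcases D.cases3 g with h | ⟨r, hr, rfl⟩ | ⟨-, a, r, hrc, hr, hag⟩
  · exact absurd (D.not_regular_of_four_dvd hg) h
  · rw [D.orderOf_u_mul hr] at hg; exfalso; omega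
  rw [← Char.isClassFunction_irr ψ g a, hag]
  exact D.apply_c_mul hφc hφ4 hM hψ (l := ⟨r, D.mem_L.2 hrc⟩)
    ((D.phi_eq_one_iff hφc hφ4 _).2 hr)

theorem exists_int_apply_c (ψ : IrrCharacter C) : ∃ k : ℤ, (ψ : C → ℂ) D.c = k ∧
    ((ψ : C → ℂ) D.u = (ψ : C → ℂ) 1 → (k = 1 ∨ k = -1) →
      ∃ m : ℤ, (ψ : C → ℂ) 1 = m ∧ Odd m) ∧
    ((ψ : C → ℂ) D.u = -(ψ : C → ℂ) 1 → ∃ m : ℤ, (ψ : C → ℂ) 1 = m ∧ Even m) := by
  have h4 : D.c ^ 4 = 1 := by
    have := pow_orderOf_eq_one D.c
    rwa [D.c_order] at this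
  obtain ⟨a, b, c, d, h1, h2, h3⟩ := exists_counts_four ψ h4
  rw [D.c_sq] at h3
  have hcd : c = d := by
    have h5 := congrArg Complex.im (D.conj_apply_c ψ)
    rw [Complex.conj_im, h2] at h5
    simp at h5
    have : (c : ℝ) = d := by linarith
    exact_mod_cast this
  subst hcd
  refine ⟨(a : ℤ) - b, by rw [h2]; push_cast; ring, fun hu hk => ⟨(a : ℤ) + b, ?_, ?_⟩,
    fun hu => ⟨2 * (c : ℤ), ?_, ⟨c, by ring⟩⟩⟩
  · have : (c : ℂ) = 0 := by linear_combination (-1/4 : ℂ) * (hu - h3 + h1)
    rw [h1, this]; push_cast; ring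
  · rcases hk with hk | hk
    · exact ⟨(b : ℤ), by omega⟩
    · exact ⟨(a : ℤ), by omega⟩
  · have : (a : ℂ) + b = 0 := by linear_combination (1/2 : ℂ) * (hu - h3 - h1)
    rw [h1]; push_cast; linear_combination this

theorem sign_cases (ψ : IrrCharacter C) :
    (∀ g, (ψ : C → ℂ) (D.u * g) = (ψ : C → ℂ) g) ∨
      (∀ g, (ψ : C → ℂ) (D.u * g) = -(ψ : C → ℂ) g) := by
  obtain ⟨s, hs | hs, hsv⟩ := exists_sign_of_central ψ D.u_mem_center D.u_mul_u
  · exact Or.inl fun g => by rw [hsv, hs, one_mul]
  · exact Or.inr fun g => by rw [hsv, hs, neg_one_mul]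

theorem sign_of_ne_zero {ψ : IrrCharacter C} (h : (ψ : C → ℂ) D.c ≠ 0) :
    ∀ g, (ψ : C → ℂ) (D.u * g) = (ψ : C → ℂ) g := by
  refine (D.sign_cases ψ).resolve_right fun hn => h ?_
  have h1 := hn D.c
  rw [← D.c_inv, Char.irr_inv, D.conj_apply_c] at h1
  linear_combination (1/2 : ℂ) * h1

theorem sign_of_zero (hM : IsPModular 2 M) {ψ : IrrCharacter C} (hψ : ψ ∈ principalBlock M C)
    (hne : ψ ≠ oneChar C) (h : (ψ : C → ℂ) D.c = 0) :
    ∀ g, (ψ : C → ℂ) (D.u * g) = -(ψ : C → ℂ) g := by
  classical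
  refine (D.sign_cases ψ).resolve_left fun hp => ?_
  have horth : ∑ g, (ψ : C → ℂ) g = 0 := by
    have h1 := Char.classInner_irr_ne hne
    simp only [classInner, oneChar, map_one, mul_one] at h1
    exact (mul_eq_zero.1 h1).resolve_left (inv_ne_zero (Nat.cast_ne_zero.mpr Nat.card_pos.ne'))
  rw [D.sum_split] at horth
  simp only [hp] at horth
  rw [Finset.sum_eq_zero (s := Finset.univ.filter (fun g : C => 4 ∣ orderOf g)) fun g hg => by
    rw [D.apply_four hM hψ (Finset.mem_filter.1 hg).2, h], add_zero] at horth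
  have := Fintype.ofFinite (ConjClasses C)
  obtain ⟨R, hR, hRres⟩ := exists_regN_lift (p := 2) (M := M) ψ (oneChar C)
  apply omegaBar_regBar_ne_zero hM hψ
  rw [omegaBar_regBar_eq_regN, ← hRres]
  have hR0 : (R : ℂ) = 0 := by
    refine (mul_eq_zero.1 ?_).resolve_right (Char.irr_one_ne_zero ψ)
    rw [hR, card_mul_regInner]
    simp only [oneChar, mul_one]
    linear_combination (1/2 : ℂ) * horth
  rw [show R = 0 from Subtype.ext hR0, map_zero]

theorem exists_constituents (hM : IsPModular 2 M) :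
    ∃ (F : Fin 4 → IrrCharacter C) (e : Fin 4 → ℤ), Function.Injective F ∧ F 0 = oneChar C ∧
      e 0 = 1 ∧ (∀ j, e j = 1 ∨ e j = -1) ∧ (∀ j, F j ∈ principalBlock M C) ∧
      (∀ j, (F j : C → ℂ) D.c = e j) ∧
      (∀ g, D.delta g = (∑ j, (e j : ℂ) * (F j : C → ℂ) g) / 4) ∧
      ∀ ψ ∈ principalBlock M C, (∀ j, ψ ≠ F j) → (ψ : C → ℂ) D.c = 0 := by
  classical
  have := Fintype.ofFinite D.L
  have := Fintype.ofFinite (IrrCharacter D.L)
  obtain ⟨φ, hφc, hφ4⟩ := D.exists_phi
  choose k hk using fun ψ => D.exists_int_apply_c ψ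
  set s := Finset.univ.filter (· ∈ principalBlock M C) with hs
  have hmem : ∀ ψ, ψ ∈ s ↔ ψ ∈ principalBlock M C := fun ψ => by simp [hs]
  have hk1 : k (oneChar C) = 1 := by
    have := (hk (oneChar C)).1
    simp only [oneChar] at this
    exact_mod_cast this.symm
  have hcoef : ∀ ψ : IrrCharacter C, classInner D.delta (ψ : C → ℂ) = if ψ ∈ s then (k ψ : ℂ) / 4 else 0 := by
    intro ψ
    by_cases hψ : ψ ∈ s
    · rw [if_pos hψ, D.classInner_delta_mem hφc hφ4 hM ((hmem ψ).1 hψ), (hk ψ).1]
    · rw [if_neg hψ, D.classInner_delta_not_mem hφc hφ4 hM fun h => hψ ((hmem ψ).2 h)]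
  have hsum4 : ∑ ψ ∈ s, k ψ ^ 2 = 4 := by
    have h := Char.classInner_expand (f := D.delta) D.isClassFunction_delta
    rw [D.classInner_delta_self hφc hφ4 hM] at h
    simp only [hcoef, apply_ite conj, map_zero, ite_mul, zero_mul, mul_ite, mul_zero, map_div₀,
      map_intCast, map_ofNat] at h
    rw [Finset.sum_congr rfl (g := fun ψ => if ψ ∈ s then ((k ψ : ℂ) / 4) * ((k ψ : ℂ) / 4) else 0)
      fun ψ _ => by split_ifs <;> simp, Finset.sum_ite_mem, Finset.univ_inter] at h
    have h' : (∑ ψ ∈ s, ((k ψ : ℂ)) ^ 2) = 4 := by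
      rw [Finset.sum_congr rfl (g := fun ψ => (k ψ : ℂ) / 4 * ((k ψ : ℂ) / 4) * 16) fun ψ _ => by
        ring, ← Finset.sum_mul, ← h]
      norm_num
    exact_mod_cast h'
  have h1s : oneChar C ∈ s := (hmem _).2 one_mem_principalBlock
  rw [← Finset.add_sum_erase _ _ h1s, hk1] at hsum4
  set T := (s.erase (oneChar C)).filter fun ψ => k ψ ≠ 0 with hT
  have hsum3 : ∑ ψ ∈ T, k ψ ^ 2 = 3 := by
    rw [hT, Finset.sum_filter_of_ne (p := fun ψ => k ψ ≠ 0)
      (fun ψ _ h h' => h (by rw [h']; norm_num))]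
    linarith
  have hone : ∀ ψ ∈ T, k ψ ^ 2 = 1 := fun ψ hψ => by
    have h0 := (Finset.mem_filter.1 hψ).2
    have hle : k ψ ^ 2 ≤ 3 := hsum3 ▸ Finset.single_le_sum (fun y _ => sq_nonneg (k y)) hψ
    have hlo : -2 < k ψ := by nlinarith
    have hhi : k ψ < 2 := by nlinarith
    interval_cases h : k ψ <;> simp_all
  have hcard : T.card = 3 := by
    have h : (T.card : ℤ) = 3 := by
      rw [← hsum3, Finset.sum_congr rfl hone]; simp
    exact_mod_cast h
  obtain ⟨a, b, d, hab, had, hbd, habd⟩ := Finset.card_eq_three.1 hcard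
  have hT' : ∀ ψ ∈ T, ψ ∈ principalBlock M C ∧ ψ ≠ oneChar C ∧ (k ψ = 1 ∨ k ψ = -1) := fun ψ hψ => by
    have h0 := Finset.mem_erase.1 (Finset.mem_filter.1 hψ).1
    refine ⟨(hmem ψ).1 h0.2, h0.1, sq_eq_one_iff.1 (hone ψ hψ)⟩
  have haT : a ∈ T := by rw [habd]; simp
  have hbT : b ∈ T := by rw [habd]; simp
  have hdT : d ∈ T := by rw [habd]; simp
  obtain ⟨ha0, ha1, ha2⟩ := hT' a haT
  obtain ⟨hb0, hb1, hb2⟩ := hT' b hbT
  obtain ⟨hd0, hd1, hd2⟩ := hT' d hdT
  set F : Fin 4 → IrrCharacter C := ![oneChar C, a, b, d] with hF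
  have hFinj : Function.Injective F := by
    intro i j h
    fin_cases i <;> fin_cases j <;>
      first
      | rfl
      | exact absurd h ha1 | exact absurd h ha1.symm | exact absurd h hb1 | exact absurd h hb1.symm
      | exact absurd h hd1 | exact absurd h hd1.symm | exact absurd h hab | exact absurd h hab.symm
      | exact absurd h had | exact absurd h had.symm | exact absurd h hbd | exact absurd h hbd.symm
  have himg : ∀ ψ ∈ s, k ψ ≠ 0 → ∃ j, F j = ψ := by
    intro ψ hψ hk0
    by_cases h1 : ψ = oneChar C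
    · exact ⟨0, h1.symm⟩
    have : ψ ∈ T := Finset.mem_filter.2 ⟨Finset.mem_erase.2 ⟨h1, hψ⟩, hk0⟩
    rw [habd] at this
    simp only [Finset.mem_insert, Finset.mem_singleton] at this
    rcases this with h | h | h
    · exact ⟨1, h.symm⟩
    · exact ⟨2, h.symm⟩
    · exact ⟨3, h.symm⟩
  refine ⟨F, fun j => k (F j), hFinj, rfl, hk1, ?_, ?_, fun j => (hk _).1, ?_, ?_⟩
  · intro j; fin_cases j
    · exact Or.inl hk1
    · exact ha2
    · exact hb2
    · exact hd2
  · intro j; fin_cases j
    · exact one_mem_principalBlock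
    · exact ha0
    · exact hb0
    · exact hd0
  · intro g
    conv_lhs => rw [Char.classFun_expand D.isClassFunction_delta]
    simp only [Finset.sum_apply, Pi.smul_apply, smul_eq_mul, hcoef]
    rw [Finset.sum_div, ← Finset.sum_subset (Finset.subset_univ (Finset.univ.image F)),
      Finset.sum_image fun i _ j _ h => hFinj h]
    · refine Finset.sum_congr rfl fun j _ => ?_
      rw [if_pos]
      · ring
      · rw [hmem]
        fin_cases j
        · exact one_mem_principalBlock
        · exact ha0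
        · exact hb0
        · exact hd0
    · intro ψ _ hψ
      by_cases hψs : ψ ∈ s
      · have hk0 : k ψ = 0 := by
          by_contra hk0
          obtain ⟨j, hj⟩ := himg ψ hψs hk0
          exact hψ (Finset.mem_image.2 ⟨j, Finset.mem_univ j, hj⟩)
        rw [if_pos hψs, hk0]; simp
      · rw [if_neg hψs, zero_mul]
  · intro ψ hψ hne
    rw [(hk ψ).1]
    norm_cast
    by_contra hk0
    obtain ⟨j, hj⟩ := himg ψ ((hmem ψ).2 hψ) hk0
    exact hne j hj.symm

theorem classInner_reg_split (F H : C → ℂ) (hH : ∀ g, 4 ∣ orderOf g → H g = 0) :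
    classInner F H = (Nat.card C : ℂ)⁻¹ *
      (∑ r ∈ Finset.univ.filter (fun r : C => ¬ 2 ∣ orderOf r), F r * conj (H r) +
       ∑ r ∈ Finset.univ.filter (fun r : C => ¬ 2 ∣ orderOf r), F (D.u * r) * conj (H (D.u * r))) := by
  classical
  rw [classInner, D.sum_split]
  rw [Finset.sum_eq_zero (s := Finset.univ.filter (fun g : C => 4 ∣ orderOf g)) fun g hg => by
    rw [hH g (Finset.mem_filter.1 hg).2, map_zero, mul_zero], add_zero]

theorem classInner_regFun (F H : C → ℂ) :
    classInner (regFun 2 F) H = (Nat.card C : ℂ)⁻¹ *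
      ∑ r ∈ Finset.univ.filter (fun r : C => ¬ 2 ∣ orderOf r), F r * conj (H r) := by
  classical
  rw [classInner, Finset.sum_filter]
  congr 1
  refine Finset.sum_congr rfl fun r _ => ?_
  by_cases hr : 2 ∣ orderOf r <;> simp [regFun, hr]

theorem classInner_regFun_swap (F H : C → ℂ) :
    conj (classInner (regFun 2 F) H) = classInner (regFun 2 H) F := by
  classical
  rw [D.classInner_regFun, D.classInner_regFun, map_mul, map_inv₀, map_natCast, map_sum]
  exact congrArg _ (Finset.sum_congr rfl fun r _ => by rw [map_mul, Complex.conj_conj, mul_comm])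

theorem exists_frame (hM : IsPModular 2 M) : Nonempty (EightFrame D M) := by
  classical
  obtain ⟨F, e, hFinj, hF0, he0, he, hFb, hFc, hdelta, hrest⟩ := D.exists_constituents hM
  have hesq : ∀ j, (e j : ℂ) * e j = 1 := fun j => by rcases he j with h | h <;> simp [h]
  set f : Fin 4 → C → ℂ := fun j g => (e j : ℂ) * (F j : C → ℂ) g with hf
  have hfs : ∀ j, f j = (e j : ℂ) • (F j : C → ℂ) := fun j => rfl
  have hforth : ∀ i j, classInner (f i) (f j) = if i = j then 1 else 0 := by
    intro i j
    rw [hfs, hfs, Char.classInner_smul_left, Char.classInner_smul_right, map_intCast]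
    by_cases hij : i = j
    · subst hij
      rw [if_pos rfl, Char.classInner_irr_self, mul_one, hesq]
    · rw [if_neg hij, Char.classInner_irr_ne fun h => hij (hFinj h), mul_zero, mul_zero]
  have hf0 : ∀ g, f 0 g = 1 := fun g => by simp [hf, hF0, he0, oneChar]
  have hne0 : ∀ j, (e j : ℂ) ≠ 0 := fun j => by rcases he j with h | h <;> simp [h]
  have hFu : ∀ j g, (F j : C → ℂ) (D.u * g) = (F j : C → ℂ) g := fun j =>
    D.sign_of_ne_zero (by rw [hFc]; exact hne0 j)
  have hfu : ∀ j g, f j (D.u * g) = f j g := fun j g => by simp only [hf, hFu]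
  have hffour : ∀ j g, 4 ∣ orderOf g → f j g = 1 := fun j g hg => by
    simp only [hf, D.apply_four hM (hFb j) hg, hFc, hesq]
  have hfsum : ∀ g, ¬ 2 ∣ orderOf g → ∑ j, f j g = 0 := by
    intro g hg
    have h := hdelta g
    rw [delta, if_neg fun h4 => hg (D.not_regular_of_four_dvd h4), eq_comm, div_eq_zero_iff] at h
    exact h.resolve_right (by norm_num)
  set others := Finset.univ.filter
    (fun ψ : IrrCharacter C => ψ ∈ principalBlock M C ∧ ∀ j, ψ ≠ F j) with hothers
  have hoth : ∀ ψ ∈ others, ψ ∈ principalBlock M C ∧ (∀ j, ψ ≠ F j) ∧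
      (∀ g, (ψ : C → ℂ) (D.u * g) = -(ψ : C → ℂ) g) ∧
      ∀ g, 4 ∣ orderOf g → (ψ : C → ℂ) g = 0 := fun ψ hψ => by
    obtain ⟨hb, hne⟩ := (Finset.mem_filter.1 hψ).2
    have h0 := hrest ψ hb hne
    exact ⟨hb, hne, D.sign_of_zero hM hb (fun h => hne 0 (h.trans hF0.symm)) h0,
      fun g hg => (D.apply_four hM hb hg).trans h0⟩
  -- the differences
  set d : Fin 3 → C → ℂ := fun i => f i.castSucc - f 3 with hd
  have hd4 : ∀ i g, 4 ∣ orderOf g → d i g = 0 := fun i g hg => by
    simp only [hd, Pi.sub_apply, hffour _ g hg, sub_self]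
  have hdu : ∀ i g, d i (D.u * g) = d i g := fun i g => by simp only [hd, Pi.sub_apply, hfu]
  have hdd : ∀ i j, classInner (d i) (d j) = if i = j then 2 else 1 := by
    intro i j
    simp only [hd, Char.classInner_sub_left, Char.classInner_sub_right, hforth]
    fin_cases i <;> fin_cases j <;> norm_num [Fin.ext_iff]
  have hdF : ∀ i k, classInner (d i) (F k : C → ℂ) =
      (e k : ℂ) * ((if i.castSucc = k then 1 else 0) - (if (3 : Fin 4) = k then 1 else 0)) := by
    intro i k
    have h1 : ∀ j, classInner (f j) (F k : C → ℂ) = (e k : ℂ) * if j = k then 1 else 0 := fun j => by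
      rw [hfs, Char.classInner_smul_left]
      by_cases hjk : j = k
      · subst hjk; rw [if_pos rfl, Char.classInner_irr_self]
      · rw [if_neg hjk, Char.classInner_irr_ne fun h => hjk (hFinj h), mul_zero, mul_zero]
    simp only [hd, Char.classInner_sub_left, h1]; ring
  -- the coefficients
  set m : Fin 3 → IrrCharacter C → ℂ := fun i ψ => 2 * classInner (regFun 2 (d i)) (ψ : C → ℂ) with hm
  have hmF : ∀ i k, m i (F k) = classInner (d i) (F k : C → ℂ) := by
    intro i k
    have h1 : ∀ H : C → ℂ, classInner (d i) H =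
        conj (classInner H (d i)) := fun H => (Char.classInner_conj H (d i)).symm
    rw [h1, D.classInner_reg_split _ _ (hd4 i), hm]
    simp only [hdu, hFu, D.classInner_regFun, map_mul, map_inv₀, map_natCast, map_add, map_sum,
      Complex.conj_conj, ← Finset.sum_add_distrib, Finset.mul_sum]
    exact Finset.sum_congr rfl fun r _ => by ring
  obtain ⟨ex, hex2, hexodd⟩ := exists_odd_part_exponent C
  have hexu : ∀ r : C, ¬ 2 ∣ orderOf r → (D.u * r) ^ ex = r := fun r hr => by
    rw [(D.central r).symm.mul_pow, hex2 _ ⟨1, by rw [D.u_order, pow_one]⟩, one_mul, hexodd r hr]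
  have hint : ∀ i ψ, ∃ z : ℤ, m i ψ = z := by
    intro i ψ
    have hgen : IsGeneralizedCharacter C (d i) := by
      simp only [hd, hfs]
      exact Char.isGeneralizedCharacter_sub
        (Char.isGeneralizedCharacter_zsmul
          (Char.isGeneralizedCharacter_of_isCharacter (Char.isCharacter_irr _)) _)
        (Char.isGeneralizedCharacter_zsmul
          (Char.isGeneralizedCharacter_of_isCharacter (Char.isCharacter_irr _)) _)
    obtain ⟨z, hz⟩ := Char.classInner_generalized_int
      (isGeneralized_comp_odd_part hex2 hexodd ψ) hgen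
    refine ⟨z, ?_⟩
    have h2 := congrArg conj hz
    rw [D.classInner_reg_split _ _ (hd4 i), map_intCast] at h2
    rw [hm, ← h2]
    simp only [D.classInner_regFun, map_mul, map_inv₀, map_natCast, map_add, map_sum,
      Complex.conj_conj, ← Finset.sum_add_distrib, Finset.mul_sum]
    refine Finset.sum_congr rfl fun r hr => ?_
    rw [hexu r (Finset.mem_filter.1 hr).2, hexodd r (Finset.mem_filter.1 hr).2, hdu]
    ring
  choose n hn using hint
  have hout : ∀ i ψ, ψ ∉ principalBlock M C → m i ψ = 0 := by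
    intro i ψ hψ
    have hreg : ∀ j, classInner (regFun 2 (f j)) (ψ : C → ℂ) = 0 := fun j => by
      rw [hfs, show regFun 2 ((e j : ℂ) • (F j : C → ℂ)) =
        (e j : ℂ) • regFun 2 (F j : C → ℂ) by funext g; simp [regFun],
        Char.classInner_smul_left, show classInner (regFun 2 (F j : C → ℂ)) (ψ : C → ℂ) =
        regInner 2 (F j) ψ from rfl,
        regInner_eq_zero_of_not_mem hM (.of_isPBlock isPBlock_principalBlock) (hFb j) hψ, mul_zero]
    rw [hm]
    simp only [hd]
    rw [show regFun 2 (f i.castSucc - f 3) = regFun 2 (f i.castSucc) - regFun 2 (f 3) by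
      funext g; by_cases hg : 2 ∣ orderOf g <;> simp [regFun, hg],
      Char.classInner_sub_left, hreg, hreg, sub_zero, mul_zero]
  -- Parseval
  have hrows : ∀ i j : Fin 3, ∑ ψ ∈ others, n i ψ * n j ψ = if i = j then 2 else 1 := by
    intro i j
    have hdcl : IsClassFunction C (d j) := fun g a => by
      simp only [hd, hf, Pi.sub_apply, Char.isClassFunction_irr _ g a]
    have h := Char.classInner_expand (f := regFun 2 (d i)) (isClassFunction_regFun 2 hdcl)
    have h2 : classInner (regFun 2 (d i)) (regFun 2 (d j)) = classInner (d i) (d j) / 2 := by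
      rw [D.classInner_reg_split (d i) (d j) (hd4 j), D.classInner_regFun]
      simp only [hdu]
      rw [show (∑ r ∈ Finset.univ.filter (fun r : C => ¬ 2 ∣ orderOf r), d i r * conj (regFun 2 (d j) r)) =
        ∑ r ∈ Finset.univ.filter (fun r : C => ¬ 2 ∣ orderOf r), d i r * conj (d j r) from
        Finset.sum_congr rfl fun r hr => by
          rw [regFun, if_neg (Finset.mem_filter.1 hr).2]]
      ring
    rw [h2, hdd] at h
    have h3 : ∑ ψ, m i ψ * conj (m j ψ) = 2 * (if i = j then 2 else 1) := by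
      rw [show (2 : ℂ) * (if i = j then 2 else 1) = 4 * ((if i = j then 2 else 1) / 2) by ring, h,
        Finset.mul_sum]
      exact Finset.sum_congr rfl fun ψ _ => by simp only [hm, map_mul, map_ofNat]; ring
    have h4 : ∑ ψ, m i ψ * conj (m j ψ) = ∑ k, m i (F k) * conj (m j (F k)) +
        ∑ ψ ∈ others, m i ψ * conj (m j ψ) := by
      rw [← Finset.sum_image (g := F) (f := fun ψ => m i ψ * conj (m j ψ))
        fun a _ b _ hab => hFinj hab, ← Finset.sum_union]
      · refine (Finset.sum_subset (Finset.subset_univ _) fun ψ _ hψ => ?_).symm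
        simp only [Finset.mem_union, Finset.mem_image, Finset.mem_univ, true_and, hothers,
          Finset.mem_filter, not_or, not_exists, not_and] at hψ
        by_cases hb : ψ ∈ principalBlock M C
        · exact absurd (fun k => (Ne.symm (hψ.1 k))) (fun hall => hψ.2 hb hall)
        · rw [hout i ψ hb, zero_mul]
      · rw [Finset.disjoint_left]
        intro ψ hψ hψ'
        obtain ⟨k, -, rfl⟩ := Finset.mem_image.1 hψ
        exact ((Finset.mem_filter.1 hψ').2).2 k rfl
    have h5 : ∑ k, m i (F k) * conj (m j (F k)) = if i = j then 2 else 1 := by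
      simp only [hmF, hdF, map_mul, map_intCast, map_sub, apply_ite conj, map_one, map_zero]
      have hterm : ∀ (k : Fin 4) (X Y : ℂ), (e k : ℂ) * X * ((e k : ℂ) * Y) = X * Y :=
        fun k X Y => by linear_combination (X * Y) * hesq k
      simp only [hterm, Fin.sum_univ_four]
      fin_cases i <;> fin_cases j <;> norm_num [Fin.ext_iff]
    rw [h4, h5] at h3
    simp only [hn, map_intCast] at h3
    have h6 : ((∑ ψ ∈ others, n i ψ * n j ψ : ℤ) : ℂ) = ((if i = j then 2 else 1 : ℤ) : ℂ) := by
      push_cast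
      split_ifs at h3 ⊢ <;> push_cast <;> linear_combination h3
    exact_mod_cast h6
  -- values on the regular elements
  have hexpand : ∀ ψ ∈ others, ∀ g, ¬ 2 ∣ orderOf g →
      (ψ : C → ℂ) g = ∑ i, (n i ψ : ℂ) * f i.castSucc g := by
    intro ψ hψ g hg
    obtain ⟨hψb, hψne, hψu, hψ4⟩ := hoth ψ hψ
    set W : C → ℂ := fun x => if 4 ∣ orderOf x then 0 else (ψ : C → ℂ) (x ^ ex) with hW
    have hWcl : IsClassFunction C W := fun x a => by
      simp only [hW, conj_pow, orderOf_conj_eq, Char.isClassFunction_irr ψ (x ^ ex) a]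
    set a : Fin 4 → ℂ := fun k => 2 * classInner (regFun 2 (ψ : C → ℂ)) (f k) with ha
    have hWin : ∀ θ : IrrCharacter C, classInner W (θ : C → ℂ) =
        (Nat.card C : ℂ)⁻¹ * (∑ r ∈ Finset.univ.filter (fun r : C => ¬ 2 ∣ orderOf r),
            (ψ : C → ℂ) r * conj ((θ : C → ℂ) r) +
          ∑ r ∈ Finset.univ.filter (fun r : C => ¬ 2 ∣ orderOf r),
            (ψ : C → ℂ) r * conj ((θ : C → ℂ) (D.u * r))) := by
      intro θ
      rw [classInner, D.sum_split, Finset.sum_eq_zero
        (s := Finset.univ.filter (fun g : C => 4 ∣ orderOf g)) fun x hx => by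
          rw [hW]; simp [(Finset.mem_filter.1 hx).2], add_zero]
      congr 2 <;> refine Finset.sum_congr rfl fun r hr => ?_
      · have hr' := (Finset.mem_filter.1 hr).2
        simp only [hW, if_neg fun h4 => hr' (D.not_regular_of_four_dvd h4), hexodd r hr']
      · have hr' := (Finset.mem_filter.1 hr).2
        simp only [hW, hexu r hr']
        rw [if_neg (by rw [D.orderOf_u_mul hr']; omega)]
    have hWexp : W = ∑ k, a k • f k := by
      refine Char.classFun_ext hWcl (fun x b => ?_) fun θ => ?_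
      · simp only [Finset.sum_apply, Pi.smul_apply, hf, Char.isClassFunction_irr _ x b]
      rw [Char.classInner_sum_left, hWin]
      simp only [Char.classInner_smul_left, hfs, ha, Char.classInner_smul_right, map_intCast]
      by_cases hθF : ∃ k, θ = F k
      · obtain ⟨k, rfl⟩ := hθF
        rw [Finset.sum_eq_single k (fun j _ hjk => by
          rw [Char.classInner_irr_ne fun h => hjk (hFinj h), mul_zero, mul_zero])
          (fun h => absurd (Finset.mem_univ k) h), Char.classInner_irr_self,
          D.classInner_regFun]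
        simp only [hFu]
        linear_combination
          (-2 * (Nat.card C : ℂ)⁻¹ * ∑ r ∈ Finset.univ.filter (fun r : C => ¬ 2 ∣ orderOf r),
            (ψ : C → ℂ) r * conj ((F k : C → ℂ) r)) * hesq k
      · push Not at hθF
        rw [Finset.sum_eq_zero (s := (Finset.univ : Finset (Fin 4))) fun j _ => by
          rw [Char.classInner_irr_ne (hθF j).symm, mul_zero, mul_zero]]
        by_cases hθb : θ ∈ principalBlock M C
        · have hθ := hoth θ (Finset.mem_filter.2 ⟨Finset.mem_univ θ, hθb, hθF⟩)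
          simp only [hθ.2.2.1, map_neg, mul_neg, Finset.sum_neg_distrib, add_neg_cancel, mul_zero]
        · have h0 : ∑ r ∈ Finset.univ.filter (fun r : C => ¬ 2 ∣ orderOf r),
              (ψ : C → ℂ) r * conj ((θ : C → ℂ) r) = 0 := by
            have h := regInner_eq_zero_of_not_mem hM
              (IsBlockUnion.of_isPBlock (isPBlock_principalBlock (M := M) (G := C))) hψb hθb
            rw [regInner, D.classInner_regFun, mul_eq_zero] at h
            exact h.resolve_left (inv_ne_zero (Nat.cast_ne_zero.mpr Nat.card_pos.ne'))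
          rcases D.sign_cases θ with hs | hs
          · simp only [hs, h0, add_zero, mul_zero]
          · simp only [hs, map_neg, mul_neg, Finset.sum_neg_distrib, add_neg_cancel, mul_zero]
    have hc4 : 4 ∣ orderOf D.c := by rw [D.c_order]
    have h1 := congrFun hWexp D.c
    simp only [hW, if_pos hc4, Finset.sum_apply, Pi.smul_apply, smul_eq_mul,
      hffour _ D.c hc4, mul_one] at h1
    have h2 := congrFun hWexp g
    simp only [hW, if_neg fun h4 => hg (D.not_regular_of_four_dvd h4), hexodd g hg,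
      Finset.sum_apply, Pi.smul_apply, smul_eq_mul] at h2
    have hna : ∀ i : Fin 3, (n i ψ : ℂ) = a i.castSucc - a 3 := by
      intro i
      have h3 : classInner (regFun 2 (ψ : C → ℂ)) (d i) =
          classInner (regFun 2 (ψ : C → ℂ)) (f i.castSucc) -
            classInner (regFun 2 (ψ : C → ℂ)) (f 3) := by
        simp only [hd, Char.classInner_sub_right]
      have h4 : conj (m i ψ) = 2 * classInner (regFun 2 (ψ : C → ℂ)) (d i) := by
        simp only [hm, map_mul, map_ofNat, D.classInner_regFun_swap]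
      rw [hn, map_intCast, h3] at h4
      rw [h4, ha]; ring
    simp only [hna]
    rw [h2]
    have h5 := hfsum g hg
    rw [Fin.sum_univ_four] at h5 h1
    simp only [Fin.sum_univ_four, Fin.sum_univ_three]
    change _ = (a 0 - a 3) * f 0 g + (a 1 - a 3) * f 1 g + (a 2 - a 3) * f 2 g
    linear_combination a 3 * h5
  -- parities
  have hodd : ∀ j, ∃ z : ℤ, f j 1 = z ∧ Odd z := by
    intro j
    obtain ⟨k, hk, hkodd, -⟩ := D.exists_int_apply_c (F j)
    obtain ⟨z, hz, hzo⟩ := hkodd (by simpa using hFu j 1) (by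
      rw [hFc] at hk
      rw [← show e j = k by exact_mod_cast hk]; exact he j)
    refine ⟨e j * z, by simp [hf, hz], ?_⟩
    rcases he j with h | h <;> simp [h, hzo]
  have hone : ¬ 2 ∣ orderOf (1 : C) := by simp
  have heven : ∀ ψ ∈ others, Even (n 0 ψ + n 1 ψ + n 2 ψ) := by
    intro ψ hψ
    obtain ⟨hψb, hψne, hψu, hψ4⟩ := hoth ψ hψ
    obtain ⟨k, -, -, hkev⟩ := D.exists_int_apply_c ψ
    obtain ⟨z, hz, hzev⟩ := hkev (by simpa using hψu 1)
    obtain ⟨z0, hz0, ho0⟩ := hodd 0
    obtain ⟨z1, hz1, ho1⟩ := hodd 1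
    obtain ⟨z2, hz2, ho2⟩ := hodd 2
    have h := hexpand ψ hψ 1 hone
    simp only [Fin.sum_univ_three] at h
    rw [hz, show f (Fin.castSucc 0) 1 = z0 from hz0, show f (Fin.castSucc 1) 1 = z1 from hz1,
      show f (Fin.castSucc 2) 1 = z2 from hz2] at h
    have h' : z = n 0 ψ * z0 + n 1 ψ * z1 + n 2 ψ * z2 := by exact_mod_cast h
    rw [h'] at hzev
    simp only [Int.even_add, Int.even_mul, Int.not_even_iff_odd.2 ho0, Int.not_even_iff_odd.2 ho1,
      Int.not_even_iff_odd.2 ho2, or_false] at hzev ⊢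
    exact hzev
  obtain ⟨x, y, z, p, q, r, hp, hq, hr, hxy, hxz, hyz, hs3, ⟨hx0, hx1, hx2⟩, ⟨hy0, hy1, hy2⟩,
      hz0, hz1, hz2⟩ := exists_triangle others n hrows heven (fun ψ hψ => by
    by_contra hall
    push Not at hall
    have h := hexpand ψ hψ 1 hone
    simp [Fin.sum_univ_three, hall.1, hall.2.1, hall.2.2] at h
    exact Char.irr_one_ne_zero ψ h)
  set H : Fin 3 → IrrCharacter C := ![x, y, z] with hH
  set s : Fin 3 → ℤ := ![p, q, r] with hs
  have hssq : ∀ i, (s i : ℂ) * s i = 1 := fun i => by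
    fin_cases i
    · rcases hp with h | h <;> simp [hs, h]
    · rcases hq with h | h <;> simp [hs, h]
    · rcases hr with h | h <;> simp [hs, h]
  have hHinj : Function.Injective H := by
    intro i j h
    fin_cases i <;> fin_cases j <;>
      first
      | rfl
      | exact absurd h hxy | exact absurd h hxy.symm | exact absurd h hxz | exact absurd h hxz.symm
      | exact absurd h hyz | exact absurd h hyz.symm
  have hHmem : ∀ i, H i ∈ others := fun i => by
    rw [hs3]; fin_cases i <;> simp [hH]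
  set hh : Fin 3 → C → ℂ := fun i g => (s i : ℂ) * (H i : C → ℂ) g with hhh
  have hhs : ∀ i, hh i = (s i : ℂ) • (H i : C → ℂ) := fun i => rfl
  refine ⟨{ f := f, h := hh
            f_gen := fun j => hfs j ▸ Char.isGeneralizedCharacter_zsmul
              (Char.isGeneralizedCharacter_of_isCharacter (Char.isCharacter_irr _)) _
            h_gen := fun i => hhs i ▸ Char.isGeneralizedCharacter_zsmul
              (Char.isGeneralizedCharacter_of_isCharacter (Char.isCharacter_irr _)) _
            f_zero := hf0, f_orth := hforth, h_orth := ?_, fh_orth := ?_, f_u := hfu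
            h_u := ?_, f_four := hffour, h_four := ?_, f_sum := hfsum
            h0_reg := ?_, h1_reg := ?_, h2_reg := ?_, part := ?_, f_one_ne := ?_ }⟩
  · intro i j
    rw [hhs, hhs, Char.classInner_smul_left, Char.classInner_smul_right, map_intCast]
    by_cases hij : i = j
    · subst hij
      rw [if_pos rfl, Char.classInner_irr_self, mul_one, hssq]
    · rw [if_neg hij, Char.classInner_irr_ne fun h => hij (hHinj h), mul_zero, mul_zero]
  · intro i j
    rw [hfs, hhs, Char.classInner_smul_left, Char.classInner_smul_right,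
      Char.classInner_irr_ne ((hoth _ (hHmem j)).2.1 i).symm, mul_zero, mul_zero]
  · intro i g; simp only [hhh, (hoth _ (hHmem i)).2.2.1 g, mul_neg]
  · intro i g hg; simp only [hhh, (hoth _ (hHmem i)).2.2.2 g hg, mul_zero]
  · intro g hg
    show (p : ℂ) * (x : C → ℂ) g = _
    rw [hexpand x (hHmem 0) g hg, Fin.sum_univ_three, hx0, hx1, hx2]
    have : (p : ℂ) * p = 1 := hssq 0
    show (p : ℂ) * ((p : ℂ) * f 0 g + (p : ℂ) * f 1 g + ((0 : ℤ) : ℂ) * f 2 g) = _
    push_cast
    linear_combination (f 0 g + f 1 g) * this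
  · intro g hg
    show (q : ℂ) * (y : C → ℂ) g = _
    rw [hexpand y (hHmem 1) g hg, Fin.sum_univ_three, hy0, hy1, hy2]
    have : (q : ℂ) * q = 1 := hssq 1
    show (q : ℂ) * ((q : ℂ) * f 0 g + ((0 : ℤ) : ℂ) * f 1 g + (q : ℂ) * f 2 g) = _
    push_cast
    linear_combination (f 0 g + f 2 g) * this
  · intro g hg
    show (r : ℂ) * (z : C → ℂ) g = _
    rw [hexpand z (hHmem 2) g hg, Fin.sum_univ_three, hz0, hz1, hz2]
    have : (r : ℂ) * r = 1 := hssq 2
    show (r : ℂ) * (((0 : ℤ) : ℂ) * f 0 g + (r : ℂ) * f 1 g + (r : ℂ) * f 2 g) = _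
    push_cast
    linear_combination (f 1 g + f 2 g) * this
  · intro R g
    rw [blockPart_eq]
    have hsplit : Finset.univ.filter (· ∈ principalBlock M C) =
        Finset.univ.image F ∪ Finset.univ.image H := by
      ext ψ
      simp only [Finset.mem_filter, Finset.mem_univ, true_and, Finset.mem_union, Finset.mem_image]
      constructor
      · intro hψ
        by_cases hF : ∃ k, F k = ψ
        · exact Or.inl hF
        · push Not at hF
          have hψo : ψ ∈ others := Finset.mem_filter.2
            ⟨Finset.mem_univ ψ, hψ, fun k => (hF k).symm⟩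
          rw [hs3] at hψo
          simp only [Finset.mem_insert, Finset.mem_singleton] at hψo
          rcases hψo with h | h | h
          · exact Or.inr ⟨0, h.symm⟩
          · exact Or.inr ⟨1, h.symm⟩
          · exact Or.inr ⟨2, h.symm⟩
      · rintro (⟨k, rfl⟩ | ⟨i, rfl⟩)
        · exact hFb k
        · exact (hoth _ (hHmem i)).1
    rw [hsplit, Finset.sum_union (Finset.disjoint_left.2 fun ψ h1 h2 => by
        obtain ⟨k, -, rfl⟩ := Finset.mem_image.1 h1
        obtain ⟨i, -, hi⟩ := Finset.mem_image.1 h2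
        exact (hoth _ (hHmem i)).2.1 k hi),
      Finset.sum_image fun a _ b _ hab => hFinj hab,
      Finset.sum_image fun a _ b _ hab => hHinj hab]
    congr 1
    · refine Finset.sum_congr rfl fun k _ => ?_
      rw [hfs, Char.classInner_smul_right, map_intCast, Pi.smul_apply, smul_eq_mul]
      linear_combination (-(classInner R (F k : C → ℂ) * (F k : C → ℂ) g)) * hesq k
    · refine Finset.sum_congr rfl fun i _ => ?_
      rw [hhs, Char.classInner_smul_right, map_intCast, Pi.smul_apply, smul_eq_mul]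
      linear_combination (-(classInner R (H i : C → ℂ) * (H i : C → ℂ) g)) * hssq i
  · intro j
    exact mul_ne_zero (hne0 j) (Char.irr_one_ne_zero (F j))

end EightData

end CfsgLib.Invol
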