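import Cfsg.Agent.Lib.Invol.EightData
import Cfsg.Agent.Lib.Invol.QuaternionRows
import Cfsg.Agent.Lib.Invol.EightRows
import Cfsg.Agent.Lib.Char.Linear

/-!
# An isolated involution over a quaternion Sylow subgroup of order eight
-/

open scoped ComplexConjugate
open Subgroup

set_option autoImplicit false
set_option linter.unusedSectionVars false

namespace CfsgLib.Invol

open Cfsg CfsgLib.Block

universe u

variable {G : Type u} [Group G] [Fintype G]

theorem indFun_TI_apply' (T : Set G) (H : Subgroup G) (hH : Subgroup.normalizer T = H)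
    (hTI : ∀ g : G, g ∉ H → ∀ t ∈ T, g * t * g⁻¹ ∈ T → t = 1)
    (ψ : H → ℂ) (hψ : IsClassFunction H ψ) (hψT : ∀ x : H, (x : G) ∉ T → ψ x = 0) (t : H)
    (htT : (t : G) ∈ T) (ht1 : t ≠ 1) : indFun H ψ t = ψ t := by
  subst hH
  exact Char.indFun_TI_apply T hTI ψ hψ hψT t htT ht1

theorem classInner_indFun_TI' (T : Set G) (H : Subgroup G) (hH : Subgroup.normalizer T = H)
    [Fintype H] (hTI : ∀ g : G, g ∉ H → ∀ t ∈ T, g * t * g⁻¹ ∈ T → t = 1) (ψ θ : H → ℂ)
    (hθ : IsClassFunction H θ) (hψT : ∀ x : H, (x : G) ∉ T → ψ x = 0)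
    (hθT : ∀ x : H, (x : G) ∉ T → θ x = 0) (hψ1 : ψ 1 = 0) :
    classInner (indFun H ψ) (indFun H θ) = classInner ψ θ := by
  subst hH
  exact Char.classInner_indFun_TI T hTI ψ θ hθ hψT hθT hψ1

theorem indFun_eq_zero_of_conj (H : Subgroup G) (ψ : H → ℂ) {g : G}
    (h : ∀ x : G, ∀ hx : x⁻¹ * g * x ∈ H, ψ ⟨_, hx⟩ = 0) : indFun H ψ g = 0 := by
  rw [indFun, Finset.sum_eq_zero, mul_zero]
  intro x _
  by_cases hx : x⁻¹ * g * x ∈ H
  · rw [Char.extendByZero_mem H ψ hx, h x hx]
  · exact Char.extendByZero_not_mem H ψ hx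

theorem apply_commutator_of_degree_one (χ : IrrCharacter G) (h : (χ : G → ℂ) 1 = 1) (a b : G) :
    (χ : G → ℂ) (a * b * a⁻¹ * b⁻¹) = 1 := by
  obtain ⟨l, hl⟩ := Char.linearCharEquiv.surjective (⟨χ, h⟩ : {θ : IrrCharacter G // (θ : G → ℂ) 1 = 1})
  have hv : ∀ g, (χ : G → ℂ) g = (l g : ℂ) := fun g => by
    have := congrFun (congrArg (fun w : {θ : IrrCharacter G // (θ : G → ℂ) 1 = 1} =>
      ((w : IrrCharacter G) : G → ℂ)) hl) g
    exact this.symm
  rw [hv, map_mul, map_mul, map_mul, map_inv, map_inv, mul_comm (l a) (l b), mul_inv_cancel_right,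
    mul_inv_cancel, Units.val_one]

/-- The value of an expansion whose coefficients vanish off two characters and the principal one. -/
theorem value_of_support [Fintype (IrrCharacter G)] [DecidableEq (IrrCharacter G)] {Θ : G → ℂ}
    {m : IrrCharacter G → ℤ} (hexp : Θ = ∑ ψ : IrrCharacter G, (m ψ : ℂ) • (ψ : G → ℂ))
    {A H : IrrCharacter G} (hA : A ≠ oneChar G) (hH : H ≠ oneChar G) (hAH : A ≠ H)
    (hsup : ∀ x ∈ Finset.univ.erase (oneChar G), x ≠ A → x ≠ H → m x = 0) (g : G) :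
    Θ g = (m (oneChar G) : ℂ) + (m A : ℂ) * (A : G → ℂ) g + (m H : ℂ) * (H : G → ℂ) g := by
  conv_lhs => rw [hexp]
  simp only [Finset.sum_apply, Pi.smul_apply, smul_eq_mul]
  rw [← Finset.add_sum_erase _ _ (Finset.mem_univ (oneChar G)),
    ← Finset.sum_subset (s₁ := ({A, H} : Finset (IrrCharacter G))) (fun x hx => by
      simp only [Finset.mem_insert, Finset.mem_singleton] at hx
      rcases hx with rfl | rfl <;> simp [hA, hH]) (fun x hx hx' => by
      simp only [Finset.mem_insert, Finset.mem_singleton, not_or] at hx'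
      rw [hsup x hx hx'.1 hx'.2]; simp), Finset.sum_pair hAH]
  simp [oneChar, add_assoc]

/-- The Sylow 2-subgroup is quaternion of order eight. -/
theorem false_of_quaternion_eight {z : G} (IH : ZStarBelow.{u} (Nat.card G))
    (hz : IsIsolatedInvolution z) (hO : pPrimeCore 2 G = ⊥) (hZ : Subgroup.center G = ⊥)
    (huniq : ∀ v : G, orderOf v = 2 → Commute z v → v = z) (S : Sylow 2 G)
    (hS : (S : Subgroup G) ≤ Subgroup.centralizer ({z} : Set G))
    (e : (S : Subgroup G) ≃* QuaternionGroup 2) : False := by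
  classical
  haveI : Fact (Nat.Prime 2) := ⟨Nat.prime_two⟩
  have hzZ : z ∉ Subgroup.center G := fun h =>
    invol_ne_one hz.1 (Subgroup.mem_bot.1 (hZ ▸ h))
  obtain ⟨M, hM⟩ := exists_pModular Nat.prime_two
  haveI := hM.2.1
  set C := Subgroup.centralizer ({z} : Set G) with hC
  obtain ⟨D, hDu⟩ : ∃ D : EightData C, (D.u : G) = z :=
    exists_eightData IH hz hO hzZ huniq S hS e
  haveI : Fintype C := Fintype.ofFinite C
  haveI : Fintype (IrrCharacter C) := Fintype.ofFinite _
  haveI : Fintype (IrrCharacter G) := Fintype.ofFinite _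
  obtain ⟨F⟩ := D.exists_frame hM
  have hmem : ∀ g : G, g ∈ C ↔ Commute g z := fun g => Subgroup.mem_centralizer_singleton_iff
  set T : Set G := {g | g ∈ C ∧ 2 ∣ orderOf g} with hT
  -- a power of an even element of `C` is the involution
  have hpw : ∀ g : G, g ∈ C → 2 ∣ orderOf g → g ^ (orderOf g / 2) = z := fun g hg h2 =>
    huniq _ (orderOf_pow_half (even_iff_two_dvd.2 h2)) (((hmem g).1 hg).symm.pow_right _)
  have hnorm : Subgroup.normalizer T = C := by
    refine le_antisymm (fun g hg => ?_) (fun g hg => Subgroup.mem_set_normalizer_iff.2 fun x => ?_)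
    · have h := (Subgroup.mem_set_normalizer_iff.1 hg z).1
        ⟨(hmem z).2 (Commute.refl z), by rw [hz.1]⟩
      have h2 : g * z * g⁻¹ = z :=
        huniq _ (invol_conj hz.1 g) (((hmem _).1 h.1).symm)
      exact (hmem g).2 (mul_inv_eq_iff_eq_mul.1 h2)
    · show x ∈ C ∧ 2 ∣ orderOf x ↔ g * x * g⁻¹ ∈ C ∧ 2 ∣ orderOf (g * x * g⁻¹)
      rw [Subgroup.mul_mem_cancel_right C (inv_mem hg), Subgroup.mul_mem_cancel_left C hg,
        ← MulAut.conj_apply, MulEquiv.orderOf_eq]
  have hTI : ∀ g : G, g ∉ C → ∀ t ∈ T, g * t * g⁻¹ ∈ T → t = 1 := by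
    intro g hg t ht hgt
    exfalso
    have h1 := hpw _ hgt.1 hgt.2
    rw [← MulAut.conj_apply, MulEquiv.orderOf_eq, MulAut.conj_apply, conj_pow, hpw t ht.1 ht.2] at h1
    exact hg ((hmem g).2 (mul_inv_eq_iff_eq_mul.1 h1))
  have hnT : ∀ x : C, (x : G) ∉ T → ¬ 2 ∣ orderOf x := fun x hx h =>
    hx ⟨x.2, by rwa [Subgroup.orderOf_coe]⟩
  -- the four functions
  set θ : Fin 4 → C → ℂ := ![F.f 0 + F.f 1 + F.f 2 + F.f 3, F.h 0 - (F.f 0 + F.f 1),
    F.h 1 - (F.f 0 + F.f 2), F.h 2 - (F.f 1 + F.f 2)] with hθ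
  have hθgen : ∀ k, IsGeneralizedCharacter C (θ k) := by
    intro k
    fin_cases k
    · exact Char.isGeneralizedCharacter_add (Char.isGeneralizedCharacter_add
        (Char.isGeneralizedCharacter_add (F.f_gen 0) (F.f_gen 1)) (F.f_gen 2)) (F.f_gen 3)
    · exact Char.isGeneralizedCharacter_sub (F.h_gen 0)
        (Char.isGeneralizedCharacter_add (F.f_gen 0) (F.f_gen 1))
    · exact Char.isGeneralizedCharacter_sub (F.h_gen 1)
        (Char.isGeneralizedCharacter_add (F.f_gen 0) (F.f_gen 2))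
    · exact Char.isGeneralizedCharacter_sub (F.h_gen 2)
        (Char.isGeneralizedCharacter_add (F.f_gen 1) (F.f_gen 2))
  have hθreg : ∀ k (x : C), ¬ 2 ∣ orderOf x → θ k x = 0 := by
    intro k x hx
    have h4 := F.f_sum x hx
    rw [Fin.sum_univ_four] at h4
    fin_cases k
    · exact h4
    · show F.h 0 x - (F.f 0 x + F.f 1 x) = 0
      rw [F.h0_reg x hx, sub_self]
    · show F.h 1 x - (F.f 0 x + F.f 2 x) = 0
      rw [F.h1_reg x hx, sub_self]
    · show F.h 2 x - (F.f 1 x + F.f 2 x) = 0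
      rw [F.h2_reg x hx, sub_self]
  have hθT : ∀ k (x : C), (x : G) ∉ T → θ k x = 0 := fun k x hx => hθreg k x (hnT x hx)
  have hθcf : ∀ k, IsClassFunction C (θ k) := fun k =>
    Char.isClassFunction_of_isGeneralized (hθgen k)
  set Θ : Fin 4 → G → ℂ := fun k => indFun C (θ k) with hΘ
  have hΘgen : ∀ k, IsGeneralizedCharacter G (Θ k) := fun k =>
    Char.isGeneralizedCharacter_indFun C (hθgen k)
  have hΘodd : ∀ k (g : G), ¬ 2 ∣ orderOf g → Θ k g = 0 := fun k g hg =>
    indFun_eq_zero_of_conj C (θ k) fun x hx => hθreg k _ (by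
      rw [← Subgroup.orderOf_coe]
      show ¬ 2 ∣ orderOf (x⁻¹ * g * x)
      rwa [show x⁻¹ * g * x = MulAut.conj x⁻¹ g by simp, MulEquiv.orderOf_eq])
  choose m hm hexp hnrm using fun k => Char.generalized_expand (hΘgen k)
  have horth : ∀ i j, classInner (F.h j) (F.f i) = 0 := fun i j => by
    rw [← Char.classInner_conj, F.fh_orth, map_zero]
  have hcoef : ∀ k l, ((∑ ψ, m k ψ * m l ψ : ℤ) : ℂ) = classInner (θ k) (θ l) := by
    intro k l
    rw [← classInner_indFun_TI' T C hnorm hTI (θ k) (θ l) (hθcf l) (hθT k) (hθT l)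
      (hθreg k 1 (by simp)), Char.classInner_expand (Char.isClassFunction_indFun C (θ l))]
    push_cast
    refine Finset.sum_congr rfl fun ψ _ => ?_
    rw [show classInner (indFun C (θ k)) (ψ : G → ℂ) = (m k ψ : ℂ) from hm k ψ,
      show classInner (indFun C (θ l)) (ψ : G → ℂ) = (m l ψ : ℂ) from hm l ψ, map_intCast]
  have hm1 : ∀ k, (m k (oneChar G) : ℂ) = classInner (θ k) (F.f 0) := by
    intro k
    rw [← hm k, show Θ k = indFun C (θ k) from rfl,
      Char.classInner_indFun C (θ k) _ (Char.isClassFunction_irr (oneChar G))]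
    exact congrArg _ (funext fun x => (F.f_zero x).symm)
  have hval : ∀ k l, classInner (θ k) (θ l) =
      ((![![4, -2, -2, -2], ![-2, 3, 1, 1], ![-2, 1, 3, 1], ![-2, 1, 1, 3]] k l : ℤ) : ℂ) := by
    intro k l
    fin_cases k <;> fin_cases l <;>
      simp [hθ, Char.classInner_add_left, Char.classInner_add_right, Char.classInner_sub_left,
        Char.classInner_sub_right, F.f_orth, F.h_orth, F.fh_orth, horth] <;> norm_num
  have hone : ∀ k, m k (oneChar G) = ![1, -1, -1, 0] k := by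
    intro k
    have h : (m k (oneChar G) : ℂ) = ((![1, -1, -1, 0] k : ℤ) : ℂ) := by
      rw [hm1]
      fin_cases k <;>
        simp [hθ, Char.classInner_add_left, Char.classInner_sub_left, F.f_orth, horth]
    exact_mod_cast h
  set s := Finset.univ.erase (oneChar G) with hs
  have hrest : ∀ k l, ∑ ψ ∈ s, m k ψ * m l ψ =
      ![![4, -2, -2, -2], ![-2, 3, 1, 1], ![-2, 1, 3, 1], ![-2, 1, 1, 3]] k l -
        ![1, -1, -1, 0] k * ![1, -1, -1, 0] l := by
    intro k l
    have h : ∑ ψ, m k ψ * m l ψ =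
        ![![4, -2, -2, -2], ![-2, 3, 1, 1], ![-2, 1, 3, 1], ![-2, 1, 1, 3]] k l := by
      exact_mod_cast (hcoef k l).trans (hval k l)
    rw [← Finset.add_sum_erase _ _ (Finset.mem_univ (oneChar G)), hone, hone] at h
    rw [← hs] at h
    linarith
  obtain ⟨A, hAs, H, hHs, ε, t, hAH, hε, ht, h0A, haA, haH, hasup, hcases⟩ :=
    exists_shared s (m 0) (m 1) (m 2) (m 3)
      (by simp only [pow_two]; rw [hrest]; rfl) (by simp only [pow_two]; rw [hrest]; rfl)
      (by simp only [pow_two]; rw [hrest]; rfl) (by simp only [pow_two]; rw [hrest]; rfl)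
      (by rw [hrest]; rfl) (by rw [hrest]; rfl) (by rw [hrest]; rfl)
      (by rw [hrest]; rfl) (by rw [hrest]; rfl)
  have hA1 : A ≠ oneChar G := (Finset.mem_erase.1 hAs).1
  have hH1 : H ≠ oneChar G := (Finset.mem_erase.1 hHs).1
  have hΘ1 : ∀ k, Θ k 1 = 0 := fun k => hΘodd k 1 (by simp)
  have hTa : ∀ g, Θ 1 g = -1 - (ε : ℂ) * (A : G → ℂ) g + (t : ℂ) * (H : G → ℂ) g := fun g => by
    rw [value_of_support (hexp 1) hA1 hH1 hAH hasup g, haA, haH, hone]
    simp; ring
  have hεsq : (ε : ℂ) * ε = 1 := by rcases hε with h | h <;> simp [h]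
  have htsq : (t : ℂ) * t = 1 := by rcases ht with h | h <;> simp [h]
  rcases hcases with ⟨hbA, hcA⟩ | ⟨hab, habsup⟩ | ⟨h0cA, h0cH, h0csup⟩
  rotate_left
  · -- a linear character with the commutator `z` in its kernel
    have hexp' : Θ 1 + Θ 2 = ∑ ψ : IrrCharacter G, ((m 1 ψ + m 2 ψ : ℤ) : ℂ) • (ψ : G → ℂ) := by
      rw [hexp 1, hexp 2, ← Finset.sum_add_distrib]
      exact Finset.sum_congr rfl fun ψ _ => by rw [Int.cast_add, add_smul]
    have h := value_of_support hexp' hA1 hH1 hAH (fun x hx hxA _ => habsup x hx hxA) 1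
    rw [Pi.add_apply, hΘ1, hΘ1, habsup H hHs hAH.symm, hab,
      show m 1 (oneChar G) = -1 from hone 1, show m 2 (oneChar G) = -1 from hone 2] at h
    push_cast at h
    obtain ⟨d, hd⟩ := Char.isCharacter_degree (Char.isCharacter_irr A)
    rw [hd] at h
    have h'' : (0 : ℂ) = ((-1 + -1 + -(2 * ε * d) : ℤ) : ℂ) := by
      push_cast
      linear_combination h
    have h' : (0 : ℤ) = -1 + -1 + -(2 * ε * d) := by exact_mod_cast h''
    have hd1 : d = 1 := by rcases hε with h2 | h2 <;> rw [h2] at h' <;> omega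
    rw [hd1, Nat.cast_one] at hd
    refine hA1 (eq_oneChar_of_apply_eq IH hz hO hzZ A ?_)
    rw [hd]
    have hflip := congrArg Subtype.val D.flip
    simp only [Subgroup.coe_mul, InvMemClass.coe_inv] at hflip
    have hc2 : ((D.c : C) : G) ^ 2 = z := by rw [← hDu, ← D.c_sq]; rfl
    have hzc : z = (D.y : G) * (D.c : G) * (D.y : G)⁻¹ * (D.c : G)⁻¹ := by
      rw [hflip, ← mul_inv_rev, ← pow_two, hc2, invol_inv hz.1]
    rw [hzc]
    exact apply_commutator_of_degree_one A hd _ _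
  · have hexp' : Θ 0 + Θ 3 = ∑ ψ : IrrCharacter G, ((m 0 ψ + m 3 ψ : ℤ) : ℂ) • (ψ : G → ℂ) := by
      rw [hexp 0, hexp 3, ← Finset.sum_add_distrib]
      exact Finset.sum_congr rfl fun ψ _ => by rw [Int.cast_add, add_smul]
    have h := value_of_support hexp' hA1 hH1 hAH h0csup 1
    rw [Pi.add_apply, hΘ1, hΘ1, h0cA, h0cH, hone, hone] at h
    simp at h
    have h' := hTa 1
    rw [hΘ1] at h'
    have : (t : ℂ) * (H : G → ℂ) 1 = 0 := by linear_combination (-1/2 : ℂ) * h - (1/2 : ℂ) * h'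
    rcases mul_eq_zero.1 this with h2 | h2
    · rcases ht with h3 | h3 <;> rw [h3] at h2 <;> norm_num at h2
    · exact Char.irr_one_ne_zero H h2
  -- the main case
  set r : C → ℂ := fun x => (A : G → ℂ) (x : G) with hr
  have hrk : ∀ k, classInner r (θ k) = (m k A : ℂ) := by
    intro k
    rw [hr, ← Char.classInner_conj, ← Char.classInner_indFun C (θ k) _ (Char.isClassFunction_irr A),
      show classInner (indFun C (θ k)) (A : G → ℂ) = (m k A : ℂ) from hm k A, map_intCast]
  have hAB : A ∈ principalBlock M G := by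
    by_contra hAB
    have hP : ∀ x : C, 2 ∣ orderOf x → blockPart (principalBlock M C) r x = 0 := by
      intro x hx
      rw [← Subgroup.orderOf_coe] at hx
      obtain ⟨w, hw⟩ := exists_isPPart (p := 2) Nat.prime_two (x : G)
      refine blockPart_restrict_eq_zero hM (x := z) ⟨1, by rw [hz.1, pow_one]⟩ hmem hAB hw ?_
      have hwz : Commute w z := by
        have h1 := isPPart_conj hw z
        rw [((hmem _).1 x.2).symm.eq, mul_inv_cancel_right] at h1
        exact (mul_inv_eq_iff_eq_mul.1 (isPPart_unique Nat.prime_two h1 hw)).symm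
      have hw1 : w ≠ 1 := fun h => not_dvd_of_isPPart_one (h ▸ hw) hx
      obtain ⟨q, hq, -, ⟨j, hj⟩, -⟩ := hw
      intro t ht
      have hw2 : 2 ∣ orderOf w := by
        rcases Nat.eq_zero_or_pos j with rfl | hj0
        · exact absurd (orderOf_eq_one_iff.1 (by rw [hj, pow_zero])) hw1
        · rw [hj]; exact dvd_pow_self 2 (by omega)
      exact (hmem t).2 (hpw w ((hmem w).2 hwz) hw2 ▸ ht.pow_right _)
    have h0 : classInner (blockPart (principalBlock M C) r) (θ 0) = 0 := by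
      rw [classInner, Finset.sum_eq_zero, mul_zero]
      intro x _
      by_cases hx : 2 ∣ orderOf x
      · rw [hP x hx, zero_mul]
      · rw [hθreg 0 x hx, map_zero, mul_zero]
    have h1 : classInner r (θ 0) = 0 := by
      rw [← h0]
      have hpart : blockPart (principalBlock M C) r =
          ∑ j, classInner r (F.f j) • F.f j + ∑ i, classInner r (F.h i) • F.h i := funext fun g => by
        rw [F.part r g]; simp
      rw [hpart]
      simp [hθ, Fin.sum_univ_four, Fin.sum_univ_three, Char.classInner_add_left,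
        Char.classInner_add_right, Char.classInner_smul_left, F.f_orth, horth]
    rw [hrk, h0A] at h1
    rcases hε with h2 | h2 <;> rw [h2] at h1 <;> norm_num at h1
  -- the value at the involution
  have hshift : ∀ H' : C → ℂ, classInner (secFun z C A) H' =
      classInner r (fun x => H' (D.u * x)) := by
    intro H'
    rw [classInner, classInner]
    congr 1
    refine Fintype.sum_equiv (Equiv.mulLeft D.u) _ _ fun x => ?_
    simp only [Equiv.coe_mulLeft, ← mul_assoc, D.u_mul_u, one_mul, secFun, hr, Subgroup.coe_mul, hDu]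
  have hAz : (A : G → ℂ) z = ∑ j, classInner r (F.f j) * F.f j 1 -
      ∑ i, classInner r (F.h i) * F.h i 1 := by
    have h := irr_secElt_eq_blockPart hM (x := z) ⟨1, by rw [hz.1, pow_one]⟩ hmem hAB (y := (1 : C))
      (by simp)
    rw [Subgroup.coe_one, mul_one, F.part] at h
    rw [h, sub_eq_add_neg, ← Finset.sum_neg_distrib]
    congr 1
    · refine Finset.sum_congr rfl fun j _ => ?_
      rw [hshift]; simp only [F.f_u]
    · refine Finset.sum_congr rfl fun i _ => ?_
      rw [hshift, show (fun x => F.h i (D.u * x)) = -F.h i from funext fun x => F.h_u i x,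
        Char.classInner_neg_right, neg_mul]
  have hone1 : ¬ 2 ∣ orderOf (1 : C) := by simp
  have hp0 : (ε : ℂ) * (A : G → ℂ) z = F.f 1 1 := by
    have e0 := hrk 0
    have e1 := hrk 1
    have e2 := hrk 2
    have e3 := hrk 3
    rw [h0A] at e0
    rw [haA] at e1
    rw [hbA] at e2
    rw [hcA] at e3
    simp [hθ, Char.classInner_add_right, Char.classInner_sub_right] at e0 e1 e2 e3
    have hs0 := F.f_sum 1 hone1
    rw [Fin.sum_univ_four] at hs0
    rw [hAz, Fin.sum_univ_four, Fin.sum_univ_three, F.h0_reg 1 hone1, F.h1_reg 1 hone1,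
      F.h2_reg 1 hone1, show F.f 0 1 = 1 from F.f_zero 1]
    rw [F.f_zero 1] at hs0
    linear_combination (ε : ℂ) * F.f 3 1 * e0 - (ε : ℂ) * (1 + F.f 1 1) * e1 -
      (ε : ℂ) * (1 + F.f 2 1) * e2 - (ε : ℂ) * (F.f 1 1 + F.f 2 1) * e3 +
      (F.f 3 1 + 1 + 2 * F.f 1 1 + F.f 2 1) * hεsq + hs0 -
      (ε : ℂ) * (classInner r (F.f 0) + classInner r (F.f 1) + classInner r (F.f 2)) * hs0
  have hTaz : Θ 1 z = -2 * (1 + F.f 1 1) := by
    have hzT : ((D.u : C) : G) ∈ T := by
      rw [hDu]; exact ⟨(hmem z).2 (Commute.refl z), by rw [hz.1]⟩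
    have h := indFun_TI_apply' T C hnorm hTI (θ 1) (hθcf 1) (hθT 1) D.u hzT
      (invol_ne_one D.u_order)
    rw [hDu] at h
    rw [show Θ 1 z = indFun C (θ 1) z from rfl, h]
    show F.h 0 D.u - (F.f 0 D.u + F.f 1 D.u) = _
    have e1 := F.h_u 0 1
    have e2 := F.f_u 1 1
    rw [mul_one] at e1 e2
    rw [e1, e2, F.h0_reg 1 hone1, F.f_zero, F.f_zero]
    ring
  have hdeg : (t : ℂ) * (H : G → ℂ) 1 = 1 + (ε : ℂ) * (A : G → ℂ) 1 := by
    have h := hTa 1
    rw [hΘ1] at h
    linear_combination -h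
  have htHz : (t : ℂ) * (H : G → ℂ) z = -(1 + F.f 1 1) := by
    have h := hTa z
    rw [hTaz] at h
    linear_combination -h + hp0
  have hmom : (-1 : ℂ) - (ε : ℂ) * ((A : G → ℂ) z * (A : G → ℂ) z / (A : G → ℂ) 1) +
      (t : ℂ) * ((H : G → ℂ) z * (H : G → ℂ) z / (H : G → ℂ) 1) = 0 := by
    have h7 : ∑ g : G, Θ 1 (z * (g * z * g⁻¹)) = 0 :=
      Finset.sum_eq_zero fun g _ => hΘodd 1 _ (odd_mul_conj hz g).not_two_dvd_nat
    simp only [hTa, Finset.sum_add_distrib, Finset.sum_sub_distrib, ← Finset.mul_sum, sum_conj_char,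
      Finset.sum_const, Finset.card_univ, nsmul_eq_mul, ← Nat.card_eq_fintype_card] at h7
    apply mul_left_cancel₀ (Nat.cast_ne_zero.mpr Nat.card_pos.ne' : (Nat.card G : ℂ) ≠ 0)
    linear_combination h7
  set a := (ε : ℂ) * (A : G → ℂ) 1 with ha
  set p := F.f 1 1 with hp
  have hA0 := Char.irr_one_ne_zero A
  have hH0 := Char.irr_one_ne_zero H
  have hmom' : -((A : G → ℂ) 1 * (H : G → ℂ) 1) -
      (ε : ℂ) * (A : G → ℂ) z * (A : G → ℂ) z * (H : G → ℂ) 1 +
      (t : ℂ) * (H : G → ℂ) z * (H : G → ℂ) z * (A : G → ℂ) 1 = 0 := by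
    field_simp at hmom
    linear_combination hmom
  have hkey : -(a * (1 + a)) - p ^ 2 * (1 + a) + (1 + p) ^ 2 * a = 0 := by
    have h1 : -(a * ((t : ℂ) * (H : G → ℂ) 1)) -
        ((ε : ℂ) * (A : G → ℂ) z) ^ 2 * ((t : ℂ) * (H : G → ℂ) 1) +
        ((t : ℂ) * (H : G → ℂ) z) ^ 2 * a = 0 := by
      rw [ha]
      linear_combination (ε : ℂ) * t * hmom'
    rw [hp0, htHz, hdeg] at h1
    linear_combination h1
  have hap : a - p = 0 := by
    refine pow_eq_zero_iff two_ne_zero |>.1 (show (a - p) ^ 2 = 0 from ?_)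
    linear_combination -hkey
  refine hA1 (eq_oneChar_of_apply_eq IH hz hO hzZ A ?_)
  have hεne : (ε : ℂ) ≠ 0 := fun h => by rw [h, mul_zero] at hεsq; norm_num at hεsq
  apply mul_left_cancel₀ hεne
  rw [hp0, ← ha]
  exact (sub_eq_zero.1 hap).symm

end CfsgLib.Invol
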