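import Cfsg.Agent.Lib.Invol.GlaubermanFusion
import Cfsg.Agent.Lib.Invol.BrauerSuzukiEight
import Cfsg.Agent.Lib.Invol.CyclicCentralizer
import Cfsg.Agent.Lib.Coprime.UniqueOrderP

/-!
# Glauberman's Z*-theorem
-/

open Subgroup

set_option autoImplicit false

namespace CfsgLib.Invol

open Cfsg

universe u

theorem false_of_reduced {G : Type u} [Group G] [Finite G] {z : G}
    (IH : ZStarBelow.{u} (Nat.card G)) (hz : IsIsolatedInvolution z)
    (hO : pPrimeCore 2 G = ⊥) (hZ : Subgroup.center G = ⊥) : False := by
  classical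
  have := Fintype.ofFinite G
  haveI : Fact (Nat.Prime 2) := ⟨Nat.prime_two⟩
  by_cases hv : ∃ v : G, orderOf v = 2 ∧ Commute z v ∧ v ≠ z
  · obtain ⟨v, h1, h2, h3⟩ := hv
    exact false_of_second_involution IH hz hO hZ h1 h2 h3
  push Not at hv
  have huniq : ∀ v : G, orderOf v = 2 → Commute z v → v = z := hv
  obtain ⟨P⟩ : Nonempty (Sylow 2 (Subgroup.centralizer ({z} : Set G))) := inferInstance
  set C := Subgroup.centralizer ({z} : Set G) with hC
  have hP : IsPGroup 2 ((P : Subgroup C).map C.subtype) := P.2.map _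
  have hndiv : ¬ 2 ∣ ((P : Subgroup C).map C.subtype).index := by
    rw [Subgroup.index_map_subtype]
    exact Nat.prime_two.not_dvd_mul P.not_dvd_index (not_two_dvd_index_centralizer hz)
  set S : Sylow 2 G := hP.toSylow hndiv with hS
  have hSC : (S : Subgroup G) ≤ C := Subgroup.map_subtype_le _
  have hun : Coprime.UniqueOrderP 2 (S : Subgroup G) := by
    have key : ∀ x : (S : Subgroup G), x ^ 2 = 1 → x ≠ 1 → (x : G) = z := fun x hx hx1 => by
      refine huniq x ?_ (Subgroup.mem_centralizer_singleton_iff.1 (hSC x.2)).symm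
      rw [Subgroup.orderOf_coe]
      exact orderOf_eq_prime hx hx1
    intro x y hx hy hx1
    by_cases hy1 : y = 1
    · rw [hy1]; exact one_mem _
    · rw [show y = x from Subtype.ext ((key y hy hy1).trans (key x hx hx1).symm)]
      exact Subgroup.mem_zpowers x
  have hcyc : IsCyclic (S : Subgroup G) → False := by
    intro h
    have heven : Even (Nat.card G) := even_iff_two_dvd.2 (hz.1 ▸ orderOf_dvd_natCard z)
    obtain ⟨H, hH⟩ := exists_index_two_of_cyclic heven S h
    haveI : H.Normal := Subgroup.normal_of_index_eq_two hH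
    have hzZ : z ∉ Subgroup.center G := fun h' =>
      invol_ne_one hz.1 (Subgroup.mem_bot.1 (hZ ▸ h'))
    -- all elements of odd order, and the proper normal subgroup has trivial odd core
    have hne : H ≠ ⊤ := fun e => by rw [e, Subgroup.index_top] at hH; norm_num at hH
    have hzH : z ∉ H := notMem_proper_normal IH hz hO hzZ H hne
    have hg : ∀ g : G, Commute z g := by
      intro g
      have hxH : z * (g * z * g⁻¹) ∈ H := by
        rw [Subgroup.mul_mem_iff_of_index_two hH]
        refine iff_of_false hzH fun h' => hzH ?_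
        have := (inferInstance : H.Normal).conj_mem _ h' g⁻¹
        rwa [show g⁻¹ * (g * z * g⁻¹) * g⁻¹⁻¹ = z by group] at this
      -- the Sylow subgroup of `H` is cyclic and misses the involution, hence trivial
      have hHodd : ¬ 2 ∣ Nat.card H := by
        intro h2
        obtain ⟨w, hw⟩ := exists_prime_orderOf_dvd_card' 2 h2
        obtain ⟨b, hb⟩ := exists_conj_le_sylow (Q := Subgroup.zpowers (w : G))
          (IsPGroup.of_card (n := 1) (by rw [Nat.card_zpowers, Subgroup.orderOf_coe, hw, pow_one])) S
        have hbS := hb _ (Subgroup.mem_zpowers (w : G))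
        have hbo : orderOf (b * (w : G) * b⁻¹) = 2 := invol_conj (by rw [Subgroup.orderOf_coe, hw]) b
        have hbz : b * (w : G) * b⁻¹ = z :=
          huniq _ hbo (Subgroup.mem_centralizer_singleton_iff.1 (hSC hbS)).symm
        exact hzH (hbz ▸ (inferInstance : H.Normal).conj_mem _ w.2 b)
      have hHbot : H = ⊥ := by
        rw [← le_bot_iff, ← hO]
        exact Coprime.le_pPrimeCore_of_not_dvd Nat.prime_two hHodd
      rw [hHbot, Subgroup.mem_bot] at hxH
      have h' : g * z * g⁻¹ = z :=
        (inv_eq_of_mul_eq_one_right hxH).symm.trans (invol_inv hz.1)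
      exact (mul_inv_eq_iff_eq_mul.1 h').symm
    exact hzZ (Subgroup.mem_center_iff.2 fun g => (hg g).eq.symm)
  rcases Coprime.cyclic_or_quaternion_of_unique_two S.2 hun with h | ⟨n, ⟨e⟩⟩
  · exact hcyc h
  · rcases Nat.lt_or_ge n 2 with hn | hn
    · interval_cases n
      · refine hcyc ?_
        haveI : IsCyclic (QuaternionGroup (2 ^ 0)) := QuaternionGroup.quaternionGroup_one_isCyclic
        exact isCyclic_of_surjective e.symm.toMonoidHom e.symm.surjective
      · exact false_of_quaternion_eight IH hz hO hZ huniq S hSC e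
    · exact false_of_quaternion_large IH hz hO hZ huniq S hSC n hn e

/-- **Glauberman's Z*-theorem**: an isolated involution is central modulo the odd core. -/
theorem zstar {G : Type u} [Group G] [Finite G] {z : G} (hz : IsIsolatedInvolution z) :
    IsZCentral z := by
  suffices h : ∀ (n : ℕ), ZStarBelow.{u} n from h (Nat.card G + 1) G (Nat.lt_succ_self _) z hz
  intro n
  induction n with
  | zero => intro H _ _ hH; exact absurd hH (Nat.not_lt_zero _)
  | succ n ih =>
    intro H _ _ hH v hv
    rcases Nat.lt_succ_iff_lt_or_eq.1 hH with h | h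
    · exact ih H h v hv
    · subst h
      by_cases hO : pPrimeCore 2 H = ⊥
      · by_cases hZ : Subgroup.center H = ⊥
        · exact (false_of_reduced ih hv hO hZ).elim
        · exact zcentral_of_center_ne_bot ih hv hO hZ
      · exact zcentral_of_oddCore_ne_bot ih hv hO

/-- The Z*-theorem in terms of an element of a Sylow 2-subgroup weakly closed there. -/
theorem zstar_of_weakly_closed {G : Type u} [Group G] [Finite G] (P : Sylow 2 G) {z : G}
    (hz : orderOf z = 2) (h : ∀ g : G, g * z * g⁻¹ ∈ P → g * z * g⁻¹ = z) :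
    IsZCentral z := by
  haveI : Fact (Nat.Prime 2) := ⟨Nat.prime_two⟩
  refine zstar ⟨hz, fun g hg => ?_⟩
  have hodd := odd_orderOf_mul_conj_of_closed P hz h g
  have hg2 : orderOf (g * z * g⁻¹) = 2 := invol_conj hz g
  have hsq : (z * (g * z * g⁻¹)) * (z * (g * z * g⁻¹)) = 1 := by
    rw [mul_assoc, ← mul_assoc (g * z * g⁻¹) z, ← hg.eq, mul_assoc z (g * z * g⁻¹),
      invol_mul_self hg2, mul_one, invol_mul_self hz]
  have h1 : z * (g * z * g⁻¹) = 1 := by
    rcases (Nat.dvd_prime Nat.prime_two).1
      (orderOf_dvd_of_pow_eq_one (show (z * (g * z * g⁻¹)) ^ 2 = 1 by rw [pow_two]; exact hsq)) with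
      h' | h'
    · exact orderOf_eq_one_iff.1 h'
    · rw [h'] at hodd; exact absurd hodd (by decide)
  exact (inv_eq_of_mul_eq_one_right h1).symm.trans (invol_inv hz)

end CfsgLib.Invol
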