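import Cfsg.Agent.Lib.Invol.MaxClassTwo
import Cfsg.Agent.Lib.Invol.Basic

/-!
# Taussky's theorem
-/

set_option autoImplicit false

namespace CfsgLib.Invol

open Subgroup
open scoped commutatorElement

universe u

/-- A nonabelian 2-group whose abelianization has order at most four has a cyclic subgroup of index
two. -/
theorem exists_cyclic_index_two : ∀ (n : ℕ) (S : Type u) [Group S] [Finite S], Nat.card S = n →
    IsPGroup 2 S → ¬ IsMulCommutative S → Nat.card S ≤ 4 * Nat.card (commutator S) →
    ∃ a : S, (Subgroup.zpowers a).index = 2 := by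
  intro n
  induction n using Nat.strong_induction_on with
  | _ n ih =>
  intro S _ _ hn h2 hna hab
  haveI : Fact (Nat.Prime 2) := ⟨Nat.prime_two⟩
  have hne : commutator S ≠ ⊥ := fun h => hna (isMulCommutative_iff.2 fun x y => by
    have h' : ⁅x, y⁆ ∈ commutator S :=
      Subgroup.commutator_mem_commutator (Subgroup.mem_top x) (Subgroup.mem_top y)
    rw [h] at h'
    exact commutatorElement_eq_one_iff_mul_comm.1 h')
  obtain ⟨z, hzS, hz, hzc⟩ := exists_fixed_of_normalized (p := 2) (P := (⊤ : Subgroup S))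
    (h2.to_subgroup ⊤) (h2.to_subgroup (commutator S)) hne
    (le_of_le_of_eq le_top (Subgroup.normalizer_eq_top_iff.2 inferInstance).symm)
  have hzcomm : ∀ x : S, x * z = z * x := fun x =>
    Subgroup.mem_centralizer_singleton_iff.1 (hzc (Subgroup.mem_top x))
  haveI hZn : (Subgroup.zpowers z).Normal := ⟨fun w hw g => by
    obtain ⟨i, rfl⟩ := Subgroup.mem_zpowers_iff.1 hw
    rw [((show Commute g z from hzcomm g).zpow_right i).eq, mul_inv_cancel_right]
    exact zpow_mem (Subgroup.mem_zpowers z) i⟩
  set Z := Subgroup.zpowers z with hZ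
  have hZ2 : Nat.card Z = 2 := by rw [hZ, Nat.card_zpowers, hz]
  set π := QuotientGroup.mk' Z with hπ
  have hcardQ : Nat.card S = 2 * Nat.card (S ⧸ Z) := by
    rw [← Subgroup.index_eq_card, ← hZ2, Z.card_mul_index]
  have hQ2 : IsPGroup 2 (S ⧸ Z) := h2.to_quotient Z
  have hcommQ : commutator (S ⧸ Z) = (commutator S).map π := by
    rw [_root_.commutator_def, _root_.commutator_def, Subgroup.map_commutator,
      Subgroup.map_top_of_surjective _ (QuotientGroup.mk'_surjective Z)]
  have hcardD : Nat.card (commutator S) = 2 * Nat.card (commutator (S ⧸ Z)) := by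
    have hZle : Z ≤ commutator S := Subgroup.zpowers_le.2 hzS
    have h1 := (commutator (S ⧸ Z)).card_mul_index
    have h3 : (commutator (S ⧸ Z)).index = (commutator S).index := by
      rw [hcommQ]
      exact Subgroup.index_map_eq _ (QuotientGroup.mk'_surjective Z)
        (by rw [QuotientGroup.ker_mk']; exact hZle)
    have h4 := (commutator S).card_mul_index
    rw [h3] at h1
    refine Nat.eq_of_mul_eq_mul_right (Nat.pos_of_ne_zero
      (Subgroup.index_ne_zero_of_finite (H := commutator S))) ?_
    rw [h4, mul_assoc, h1, hcardQ]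
  by_cases hQab : IsMulCommutative (S ⧸ Z)
  · have hD1 : Nat.card (commutator (S ⧸ Z)) = 1 := by
      rw [Subgroup.card_eq_one, eq_bot_iff, _root_.commutator_def, Subgroup.commutator_le]
      intro x _ y _
      rw [Subgroup.mem_bot, commutatorElement_eq_one_iff_mul_comm]
      exact hQab.is_comm.comm x y
    obtain ⟨j, hj⟩ := h2.exists_card_eq
    have hj3 : j = 3 := by
      have hle : j ≤ 3 := (Nat.pow_le_pow_iff_right (le_refl 2)).1
        (hj ▸ (hab.trans (by rw [hcardD, hD1]; norm_num) : Nat.card S ≤ 2 ^ 3))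
      by_contra h
      refine hna ?_
      rcases (show j ≤ 1 ∨ j = 2 by omega) with hj1 | rfl
      · refine isMulCommutative_iff.2 fun x y => ?_
        interval_cases j
        · haveI : Subsingleton S := (Nat.card_eq_one_iff_unique.1 (by simpa using hj)).1
          exact Subsingleton.elim _ _
        · haveI := isCyclic_of_prime_card (p := 2) (by simpa using hj)
          exact IsCyclic.commGroup.mul_comm x y
      · exact IsPGroup.isMulCommutative_of_card_eq_prime_sq hj
    subst hj3
    by_contra hcon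
    push Not at hcon
    refine hna (isMulCommutative_iff.2 fun x y => ?_)
    have hsq : ∀ w : S, w * w = 1 := by
      intro w
      have hd : orderOf w ∣ 2 ^ 3 := hj ▸ orderOf_dvd_natCard w
      obtain ⟨i, hi, hw⟩ := (Nat.dvd_prime_pow Nat.prime_two).1 hd
      have hwi : i ≠ 2 := fun h => hcon w (by
        have := (Subgroup.zpowers w).card_mul_index
        rw [Nat.card_zpowers, hw, hj, h] at this; omega)
      have hwi' : i ≠ 3 := fun h => hna (by
        haveI := isCyclic_of_orderOf_eq_card w (by rw [hw, hj, h])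
        exact isMulCommutative_iff.2 fun x y => IsCyclic.commGroup.mul_comm x y)
      rw [← pow_two, ← orderOf_dvd_iff_pow_eq_one, hw]
      have : i ≤ 1 := by omega
      exact (pow_dvd_pow 2 this).trans (by norm_num)
    have hi : ∀ w : S, w⁻¹ = w := fun w => inv_eq_of_mul_eq_one_left (hsq w)
    calc x * y = (x * y)⁻¹ := (hi _).symm
      _ = y⁻¹ * x⁻¹ := mul_inv_rev _ _
      _ = y * x := by rw [hi, hi]
  · -- the quotient is of maximal class
    have habQ : Nat.card (S ⧸ Z) ≤ 4 * Nat.card (commutator (S ⧸ Z)) := by omega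
    obtain ⟨aq, haq⟩ := ih (Nat.card (S ⧸ Z))
      (by rw [← hn, hcardQ]; have := Nat.card_pos (α := S ⧸ Z); omega) (S ⧸ Z) rfl hQ2 hQab habQ
    obtain ⟨bq, -, hbq⟩ := SetLike.exists_of_lt (lt_top_iff_ne_top.2 (fun h : Subgroup.zpowers aq = ⊤ =>
      by rw [h, Subgroup.index_top] at haq; omega))
    obtain ⟨r, e, F⟩ := exists_frame haq hbq
    obtain ⟨j, hj⟩ := hQ2 aq
    obtain ⟨k, -, hk⟩ := (Nat.dvd_prime_pow Nat.prime_two).1 (orderOf_dvd_of_pow_eq_one hj)
    rw [hk] at F
    obtain ⟨hr4, r₀, e₀, b₀, ⟨hk2, -⟩, -⟩ := frame_std F hQab habQ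
    obtain ⟨a, rfl⟩ := QuotientGroup.mk'_surjective Z aq
    obtain ⟨b, rfl⟩ := QuotientGroup.mk'_surjective Z bq
    have hcardS : Nat.card S = 4 * 2 ^ k := by rw [hcardQ, F.card]; ring
    by_contra hcon
    push Not at hcon
    have hzi : ∀ w ∈ Z, w = 1 ∨ w = z := by
      intro w hw
      obtain ⟨i, rfl⟩ := Subgroup.mem_zpowers_iff.1 hw
      rcases Int.even_or_odd' i with ⟨l, rfl | rfl⟩
      · exact Or.inl (by rw [zpow_mul, zpow_two, (invol_iff.1 hz).1, one_zpow])
      · exact Or.inr (by rw [zpow_add, zpow_mul, zpow_two, (invol_iff.1 hz).1, one_zpow, one_mul, zpow_one])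
    have ha : a ^ (2 ^ k : ℕ) = 1 := by
      have hm : a ^ (2 ^ k : ℕ) ∈ Z := by
        rw [← QuotientGroup.eq_one_iff, ← QuotientGroup.mk'_apply, map_pow, ← hk]
        exact pow_orderOf_eq_one _
      rcases hzi _ hm with h | h
      · exact h
      · exfalso
        refine hcon a ?_
        have ho : orderOf a = 2 ^ (k + 1) := by
          refine orderOf_eq_prime_pow (fun h1 => invol_ne_one hz (h ▸ h1)) ?_
          rw [pow_succ, pow_mul, h, pow_two, invol_mul_self hz]
        have h3 := (Subgroup.zpowers a).card_mul_index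
        rw [Nat.card_zpowers, ho, hcardS, pow_succ] at h3
        have h4 : 0 < 2 ^ k := by positivity
        nlinarith
    obtain ⟨w, hw, hba⟩ : ∃ w ∈ Z, b * a * b⁻¹ = a ^ r * w := by
      refine ⟨(a ^ r)⁻¹ * (b * a * b⁻¹), ?_, by rw [mul_inv_cancel_left]⟩
      rw [← QuotientGroup.eq_one_iff, ← QuotientGroup.mk'_apply]
      simp only [map_mul, map_inv, map_zpow]
      rw [F.conj, inv_mul_cancel]
    have haw : Commute a w := by
      rcases hzi w hw with rfl | rfl
      · exact Commute.one_right a
      · exact hzcomm a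
    set c := a ^ (r - 1) * w with hc
    haveI hcn : (Subgroup.zpowers c).Normal := by
      refine ⟨fun n hn g => ?_⟩
      obtain ⟨m, rfl⟩ := Subgroup.mem_zpowers_iff.1 hn
      rw [← conj_zpow]
      refine zpow_mem ?_ m
      have hwc : ∀ g : S, g * w * g⁻¹ = w := fun g => by
        rcases hzi w hw with rfl | rfl
        · simp
        · rw [hzcomm g, mul_inv_cancel_right]
      have hac : a * c * a⁻¹ = c := by
        rw [hc, ← mul_assoc, ← zpow_one_add, ← zpow_neg_one]
        rw [mul_assoc, (haw.zpow_left (-1)).symm.eq, ← mul_assoc, ← zpow_add]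
        congr 2; ring
      have hbc : b * c * b⁻¹ = c ^ r := by
        rw [hc, ← conj_mul, ← conj_zpow, hba, hwc, (haw.zpow_left r).mul_zpow, ← zpow_mul,
          (haw.zpow_left (r - 1)).mul_zpow, ← zpow_mul, mul_assoc, mul_comm (r - 1) r]
        congr 1
        rw [← zpow_add_one]; congr 1; ring
      obtain ⟨i, hi⟩ := F.exists_eq (π g)
      have hgi : ∃ v ∈ Z, g = a ^ i * v ∨ g = a ^ i * b * v := by
        rcases hi with hi | hi
        · refine ⟨(a ^ i)⁻¹ * g, ?_, Or.inl (by rw [mul_inv_cancel_left])⟩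
          rw [← QuotientGroup.eq_one_iff, ← QuotientGroup.mk'_apply, map_mul, map_inv, map_zpow, ← hπ, hi,
            inv_mul_cancel]
        · refine ⟨(a ^ i * b)⁻¹ * g, ?_, Or.inr (by rw [mul_inv_cancel_left])⟩
          rw [← QuotientGroup.eq_one_iff, ← QuotientGroup.mk'_apply, map_mul, map_inv, map_mul, map_zpow, ← hπ, hi,
            inv_mul_cancel]
      obtain ⟨v, hv, hgv⟩ := hgi
      have hvc : v * c * v⁻¹ = c := by
        rcases hzi v hv with rfl | rfl
        · simp
        · rw [← hzcomm c, mul_inv_cancel_right]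
      have hai : ∀ d ∈ Subgroup.zpowers c, a ^ i * d * (a ^ i)⁻¹ ∈ Subgroup.zpowers c := by
        intro d hd
        obtain ⟨l, rfl⟩ := Subgroup.mem_zpowers_iff.1 hd
        have : Commute a c := mul_inv_eq_iff_eq_mul.1 hac
        rw [(this.zpow_zpow i l).eq, mul_inv_cancel_right]
        exact zpow_mem (Subgroup.mem_zpowers c) l
      rcases hgv with rfl | rfl
      · rw [show a ^ i * v * c * (a ^ i * v)⁻¹ = a ^ i * (v * c * v⁻¹) * (a ^ i)⁻¹ by group, hvc]
        exact hai c (Subgroup.mem_zpowers c)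
      · rw [show a ^ i * b * v * c * (a ^ i * b * v)⁻¹ =
          a ^ i * (b * (v * c * v⁻¹) * b⁻¹) * (a ^ i)⁻¹ by group, hvc, hbc]
        exact hai _ (zpow_mem (Subgroup.mem_zpowers c) r)
    have hgen : Subgroup.closure ({a, b, z} : Set S) = ⊤ := by
      refine top_le_iff.1 fun g _ => ?_
      have hma : a ∈ Subgroup.closure ({a, b, z} : Set S) := Subgroup.subset_closure (by simp)
      have hmb : b ∈ Subgroup.closure ({a, b, z} : Set S) := Subgroup.subset_closure (by simp)
      have hmz : Z ≤ Subgroup.closure ({a, b, z} : Set S) :=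
        Subgroup.zpowers_le.2 (Subgroup.subset_closure (by simp))
      obtain ⟨i, hi⟩ := F.exists_eq (π g)
      rcases hi with hi | hi
      · have hm : (a ^ i)⁻¹ * g ∈ Z := by
          rw [← QuotientGroup.eq_one_iff, ← QuotientGroup.mk'_apply, map_mul, map_inv, map_zpow, ← hπ, hi,
            inv_mul_cancel]
        simpa using mul_mem (zpow_mem hma i) (hmz hm)
      · have hm : (a ^ i * b)⁻¹ * g ∈ Z := by
          rw [← QuotientGroup.eq_one_iff, ← QuotientGroup.mk'_apply, map_mul, map_inv, map_mul, map_zpow, ← hπ,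
            hi, inv_mul_cancel]
        have := mul_mem (mul_mem (zpow_mem hma i) hmb) (hmz hm)
        rwa [mul_inv_cancel_left] at this
    have hle : commutator S ≤ Subgroup.zpowers c := by
      refine commutator_le_of_generators hgen ?_
      have hab' : ⁅b, a⁆ = c := by
        rw [commutatorElement_def, hba, hc, mul_assoc, (haw.inv_left).symm.eq, ← mul_assoc,
          ← zpow_sub_one]
      have hzc' : ∀ g : S, ⁅g, z⁆ = 1 := fun g => commutatorElement_eq_one_iff_mul_comm.2 (hzcomm g)
      have hzc'' : ∀ g : S, ⁅z, g⁆ = 1 := fun g =>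
        commutatorElement_eq_one_iff_mul_comm.2 (hzcomm g).symm
      intro x hx y hy
      rcases hx with rfl | rfl | rfl <;> rcases hy with rfl | rfl | rfl <;>
        first
        | (rw [commutatorElement_self]; exact one_mem _)
        | (rw [hzc']; exact one_mem _)
        | (rw [hzc'']; exact one_mem _)
        | (rw [hab']; exact Subgroup.mem_zpowers _)
        | (rw [← commutatorElement_inv, hab']; exact inv_mem (Subgroup.mem_zpowers _))
    have hc1 : c ^ (2 ^ (k - 1) : ℕ) = 1 := by
      have hw1 : w ^ (2 ^ (k - 1) : ℕ) = 1 := by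
        rcases hzi w hw with rfl | rfl
        · simp
        · rw [show k - 1 = (k - 2) + 1 by omega, pow_succ', pow_mul, pow_two, invol_mul_self hz,
            one_pow]
      rw [hc, (haw.zpow_left _).mul_pow, hw1, mul_one, ← zpow_natCast, ← zpow_mul,
        ← orderOf_dvd_iff_zpow_eq_one]
      refine (Int.natCast_dvd_natCast.2 (orderOf_dvd_of_pow_eq_one ha)).trans ?_
      obtain ⟨t, ht⟩ : (2 : ℤ) ∣ r - 1 := by omega
      refine ⟨t, ?_⟩
      push_cast
      rw [ht, ← two_mul_pow_pred (show 1 ≤ k by omega)]; ring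
    have h5 : Nat.card (commutator S) ≤ 2 ^ (k - 1) := by
      refine (Nat.le_of_dvd Nat.card_pos (Subgroup.card_dvd_of_le hle)).trans ?_
      rw [Nat.card_zpowers]
      exact Nat.le_of_dvd (by positivity) (orderOf_dvd_of_pow_eq_one hc1)
    have h6 : 2 ^ k = 2 * 2 ^ (k - 1) := by rw [← pow_succ']; congr 1; omega
    have h7 : 0 < 2 ^ (k - 1) := by positivity
    omega

/-- A nonabelian 2-group whose abelianization has order at most four is dihedral, generalized
quaternion or semidihedral. -/
theorem exists_std_frame {S : Type u} [Group S] [Finite S] (h2 : IsPGroup 2 S)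
    (hna : ¬ IsMulCommutative S) (hab : Nat.card S ≤ 4 * Nat.card (commutator S)) :
    ∃ (k : ℕ) (r e : ℤ) (a b : S), IsStdType k r e ∧ CyclicFrame (2 ^ k) r e a b := by
  obtain ⟨a, ha⟩ := exists_cyclic_index_two _ S rfl h2 hna hab
  obtain ⟨b, -, hb⟩ := SetLike.exists_of_lt (lt_top_iff_ne_top.2 (fun h : Subgroup.zpowers a = ⊤ =>
    by rw [h, Subgroup.index_top] at ha; omega))
  obtain ⟨r, e, F⟩ := exists_frame ha hb
  obtain ⟨j, hj⟩ := h2 a
  obtain ⟨k, -, hk⟩ := (Nat.dvd_prime_pow Nat.prime_two).1 (orderOf_dvd_of_pow_eq_one hj)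
  rw [hk] at F
  obtain ⟨-, r', e', b', h, F'⟩ := frame_std F hna hab
  exact ⟨k, r', e', a, b', h, F'⟩

end CfsgLib.Invol
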