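import Cfsg.Agent.Lib.Invol.BaerSuzuki

/-!
# Baer–Suzuki for subgroups
-/

namespace CfsgLib.Invol

variable {G : Type*} [Group G] [Finite G] {p : ℕ} [Fact p.Prime]

theorem exists_normal_pGroup_le (X : Subgroup G)
    (h : ∀ g : G, IsPGroup p ↥(X ⊔ X.map (MulAut.conj g).toMonoidHom)) :
    ∃ N : Subgroup G, N.Normal ∧ IsPGroup p N ∧ X ≤ N := by
  classical
  obtain ⟨P⟩ := (inferInstance : Nonempty (Sylow p G))
  refine ⟨(P : Subgroup G).normalCore, inferInstance, P.2.to_le (Subgroup.normalCore_le _), fun x hx => ?_⟩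
  obtain ⟨N, hN, hp, hmem⟩ := exists_normal_pGroup_mem (p := p) (x := x) fun g => (h g).to_le
    ((Subgroup.closure_le _).2 fun z hz => by
      rcases hz with rfl | rfl
      · exact Subgroup.mem_sup_left hx
      · exact Subgroup.mem_sup_right ⟨x, hx, rfl⟩)
  have hNP : N ≤ (P : Subgroup G) := by
    obtain ⟨k, hk⟩ := exists_conj_le_sylow hp P
    intro n hn
    have h1 := hk _ (hN.conj_mem n hn k⁻¹)
    have h2 : n ∈ P := by simpa [mul_assoc] using h1
    exact h2
  exact Subgroup.normal_le_normalCore.2 hNP hmem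

end CfsgLib.Invol
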