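import Cfsg.Agent.Lib.Invol.DihedralSubgroup
import Cfsg.Agent.Lib.Invol.KleinPair

/-!
# Dihedral Sylow 2-subgroups
-/

set_option autoImplicit false

namespace CfsgLib.Invol

open DihedralGroup

/-- At most one nonzero residue is killed by two. -/
theorem add_self_eq_zero_unique {m : ℕ} [NeZero m] {i j : ZMod m} (hi : i + i = 0) (hj : j + j = 0)
    (hi0 : i ≠ 0) (hj0 : j ≠ 0) : i = j := by
  have key : ∀ k : ZMod m, k + k = 0 → k ≠ 0 → k.val * 2 = m := by
    intro k hk hk0
    have h1 := congrArg ZMod.val hk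
    rw [ZMod.val_add, ZMod.val_zero] at h1
    have h2 := ZMod.val_lt k
    have h3 : k.val ≠ 0 := fun e => hk0 ((ZMod.val_eq_zero k).1 e)
    obtain ⟨c, hc⟩ := Nat.dvd_of_mod_eq_zero h1
    rcases c with _ | _ | c
    · omega
    · omega
    · rw [Nat.mul_add, Nat.mul_add] at hc; omega
  exact ZMod.val_injective m (by have := key i hi hi0; have := key j hj hj0; omega)

/-- The centralizer of a reflection has at most four elements. -/
theorem card_centralizer_sr_le {m : ℕ} [NeZero m] (i : ZMod m) :
    Nat.card {x : DihedralGroup m // x * sr i = sr i * x} ≤ 4 := by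
  classical
  let Φ : {x : DihedralGroup m // x * sr i = sr i * x} → Bool × Bool := fun x =>
    match x.1 with
    | .r j => (true, decide (j = 0))
    | .sr j => (false, decide (j = i))
  refine le_of_le_of_eq (Nat.card_le_card_of_injective Φ ?_) (by simp)
  rintro ⟨x, hx⟩ ⟨y, hy⟩ h
  apply Subtype.ext
  cases x with
  | r a =>
    cases y with
    | r b =>
      simp only [Φ, Prod.mk.injEq, decide_eq_decide, true_and] at h
      simp only [r_mul_sr, sr_mul_r, DihedralGroup.sr.injEq] at hx hy
      have ha : a + a = 0 := by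
        have h1 := congrArg (fun t => i - t) hx
        simp only [sub_sub_cancel, sub_add_cancel_left] at h1
        exact add_eq_zero_iff_eq_neg.2 h1
      have hb : b + b = 0 := by
        have h1 := congrArg (fun t => i - t) hy
        simp only [sub_sub_cancel, sub_add_cancel_left] at h1
        exact add_eq_zero_iff_eq_neg.2 h1
      by_cases ha0 : a = 0
      · show DihedralGroup.r a = DihedralGroup.r b
        rw [ha0, h.1 ha0]
      · show DihedralGroup.r a = DihedralGroup.r b
        rw [add_self_eq_zero_unique ha hb ha0 fun e => ha0 (h.2 e)]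
    | sr b => simp [Φ] at h
  | sr a =>
    cases y with
    | r b => simp [Φ] at h
    | sr b =>
      simp only [Φ, Prod.mk.injEq, decide_eq_decide, true_and] at h
      simp only [sr_mul_sr, DihedralGroup.r.injEq] at hx hy
      have ha : (a - i) + (a - i) = 0 := by
        rw [← sub_eq_zero] at hx; rw [← neg_eq_zero, ← hx]; abel
      have hb : (b - i) + (b - i) = 0 := by
        rw [← sub_eq_zero] at hy; rw [← neg_eq_zero, ← hy]; abel
      by_cases ha0 : a = i
      · show DihedralGroup.sr a = DihedralGroup.sr b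
        rw [ha0, h.1 ha0]
      · show DihedralGroup.sr a = DihedralGroup.sr b
        have := add_self_eq_zero_unique ha hb (sub_ne_zero.2 ha0)
          (sub_ne_zero.2 fun e => ha0 (h.2 e))
        rw [sub_left_inj.1 this]

/-- In a subgroup of a dihedral group only four elements commute with two distinct commuting
involutions. -/
theorem mem_four_of_commute {H : Type*} [Group H] {m : ℕ} [NeZero m] {φ : H →* DihedralGroup m}
    (hφ : Function.Injective φ) {a b : H} (ha : orderOf a = 2) (hb : orderOf b = 2) (hab : a ≠ b)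
    (hc : Commute a b) {x : H} (hxa : Commute x a) (hxb : Commute x b) :
    x = 1 ∨ x = a ∨ x = b ∨ x = a * b := by
  classical
  have hsr : (∃ i, φ a = sr i) ∨ ∃ i, φ b = sr i := by
    by_contra h
    push Not at h
    obtain ⟨i, hi⟩ : ∃ i, φ a = r i := by
      cases e : φ a with
      | r i => exact ⟨i, rfl⟩
      | sr i => exact absurd e (h.1 i)
    obtain ⟨j, hj⟩ : ∃ j, φ b = r j := by
      cases e : φ b with
      | r i => exact ⟨i, rfl⟩
      | sr i => exact absurd e (h.2 i)
    have hs : ∀ (u : H) (k : ZMod m), φ u = r k → orderOf u = 2 → k + k = 0 ∧ k ≠ 0 := by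
      intro u k hk hu
      refine ⟨?_, fun h0 => invol_ne_one hu (hφ ?_)⟩
      · have h1 := congrArg φ (invol_mul_self hu)
        rw [map_mul, map_one, hk, r_mul_r, one_def, DihedralGroup.r.injEq] at h1
        exact h1
      · rw [hk, h0, map_one, one_def]
    refine hab (hφ ?_)
    rw [hi, hj, add_self_eq_zero_unique (hs a i hi ha).1 (hs b j hj hb).1 (hs a i hi ha).2
      (hs b j hj hb).2]
  wlog hai : ∃ i, φ a = sr i generalizing a b
  · rcases this hb ha hab.symm hc.symm hxb hxa hsr.symm (hsr.resolve_left hai) with h | h | h | h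
    · exact Or.inl h
    · exact Or.inr (Or.inr (Or.inl h))
    · exact Or.inr (Or.inl h)
    · exact Or.inr (Or.inr (Or.inr (h.trans hc.eq.symm)))
  obtain ⟨i, hi⟩ := hai
  let T := {y : DihedralGroup m // y * sr i = sr i * y}
  have hmem : ∀ u, Commute u a → φ u * sr i = sr i * φ u := fun u hu => by
    rw [← hi, ← map_mul, ← map_mul, hu.eq]
  by_contra hne
  push Not at hne
  let g : Fin 5 → H := ![1, a, b, a * b, x]
  have hg : ∀ k, Commute (g k) a := by
    intro k
    fin_cases k
    exacts [Commute.one_left a, Commute.refl a, hc.symm, (Commute.refl a).mul_left hc.symm, hxa]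
  have hginj : Function.Injective g := by
    have h1 : a * b ≠ 1 := fun e => hab (by
      rw [← invol_inv hb]; exact eq_inv_of_mul_eq_one_left e)
    have h2 : a ≠ a * b := fun e => invol_ne_one hb (mul_eq_left.1 e.symm)
    have h3 : b ≠ a * b := fun e => invol_ne_one ha (mul_eq_right.1 e.symm)
    intro p q hpq
    fin_cases p <;> fin_cases q <;> simp [g, hab, hab.symm, invol_ne_one ha,
      invol_ne_one hb, (invol_ne_one ha).symm, (invol_ne_one hb).symm, h1, h1.symm, h2, h2.symm, h3,
      h3.symm, hne.1, hne.1.symm, hne.2.1, hne.2.1.symm, hne.2.2.1, hne.2.2.1.symm, hne.2.2.2,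
      hne.2.2.2.symm] at hpq ⊢
  let f : Fin 5 → T := fun k => ⟨φ (g k), hmem _ (hg k)⟩
  have hinj : Function.Injective f := fun p q e => hginj (hφ (congrArg Subtype.val e))
  have hbound := (Nat.card_le_card_of_injective f hinj).trans (card_centralizer_sr_le i)
  rw [Nat.card_fin] at hbound
  omega

/-- A subgroup of a dihedral group with a nontrivial automorphism of odd order is a four-group. -/
theorem aut_eq_one_or_isKleinFour {H : Type*} [Group H] [Finite H] (hH : IsPGroup 2 H) {m : ℕ}
    [NeZero m] (φ : H →* DihedralGroup m) (hφ : Function.Injective φ) (σ : MulAut H) {n : ℕ}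
    (hn : Odd n) (hσ : σ ^ n = 1) : σ = 1 ∨ IsKleinFour H := by
  haveI : Fact (Nat.Prime 2) := ⟨Nat.prime_two⟩
  refine or_iff_not_imp_left.2 fun hne => ?_
  have hnofix : ∀ t : H, orderOf t = 2 → σ t ≠ t := fun t ht h =>
    hne (aut_eq_one_of_dihedral hH φ hφ σ hn hσ ht h)
  haveI : Nontrivial H := by
    by_contra h
    rw [not_nontrivial_iff_subsingleton] at h
    exact hne (MulEquiv.ext fun x => Subsingleton.elim _ _)
  haveI := hH.center_nontrivial
  have hd : 2 ∣ Nat.card (Subgroup.center H) := by
    obtain ⟨k, hk⟩ := (hH.to_subgroup (Subgroup.center H)).exists_card_eq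
    rw [hk]
    refine dvd_pow_self 2 fun h0 => ?_
    rw [h0, pow_zero, Subgroup.card_eq_one] at hk
    exact (Subgroup.nontrivial_iff_ne_bot _).1 inferInstance hk
  obtain ⟨⟨t, htZ⟩, ht⟩ := exists_prime_orderOf_dvd_card' 2 hd
  rw [Subgroup.orderOf_mk] at ht
  have hu : orderOf (σ t) = 2 := by rw [MulEquiv.orderOf_eq, ht]
  have hcomm : Commute t (σ t) := (Subgroup.mem_center_iff.1 htZ (σ t)).symm
  have huZ : ∀ x, Commute x (σ t) := fun x => by
    have := (show Commute (σ.symm x) t from Subgroup.mem_center_iff.1 htZ _).map σ.toMonoidHom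
    simpa using this
  have hne' : t ≠ σ t := (hnofix t ht).symm
  have hmem : ∀ x : H, x ∈ Subgroup.closure ({t, σ t} : Set H) := fun x => by
    rcases mem_four_of_commute hφ ht hu hne' hcomm (Subgroup.mem_center_iff.1 htZ x) (huZ x) with
      rfl | rfl | rfl | rfl
    · exact one_mem _
    · exact Subgroup.subset_closure (by simp)
    · exact Subgroup.subset_closure (by simp)
    · exact mul_mem (Subgroup.subset_closure (by simp)) (Subgroup.subset_closure (by simp))
  have hK := isKleinFour_closure_pair ht hu hne' hcomm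
  rw [(Subgroup.eq_top_iff' _).2 hmem] at hK
  exact ⟨by rw [← Subgroup.card_top (G := H)]; exact hK.card_four,
    by rw [← Monoid.exponent_eq_of_mulEquiv (Subgroup.topEquiv (G := H))]; exact hK.exponent_two⟩

/-- A dihedral 2-group has even rotation subgroup. -/
theorem dihedral_two_dvd {G : Type*} [Group G] [Finite G] {S : Sylow 2 G} {m : ℕ} (hm : 2 ≤ m)
    (eS : (S : Subgroup G) ≃* DihedralGroup m) : 2 ∣ m := by
  haveI : NeZero m := ⟨by omega⟩
  haveI : Fact (Nat.Prime 2) := ⟨Nat.prime_two⟩
  obtain ⟨k, hk⟩ := S.2.exists_card_eq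
  rw [Nat.card_congr eS.toEquiv, Nat.card_eq_fintype_card, DihedralGroup.card] at hk
  rcases k with _ | _ | k
  · omega
  · omega
  · exact ⟨2 ^ k, Nat.eq_of_mul_eq_mul_left two_pos (by rw [hk]; ring)⟩

/-- A dihedral Sylow 2-subgroup has a central involution `c` and an involution different from it. -/
theorem exists_dihedral_invols {G : Type*} [Group G] [Finite G] {S : Sylow 2 G} {m : ℕ}
    (hm : 2 ≤ m) (eS : (S : Subgroup G) ≃* DihedralGroup m) :
    ∃ c b : G, c ∈ S ∧ b ∈ S ∧ orderOf c = 2 ∧ orderOf b = 2 ∧ b ≠ c ∧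
      ∀ x ∈ S, Commute x c := by
  haveI : NeZero m := ⟨by omega⟩
  obtain ⟨h, rfl⟩ := dihedral_two_dvd hm eS
  set i : ZMod (2 * h) := ((h : ℕ) : ZMod (2 * h)) with hi
  have hii : i + i = 0 := by
    rw [hi, ← Nat.cast_add, ← two_mul]
    exact ZMod.natCast_self _
  have hi0 : i ≠ 0 := by
    rw [hi, Ne, ZMod.natCast_eq_zero_iff]
    intro hd
    have := Nat.le_of_dvd (by omega) hd
    omega
  have hc : ∀ d : DihedralGroup (2 * h), d * r i = r i * d := by
    have hneg : -i = i := by rw [← add_eq_zero_iff_neg_eq]; exact hii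
    rintro (j | j)
    · rw [r_mul_r, r_mul_r, add_comm]
    · rw [sr_mul_r, r_mul_sr, sub_eq_add_neg, hneg]
  have hord : ∀ d : DihedralGroup (2 * h), orderOf ((eS.symm d : (S : Subgroup G)) : G) = orderOf d :=
    fun d => by rw [Subgroup.orderOf_coe, MulEquiv.orderOf_eq]
  refine ⟨eS.symm (r i), eS.symm (sr 0), SetLike.coe_mem _, SetLike.coe_mem _, ?_, ?_, ?_, ?_⟩
  · rw [hord, invol_iff, r_mul_r, hii, one_def]
    exact ⟨rfl, fun e => hi0 (DihedralGroup.r.inj e)⟩
  · rw [hord, orderOf_sr]
  · intro e
    have := eS.symm.injective (Subtype.ext e)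
    simp at this
  · intro x hx
    have h1 : (⟨x, hx⟩ : (S : Subgroup G)) * eS.symm (r i) = eS.symm (r i) * ⟨x, hx⟩ := by
      apply eS.injective
      rw [map_mul, map_mul, MulEquiv.apply_symm_apply]
      exact hc _
    exact congrArg Subtype.val h1

/-- The elements of the four-group spanned by two commuting involutions. -/
theorem mem_klein {G : Type*} [Group G] [Finite G] {a b : G} (ha : orderOf a = 2)
    (hb : orderOf b = 2) (hab : a ≠ b) (hc : Commute a b) {x : G}
    (hx : x ∈ Subgroup.closure ({a, b} : Set G)) : x = 1 ∨ x = a ∨ x = b ∨ x = a * b := by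
  classical
  have haU : a ∈ Subgroup.closure ({a, b} : Set G) := Subgroup.subset_closure (by simp)
  have hbU : b ∈ Subgroup.closure ({a, b} : Set G) := Subgroup.subset_closure (by simp)
  let g : Fin 5 → Subgroup.closure ({a, b} : Set G) :=
    ![1, ⟨a, haU⟩, ⟨b, hbU⟩, ⟨a * b, mul_mem haU hbU⟩, ⟨x, hx⟩]
  by_contra hne
  push Not at hne
  have hginj : Function.Injective g := by
    have h1 : a * b ≠ 1 := fun e => hab (by
      rw [← invol_inv hb]; exact eq_inv_of_mul_eq_one_left e)
    have h2 : a ≠ a * b := fun e => invol_ne_one hb (mul_eq_left.1 e.symm)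
    have h3 : b ≠ a * b := fun e => invol_ne_one ha (mul_eq_right.1 e.symm)
    intro p q hpq
    have hval := congrArg Subtype.val hpq
    fin_cases p <;> fin_cases q <;> simp [g, hab, hab.symm, invol_ne_one ha,
      invol_ne_one hb, (invol_ne_one ha).symm, (invol_ne_one hb).symm, h1, h1.symm, h2, h2.symm, h3,
      h3.symm, hne.1, hne.1.symm, hne.2.1, hne.2.1.symm, hne.2.2.1, hne.2.2.1.symm, hne.2.2.2,
      hne.2.2.2.symm] at hval ⊢
  have h := Nat.card_le_card_of_injective g hginj
  rw [(isKleinFour_closure_pair ha hb hab hc).card_four, Nat.card_fin] at h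
  omega

end CfsgLib.Invol
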