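import Cfsg.Agent.Lib.Invol.Basic
import Mathlib.GroupTheory.SpecificGroups.Cyclic
import Mathlib.GroupTheory.SpecificGroups.Dihedral
import Mathlib.GroupTheory.Index
import Mathlib.GroupTheory.PGroup

/-!
# Odd automorphisms of subgroups of dihedral 2-groups
-/

set_option autoImplicit false

namespace CfsgLib.Invol

variable {H : Type*} [Group H] [Finite H]

/-- An automorphism of odd order of a 2-group that fixes pointwise a subgroup of index at most two
is trivial. -/
theorem aut_eq_one_of_fix_index_two (hH : IsPGroup 2 H) (σ : MulAut H) {m : ℕ} (hm : Odd m)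
    (hσ : σ ^ m = 1) (K : Subgroup H) (hK : ∀ x y : H, x ∉ K → y ∉ K → x⁻¹ * y ∈ K)
    (hfix : ∀ k ∈ K, σ k = k) : σ = 1 := by
  ext x
  show σ x = x
  by_cases hx : x ∈ K
  · exact hfix x hx
  have hσx : σ x ∉ K := fun h => hx (by
    have := σ.injective (hfix _ h)
    rwa [this] at h)
  set k0 := x⁻¹ * σ x with hk0
  have hk : k0 ∈ K := hK x _ hx hσx
  have it : ∀ i : ℕ, (σ ^ i) x = x * k0 ^ i := by
    intro i
    induction i with
    | zero => simp
    | succ i ih =>
      rw [pow_succ', MulAut.mul_apply, ih, map_mul, map_pow, hfix k0 hk, pow_succ', ← mul_assoc,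
        ← mul_assoc, hk0, mul_inv_cancel, one_mul]
  have h1 : k0 ^ m = 1 := by
    have := it m
    rw [hσ, MulAut.one_apply, left_eq_mul] at this
    exact this
  obtain ⟨j, hj⟩ := hH k0
  have h2 : k0 = 1 := orderOf_eq_one_iff.1 (Nat.eq_one_of_dvd_coprimes
    (Nat.Coprime.pow_right j hm.coprime_two_right) (orderOf_dvd_of_pow_eq_one h1)
    (orderOf_dvd_of_pow_eq_one hj))
  exact (inv_mul_eq_one.1 h2).symm

/-- An automorphism of odd order of a cyclic 2-group is trivial. -/
theorem aut_eq_one_of_cyclic_two_group {K : Type*} [Group K] [Finite K] [IsCyclic K]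
    (hK : IsPGroup 2 K) (σ : MulAut K) {m : ℕ} (hm : Odd m) (hσ : σ ^ m = 1) : σ = 1 := by
  have h1 : orderOf σ ∣ m := orderOf_dvd_of_pow_eq_one hσ
  have h2 : orderOf σ ∣ Nat.totient (Nat.card K) := by
    rw [← IsCyclic.card_mulAut]
    exact orderOf_dvd_natCard σ
  obtain ⟨k, hk⟩ := hK.exists_card_eq
  have h3 : orderOf σ ∣ 2 ^ k := by
    rcases k with _ | k
    · simpa [hk] using h2
    · rw [hk, Nat.totient_prime_pow_succ Nat.prime_two] at h2
      exact h2.trans (Dvd.intro 2 (by rw [show (2 : ℕ) - 1 = 1 from rfl, mul_one, pow_succ]))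
  exact orderOf_eq_one_iff.1 (Nat.eq_one_of_dvd_coprimes
    (Nat.Coprime.pow_right k hm.coprime_two_right) h1 h3)

/-- An automorphism of odd order of a 2-subgroup of a dihedral group fixing an involution is
trivial. -/
theorem aut_eq_one_of_dihedral (hH : IsPGroup 2 H) {n : ℕ} [NeZero n]
    (φ : H →* DihedralGroup n) (hφ : Function.Injective φ) (σ : MulAut H) {m : ℕ} (hm : Odd m)
    (hσ : σ ^ m = 1) {t : H} (ht : orderOf t = 2) (hfix : σ t = t) : σ = 1 := by
  set K := (Subgroup.zpowers (DihedralGroup.r (1 : ZMod n))).comap φ with hK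
  have hr : ∀ i : ZMod n, DihedralGroup.r i ∈ Subgroup.zpowers (DihedralGroup.r (1 : ZMod n)) :=
    fun i => ⟨(i.val : ℤ), by simp [zpow_natCast]⟩
  have hsr : ∀ x, x ∉ K → ∃ i, φ x = DihedralGroup.sr i := by
    intro x hx
    cases h : φ x with
    | r i => exact absurd (show φ x ∈ _ from h ▸ hr i) hx
    | sr i => exact ⟨i, rfl⟩
  have hK2 : ∀ x y : H, x ∉ K → y ∉ K → x⁻¹ * y ∈ K := by
    intro x y hx hy
    obtain ⟨i, hi⟩ := hsr x hx
    obtain ⟨j, hj⟩ := hsr y hy
    show φ (x⁻¹ * y) ∈ Subgroup.zpowers (DihedralGroup.r (1 : ZMod n))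
    rw [map_mul, map_inv, hi, hj, DihedralGroup.inv_sr, DihedralGroup.sr_mul_sr]
    exact hr _
  haveI hcyc : IsCyclic K := isCyclic_of_injective (φ.subgroupComap _)
    (fun a b h => Subtype.ext (hφ (congrArg Subtype.val h)))
  by_cases hex : ∀ k : K, k ^ 2 = 1
  · have hc : Nat.card K ∣ 2 := by
      rw [← IsCyclic.exponent_eq_card (α := K)]
      exact Monoid.exponent_dvd_of_forall_pow_eq_one hex
    have hi : K.index ≤ 2 := by
      rw [Subgroup.index_eq_card]
      by_cases hK' : K = ⊤
      · rw [hK']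
        rw [← Subgroup.index_eq_card, Subgroup.index_top]
        norm_num
      obtain ⟨x, -, hx⟩ := SetLike.exists_of_lt (lt_top_iff_ne_top.2 hK')
      have hsurj : Function.Surjective (fun b : Bool => if b then (x : H ⧸ K) else ((1 : H) : H ⧸ K)) := by
        intro q
        obtain ⟨y, rfl⟩ := QuotientGroup.mk_surjective q
        by_cases hy : y ∈ K
        · exact ⟨false, by simpa [QuotientGroup.eq] using hy⟩
        · exact ⟨true, by simpa [QuotientGroup.eq] using hK2 x y hx hy⟩
      exact le_of_le_of_eq (Nat.card_le_card_of_surjective _ hsurj) (by simp)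
    have hH4 : Nat.card H ≤ 4 := by
      rw [← K.card_mul_index]
      exact le_trans (Nat.mul_le_mul (Nat.le_of_dvd (by norm_num) hc) hi) (by norm_num)
    set T := Subgroup.zpowers t with hT
    have hT2 : Nat.card T = 2 := by rw [hT, Nat.card_zpowers, ht]
    refine aut_eq_one_of_fix_index_two hH σ hm hσ T (fun x y hx hy => ?_) fun k hk => ?_
    · have h2 : T.index = 2 := by
        have h := T.card_mul_index
        rw [hT2] at h
        have h1 : T.index ≠ 1 := fun h1 => hx ((Subgroup.index_eq_one.1 h1).ge (Subgroup.mem_top x))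
        have h0 : T.index ≠ 0 := Subgroup.index_ne_zero_of_finite
        omega
      rw [Subgroup.mul_mem_iff_of_index_two h2, inv_mem_iff]
      exact iff_of_false hx hy
    · obtain ⟨i, rfl⟩ := Subgroup.mem_zpowers_iff.1 hk
      rw [map_zpow, hfix]
  · push Not at hex
    obtain ⟨g, hg⟩ := IsCyclic.exists_generator (α := K)
    have hmap : ∀ k ∈ K, σ k ∈ K := by
      intro k hk
      obtain ⟨i, hi⟩ := Subgroup.mem_zpowers_iff.1 (hg ⟨k, hk⟩)
      have hki : k = (g : H) ^ i := by
        have := congrArg Subtype.val hi; push_cast at this; exact this.symm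
      rw [hki, map_zpow]
      refine zpow_mem ?_ i
      by_contra hgK
      obtain ⟨j, hj⟩ := hsr _ hgK
      have h2 : φ (σ (g : H) ^ 2) = 1 := by
        rw [map_pow, hj, pow_two, DihedralGroup.sr_mul_self]
      rw [← map_pow, ← map_one φ] at h2
      have h3 : (g : H) ^ 2 = 1 := σ.injective ((hφ h2).trans (map_one σ).symm)
      obtain ⟨a, ha⟩ := hex
      obtain ⟨b, rfl⟩ := Subgroup.mem_zpowers_iff.1 (hg a)
      refine ha ?_
      rw [← zpow_natCast, zpow_comm, zpow_natCast,
        show g ^ 2 = 1 from Subtype.ext (by simpa using h3), one_zpow]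
    let e : K →* K :=
      { toFun := fun k => ⟨σ k, hmap k k.2⟩
        map_one' := Subtype.ext (map_one σ)
        map_mul' := fun a b => Subtype.ext (map_mul σ (a : H) (b : H)) }
    have he : Function.Bijective e := Finite.injective_iff_bijective.1 fun a b h =>
      Subtype.ext (σ.injective (congrArg Subtype.val h))
    let σK : MulAut K := MulEquiv.ofBijective e he
    have hit : ∀ (i : ℕ) (k : K), (((σK ^ i) k : K) : H) = (σ ^ i) (k : H) := by
      intro i
      induction i with
      | zero => simp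
      | succ i ih => intro k; rw [pow_succ', pow_succ', MulAut.mul_apply, MulAut.mul_apply, ← ih]; rfl
    have h1 : σK = 1 := aut_eq_one_of_cyclic_two_group (hH.to_subgroup K) σK hm
      (MulEquiv.ext fun k => Subtype.ext (by rw [hit, hσ]; rfl))
    refine aut_eq_one_of_fix_index_two hH σ hm hσ K hK2 fun k hk => ?_
    exact congrArg (fun s : MulAut K => ((s ⟨k, hk⟩ : K) : H)) h1

end CfsgLib.Invol
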