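import Cfsg.Agent.Lib.Invol.QuasiDihedralSubgroups
import Mathlib.GroupTheory.Frattini

/-!
# Maximal and normal subgroups of quasidihedral groups
-/

set_option autoImplicit false

namespace CfsgLib.Invol

open Subgroup
open scoped commutatorElement

variable {S : Type*} [Group S] [Finite S]

/-- A coatom of a 2-group has index 2. -/
theorem index_coatom_two (hS : IsPGroup 2 S) {M : Subgroup S} (hM : IsCoatom M) : M.index = 2 := by
  haveI : Fact (Nat.Prime 2) := ⟨Nat.prime_two⟩
  haveI : Group.IsNilpotent S := hS.isNilpotent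
  haveI hn : M.Normal :=
    Subgroup.NormalizerCondition.normal_of_coatom M (Group.normalizerCondition_of_isNilpotent (G := S)) hM
  obtain ⟨j, hj⟩ := (hS.to_quotient M).exists_card_eq
  have hj0 : j ≠ 0 := fun e => hM.1 (Subgroup.index_eq_one.1 (by rw [Subgroup.index_eq_card, hj, e, pow_zero]))
  obtain ⟨x, hx⟩ := exists_prime_orderOf_dvd_card' (G := S ⧸ M) 2 (hj ▸ dvd_pow_self 2 hj0)
  set K := (Subgroup.zpowers x).comap (QuotientGroup.mk' M)
  have hMK : M ≤ K := fun y hy => by
    show QuotientGroup.mk' M y ∈ Subgroup.zpowers x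
    rw [show QuotientGroup.mk' M y = 1 from (QuotientGroup.eq_one_iff y).2 hy]; exact one_mem _
  rcases hM.le_iff.1 hMK with h | h
  · have h1 : Subgroup.zpowers x = ⊤ := by
      rw [← Subgroup.index_eq_one, ← Subgroup.index_comap_of_surjective (f := QuotientGroup.mk' M) _
        (QuotientGroup.mk'_surjective M)]
      show K.index = 1
      rw [h, Subgroup.index_top]
    rw [Subgroup.index_eq_card, ← Subgroup.card_top (G := S ⧸ M), ← h1, Nat.card_zpowers, hx]
  · exfalso
    obtain ⟨y, hy⟩ := QuotientGroup.mk'_surjective M x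
    have hyK : y ∈ K := by show QuotientGroup.mk' M y ∈ Subgroup.zpowers x; rw [hy]; exact Subgroup.mem_zpowers x
    rw [h] at hyK
    rw [show QuotientGroup.mk' M y = 1 from (QuotientGroup.eq_one_iff y).2 hyK] at hy
    rw [← hy, orderOf_one] at hx
    omega

theorem isCoatom_of_index_two {M : Subgroup S} (hM : M.index = 2) : IsCoatom M := by
  refine ⟨fun e => by rw [e, Subgroup.index_top] at hM; omega, fun K hK => ?_⟩
  have h := Subgroup.index_dvd_of_le hK.le
  rw [hM] at h
  rcases (Nat.dvd_prime Nat.prime_two).1 h with h1 | h1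
  · exact Subgroup.index_eq_one.1 h1
  · exfalso
    have h2 := Subgroup.relIndex_mul_index hK.le
    rw [hM, h1] at h2
    exact hK.not_ge (Subgroup.relIndex_eq_one.1 (by omega))

namespace QDFrame

variable {h : ℤ} {a b : S}

theorem rot_conj (i j : ℤ) : a ^ j * a ^ i * (a ^ j)⁻¹ = a ^ i := by
  rw [((Commute.refl a).zpow_zpow j i).eq, mul_inv_cancel_right]

/-- The derived subgroup is generated by `a²`. -/
theorem commutator_eq (Q : QDFrame h a b) : commutator S = Subgroup.zpowers (a ^ (2 : ℤ)) := by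
  obtain ⟨N, hN, F⟩ := Q.frame
  refine le_antisymm ?_ (Subgroup.zpowers_le.2 ?_)
  · refine (commutator_le_zpowers_frame F).trans (Subgroup.zpowers_le.2 ?_)
    exact Subgroup.mem_zpowers_iff.2 ⟨h - 1, by rw [← zpow_mul]; ring_nf⟩
  · have h1 : a ^ (2 * (h - 1)) ∈ commutator S := by
      have : ⁅b, a⁆ = a ^ (2 * (h - 1)) := by
        rw [commutatorElement_def, F.conj, ← zpow_sub_one]; ring_nf
      exact this ▸ Subgroup.commutator_mem_commutator (Subgroup.mem_top b) (Subgroup.mem_top a)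
    obtain ⟨u, rfl⟩ := Q.even
    have h2 := zpow_mem h1 (2 * u - 1)
    rw [← zpow_mul] at h2
    have h3 : a ^ (2 * (2 * u - 1) * (2 * u - 1)) = a ^ (2 : ℤ) :=
      Q.zpow_eq_iff.2 ⟨1 - u, by ring⟩
    rwa [h3] at h2

theorem sq_mem_sq (Q : QDFrame h a b) (g : S) : g * g ∈ Subgroup.zpowers (a ^ (2 : ℤ)) := by
  obtain ⟨l, rfl | rfl⟩ := Q.exists_eq g
  · exact Subgroup.mem_zpowers_iff.2 ⟨l, by rw [← zpow_mul, ← zpow_add]; ring_nf⟩
  · exact Subgroup.mem_zpowers_iff.2 ⟨h * l, by rw [← zpow_mul, ← pow_two, Q.ref_sq]; ring_nf⟩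

/-- The three maximal subgroups. -/
theorem coatom_cases (Q : QDFrame h a b) (hS : IsPGroup 2 S) {M : Subgroup S} (hM : IsCoatom M) :
    M = Subgroup.zpowers a ∨ ∀ U : Subgroup S, ∀ i : ℤ, i = 0 ∨ i = 1 → a ^ i * b ∈ M →
      (∀ j : ℤ, a ^ j ∈ U ↔ 2 ∣ j) → (∀ j : ℤ, a ^ j * b ∈ U ↔ 2 ∣ j - i) → M = U := by
  obtain ⟨N, hN, F⟩ := Q.frame
  have hidx := index_coatom_two hS hM
  have hsq : ∀ g : S, g * g ∈ M := fun g => Subgroup.mul_self_mem_of_index_two hidx g
  have ha2 : ∀ l : ℤ, a ^ (2 * l) ∈ M := fun l => by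
    have := hsq (a ^ l); rwa [← zpow_add, ← two_mul] at this
  by_cases ha : a ∈ M
  · refine Or.inl ?_
    rcases (isCoatom_of_index_two F.index_two).le_iff.1 (Subgroup.zpowers_le.2 ha) with h' | h'
    · exact absurd h' hM.1
    · exact h'
  · refine Or.inr fun U i _ hi h1 h2 => ?_
    ext x
    obtain ⟨j, rfl | rfl⟩ := F.exists_eq x
    · rw [h1]
      refine ⟨fun hx => ?_, fun ⟨l, hl⟩ => hl ▸ ha2 l⟩
      by_contra hj
      have : a ∈ M := by
        have h' := mul_mem hx (ha2 (-(j / 2)))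
        rwa [← zpow_add, show j + 2 * -(j / 2) = 1 by omega, zpow_one] at h'
      exact ha this
    · rw [h2]
      have hji : a ^ (j - i) * (a ^ i * b) = a ^ j * b := by
        rw [CyclicFrame.rot_mul_ref, sub_add_cancel]
      refine ⟨fun hx => ?_, fun ⟨l, hl⟩ => ?_⟩
      · by_contra hj
        have h' : a ^ (j - i) ∈ M := by
          have := mul_mem hx (inv_mem hi)
          rwa [← hji, mul_inv_cancel_right] at this
        have h'' := mul_mem h' (ha2 (-((j - i) / 2)))
        rw [← zpow_add, show j - i + 2 * -((j - i) / 2) = 1 by omega, zpow_one] at h''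
        exact ha h''
      · rw [← hji, hl]; exact mul_mem (ha2 l) hi

theorem frattini_eq (Q : QDFrame h a b) (hS : IsPGroup 2 S) :
    frattini S = Subgroup.zpowers (a ^ (2 : ℤ)) := by
  obtain ⟨N, hN, F⟩ := Q.frame
  obtain ⟨U, hU1, hU2, hU3⟩ := Q.exists_sub (i := 0) (d := 2) (dvd_mul_right 2 h)
  have hUi : U.index = 2 := by
    have hh := Q.two_le
    have := U.card_mul_index
    rw [hU3 (2 * h).toNat (by rw [Int.toNat_of_nonneg (by omega)]; ring), F.card] at this
    have hN' : N = 2 * (2 * h).toNat := by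
      zify
      rw [Int.toNat_of_nonneg (by omega), hN]; ring
    rw [hN'] at this
    exact Nat.eq_of_mul_eq_mul_left (n := 2 * (2 * h).toNat) (by omega) (by rw [this]; ring)
  refine le_antisymm ?_ ?_
  · intro x hx
    have h1 := frattini_le_coatom (isCoatom_of_index_two F.index_two) hx
    have h2 := frattini_le_coatom (isCoatom_of_index_two hUi) hx
    obtain ⟨j, rfl⟩ := Subgroup.mem_zpowers_iff.1 h1
    obtain ⟨l, rfl⟩ := (hU1 j).1 h2
    rw [zpow_mul]; exact Subgroup.zpow_mem_zpowers _ _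
  · rw [frattini, Order.radical]
    refine le_iInf₂ fun M hM => Subgroup.zpowers_le.2 ?_
    have := Subgroup.mul_self_mem_of_index_two (index_coatom_two hS hM) (a ^ (1 : ℤ))
    rwa [← zpow_add] at this

end QDFrame

end CfsgLib.Invol
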