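import Cfsg.Agent.Lib.Invol.SmallSimple

/-!
# Simple groups of order 60
-/

namespace CfsgLib.Invol

variable {G : Type*} [Group G] [Finite G] [IsSimpleGroup G]

theorem not_comm_of_card_sixty (h : Nat.card G = 60) : ¬ IsMulCommutative G := by
  intro hc
  have : Fact (Nat.Prime 5) := ⟨by norm_num⟩
  obtain ⟨x, hx⟩ := exists_prime_orderOf_dvd_card' (G := G) 5 (by omega)
  have hn : (Subgroup.zpowers x).Normal :=
    ⟨fun n hn g => by rwa [hc.is_comm.comm g n, mul_inv_cancel_right]⟩
  have hc5 : Nat.card (Subgroup.zpowers x) = 5 := by rw [Nat.card_zpowers, hx]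
  rcases IsSimpleGroup.eq_bot_or_eq_top_of_normal _ hn with h1 | h1
  · rw [h1, Subgroup.card_bot] at hc5; omega
  · rw [h1, Subgroup.card_top] at hc5; omega

theorem five_le_index (h : Nat.card G = 60) {H : Subgroup G} (hH : H ≠ ⊤) : 5 ≤ H.index := by
  have hne : ∃ (g : G) (a : G ⧸ H), g • a ≠ a := by
    by_contra hc
    push Not at hc
    apply hH
    rw [eq_top_iff]
    intro g _
    have h1 := hc g ((1 : G) : G ⧸ H)
    rw [MulAction.Quotient.smul_mk, QuotientGroup.eq, smul_eq_mul, mul_one, mul_one] at h1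
    simpa using inv_mem h1
  have h1 := two_mul_card_dvd_factorial (not_comm_of_card_sixty h) (α := G ⧸ H) hne
  rw [← Subgroup.index_eq_card, h] at h1
  by_contra hlt
  have : H.index ≤ 4 := by omega
  interval_cases H.index <;> simp [Nat.factorial] at h1

theorem exists_index_five (h : Nat.card G = 60) : ∃ H : Subgroup G, H.index = 5 := by
  classical
  have hG := not_comm_of_card_sixty h
  have : Fact (Nat.Prime 2) := ⟨Nat.prime_two⟩
  have : Fact (Nat.Prime 5) := ⟨by norm_num⟩
  have hPcard : ∀ P : Sylow 2 G, Nat.card (P : Subgroup G) = 4 := by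
    intro P
    obtain ⟨k, hk⟩ := P.2.exists_card_eq
    have h3 := (P : Subgroup G).card_mul_index
    have h7 := P.not_dvd_index
    rw [hk, h] at h3
    have hk5 : k ≤ 5 := by
      by_contra hc
      have h4 : (2 : ℕ) ^ 6 ≤ 2 ^ k := Nat.pow_le_pow_right (by norm_num) (by omega)
      have h5 : 0 < (P : Subgroup G).index := Nat.pos_of_ne_zero Subgroup.index_ne_zero_of_finite
      nlinarith
    interval_cases k <;> norm_num at h3 hk ⊢ <;> omega
  obtain ⟨P⟩ := (inferInstance : Nonempty (Sylow 2 G))
  have hd := P.card_dvd_index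
  have hPidx : (P : Subgroup G).index = 15 := by
    have := (P : Subgroup G).card_mul_index
    rw [hPcard, h] at this; omega
  rw [hPidx] at hd
  have hgt := one_lt_card_sylow hG (p := 2) (by omega)
  have hmem : Nat.card (Sylow 2 G) ∈ Nat.divisors 15 := Nat.mem_divisors.2 ⟨hd, by norm_num⟩
  rw [show Nat.divisors 15 = {1, 3, 5, 15} by decide] at hmem
  simp only [Finset.mem_insert, Finset.mem_singleton] at hmem
  have hnorm := P.card_eq_index_normalizer
  rcases hmem with h1 | h1 | h1 | h1
  · omega
  · exfalso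
    have hne : Subgroup.normalizer (P : Set G) ≠ ⊤ := fun ht => by
      rw [ht, Subgroup.index_top] at hnorm; omega
    have := five_le_index h hne
    omega
  · exact ⟨_, hnorm.symm.trans h1⟩
  -- fifteen Sylow 2-subgroups cannot meet pairwise trivially
  obtain ⟨Q, R, hQR, z, hzQ, hzR, hz1⟩ :
      ∃ Q R : Sylow 2 G, Q ≠ R ∧ ∃ z : G, z ∈ Q ∧ z ∈ R ∧ z ≠ 1 := by
    by_contra hc
    push Not at hc
    have := Fintype.ofFinite G
    have := Fintype.ofFinite (Sylow 2 G)
    have hF : ∀ Q : Sylow 2 G, (Finset.univ.filter fun x => x ∈ Q ∧ x ≠ 1).card = 3 := by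
      intro Q
      have : (Finset.univ.filter fun x => x ∈ Q ∧ x ≠ 1) =
          (Finset.univ.filter fun x => x ∈ (Q : Subgroup G)).erase 1 := by
        ext x
        simp only [Finset.mem_erase, Finset.mem_filter, Finset.mem_univ, true_and]
        exact and_comm
      rw [this, Finset.card_erase_of_mem (Finset.mem_filter.2 ⟨Finset.mem_univ _, one_mem _⟩),
        ← Fintype.card_subtype, ← Nat.card_eq_fintype_card]
      show Nat.card (Q : Subgroup G) - 1 = 3
      rw [hPcard]
    let S : Finset G :=
      Finset.univ.biUnion fun Q : Sylow 2 G => Finset.univ.filter fun x => x ∈ Q ∧ x ≠ 1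
    have hS : S.card = 45 := by
      simp only [S]
      rw [Finset.card_biUnion]
      · simp only [hF, Finset.sum_const, smul_eq_mul, Finset.card_univ, ← Nat.card_eq_fintype_card, h1]
      · intro Q _ R _ hQR
        simp only [Function.onFun, Finset.disjoint_filter]
        rintro x - ⟨hxQ, hx1⟩ ⟨hxR, -⟩
        exact hx1 (hc Q R hQR x hxQ hxR)
    -- six Sylow 5-subgroups
    have hQ5 : ∀ Q : Sylow 5 G, Nat.card (Q : Subgroup G) = 5 := by
      intro Q
      obtain ⟨k, hk⟩ := Q.2.exists_card_eq
      have h2 := Subgroup.card_subgroup_dvd_card (Q : Subgroup G)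
      have h3 : 5 ∣ Nat.card (Q : Subgroup G) := Q.dvd_card_of_dvd_card (by omega)
      rw [hk] at h2 h3; rw [h] at h2
      rcases k with _ | _ | k
      · norm_num at h3
      · simpa using hk
      · have := (pow_dvd_pow 5 (by omega : 2 ≤ k + 1 + 1)).trans h2; norm_num at this
    have := Fintype.ofFinite (Sylow 5 G)
    have hn5 : 6 ≤ Nat.card (Sylow 5 G) := by
      have h2 := card_sylow_modEq_one 5 G
      have h3 := one_lt_card_sylow hG (p := 5) (by omega)
      simp only [Nat.ModEq] at h2
      omega
    have hF5 : ∀ Q : Sylow 5 G, (Finset.univ.filter fun x => x ∈ Q ∧ x ≠ 1).card = 4 := by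
      intro Q
      have : (Finset.univ.filter fun x => x ∈ Q ∧ x ≠ 1) =
          (Finset.univ.filter fun x => x ∈ (Q : Subgroup G)).erase 1 := by
        ext x
        simp only [Finset.mem_erase, Finset.mem_filter, Finset.mem_univ, true_and]
        exact and_comm
      rw [this, Finset.card_erase_of_mem (Finset.mem_filter.2 ⟨Finset.mem_univ _, one_mem _⟩),
        ← Fintype.card_subtype, ← Nat.card_eq_fintype_card]
      show Nat.card (Q : Subgroup G) - 1 = 4
      rw [hQ5]
    let T : Finset G :=
      Finset.univ.biUnion fun Q : Sylow 5 G => Finset.univ.filter fun x => x ∈ Q ∧ x ≠ 1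
    have hT : 24 ≤ T.card := by
      simp only [T]
      rw [Finset.card_biUnion]
      · simp only [hF5, Finset.sum_const, smul_eq_mul, Finset.card_univ, ← Nat.card_eq_fintype_card]
        omega
      · intro Q _ R _ hQR
        simp only [Function.onFun, Finset.disjoint_filter]
        rintro x - ⟨hxQ, hx1⟩ ⟨hxR, -⟩
        apply hQR
        have hz : ∀ T : Sylow 5 G, x ∈ T → Subgroup.zpowers x = (T : Subgroup G) := by
          intro T hxT
          have hle : Subgroup.zpowers x ≤ (T : Subgroup G) := Subgroup.zpowers_le.2 hxT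
          refine Subgroup.eq_of_le_of_card_ge hle ?_
          have hd := Subgroup.card_dvd_of_le hle
          rw [hQ5, Nat.dvd_prime (by norm_num : Nat.Prime 5), Nat.card_zpowers] at hd
          rw [hQ5, Nat.card_zpowers]
          rcases hd with h | h
          · exact absurd (orderOf_eq_one_iff.1 h) hx1
          · omega
        exact Sylow.ext ((hz Q hxQ).symm.trans (hz R hxR))
    have hdisj : Disjoint S T := by
      rw [Finset.disjoint_left]
      intro x hxS hxT
      simp only [S, T, Finset.mem_biUnion, Finset.mem_filter, Finset.mem_univ, true_and] at hxS hxT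
      obtain ⟨Q, hxQ, hx1⟩ := hxS
      obtain ⟨R, hxR, -⟩ := hxT
      have h2 := Subgroup.orderOf_dvd_natCard (Q : Subgroup G) hxQ
      have h3 := Subgroup.orderOf_dvd_natCard (R : Subgroup G) hxR
      rw [hPcard] at h2; rw [hQ5] at h3
      have := Nat.dvd_gcd h2 h3
      norm_num at this
      exact hx1 (orderOf_eq_one_iff.1 (by simpa using this))
    have := Finset.card_le_univ (S ∪ T)
    rw [Finset.card_union_of_disjoint hdisj, hS, ← Nat.card_eq_fintype_card, h] at this
    omega
  set C := Subgroup.centralizer ({z} : Set G) with hCdef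
  have hQC : ∀ T : Sylow 2 G, z ∈ T → (T : Subgroup G) ≤ C := by
    intro T hzT a ha
    have hcomm : IsMulCommutative (T : Subgroup G) :=
      IsPGroup.isMulCommutative_of_card_eq_prime_sq (p := 2) (by rw [hPcard]; norm_num)
    exact Subgroup.mem_centralizer_singleton_iff.2
      (congrArg Subtype.val (hcomm.is_comm.comm (⟨a, ha⟩ : (T : Subgroup G)) ⟨z, hzT⟩))
  have hCne : C ≠ ⊤ := by
    intro ht
    have hzc : z ∈ Subgroup.center G := Subgroup.mem_center_iff.2 fun g =>
      Subgroup.mem_centralizer_singleton_iff.1 (ht ▸ Subgroup.mem_top g : g ∈ C)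
    rcases IsSimpleGroup.eq_bot_or_eq_top_of_normal (Subgroup.center G) inferInstance with hb | hb
    · rw [hb, Subgroup.mem_bot] at hzc; exact hz1 hzc
    · exact hG ⟨⟨fun a b => (Subgroup.mem_center_iff.1 (hb ▸ Subgroup.mem_top b) a)⟩⟩
  have h4 : 4 ∣ Nat.card C := hPcard Q ▸ Subgroup.card_dvd_of_le (hQC Q hzQ)
  have hne4 : Nat.card C ≠ 4 := by
    intro he
    apply hQR
    refine Sylow.ext ((Subgroup.eq_of_le_of_card_ge (hQC Q hzQ) ?_).trans
      (Subgroup.eq_of_le_of_card_ge (hQC R hzR) ?_).symm) <;> rw [hPcard, he]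
  have h5 := five_le_index h hCne
  have h6 := C.card_mul_index
  rw [h] at h6
  obtain ⟨c, hc⟩ := h4
  have hc0 : c ≠ 0 := by
    rintro rfl
    have := Nat.card_pos (α := C)
    omega
  rw [hc] at h6
  have : c ≤ 3 := by nlinarith
  refine ⟨C, ?_⟩
  rw [hc] at hne4
  interval_cases c <;> omega

theorem mulEquiv_alternating_five (h : Nat.card G = 60) :
    Nonempty (G ≃* alternatingGroup (Fin 5)) := by
  classical
  obtain ⟨H, hH⟩ := exists_index_five h
  have hHne : H ≠ ⊤ := by rintro rfl; simp at hH
  let e : G ⧸ H ≃ Fin 5 :=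
    (Nat.equivFinOfCardPos (by rw [← Subgroup.index_eq_card, hH]; norm_num)).trans
      (finCongr (by rw [← Subgroup.index_eq_card, hH]))
  let f : G →* Equiv.Perm (Fin 5) :=
    e.permCongrHom.toMonoidHom.comp (MulAction.toPermHom G (G ⧸ H))
  have hinj : Function.Injective f := by
    rw [← MonoidHom.ker_eq_bot_iff]
    refine (IsSimpleGroup.eq_bot_or_eq_top_of_normal f.ker inferInstance).resolve_right fun ht => ?_
    apply hHne
    rw [eq_top_iff]
    intro g _
    have h1 : MulAction.toPermHom G (G ⧸ H) g = 1 := by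
      apply e.permCongrHom.injective
      rw [map_one]; exact MonoidHom.mem_ker.1 (ht ▸ Subgroup.mem_top g)
    have h2 := congrArg (fun σ : Equiv.Perm (G ⧸ H) => σ ((1 : G) : G ⧸ H)) h1
    simp only [MulAction.toPermHom_apply, MulAction.toPerm_apply, Equiv.Perm.one_apply] at h2
    rw [MulAction.Quotient.smul_mk, QuotientGroup.eq, smul_eq_mul, mul_one, mul_one] at h2
    simpa using inv_mem h2
  have hidx : f.range.index = 2 := by
    have h1 := f.range.card_mul_index
    rw [← Nat.card_congr (MonoidHom.ofInjective hinj).toEquiv, h, Nat.card_perm, Nat.card_fin,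
      show Nat.factorial 5 = 120 from rfl] at h1
    omega
  exact ⟨(MonoidHom.ofInjective hinj).trans
    (MulEquiv.subgroupCongr (Equiv.Perm.eq_alternatingGroup_of_index_eq_two hidx))⟩

end CfsgLib.Invol
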