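import Cfsg.Agent.S0144
import Cfsg.Agent.S0494
import Cfsg.Agent.S0713
import Cfsg.Agent.Lib.Invol.SmallSimple
import Cfsg.Agent.Lib.Perm.Groups.DegreeSeven
import Cfsg.Agent.Lib.Perm.Groups.AltAut
import Cfsg.Agent.Lib.Perm.Small.Unique168
import Cfsg.Agent.Lib.Classical.SLBasic
import Mathlib.GroupTheory.Transfer

/-!
# Subgroups of the alternating group of degree eight without solvable normal subgroups
-/

set_option autoImplicit false
set_option linter.all false

namespace CfsgLib.Invol.AltEightSubgroups

open Equiv MulAction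
open scoped Pointwise

universe u

variable {H : Type u} [Group H] [Finite H]

theorem solvable_of_card_lt_sixty : ∀ (n : ℕ) {G : Type u} [Group G] [Finite G],
    Nat.card G = n → n < 60 → Group.IsSolvable G := by
  intro n
  induction n using Nat.strong_induction_on with
  | _ n ih =>
    intro G _ _ hn hlt
    by_cases hc : IsMulCommutative G
    · exact isSolvable_of_comm fun a b => hc.is_comm.comm a b
    by_cases hs : IsSimpleGroup G
    · have := CfsgLib.Invol.card_eq_sixty_of_le_hundred (G := G) hc (by omega)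
      omega
    haveI : Nontrivial G := by
      by_contra h
      rw [not_nontrivial_iff_subsingleton] at h
      exact hc ⟨⟨fun a b => Subsingleton.elim _ _⟩⟩
    obtain ⟨N, hN, hN1, hN2⟩ : ∃ N : Subgroup G, N.Normal ∧ N ≠ ⊥ ∧ N ≠ ⊤ := by
      by_contra! h
      exact hs ⟨fun N hN => (em (N = ⊥)).imp_right (h N hN)⟩
    haveI := hN
    have h1 : 2 ≤ Nat.card N := (Subgroup.one_lt_card_iff_ne_bot N).2 hN1
    have h2 : 2 ≤ N.index := Subgroup.one_lt_index_of_ne_top hN2
    have h3 := N.card_mul_index
    haveI : Group.IsSolvable N := ih _ (by nlinarith) rfl (by nlinarith)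
    haveI : Group.IsSolvable (G ⧸ N) := ih _ (by rw [← Subgroup.index_eq_card]; nlinarith) rfl
      (by rw [← Subgroup.index_eq_card]; nlinarith)
    exact solvable_of_ker_le_range N.subtype (QuotientGroup.mk' N)
      (by rw [QuotientGroup.ker_mk', Subgroup.range_subtype])

theorem sixty_le (hns : ¬ Group.IsSolvable H) : 60 ≤ Nat.card H := by
  by_contra h
  exact hns (solvable_of_card_lt_sixty _ rfl (not_le.1 h))

theorem alt_five_of_card_sixty (hns : ¬ Group.IsSolvable H) (h : Nat.card H = 60) :
    Nonempty (H ≃* alternatingGroup (Fin 5)) := by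
  haveI : Nontrivial H := Finite.one_lt_card_iff_nontrivial.1 (by omega)
  haveI : IsSimpleGroup H := ⟨fun N hN => by
    by_contra! hc
    haveI := hN
    have h1 : 2 ≤ Nat.card N := (Subgroup.one_lt_card_iff_ne_bot N).2 hc.1
    have h2 : 2 ≤ N.index := Subgroup.one_lt_index_of_ne_top hc.2
    have h3 := N.card_mul_index
    haveI : Group.IsSolvable N := solvable_of_card_lt_sixty _ rfl (by nlinarith)
    haveI : Group.IsSolvable (H ⧸ N) := solvable_of_card_lt_sixty _ rfl
      (by rw [← Subgroup.index_eq_card]; nlinarith)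
    exact hns (solvable_of_ker_le_range N.subtype (QuotientGroup.mk' N)
      (by rw [QuotientGroup.ker_mk', Subgroup.range_subtype]))⟩
  exact Cfsg.Agent.S0494.result h

/-- In a simple group the order divides the factorial of every proper index. -/
theorem card_dvd_factorial {G : Type*} [Group G] [Finite G] [IsSimpleGroup G] {K : Subgroup G}
    (hK : K ≠ ⊤) : Nat.card G ∣ K.index.factorial := by
  have hcore : K.normalCore = ⊥ := (Subgroup.normalCore_normal K).eq_bot_or_eq_top.resolve_right
    fun h => hK (top_le_iff.1 (h ▸ K.normalCore_le))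
  have hker : (MulAction.toPermHom G (G ⧸ K)).ker = ⊥ := K.normalCore_eq_ker ▸ hcore
  have := Subgroup.card_dvd_of_injective _ ((MonoidHom.ker_eq_bot_iff _).1 hker)
  rwa [Nat.card_perm] at this

/-! ### The normaliser of a 7-cycle -/

theorem no_fourteen (g : Perm (Fin 8)) : orderOf g ≠ 14 := by
  intro h
  have h7 : 7 ∈ g.cycleType ∨ 14 ∈ g.cycleType := by
    have hl := g.lcm_cycleType
    rw [h] at hl
    by_contra hc
    push Not at hc
    have hle : ∀ c ∈ g.cycleType, c ∣ 2 := by
      intro c hc'
      have hd : c ∣ 14 := hl ▸ Multiset.dvd_lcm hc'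
      have := (Nat.divisors 14)
      have hc14 : c ∈ Nat.divisors 14 := Nat.mem_divisors.2 ⟨hd, by norm_num⟩
      have : c = 1 ∨ c = 2 ∨ c = 7 ∨ c = 14 := by
        rw [show Nat.divisors 14 = {1, 2, 7, 14} from by decide] at hc14
        simpa using hc14
      rcases this with rfl | rfl | rfl | rfl
      · norm_num
      · norm_num
      · exact absurd hc' hc.1
      · exact absurd hc' hc.2
    have := Multiset.lcm_dvd.2 hle
    rw [hl] at this
    norm_num at this
  have hsum := g.sum_cycleType
  have hle : g.support.card ≤ 8 := by simpa using g.support.card_le_univ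
  rcases h7 with h7 | h14
  · obtain ⟨m, hm⟩ := Multiset.exists_cons_of_mem h7
    have hl := g.lcm_cycleType
    rw [h, hm, Multiset.lcm_cons] at hl
    rw [hm, Multiset.sum_cons] at hsum
    have hm0 : m = 0 := Multiset.eq_zero_of_forall_notMem fun a ha => by
      have h1 := Multiset.le_sum_of_mem ha
      have h2 := g.two_le_of_mem_cycleType (hm ▸ Multiset.mem_cons_of_mem ha : a ∈ g.cycleType)
      omega
    rw [hm0] at hl
    simp at hl
  · have h1 := Multiset.le_sum_of_mem h14
    omega

/-- An involution inverting an element of order 7 is odd. -/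
theorem sign_inverting {x t : Perm (Fin 8)} (hx : orderOf x = 7) (ht : t * t = 1) (ht1 : t ≠ 1)
    (hinv : t * x * t = x⁻¹) : Perm.sign t = -1 := by
  haveI : Fact (Nat.Prime 7) := ⟨by norm_num⟩
  have hcyc : x.IsCycle := Perm.isCycle_of_prime_order' (by rw [hx]; norm_num)
    (by rw [Fintype.card_fin, hx]; norm_num)
  have hs : x.support.card = 7 := hcyc.orderOf.symm.trans hx
  obtain ⟨c, hc⟩ : ∃ c, x.supportᶜ = {c} := Finset.card_eq_one.1 (by
    rw [Finset.card_compl, hs, Fintype.card_fin])
  have hxc : x c = c := Perm.notMem_support.1 (Finset.mem_compl.1 (hc ▸ Finset.mem_singleton_self c))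
  have hfix : ∀ z, x z = z → z = c := fun z hz => by
    have : z ∈ x.supportᶜ := Finset.mem_compl.2 (Perm.notMem_support.2 hz)
    rw [hc] at this
    exact Finset.mem_singleton.1 this
  have htinv : t⁻¹ = t := inv_eq_of_mul_eq_one_right ht
  have htc : t c = c := by
    apply hfix
    have e : x * t = t * x⁻¹ := by
      rw [← hinv, ← mul_assoc, ← mul_assoc, ht, one_mul]
    have e' := congrArg (fun σ : Perm (Fin 8) => σ c) e
    simp only [Perm.mul_apply] at e'
    rw [e', Perm.inv_eq_iff_eq.2 hxc.symm]
  have hone : ∀ y z, y ≠ c → z ≠ c → t y = y → t z = z → y = z := by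
    intro y z hy hz hty htz
    have hy' : x y ≠ y := fun h => hy (hfix y h)
    have hz' : x z ≠ z := fun h => hz (hfix z h)
    obtain ⟨j, hj⟩ := hcyc.exists_zpow_eq hy' hz'
    have e : t * x ^ j * t = (x ^ j)⁻¹ := by
      rw [← zpow_neg, ← inv_zpow', ← hinv]
      conv_lhs => rw [← htinv]; rw [htinv]; arg 2; rw [← htinv]
      rw [← conj_zpow, htinv]
    have e' := congrArg (fun σ : Perm (Fin 8) => σ y) e
    simp only [Perm.mul_apply] at e'
    rw [hty, hj, htz] at e'
    -- `x ^ (2 j)` fixes `y`
    have h2 : (x ^ (2 * j)) y = y := by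
      rw [two_mul, zpow_add, Perm.mul_apply, hj, e', Perm.inv_def, Equiv.apply_symm_apply]
    have h7 : x ^ (2 * j) = 1 := by
      refine Equiv.ext fun w => ?_
      rw [Perm.one_apply]
      by_cases hw : x w = w
      · exact Perm.zpow_apply_eq_self_of_apply_eq_self hw _
      · obtain ⟨i, rfl⟩ := hcyc.exists_zpow_eq hy' hw
        rw [← Perm.mul_apply, ← zpow_add, add_comm, zpow_add, Perm.mul_apply, h2]
    rw [← orderOf_dvd_iff_zpow_eq_one, hx] at h7
    have hj7 : (7 : ℤ) ∣ j := by
      rcases Int.Prime.dvd_mul' (by norm_num) h7 with h | h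
      · norm_num at h
      · exact h
    have : x ^ j = 1 := orderOf_dvd_iff_zpow_eq_one.1 (by rw [hx]; exact_mod_cast hj7)
    rw [this, Perm.one_apply] at hj
    exact hj
  have hle : t.supportᶜ.card ≤ 2 := by
    rw [← Finset.card_erase_add_one (show c ∈ t.supportᶜ from
      Finset.mem_compl.2 (Perm.notMem_support.2 htc))]
    have : (t.supportᶜ.erase c).card ≤ 1 := Finset.card_le_one.2 fun y hy z hz => by
      simp only [Finset.mem_erase, Finset.mem_compl, Perm.mem_support, not_not] at hy hz
      exact hone y z hy.1 hz.1 hy.2 hz.2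
    omega
  have hpos : 0 < t.supportᶜ.card :=
    Finset.card_pos.2 ⟨c, Finset.mem_compl.2 (Perm.notMem_support.2 htc)⟩
  rw [Finset.card_compl, Fintype.card_fin] at hle hpos
  have h2 : orderOf t = 2 := orderOf_eq_prime (by rw [sq, ht]) ht1
  obtain ⟨n, hn⟩ := Perm.cycleType_prime_order (show (orderOf t).Prime by rw [h2]; norm_num)
  rw [h2] at hn
  have hsum := t.sum_cycleType
  rw [hn, Multiset.sum_replicate, smul_eq_mul] at hsum
  rw [Perm.sign_of_cycleType, hn, Multiset.sum_replicate, Multiset.card_replicate, smul_eq_mul,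
    show n + 1 = 3 by omega]
  decide

/-! ### The case without elements of order 5 -/

variable (ψ : H →* Perm (Fin 8)) (hψ : Function.Injective ψ) (hev : ∀ h, Perm.sign (ψ h) = 1)
include hψ hev

theorem card_dvd_alt : Nat.card H ∣ 20160 := by
  have h2 : (alternatingGroup (Fin 8)).index = 2 := alternatingGroup.index_eq_two
  have h3 := (alternatingGroup (Fin 8)).card_mul_index
  rw [h2, Nat.card_perm, Nat.card_fin] at h3
  have h4 : Nat.card (alternatingGroup (Fin 8)) = 20160 := by
    have : (8 : ℕ).factorial = 40320 := by norm_num [Nat.factorial]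
    omega
  rw [← h4]
  exact Subgroup.card_dvd_of_injective
    (ψ.codRestrict (alternatingGroup (Fin 8)) fun h => Perm.mem_alternatingGroup.2 (hev h))
    fun a b h => hψ (congrArg Subtype.val h)

/-- A nonsolvable even group of degree 8 without elements of order 5 has order 168 or 1344. -/
theorem card_of_not_five (hns : ¬ Group.IsSolvable H) (h5 : ¬ 5 ∣ Nat.card H) :
    (Nat.card H = 168 ∨ Nat.card H = 1344) ∧
      ∀ P : Sylow 7 H, Nat.card (P : Subgroup H) = 7 ∧ 21 * Nat.card (Sylow 7 H) = Nat.card H := by
  haveI : Fact (Nat.Prime 7) := ⟨by norm_num⟩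
  have hd : Nat.card H ∣ 4032 := by
    have h1 := card_dvd_alt ψ hψ hev
    rw [show (20160 : ℕ) = 5 * 4032 by norm_num] at h1
    exact (Nat.Coprime.dvd_mul_left ((Nat.Prime.coprime_iff_not_dvd (by norm_num)).2 h5).symm).1 h1
  have h7 : 7 ∣ Nat.card H := by
    by_contra h
    have h1 : Nat.card H ∣ 7 * 576 := by simpa using hd
    have h2 := (Nat.Coprime.dvd_mul_left ((Nat.Prime.coprime_iff_not_dvd (by norm_num)).2 h).symm).1 h1
    have hmem : Nat.card H ∈ Nat.divisors 576 := Nat.mem_divisors.2 ⟨h2, by norm_num⟩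
    obtain ⟨a, b, hab⟩ : ∃ a b : ℕ, Nat.card H = 2 ^ a * 3 ^ b := by
      rw [show (576 : ℕ) = 2 ^ 6 * 3 ^ 2 by norm_num] at h2
      obtain ⟨u, v, hu, hv, e⟩ := Nat.dvd_mul.1 h2
      obtain ⟨a, -, rfl⟩ := (Nat.dvd_prime_pow Nat.prime_two).1 hu
      obtain ⟨b, -, rfl⟩ := (Nat.dvd_prime_pow Nat.prime_three).1 hv
      exact ⟨a, b, e.symm⟩
    exact hns (Cfsg.Agent.S0144.result 2 3 a b Nat.prime_two Nat.prime_three hab)
  have hP7 : ∀ P : Sylow 7 H, Nat.card (P : Subgroup H) = 7 := by
    intro P
    obtain ⟨n, hn⟩ := IsPGroup.iff_card.1 P.2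
    rcases n with _ | _ | n
    · have h1 := P.dvd_card_of_dvd_card h7
      rw [hn] at h1
      norm_num at h1
    · simpa using hn
    · exfalso
      have h1 : (7 : ℕ) ^ 2 ∣ 4032 :=
        ((pow_dvd_pow 7 (by omega)).trans (hn ▸ Subgroup.card_subgroup_dvd_card (P : Subgroup H))).trans hd
      norm_num at h1
  have key : ∀ P : Sylow 7 H, 21 * Nat.card (Sylow 7 H) = Nat.card H := by
    intro P
    set NP := Subgroup.normalizer ((P : Subgroup H) : Set H) with hNP
    have hidx : NP.index = Nat.card (Sylow 7 H) := (P.card_eq_index_normalizer).symm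
    have hmul := NP.card_mul_index
    rw [hidx] at hmul
    -- the normaliser has order dividing 42
    have hdvd42 : Nat.card NP ∣ 42 := by
      let e := MonoidHom.ofInjective hψ
      have hc : Nat.card ((P : Subgroup H).map ψ) = 7 := by
        rw [← Nat.card_congr ((P : Subgroup H).equivMapOfInjective _ hψ).toEquiv, hP7]
      have hb := CfsgLib.Perm.Groups.card_normalizer_of_card_prime (α := Fin 8) (p := 7)
        (by simp) _ hc
      have h1 : Nat.card NP ∣ Nat.card (Subgroup.normalizer (((P : Subgroup H).map ψ : Subgroup (Perm (Fin 8))) : Set (Perm (Fin 8)))) :=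
        Subgroup.card_dvd_of_injective ((ψ.comp NP.subtype).codRestrict _ fun x =>
          Subgroup.le_normalizer_map ψ ⟨x.1, x.2, rfl⟩)
          fun a b h => Subtype.ext (hψ (congrArg Subtype.val h))
      rw [hb, Fintype.card_fin] at h1
      simpa using h1
    -- it has odd order
    have hodd : ¬ 2 ∣ Nat.card NP := by
      intro h2
      haveI : Fact (Nat.Prime 2) := ⟨Nat.prime_two⟩
      obtain ⟨t, ht⟩ := exists_prime_orderOf_dvd_card' 2 h2
      obtain ⟨x, hx⟩ := exists_prime_orderOf_dvd_card' (G := (P : Subgroup H)) 7 (by rw [hP7])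
      have htt : (t : H) * t = 1 := by
        rw [← Subgroup.coe_mul, ← sq, ← ht, pow_orderOf_eq_one, Subgroup.coe_one]
      have hxo : orderOf (x : H) = 7 := by rw [Subgroup.orderOf_coe, hx]
      have hyP : (t : H) * x * t ∈ (P : Subgroup H) := by
        have := (Subgroup.mem_normalizer_iff.1 t.2 x).1 x.2
        rwa [inv_eq_of_mul_eq_one_right htt] at this
      have hzp : Subgroup.zpowers (x : H) = (P : Subgroup H) := Subgroup.eq_of_le_of_card_ge
        (Subgroup.zpowers_le.2 x.2) (by rw [Nat.card_zpowers, hxo, hP7])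
      have hyP' : (t : H) * x * t ∈ Subgroup.zpowers (x : H) := hzp.ge hyP
      obtain ⟨k, hk⟩ := Subgroup.mem_zpowers_iff.1 hyP'
      have hk2 : (x : H) ^ (k * k) = x := by
        rw [zpow_mul, hk]
        conv_lhs => arg 1; rw [show (t : H) * x * t = t * x * (t : H)⁻¹ by rw [inv_eq_of_mul_eq_one_right htt]]
        rw [conj_zpow, hk, inv_eq_of_mul_eq_one_right htt,
          show (t : H) * (t * x * t) * t = (t * t) * x * (t * t) by group, htt, one_mul, mul_one]
      have h7k : (7 : ℤ) ∣ (k - 1) * (k + 1) := by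
        have : (x : H) ^ (k * k - 1) = 1 := by rw [zpow_sub, hk2, zpow_one, mul_inv_cancel]
        rw [← orderOf_dvd_iff_zpow_eq_one, hxo] at this
        rwa [show (k - 1) * (k + 1) = k * k - 1 by ring]
      have ht1 : ψ t ≠ 1 := by
        intro h
        have h1 : (t : H) = 1 := hψ (h.trans (map_one ψ).symm)
        rw [OneMemClass.coe_eq_one.1 h1, orderOf_one] at ht
        norm_num at ht
      rcases Int.Prime.dvd_mul' (by norm_num) h7k with h | h
      · -- commuting: an element of order 14
        have hkx : (x : H) ^ k = x := by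
          have : (x : H) ^ (k - 1) = 1 := orderOf_dvd_iff_zpow_eq_one.1 (by rw [hxo]; exact_mod_cast h)
          rw [zpow_sub, zpow_one, mul_inv_eq_one] at this
          exact this
        have hc : Commute (t : H) x := by
          show (t : H) * x = x * t
          calc (t : H) * x = t * x * (t * t) := by rw [htt, mul_one]
            _ = x * t := by rw [← mul_assoc, ← hk, hkx]
        have h14 : orderOf ((t : H) * x) = 14 := by
          rw [hc.orderOf_mul_eq_mul_orderOf_of_coprime, Subgroup.orderOf_coe, ht, hxo]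
          rw [Subgroup.orderOf_coe, ht, hxo]; norm_num
        exact no_fourteen (ψ ((t : H) * x)) (by rw [orderOf_injective ψ hψ, h14])
      · have hkx : (x : H) ^ k = (x : H)⁻¹ := by
          have : (x : H) ^ (k + 1) = 1 := orderOf_dvd_iff_zpow_eq_one.1 (by rw [hxo]; exact_mod_cast h)
          rw [zpow_add, zpow_one] at this
          exact eq_inv_of_mul_eq_one_left this
        have := sign_inverting (x := ψ x) (t := ψ t) (by rw [orderOf_injective ψ hψ, hxo])
          (by rw [← map_mul, htt, map_one]) ht1 (by rw [← map_mul, ← map_mul, ← hk, hkx, map_inv])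
        rw [hev] at this
        exact absurd this (by decide)
    have h7N : 7 ∣ Nat.card NP := hP7 P ▸ Subgroup.card_dvd_of_le Subgroup.le_normalizer
    have hmem : Nat.card NP ∈ Nat.divisors 42 := Nat.mem_divisors.2 ⟨hdvd42, by norm_num⟩
    have h21 : Nat.card NP = 7 ∨ Nat.card NP = 21 := by
      have := Nat.divisor_le hmem
      interval_cases (Nat.card NP) <;> omega
    rcases h21 with h | h
    · exfalso
      -- a normal complement by transfer
      have hPN : (P : Subgroup H) = NP :=
        Subgroup.eq_of_le_of_card_ge Subgroup.le_normalizer (by rw [h, hP7])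
      haveI : IsCyclic (P : Subgroup H) := isCyclic_of_prime_card (hP7 P)
      have hle : NP ≤ Subgroup.centralizer ((P : Subgroup H) : Set H) := by
        intro a ha
        rw [Subgroup.mem_centralizer_iff]
        intro b hb
        exact congrArg Subtype.val
          (IsMulCommutative.is_comm.comm (⟨b, hb⟩ : (P : Subgroup H)) ⟨a, hPN ▸ ha⟩)
      have hcompl := MonoidHom.ker_transferSylow_isComplement' P hle
      have hcard := hcompl.card_mul
      set K := (MonoidHom.transferSylow P hle).ker with hK
      rw [hP7] at hcard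
      have hKd : Nat.card K ∣ 576 := by
        have : Nat.card K * 7 ∣ 576 * 7 := by rw [hcard]; simpa using hd
        exact Nat.dvd_of_mul_dvd_mul_right (by norm_num) this
      obtain ⟨a, b, hab⟩ : ∃ a b : ℕ, Nat.card K = 2 ^ a * 3 ^ b := by
        rw [show (576 : ℕ) = 2 ^ 6 * 3 ^ 2 by norm_num] at hKd
        obtain ⟨u, v, hu, hv, e⟩ := Nat.dvd_mul.1 hKd
        obtain ⟨a, -, rfl⟩ := (Nat.dvd_prime_pow Nat.prime_two).1 hu
        obtain ⟨b, -, rfl⟩ := (Nat.dvd_prime_pow Nat.prime_three).1 hv
        exact ⟨a, b, e.symm⟩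
      haveI : Group.IsSolvable K := Cfsg.Agent.S0144.result 2 3 a b Nat.prime_two Nat.prime_three hab
      haveI : Group.IsSolvable (P : Subgroup H) :=
        isSolvable_of_comm fun a b => IsMulCommutative.is_comm.comm a b
      exact hns (solvable_of_ker_le_range K.subtype (MonoidHom.transferSylow P hle)
        (by rw [Subgroup.range_subtype]))
    · rw [← h]; exact hmul
  obtain ⟨P⟩ : Nonempty (Sylow 7 H) := inferInstance
  refine ⟨?_, fun Q => ⟨hP7 Q, key Q⟩⟩
  have hk := key P
  have hmod := card_sylow_modEq_one 7 H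
  have hn : Nat.card (Sylow 7 H) ∈ Nat.divisors 192 := by
    refine Nat.mem_divisors.2 ⟨?_, by norm_num⟩
    have : 21 * Nat.card (Sylow 7 H) ∣ 21 * 192 := by rw [hk]; simpa using hd
    exact Nat.dvd_of_mul_dvd_mul_left (by norm_num) this
  have hlist : Nat.card (Sylow 7 H) ∈ ({1, 2, 3, 4, 6, 8, 12, 16, 24, 32, 48, 64, 96, 192} : Finset ℕ) := by
    rwa [show Nat.divisors 192 = {1, 2, 3, 4, 6, 8, 12, 16, 24, 32, 48, 64, 96, 192} from by decide +kernel] at hn
  simp only [Finset.mem_insert, Finset.mem_singleton] at hlist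
  have h60 := sixty_le hns
  unfold Nat.ModEq at hmod
  omega

theorem simple_of_not_five (hns : ¬ Group.IsSolvable H) (h5 : ¬ 5 ∣ Nat.card H)
    (hcore : ∀ N : Subgroup H, N.Normal → Group.IsSolvable N → N = ⊥) : IsSimpleGroup H := by
  haveI : Fact (Nat.Prime 7) := ⟨by norm_num⟩
  haveI : Nontrivial H := Finite.one_lt_card_iff_nontrivial.1 (by have := sixty_le hns; omega)
  refine ⟨fun N hN => ?_⟩
  by_contra! hc
  haveI := hN
  have hNns : ¬ Group.IsSolvable N := fun h => hc.1 (hcore N hN h)
  obtain ⟨hH, hHP⟩ := card_of_not_five ψ hψ hev hns h5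
  obtain ⟨hN', hNP⟩ := card_of_not_five (ψ.comp N.subtype) (hψ.comp Subtype.val_injective)
    (fun h => hev h) hNns fun h => h5 (h.trans N.card_subgroup_dvd_card)
  have hlt : Nat.card N ≠ Nat.card H := fun h => hc.2 (Subgroup.eq_top_of_card_eq N h)
  have hle := Nat.le_of_dvd Nat.card_pos N.card_subgroup_dvd_card
  obtain ⟨P⟩ : Nonempty (Sylow 7 N) := inferInstance
  obtain ⟨Q, hQ⟩ := P.exists_comap_subtype_eq
  obtain ⟨hP7, hPn⟩ := hNP P
  obtain ⟨hQ7, hQn⟩ := hHP Q
  -- every Sylow subgroup of `H` lies in `N`
  have hQN : ∀ R : Sylow 7 H, (R : Subgroup H) ≤ N := by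
    have h1 : (Q : Subgroup H) ≤ N := by
      have hm : ((P : Subgroup N)).map N.subtype ≤ Q := by
        rw [← hQ]; exact Subgroup.map_comap_le _ _
      have hcard : Nat.card (((P : Subgroup N)).map N.subtype) = 7 := by
        exact (Nat.card_congr ((P : Subgroup N).equivMapOfInjective _ N.subtype_injective).toEquiv).symm.trans hP7
      rw [← Subgroup.eq_of_le_of_card_ge hm (by rw [hcard, hQ7])]
      exact Subgroup.map_subtype_le _
    intro R
    obtain ⟨g, rfl⟩ := MulAction.exists_smul_eq H Q R
    rw [Sylow.coe_subgroup_smul]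
    intro y hy
    obtain ⟨z, hz, rfl⟩ := Subgroup.mem_map.1 hy
    exact hN.conj_mem z (h1 hz) g
  have hinj : Function.Injective fun R : Sylow 7 H => R.subtype (hQN R) := by
    intro R S h
    apply Sylow.ext
    have h' := congrArg (fun X : Sylow 7 N => (X : Subgroup N).map N.subtype) h
    simp only [Sylow.coe_subtype, Subgroup.subgroupOf_map_subtype] at h'
    rwa [inf_eq_left.2 (hQN R), inf_eq_left.2 (hQN S)] at h'
  have := Nat.card_le_card_of_injective _ hinj
  omega

omit hψ hev

/-! ### The case with an element of order 5 -/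

theorem sym_five_of_normal (h120 : Nat.card H = 120)
    (hcore : ∀ N : Subgroup H, N.Normal → Group.IsSolvable N → N = ⊥)
    (M : Subgroup H) [M.Normal] (h60 : Nat.card M = 60) (hns : ¬ Group.IsSolvable M) :
    Nonempty (H ≃* Perm (Fin 5)) := by
  classical
  obtain ⟨e⟩ := alt_five_of_card_sixty hns h60
  have hker : (MulAut.conjNormal : H →* MulAut M).ker = ⊥ := by
    refine hcore _ (MonoidHom.normal_ker _) ?_
    have hcomm : ∀ a ∈ (MulAut.conjNormal : H →* MulAut M).ker, ∀ m ∈ M, a * m = m * a := by
      intro a ha m hm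
      have := congrArg (fun φ : MulAut M => ((φ ⟨m, hm⟩ : M) : H)) (MonoidHom.mem_ker.1 ha)
      simp only [MulAut.conjNormal_apply, MulAut.one_apply] at this
      calc a * m = a * m * a⁻¹ * a := by group
        _ = m * a := by rw [this]
    set K := (MulAut.conjNormal : H →* MulAut M).ker
    haveI : Group.IsSolvable (H ⧸ M) := solvable_of_card_lt_sixty _ rfl (by
      have := M.card_mul_index
      rw [← Subgroup.index_eq_card]
      nlinarith)
    haveI : Group.IsSolvable (M.subgroupOf K) := by
      refine isSolvable_of_comm fun a b => ?_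
      apply Subtype.ext; apply Subtype.ext
      exact hcomm _ a.1.2 _ (Subgroup.mem_subgroupOf.1 b.2)
    exact solvable_of_ker_le_range (M.subgroupOf K).subtype ((QuotientGroup.mk' M).comp K.subtype)
      (by rw [Subgroup.range_subtype]; intro a ha
          exact Subgroup.mem_subgroupOf.2 ((QuotientGroup.eq_one_iff _).1 (MonoidHom.mem_ker.1 ha)))
  have hbij := CfsgLib.Perm.Groups.AltAut.conjNormal_bijective (Ω := Fin 5) (by simp) (by simp)
  let E := (MulEquiv.ofBijective _ hbij).symm
  let f : H →* Perm (Fin 5) :=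
    E.toMonoidHom.comp ((MulAut.congr e).toMonoidHom.comp MulAut.conjNormal)
  have hf : Function.Injective f := E.injective.comp
    ((MulAut.congr e).injective.comp ((MonoidHom.ker_eq_bot_iff _).1 hker))
  exact ⟨MulEquiv.ofBijective f ((Nat.bijective_iff_injective_and_card f).2
    ⟨hf, by rw [h120, Nat.card_perm, Nat.card_fin]; norm_num [Nat.factorial]⟩)⟩

/-- The conclusion. -/
def Concl (H : Type u) [Group H] : Prop :=
  (∃ n : ℕ, 5 ≤ n ∧ n ≤ 8 ∧ Nonempty (H ≃* alternatingGroup (Fin n))) ∨
    Nonempty (H ≃* Perm (Fin 5)) ∨ Nonempty (H ≃* Perm (Fin 6))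

theorem alt_of_range {n : ℕ} {f : H →* Perm (Fin n)} (hf : Function.Injective f)
    (h : f.range = alternatingGroup (Fin n)) : Nonempty (H ≃* alternatingGroup (Fin n)) :=
  ⟨(MonoidHom.ofInjective hf).trans (MulEquiv.subgroupCongr h)⟩

theorem perm_of_range {n : ℕ} {f : H →* Perm (Fin n)} (hf : Function.Injective f)
    (h : f.range = ⊤) : Nonempty (H ≃* Perm (Fin n)) :=
  ⟨MulEquiv.ofBijective f ⟨hf, MonoidHom.range_eq_top.1 h⟩⟩

theorem eq_top_or_alt {n : ℕ} (hn : 2 ≤ n) {R : Subgroup (Perm (Fin n))}
    (h : alternatingGroup (Fin n) ≤ R) : R = alternatingGroup (Fin n) ∨ R = ⊤ := by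
  haveI : Nontrivial (Fin n) := Fin.nontrivial_iff_two_le.2 hn
  have h2 := Subgroup.relIndex_mul_index h
  rw [alternatingGroup.index_eq_two] at h2
  rcases (Nat.dvd_prime Nat.prime_two).1 (Dvd.intro _ h2) with h1 | h1
  · exact Or.inl (le_antisymm (Subgroup.relIndex_eq_one.1 h1) h)
  · rw [h1] at h2
    exact Or.inr (Subgroup.index_eq_one.1 (by omega))

include hψ hev in
theorem five_case (hcore : ∀ N : Subgroup H, N.Normal → Group.IsSolvable N → N = ⊥)
    (hns : ¬ Group.IsSolvable H) (h5 : 5 ∣ Nat.card H) : Concl H := by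
  classical
  haveI : Fact (Nat.Prime 5) := ⟨by norm_num⟩
  obtain ⟨x, hx⟩ := exists_prime_orderOf_dvd_card' 5 h5
  have hxψ : orderOf (ψ x) = 5 := by rw [orderOf_injective ψ hψ, hx]
  have hcyc : (ψ x).IsCycle := Perm.isCycle_of_prime_order' (by rw [hxψ]; norm_num)
    (by rw [Fintype.card_fin, hxψ]; norm_num)
  have hsupp : (ψ x).support.card = 5 := hcyc.orderOf.symm.trans hxψ
  obtain ⟨y, hy⟩ : ∃ y, (ψ x) y ≠ y := by
    obtain ⟨y, hy, -⟩ := hcyc
    exact ⟨y, hy⟩
  set O : Finset (Fin 8) := Finset.univ.filter fun z => ∃ h : H, ψ h y = z with hO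
  have hmemO : ∀ z, z ∈ O ↔ ∃ h : H, ψ h y = z := fun z => by simp [hO]
  have hinvO : ∀ (h : H) z, ψ h z ∈ O ↔ z ∈ O := by
    intro h z
    rw [hmemO, hmemO]
    constructor
    · rintro ⟨g, hg⟩
      exact ⟨h⁻¹ * g, by rw [map_mul, Perm.mul_apply, hg, map_inv, Perm.inv_def, Equiv.symm_apply_apply]⟩
    · rintro ⟨g, rfl⟩
      exact ⟨h * g, by rw [map_mul, Perm.mul_apply]⟩
  have hsub : (ψ x).support ⊆ O := fun z hz => by
    obtain ⟨i, hi⟩ := hcyc.exists_zpow_eq hy (Perm.mem_support.1 hz)
    exact (hmemO z).2 ⟨x ^ i, by rw [map_zpow, hi]⟩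
  have hcard5 : 5 ≤ O.card := hsupp ▸ Finset.card_le_card hsub
  have hcard8 : O.card ≤ 8 := by simpa using O.card_le_univ
  let π : H →* Perm {z // z ∈ O} :=
    { toFun := fun h => (ψ h).subtypePerm (fun z => hinvO h z)
      map_one' := by ext z; simp
      map_mul' := fun a b => Equiv.ext fun z => Subtype.ext (by simp only [map_mul, Subgroup.coe_mul, Perm.mul_apply, Perm.subtypePerm_apply]) }
  have hπ : Function.Injective π := by
    rw [← MonoidHom.ker_eq_bot_iff]
    refine hcore _ (MonoidHom.normal_ker _) ?_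
    let ρ : π.ker →* Perm {z // ¬ z ∈ O} :=
      { toFun := fun h => (ψ h).subtypePerm (fun z => (hinvO _ z).not)
        map_one' := by ext z; simp
        map_mul' := fun a b => Equiv.ext fun z => Subtype.ext (by simp only [map_mul, Subgroup.coe_mul, Perm.mul_apply, Perm.subtypePerm_apply]) }
    have hρ : Function.Injective ρ := by
      rw [injective_iff_map_eq_one]
      intro h hh
      apply Subtype.ext
      apply hψ
      rw [OneMemClass.coe_one, map_one]
      refine Equiv.ext fun z => ?_
      rw [Perm.one_apply]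
      by_cases hz : z ∈ O
      · exact congrArg Subtype.val (Equiv.congr_fun (MonoidHom.mem_ker.1 h.2) ⟨z, hz⟩)
      · exact congrArg Subtype.val (Equiv.congr_fun hh ⟨z, hz⟩)
    refine solvable_of_card_lt_sixty _ rfl (lt_of_le_of_lt (Nat.card_le_card_of_injective ρ hρ) ?_)
    rw [Nat.card_perm, Nat.card_eq_fintype_card, Fintype.card_subtype_compl, Fintype.card_coe,
      Fintype.card_fin]
    exact lt_of_le_of_lt (Nat.factorial_le (show 8 - O.card ≤ 3 by omega)) (by norm_num [Nat.factorial])
  obtain ⟨d, hd⟩ : ∃ d, O.card = d := ⟨_, rfl⟩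
  let e : {z // z ∈ O} ≃ Fin d := (Fintype.equivFinOfCardEq (by rw [Fintype.card_coe, hd]))
  let f : H →* Perm (Fin d) := e.permCongrHom.toMonoidHom.comp π
  have hf : Function.Injective f := e.permCongrHom.injective.comp hπ
  have hsign : d = 7 ∨ d = 8 → ∀ h, Perm.sign (f h) = 1 := by
    intro h78 h
    show Perm.sign (e.permCongr (π h)) = 1
    rw [Perm.sign_permCongr]
    have : Perm.sign (π h) = Perm.sign (ψ h) := by
      refine Eq.trans (by congr <;> exact Subsingleton.elim _ _) (Perm.sign_subtypePerm (ψ h) (fun z => hinvO h z) fun z hz => ?_)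
      by_contra hzO
      -- at most one point lies outside, and it is fixed
      apply hz
      have hone : (Oᶜ).card ≤ 1 := by rw [Finset.card_compl, Fintype.card_fin]; omega
      exact Finset.card_le_one.1 hone _ (Finset.mem_compl.2 fun h' => hzO ((hinvO h z).1 h'))
        _ (Finset.mem_compl.2 hzO)
    rw [this, hev]
  set R := f.range with hR
  have hRcard : Nat.card R = Nat.card H := (Nat.card_congr (MonoidHom.ofInjective hf).toEquiv).symm
  have hRns : ¬ Group.IsSolvable R := fun h =>
    hns (solvable_of_solvable_injective (f := (MonoidHom.ofInjective hf).toMonoidHom)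
      (MonoidHom.ofInjective hf).injective)
  rw [hd] at hcard5 hcard8
  interval_cases d
  · -- five points
    have h1 : Nat.card R ∣ 120 := by
      have := Subgroup.card_subgroup_dvd_card R
      rwa [Nat.card_perm, Nat.card_fin] at this
    have h60 := sixty_le hns
    rw [hRcard] at h1
    have hle := Nat.le_of_dvd (by norm_num) h1
    rcases Nat.lt_or_ge (Nat.card H) 120 with hlt | hge
    · left
      refine ⟨5, le_rfl, by norm_num, alt_five_of_card_sixty hns ?_⟩
      obtain ⟨c, hc⟩ := h1
      rcases c with _ | _ | _ | c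
      · omega
      · omega
      · omega
      · nlinarith
    · right; left
      exact perm_of_range hf (Subgroup.eq_top_of_card_eq R (by
        rw [hRcard, Nat.card_perm, Nat.card_fin]; norm_num [Nat.factorial]; omega))
  · -- six points
    set L := R ⊓ alternatingGroup (Fin 6) with hL
    haveI : Nontrivial (Fin 6) := inferInstance
    have hrel : L.relIndex R = 1 ∨ L.relIndex R = 2 := by
      rw [hL, inf_comm, Subgroup.inf_relIndex_right]
      haveI : (alternatingGroup (Fin 6)).Normal := alternatingGroup.normal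
      have := Subgroup.relIndex_dvd_index_of_normal (alternatingGroup (Fin 6)) R
      rw [alternatingGroup.index_eq_two] at this
      exact (Nat.dvd_prime Nat.prime_two).1 this
    have hmul : L.relIndex R * Nat.card L = Nat.card R := by
      rw [mul_comm, ← Subgroup.relIndex_bot_left, ← Subgroup.relIndex_bot_left,
        Subgroup.relIndex_mul_relIndex _ _ _ bot_le inf_le_left]
    haveI hLn : (L.subgroupOf R).Normal := by
      haveI : ((alternatingGroup (Fin 6)).subgroupOf R).Normal := Subgroup.Normal.subgroupOf alternatingGroup.normal R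
      rw [hL, Subgroup.inf_subgroupOf_left]
      infer_instance
    have eL : ↥(L.subgroupOf R) ≃* L := Subgroup.subgroupOfEquivOfLe inf_le_left
    have hLns : ¬ Group.IsSolvable L := by
      intro h
      apply hRns
      haveI : Group.IsSolvable (L.subgroupOf R) :=
        solvable_of_solvable_injective (f := eL.toMonoidHom) eL.injective
      haveI : Group.IsSolvable (R ⧸ L.subgroupOf R) := solvable_of_card_lt_sixty _ rfl (by
        show Nat.card (R ⧸ L.subgroupOf R) < 60
        rw [← Subgroup.index_eq_card]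
        change L.relIndex R < 60
        omega)
      exact solvable_of_ker_le_range (L.subgroupOf R).subtype (QuotientGroup.mk' (L.subgroupOf R))
        (by rw [QuotientGroup.ker_mk', Subgroup.range_subtype])
    haveI : IsSimpleGroup (alternatingGroup (Fin 6)) := alternatingGroup.isSimpleGroup (by simp)
    have hA : Nat.card (alternatingGroup (Fin 6)) = 360 := by
      have h3 := (alternatingGroup (Fin 6)).card_mul_index
      rw [alternatingGroup.index_eq_two, Nat.card_perm, Nat.card_fin] at h3
      rw [show (6 : ℕ).factorial = 720 from rfl] at h3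
      omega
    by_cases htop : L.subgroupOf (alternatingGroup (Fin 6)) = ⊤
    · have hle : alternatingGroup (Fin 6) ≤ R := (Subgroup.subgroupOf_eq_top.1 htop).trans inf_le_left
      rcases eq_top_or_alt (by norm_num) hle with h | h
      · exact Or.inl ⟨6, by norm_num, by norm_num, alt_of_range hf h⟩
      · exact Or.inr (Or.inr (perm_of_range hf h))
    · have hdv := card_dvd_factorial htop
      rw [hA] at hdv
      have hcl : Nat.card (L.subgroupOf (alternatingGroup (Fin 6))) = Nat.card L :=
        Nat.card_congr (Subgroup.subgroupOfEquivOfLe inf_le_right).toEquiv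
      have hmi := (L.subgroupOf (alternatingGroup (Fin 6))).card_mul_index
      rw [hA, hcl] at hmi
      have hi6 : 6 ≤ (L.subgroupOf (alternatingGroup (Fin 6))).index := by
        by_contra h
        have := Nat.factorial_le (m := (L.subgroupOf (alternatingGroup (Fin 6))).index) (n := 5) (by omega)
        rw [show (5 : ℕ).factorial = 120 from rfl] at this
        have := Nat.le_of_dvd (Nat.factorial_pos _) hdv
        omega
      have hL60 : Nat.card L = 60 := by
        have := sixty_le hLns
        nlinarith
      rcases hrel with h1 | h2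
      · refine Or.inl ⟨5, le_rfl, by norm_num, alt_five_of_card_sixty hns ?_⟩
        rw [← hRcard, ← hmul, h1, hL60]
      · right; left
        have eR := MonoidHom.ofInjective hf
        have hcoreR : ∀ N : Subgroup R, N.Normal → Group.IsSolvable N → N = ⊥ := by
          intro N hN hs
          haveI := hN
          have h0 := hcore (N.comap eR.toMonoidHom) inferInstance
            (solvable_of_solvable_injective (f := eR.toMonoidHom.subgroupComap N)
              fun a b h => Subtype.ext (eR.injective (congrArg Subtype.val h)))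
          rw [eq_bot_iff]
          intro z hz
          have : eR.symm z ∈ N.comap eR.toMonoidHom := by simpa using hz
          rw [h0, Subgroup.mem_bot, eR.symm.map_eq_one_iff] at this
          exact this
        obtain ⟨g⟩ := sym_five_of_normal (H := R) (by rw [← hmul, h2, hL60]) hcoreR (L.subgroupOf R)
          (by rw [Nat.card_congr eL.toEquiv, hL60])
          (fun h => hLns (solvable_of_solvable_injective (f := eL.symm.toMonoidHom) eL.symm.injective))
        exact ⟨eR.trans g⟩
  · -- seven points
    have hle : R ≤ alternatingGroup (Fin 7) := by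
      rintro _ ⟨h, rfl⟩
      exact Perm.mem_alternatingGroup.2 (hsign (Or.inl rfl) h)
    haveI : IsPretransitive R (Fin 7) := by
      constructor
      intro a b
      obtain ⟨g, hg⟩ := (hmemO _).1 (e.symm a).2
      obtain ⟨k, hk⟩ := (hmemO _).1 (e.symm b).2
      refine ⟨⟨f (k * g⁻¹), ⟨_, rfl⟩⟩, ?_⟩
      show e.permCongr (π (k * g⁻¹)) a = b
      rw [Equiv.permCongr_apply, ← Equiv.eq_symm_apply]
      apply Subtype.ext
      show ψ (k * g⁻¹) (e.symm a : Fin 8) = _
      rw [← hg, map_mul, map_inv, Perm.mul_apply, Perm.inv_def, Equiv.symm_apply_apply, hk]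
    left
    refine ⟨7, by norm_num, by norm_num, alt_of_range hf (le_antisymm hle ?_)⟩
    by_contra hA
    have := (CfsgLib.Perm.DegSeven.main (Fintype.card_fin 7) R hRns hA).1
    rw [hRcard] at this
    rw [this] at h5
    norm_num at h5
  · -- eight points
    left
    refine ⟨8, by norm_num, le_rfl, ?_⟩
    have hall : ∀ z, z ∈ O := fun z => by
      rw [Finset.eq_univ_of_card O (by rw [hd, Fintype.card_fin])]; exact Finset.mem_univ z
    haveI : IsPretransitive ψ.range (Fin 8) := by
      constructor
      intro a b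
      obtain ⟨g, rfl⟩ := (hmemO a).1 (hall a)
      obtain ⟨k, rfl⟩ := (hmemO b).1 (hall b)
      exact ⟨⟨ψ (k * g⁻¹), ⟨_, rfl⟩⟩, show ψ (k * g⁻¹) (ψ g y) = ψ k y by
        rw [map_mul, map_inv, Perm.mul_apply, Perm.inv_def, Equiv.symm_apply_apply]⟩
    haveI hprim : IsPreprimitive ψ.range (Fin 8) := by
      refine IsPreprimitive.mk fun {B} hB => ?_
      by_contra hnt
      rw [IsTrivialBlock, not_or] at hnt
      obtain ⟨⟨a, ha, b, hb, hab⟩, hBu⟩ : (∃ a ∈ B, ∃ b ∈ B, a ≠ b) ∧ B ≠ Set.univ :=
        ⟨Set.not_subsingleton_iff.1 hnt.1, hnt.2⟩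
      -- a translate through a moved point
      obtain ⟨g, hg⟩ := exists_smul_eq ψ.range a y
      set B' := g • B with hB'
      have hyB : y ∈ B' := hg ▸ Set.smul_mem_smul_set ha
      have hblk : IsBlock ψ.range B' := hB.translate g
      have hne : B'.ncard = B.ncard := Set.ncard_smul_set g B
      have hdiv := hB.ncard_dvd_card ⟨a, ha⟩
      rw [Nat.card_fin] at hdiv
      have h2 : 2 ≤ B.ncard := (Set.one_lt_ncard (Set.toFinite B)).2 ⟨a, ha, b, hb, hab⟩
      have hlt : B.ncard < 8 := by
        rcases lt_or_ge B.ncard 8 with h | h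
        · exact h
        · exact absurd (Set.eq_of_subset_of_ncard_le (Set.subset_univ B)
            (by rw [Set.ncard_univ, Nat.card_fin]; exact h)) hBu
      have h4 : B.ncard ≤ 4 := by
        obtain ⟨c, hc⟩ := hdiv
        rcases c with _ | _ | c
        · omega
        · omega
        · nlinarith
      let X : ψ.range := ⟨ψ x, ⟨x, rfl⟩⟩
      have hX : ∀ (i : ℕ) z, (X ^ i) • z = ((ψ x) ^ i) z := fun i z => rfl
      have hinj : Set.InjOn (fun i : ℕ => ((ψ x) ^ i) y) (Finset.range 5) := by
        intro i hi j hj hij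
        simp only [Finset.coe_range, Set.mem_Iio] at hi hj
        by_contra hne
        have e1 : (ψ x) ^ i = (ψ x) ^ j := hcyc.pow_eq_pow_iff.2 ⟨y, hy, hij⟩
        exact hne (pow_injOn_Iio_orderOf (x := ψ x) (by simp [hxψ, hi]) (by simp [hxψ, hj]) e1)
      by_cases hfixB : X • B' = B'
      · have hpow : ∀ i : ℕ, X ^ i • B' = B' := by
          intro i
          induction i with
          | zero => rw [pow_zero, one_smul]
          | succ i ih => rw [pow_succ, mul_smul, hfixB, ih]
        have hle : ((Finset.range 5).image fun i : ℕ => ((ψ x) ^ i) y : Set (Fin 8)) ⊆ B' := by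
          intro z hz
          simp only [Finset.coe_image, Set.mem_image] at hz
          obtain ⟨i, -, rfl⟩ := hz
          rw [← hX, ← hpow i]
          exact Set.smul_mem_smul_set hyB
        have := Set.ncard_le_ncard hle (Set.toFinite _)
        rw [Set.ncard_coe_finset, Finset.card_image_of_injOn hinj, Finset.card_range, hne] at this
        omega
      · -- five disjoint translates
        have hdisj : ∀ i < 5, ∀ j < 5, i < j → Disjoint (X ^ i • B') (X ^ j • B') := by
          intro i hi j hj hij
          refine (hblk.smul_eq_smul_or_disjoint _ _).resolve_left fun h => hfixB ?_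
          have hm : X ^ (j - i) • B' = B' := by
            have e1 : X ^ j = X ^ i * X ^ (j - i) := by rw [← pow_add]; congr 1; omega
            rw [e1, mul_smul] at h
            exact (smul_left_cancel (X ^ i) h).symm
          have h5' : X ^ 5 = 1 := Subtype.ext (by
            show (ψ x) ^ 5 = 1
            rw [← hxψ, pow_orderOf_eq_one])
          have hco : Nat.Coprime (j - i) 5 :=
            ((Nat.Prime.coprime_iff_not_dvd (by norm_num)).2 fun hd =>
              by have := Nat.le_of_dvd (by omega) hd; omega).symm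
          have hmem : X ^ (j - i) ∈ MulAction.stabilizer ψ.range B' := hm
          obtain ⟨k, hk⟩ : ∃ k : ℕ, (X ^ (j - i)) ^ k = X := by
            have hco' : Nat.Coprime (j - i) (orderOf X) := by
              rwa [show orderOf X = 5 from orderOf_eq_prime h5' (fun h => by
                have := congrArg (fun z : ψ.range => (z : Perm (Fin 8))) h
                simp only [X, OneMemClass.coe_one] at this
                rw [this, orderOf_one] at hxψ; norm_num at hxψ)]
            exact exists_pow_eq_self_of_coprime hco'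
          rw [← hk]
          exact (MulAction.stabilizer ψ.range B').pow_mem hmem k
        let Φ : Fin 5 × B' → Fin 8 := fun q => (X ^ (q.1 : ℕ)) • (q.2 : Fin 8)
        have hΦ : Function.Injective Φ := by
          rintro ⟨i, u, hu⟩ ⟨j, v, hv⟩ h
          have hmi : X ^ (i : ℕ) • u ∈ X ^ (i : ℕ) • B' := Set.smul_mem_smul_set hu
          have h' : X ^ (i : ℕ) • u = X ^ (j : ℕ) • v := h
          have hmj : X ^ (i : ℕ) • u ∈ X ^ (j : ℕ) • B' := by rw [h']; exact Set.smul_mem_smul_set hv
          rcases Nat.lt_trichotomy (i : ℕ) j with hij | hij | hij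
          · exact (Set.disjoint_left.1 (hdisj _ i.2 _ j.2 hij) hmi hmj).elim
          · obtain rfl := Fin.ext hij
            obtain rfl : u = v := MulAction.injective (X ^ (i : ℕ)) h
            rfl
          · exact (Set.disjoint_left.1 (hdisj _ j.2 _ i.2 hij) hmj hmi).elim
        have hle := Nat.card_le_card_of_injective Φ hΦ
        rw [Nat.card_prod, Nat.card_fin, Nat.card_fin, Nat.card_coe_set_eq, hne] at hle
        omega
    have hA := Cfsg.Agent.S0713.result ψ.range hprim (p := 5) (by norm_num) (by simp) (by simp)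
      hcyc hsupp ⟨x, rfl⟩
    exact alt_of_range hψ (le_antisymm (by rintro _ ⟨h, rfl⟩; exact Perm.mem_alternatingGroup.2 (hev h)) hA)

end CfsgLib.Invol.AltEightSubgroups
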