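import Cfsg.Agent.Lib.Invol.TransferPower
import Mathlib.GroupTheory.Sylow
import Mathlib.GroupTheory.OrderOfElement

/-!
# Retractions by transfer; a criterion for Sylow subgroups; fixed-point-free involutions
-/

set_option autoImplicit false

namespace CfsgLib.Invol

open Subgroup

variable {G : Type*} [Group G] [Finite G]

/-- A subgroup equal to the set of elements of prime power order in its normaliser has index prime to `p`. -/
theorem not_dvd_index_of_normalizer {p : ℕ} [hp : Fact p.Prime] {H : Subgroup G} (hH : IsPGroup p H)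
    (h : ∀ x ∈ normalizer (H : Set G), (∃ k : ℕ, x ^ p ^ k = 1) → x ∈ H) : ¬ p ∣ H.index := by
  intro hd
  obtain ⟨n, hn⟩ := hH.exists_card_eq
  have hdvd : p ^ (n + 1) ∣ Nat.card G := by
    rw [← H.card_mul_index, hn, pow_succ]
    exact mul_dvd_mul_left _ hd
  have hq := Sylow.prime_dvd_card_quotient_normalizer hdvd hn
  haveI : (H.subgroupOf (normalizer (H : Set G))).Normal := normal_in_normalizer
  obtain ⟨y, hy⟩ := exists_prime_orderOf_dvd_card' (G := normalizer (H : Set G) ⧸ H.subgroupOf (normalizer (H : Set G))) p hq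
  induction y using QuotientGroup.induction_on with
  | _ x =>
    have hxp : x ^ p ∈ H.subgroupOf (normalizer (H : Set G)) := by
      rw [← QuotientGroup.eq_one_iff, QuotientGroup.mk_pow, ← hy, pow_orderOf_eq_one]
    obtain ⟨k, hk⟩ := hH ⟨(x : G) ^ p, by simpa [mem_subgroupOf] using hxp⟩
    have hxH := h x x.2 ⟨k + 1, by
      have h2 := congrArg Subtype.val hk
      simp only [SubmonoidClass.coe_pow, OneMemClass.coe_one] at h2
      rwa [← pow_mul, ← pow_succ'] at h2⟩
    rw [(QuotientGroup.eq_one_iff x).2 (mem_subgroupOf.2 hxH), orderOf_one] at hy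
    exact hp.out.ne_one hy.symm

/-- A central retraction by transfer. -/
theorem exists_retract {A : Type*} [CommGroup A] [Finite A] {T : Subgroup G} (φ : T →* A)
    (hcop : Nat.Coprime (Nat.card A) T.index) :
    ∃ Φ : G →* A, ∀ z : G, ∀ hz : z ∈ T, (∀ g : G, g * z = z * g) → Φ z = φ ⟨z, hz⟩ := by
  let e : A ≃* A := MulEquiv.ofBijective (powMonoidHom T.index)
    ((powCoprime hcop).bijective)
  refine ⟨e.symm.toMonoidHom.comp (MonoidHom.transfer φ), fun z hz hc => ?_⟩
  have h := transfer_eq_pow_index φ z hz fun k g₀ hk => by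
    rw [← map_pow]
    refine congrArg φ (Subtype.ext ?_)
    have h1 : g₀ * z ^ k = z ^ k * g₀ := (Commute.pow_right (hc g₀) k).eq
    show g₀⁻¹ * z ^ k * g₀ = ((⟨z, hz⟩ : T) ^ k : T)
    rw [mul_assoc, ← h1, inv_mul_cancel_left]
    rfl
  show e.symm (MonoidHom.transfer φ z) = _
  rw [h]
  exact e.symm_apply_apply (φ ⟨z, hz⟩)

/-- An involution normalising a subgroup of odd order without fixed points inverts it. -/
theorem inverts_of_fixedPointFree {N : Subgroup G} {i : G} (hi : orderOf i = 2)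
    (hn : ∀ a ∈ N, i * a * i⁻¹ ∈ N) (hfp : ∀ a ∈ N, i * a * i⁻¹ = a → a = 1) :
    ∀ a ∈ N, i * a * i⁻¹ = a⁻¹ := by
  intro a ha
  have hinv : i⁻¹ = i := invol_inv hi
  have hii : i * i = 1 := invol_mul_self hi
  let f : N → N := fun b => ⟨(b : G)⁻¹ * (i * b * i⁻¹), mul_mem (inv_mem b.2) (hn b b.2)⟩
  have hf : Function.Injective f := by
    intro b c hbc
    have e : (b : G)⁻¹ * (i * b * i⁻¹) = (c : G)⁻¹ * (i * c * i⁻¹) := congrArg Subtype.val hbc
    have e2 : i * ((c : G) * (b : G)⁻¹) * i⁻¹ = (c : G) * (b : G)⁻¹ := by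
      calc i * ((c : G) * (b : G)⁻¹) * i⁻¹
          = (c : G) * ((c : G)⁻¹ * (i * c * i⁻¹)) * (i * b * i⁻¹)⁻¹ := by group
        _ = (c : G) * ((b : G)⁻¹ * (i * b * i⁻¹)) * (i * b * i⁻¹)⁻¹ := by rw [e]
        _ = (c : G) * (b : G)⁻¹ := by group
    exact Subtype.ext (mul_inv_eq_one.1 (hfp _ (mul_mem c.2 (inv_mem b.2)) e2)).symm
  obtain ⟨b, hb⟩ := (Finite.injective_iff_surjective.1 hf) ⟨a, ha⟩
  have hb' : (b : G)⁻¹ * (i * b * i⁻¹) = a := congrArg Subtype.val hb
  rw [← hb', hinv]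
  calc i * ((b : G)⁻¹ * (i * b * i)) * i = i * (b : G)⁻¹ * i * b * (i * i) := by group
    _ = i⁻¹ * (b : G)⁻¹ * i⁻¹ * b := by rw [hii, mul_one, hinv]
    _ = ((b : G)⁻¹ * (i * b * i))⁻¹ := by group

end CfsgLib.Invol
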