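import Cfsg.Agent.Lib.Coprime.Component
import Cfsg.Agent.Lib.Coprime.Action

/-!
# Small lemmas about groups of characteristic `p`
-/

set_option autoImplicit false

open Subgroup

namespace CfsgLib.Invol

variable {G : Type*} [Group G] [Finite G] {p : ℕ} [Fact p.Prime]

/-- A solvable group with trivial `p'`-core has self-centralizing `p`-core. -/
theorem centralizer_pCore_le_of_solvable [Group.IsSolvable G] (h : Cfsg.pPrimeCore p G = ⊥) :
    centralizer (Cfsg.pCore p G : Set G) ≤ Cfsg.pCore p G := by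
  have hp : p.Prime := Fact.out
  have hF : Cfsg.fittingSubgroup G ≤ Cfsg.pCore p G := by
    rw [Coprime.fitting_eq_iSup_pCore]
    refine iSup_le fun q => ?_
    rcases eq_or_ne (q : ℕ) p with e | hq
    · rw [e]
    · haveI : Fact (q : ℕ).Prime := ⟨q.2⟩
      haveI := Coprime.pCore_normal' (G := G) (q : ℕ)
      obtain ⟨k, hk⟩ := (Coprime.pCore_isPGroup (G := G) (q : ℕ)).exists_card_eq
      refine (Coprime.le_pPrimeCore (p := p) ?_).trans (h.le.trans bot_le)
      rw [hk]
      exact Nat.Coprime.pow_left k ((Nat.coprime_primes q.2 hp).2 hq)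
  exact ((centralizer_le hF).trans Coprime.centralizer_fitting_le).trans hF

/-- A nontrivial `p`-group normalised by a `p`-group `P` has an element of order `p` centralised
by `P`. -/
theorem exists_fixed_of_normalized {P T : Subgroup G} (hP : IsPGroup p P) (hT : IsPGroup p T)
    (hne : T ≠ ⊥) (hPT : P ≤ normalizer (T : Set G)) :
    ∃ t ∈ T, orderOf t = p ∧ P ≤ centralizer ({t} : Set G) := by
  have hp : p.Prime := Fact.out
  let inst : MulAction P T :=
    { smul := fun g x => ⟨(g : G) * x * (g : G)⁻¹,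
        Coprime.conj_mem_of_le_normalizer hPT g.2 x.2⟩
      one_smul := fun x => Subtype.ext (by show ((1 : P) : G) * _ * _ = _; simp)
      mul_smul := fun g h x => Subtype.ext (by
        show ((g * h : P) : G) * _ * _ = (g : G) * ((h : G) * _ * _) * _; simp [mul_assoc]) }
  obtain ⟨k, hk⟩ := hT.exists_card_eq
  have hdvd : p ∣ Nat.card T := by
    rw [hk]
    refine dvd_pow_self p fun h0 => hne (T.eq_bot_of_card_eq ?_)
    rw [hk, h0, pow_zero]
  have h1 : (1 : T) ∈ MulAction.fixedPoints P T :=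
    fun g => Subtype.ext (by show (g : G) * _ * _ = _; simp)
  obtain ⟨x, hx, hx1⟩ := hP.exists_fixed_point_of_prime_dvd_card_of_fixed_point T hdvd h1
  have hxne : (x : G) ≠ 1 := fun e => hx1 (Subtype.ext e.symm)
  have hfix : ∀ g ∈ P, g * (x : G) * g⁻¹ = x := fun g hg => congrArg Subtype.val (hx ⟨g, hg⟩)
  obtain ⟨j, hj⟩ := hT x
  have hj' : (x : G) ^ p ^ j = 1 := by simpa using congrArg Subtype.val hj
  obtain ⟨i, -, hi⟩ := (Nat.dvd_prime_pow hp).1 (orderOf_dvd_of_pow_eq_one hj')
  have hi0 : i ≠ 0 := fun e => hxne (orderOf_eq_one_iff.1 (by rw [hi, e, pow_zero]))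
  refine ⟨(x : G) ^ p ^ (i - 1), pow_mem x.2 _, ?_, fun g hg => ?_⟩
  · rw [orderOf_pow, hi, Nat.gcd_eq_right (pow_dvd_pow p (Nat.sub_le _ _)),
      Nat.pow_div (Nat.sub_le _ _) hp.pos]
    rw [show i - (i - 1) = 1 by omega, pow_one]
  · refine mem_centralizer_singleton_iff.2 ?_
    rw [← mul_inv_eq_iff_eq_mul, ← conj_pow, hfix g hg]

end CfsgLib.Invol
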