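import Cfsg.Agent.S1293
import Cfsg.Agent.Lib.Invol.Signalizer

/-!
# Solvable groups are balanced
-/

set_option autoImplicit false
set_option linter.unusedSectionVars false
set_option linter.style.haveILetI false

namespace CfsgLib.Invol

open Subgroup
open CfsgLib.Coprime

universe u

variable {G : Type u} [Group G] [Finite G] {p : ℕ} [hp : Fact p.Prime]

theorem pLayer_eq_bot_of_solvable [Group.IsSolvable G] : Cfsg.pLayer p G = ⊥ := by
  haveI : Group.IsSolvable (G ⧸ Cfsg.pPrimeCore p G) :=
    Group.isSolvable_of_surjective (QuotientGroup.mk'_surjective (Cfsg.pPrimeCore p G))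
  refine pLayer_eq_bot_iff_layer.2 (le_bot_iff.1 (sSup_le fun K hK => absurd (inferInstance : Group.IsSolvable ↥K)
    (not_isSolvable_of_isComponent hK)))

theorem le_pPrimeCore_of_centralizer_invariant [Group.IsSolvable G] {a : G}
    (ha : IsPGroup p (zpowers a)) (ha1 : a ≠ 1) {X : Subgroup G}
    (hX : X ≤ centralizer (zpowers a : Set G)) (hXp : ¬ p ∣ Nat.card X)
    (hn : centralizer (zpowers a : Set G) ≤ normalizer (X : Set G)) :
    X ≤ Cfsg.pPrimeCore p G := by
  have h1 := (Cfsg.Agent.S1293.result p (pLayer_eq_bot_of_solvable (G := G)) (zpowers a) ha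
    (by rwa [Ne, zpowers_eq_bot])).2
  set N := normalizer (zpowers a : Set G)
  set C := centralizer (zpowers a : Set G)
  have hCN : C ≤ N := centralizer_le_normalizer_self _
  haveI hCn : (C.subgroupOf N).Normal :=
    (normal_subgroupOf_iff_le_normalizer hCN).2 (normalizer_le_normalizer_centralizer _)
  haveI : ((X.subgroupOf N).subgroupOf (C.subgroupOf N)).Normal := by
    refine ⟨fun x hx g => ?_⟩
    rw [mem_subgroupOf, mem_subgroupOf] at hx ⊢
    exact conj_mem_of_le_normalizer hn g.2 hx
  have hXN : X.subgroupOf N ≤ C.subgroupOf N := comap_mono hX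
  have hle : (X.subgroupOf N).subgroupOf (C.subgroupOf N) ≤ Cfsg.pPrimeCore p (C.subgroupOf N) := by
    refine le_pPrimeCore_of_not_dvd hp.out ?_
    rw [Nat.card_congr (subgroupOfEquivOfLe hXN).toEquiv,
      Nat.card_congr (subgroupOfEquivOfLe (hX.trans hCN)).toEquiv]
    exact hXp
  have h2 : X.subgroupOf N ≤ Cfsg.pPrimeCore p N := by
    have h3 := map_mono (f := (C.subgroupOf N).subtype) hle
    rw [map_subgroupOf_eq_of_le hXN,
      pPrimeCore_map_subtype_eq hp.out] at h3
    exact h3.trans inf_le_left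
  have h4 := map_mono (f := N.subtype) h2
  rw [map_subgroupOf_eq_of_le (hX.trans hCN)] at h4
  exact h4.trans h1

end CfsgLib.Invol
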