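import Cfsg.Agent.Lib.Coprime.Action
import Cfsg.Agent.Lib.Coprime.Component
import Cfsg.Agent.Lib.Coprime.Solvable
import Cfsg.Agent.Lib.PGroup.FpfDerived
import Cfsg.Agent.Lib.Fusion.ThompsonComplement

/-!
# Self-centralizing p-cores

`PClean p G`: no nontrivial element of order prime to `p` centralizes `O_p(G)`, equivalently the
generalized Fitting subgroup is a `p`-group. This passes to centralizers of `p`-groups of operators.
-/

set_option autoImplicit false
set_option linter.style.haveILetI false
set_option linter.unusedSectionVars false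

namespace CfsgLib.Invol

open Subgroup CfsgLib.Coprime

variable {G : Type*} [Group G] [Finite G]

/-- No nontrivial element of order prime to `p` centralizes `O_p(G)`. -/
def PClean (p : ℕ) (G : Type*) [Group G] : Prop :=
  ∀ y : G, (orderOf y).Coprime p → y ∈ centralizer (Cfsg.pCore p G : Set G) → y = 1

/-- A subgroup containing no nontrivial element of order prime to `p` is a `p`-group. -/
theorem isPGroup_of_coprime_trivial {p : ℕ} [hp : Fact p.Prime] (H : Subgroup G)
    (h : ∀ y ∈ H, (orderOf y).Coprime p → y = 1) : IsPGroup p H := by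
  rintro ⟨y, hy⟩
  obtain ⟨a, m, hm, he⟩ := Nat.exists_eq_pow_mul_and_not_dvd (orderOf_pos y).ne' p hp.out.ne_one
  refine ⟨a, Subtype.ext (h (y ^ p ^ a) (pow_mem hy _) ?_)⟩
  rw [orderOf_pow_of_dvd (pow_ne_zero _ hp.out.ne_zero) ⟨m, he⟩, he,
    Nat.mul_div_cancel_left m (pow_pos hp.out.pos _)]
  exact (hp.out.coprime_iff_not_dvd.2 hm).symm

theorem eq_one_of_coprime_of_isPGroup {p : ℕ} [Fact p.Prime] {H : Subgroup G} (hH : IsPGroup p H)
    {y : G} (hy : y ∈ H) (hc : (orderOf y).Coprime p) : y = 1 := by
  obtain ⟨k, hk⟩ := hH ⟨y, hy⟩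
  exact orderOf_eq_one_iff.1 (Nat.eq_one_of_dvd_coprimes (hc.pow_right k) dvd_rfl
    (orderOf_dvd_of_pow_eq_one (congrArg Subtype.val hk)))

variable {p : ℕ} [Fact p.Prime]

/-- `PClean` says the centralizer of `O_p` lies in `O_p`. -/
theorem PClean.centralizer_le (h : PClean p G) :
    centralizer (Cfsg.pCore p G : Set G) ≤ Cfsg.pCore p G := by
  haveI := pCore_normal' (G := G) p
  exact le_pCore (isPGroup_of_coprime_trivial _ fun y hy hc => h y hc hy)

theorem pClean_of_centralizer_le
    (h : centralizer (Cfsg.pCore p G : Set G) ≤ Cfsg.pCore p G) : PClean p G :=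
  fun _ hc hy => eq_one_of_coprime_of_isPGroup (pCore_isPGroup p) (h hy) hc

/-- The generalized Fitting subgroup is a `p`-group exactly when `PClean` holds. -/
theorem isPGroup_generalizedFitting_iff :
    IsPGroup p (Cfsg.generalizedFittingSubgroup G) ↔ PClean p G := by
  constructor
  · intro h
    haveI := generalizedFitting_normal (G := G)
    have hle : Cfsg.generalizedFittingSubgroup G ≤ Cfsg.pCore p G := le_pCore h
    exact pClean_of_centralizer_le ((Subgroup.centralizer_le hle).trans
      (centralizer_generalizedFitting_le.trans hle))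
  · intro h
    have hF : Cfsg.fittingSubgroup G ≤ Cfsg.pCore p G := by
      rw [fitting_eq_iSup_pCore]
      refine iSup_le fun q => ?_
      by_cases hq : (q : ℕ) = p
      · rw [hq]
      · haveI := Fact.mk q.2
        intro y hy
        have hyc : (orderOf y).Coprime p :=
          ((pPrimeCore_coprime (Fact.out : p.Prime)).coprime_dvd_left
            (Subgroup.orderOf_dvd_natCard _ (pCore_le_pPrimeCore_of_ne hq hy)))
        rw [h y hyc ?_]
        · exact one_mem _
        refine mem_centralizer_iff.2 fun x hx => ?_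
        haveI := pCore_normal' (G := G) p
        haveI := pCore_normal' (G := G) q.1
        refine (Subgroup.commute_of_normal_of_disjoint _ _ inferInstance inferInstance ?_ x y hx hy).eq
        rw [disjoint_iff_inf_le]
        intro z hz
        exact eq_one_of_coprime_of_isPGroup (pCore_isPGroup (G := G) p) hz.1
          ((pPrimeCore_coprime (Fact.out : p.Prime)).coprime_dvd_left
            (Subgroup.orderOf_dvd_natCard _ (pCore_le_pPrimeCore_of_ne hq hz.2)))
    refine (pCore_isPGroup (G := G) p).to_le (sup_le ?_ hF)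
    refine (layer_le_centralizer_fitting.trans (Subgroup.centralizer_le ?_)).trans h.centralizer_le
    exact pCore_le_fitting p

/-- `PClean` for the centralizer of a `p`-group of operators. -/
theorem pClean_inf_centralizer {X P : Subgroup G} (hX : PClean p X) (hP : IsPGroup p P)
    (hPX : P ≤ normalizer (X : Set G)) : PClean p ↥(X ⊓ centralizer (P : Set G)) := by
  set Y := X ⊓ centralizer (P : Set G) with hY
  intro y hyc hy
  set Q := (Cfsg.pCore p X).map X.subtype with hQ
  haveI := pCore_characteristic (G := X) p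
  have hNQ : normalizer (X : Set G) ≤ normalizer (Q : Set G) :=
    CfsgLib.PGroup.le_normalizer_map_char _
  have hQp : IsPGroup p Q := (pCore_isPGroup p).map _
  have hyo : (orderOf (y : G)).Coprime p := by rwa [Subgroup.orderOf_coe]
  -- `y` centralizes `Q ∩ C(P)`, a normal `p`-subgroup of `Y`
  have hCQ : Q ⊓ centralizer (P : Set G) ≤ centralizer (zpowers (y : G) : Set G) := by
    have hle : Q ⊓ centralizer (P : Set G) ≤ Y :=
      le_inf (inf_le_left.trans (map_subtype_le _)) inf_le_right
    haveI : ((Q ⊓ centralizer (P : Set G)).subgroupOf Y).Normal := by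
      refine ⟨fun a ha g => ?_⟩
      rw [mem_subgroupOf] at ha ⊢
      exact ⟨conj_mem_of_le_normalizer (A := X) (le_normalizer.trans hNQ) g.2.1 ha.1,
        (centralizer (P : Set G)).mul_mem ((centralizer (P : Set G)).mul_mem g.2.2 ha.2)
          ((centralizer (P : Set G)).inv_mem g.2.2)⟩
    intro z hz
    have hzc : (⟨z, hle hz⟩ : Y) ∈ Cfsg.pCore p Y :=
      le_pCore ((hQp.to_le inf_le_left).of_equiv (subgroupOfEquivOfLe hle).symm)
        (mem_subgroupOf.2 hz)
    have hcomm : z * (y : G) = (y : G) * z :=
      congrArg Subtype.val (mem_centralizer_iff.1 hy _ hzc)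
    refine mem_centralizer_iff.2 fun w hw => ?_
    obtain ⟨n, rfl⟩ := mem_zpowers_iff.1 hw
    exact ((show Commute z (y : G) from hcomm).zpow_right n).eq.symm
  have key : zpowers (y : G) ≤ centralizer (Q : Set G) := by
    refine pq_lemma hP (by rwa [Nat.card_zpowers]) hQp ?_ (hPX.trans hNQ) ?_ hCQ
    · rw [le_centralizer_iff, zpowers_le]
      exact y.2.2
    · rw [zpowers_le]
      exact hNQ (le_normalizer y.2.1)
  have h1 : (⟨y, y.2.1⟩ : X) = 1 := by
    refine hX _ ?_ (mem_centralizer_iff.2 fun x hx => Subtype.ext ?_)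
    · rwa [← Subgroup.orderOf_coe]
    · exact mem_centralizer_iff.1 (key (mem_zpowers _)) _ (mem_map_of_mem _ hx)
  exact Subtype.ext (congrArg (Subtype.val : X → G) h1)

/-- `PClean` passes from the centralizer of a `p`-subgroup to that of a larger one. -/
theorem pClean_centralizer_mono {U V : Subgroup G} (hVU : V ≤ U) (hU : IsPGroup p U)
    (hV : PClean p ↥(centralizer (V : Set G))) : PClean p ↥(centralizer (U : Set G)) := by
  induction V using WellFoundedGT.induction with
  | ind V ih =>
    rcases eq_or_lt_of_le hVU with rfl | hlt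
    · exact hV
    haveI : Group.IsNilpotent U := hU.isNilpotent
    set N := U ⊓ normalizer (V : Set G)
    have hVN : V ≤ N := le_inf hVU le_normalizer
    have hne : N ≠ V := by
      intro e
      have hne' : V.subgroupOf U ≠ ⊤ := fun e' => hlt.not_ge (subgroupOf_eq_top.1 e')
      obtain ⟨x, hxN, hxV⟩ := SetLike.exists_of_lt
        (Group.normalizerCondition_of_isNilpotent _ hne'.lt_top)
      refine hxV (mem_subgroupOf.2 ?_)
      rw [← e]
      refine ⟨x.2, Subgroup.mem_normalizer_iff.2 fun y => ?_⟩
      constructor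
      · intro hy
        exact (Subgroup.mem_normalizer_iff.1 hxN ⟨y, hVU hy⟩).1 hy
      · intro hy
        have hyU : y ∈ U := by
          have := mul_mem (mul_mem (inv_mem x.2) (hVU hy)) x.2
          rwa [show (x : G)⁻¹ * ((x : G) * y * (x : G)⁻¹) * (x : G) = y by group] at this
        exact (Subgroup.mem_normalizer_iff.1 hxN ⟨y, hyU⟩).2 hy
    refine ih N (lt_of_le_of_ne hVN hne.symm) inf_le_left ?_
    have h := pClean_inf_centralizer hV (hU.to_le (inf_le_left : N ≤ U))
      ((inf_le_right : N ≤ normalizer (V : Set G)).trans (normalizer_le_normalizer_centralizer V))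
    rwa [inf_eq_right.2 (Subgroup.centralizer_le hVN)] at h


/-! ### `p`-constraint -/

theorem pClean_congr {H : Type*} [Group H] (e : G ≃* H) (h : PClean p G) : PClean p H := by
  intro y hy hc
  have h1 := h (e.symm y) (by rwa [MulEquiv.orderOf_eq]) (mem_centralizer_iff.2 fun x hx => ?_)
  · rw [← e.apply_symm_apply y, h1, map_one]
  · apply e.injective
    rw [map_mul, map_mul, e.apply_symm_apply]
    exact mem_centralizer_iff.1 hc (e x) (map_pCore_equiv e p ▸ mem_map_of_mem _ hx)

theorem pClean_subgroup_congr {X Y : Subgroup G} (h : X = Y) (hX : PClean p X) : PClean p Y :=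
  h ▸ hX

/-- With `PClean`, the `p'`-core is trivial. -/
theorem PClean.pPrimeCore_eq_bot (h : PClean p G) : Cfsg.pPrimeCore p G = ⊥ := by
  haveI := pCore_normal' (G := G) p
  haveI : (Cfsg.pPrimeCore p G).Normal := Subgroup.sSup_normal _ fun _ h => h.1
  refine eq_bot_iff.2 fun y hy => Subgroup.mem_bot.2 ?_
  have hyc : ∀ z ∈ Cfsg.pPrimeCore p G, (orderOf z).Coprime p := fun z hz =>
    (pPrimeCore_coprime (Fact.out : p.Prime)).coprime_dvd_left (Subgroup.orderOf_dvd_natCard _ hz)
  refine h y (hyc y hy) (mem_centralizer_iff.2 fun x hx => ?_)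
  refine (Subgroup.commute_of_normal_of_disjoint _ _ inferInstance inferInstance ?_ x y hx hy).eq
  rw [disjoint_iff_inf_le]
  exact fun z hz => eq_one_of_coprime_of_isPGroup (pCore_isPGroup (G := G) p) hz.1 (hyc z hz.2)

/-- The quotient by the `p'`-core has a self-centralizing `p`-core. -/
def PCons (p : ℕ) (G : Type*) [Group G] : Prop :=
  PClean p (G ⧸ Cfsg.pPrimeCore p G)

theorem pCons_of_surjective {Q : Type*} [Group Q] [Finite Q] (f : G →* Q)
    (hf : Function.Surjective f) (hK : ¬ p ∣ Nat.card f.ker) (hQ : PClean p Q) : PCons p G := by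
  have e : Cfsg.pPrimeCore p G = f.ker := by
    refine le_antisymm ?_ (le_pPrimeCore_of_not_dvd Fact.out hK)
    rw [← Subgroup.map_eq_bot_iff, ← le_bot_iff, ← hQ.pPrimeCore_eq_bot]
    exact map_pPrimeCore_le hf p
  exact pClean_congr ((QuotientGroup.quotientMulEquivOfEq e).trans
    (QuotientGroup.quotientKerEquivOfSurjective f hf)).symm hQ

theorem pCons_of_pClean (h : PClean p G) : PCons p G :=
  pCons_of_surjective (MonoidHom.id G) Function.surjective_id
    (by rw [MonoidHom.ker_id, Subgroup.card_bot]; exact (Fact.out : p.Prime).not_dvd_one) h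

theorem pCons_congr {H : Type*} [Group H] [Finite H] (e : G ≃* H) (h : PCons p G) :
    PCons p H :=
  pClean_congr (QuotientGroup.congr _ _ e (map_pPrimeCore_equiv e p)) h

theorem pClean_of_pCons (h : PCons p G) (hO : Cfsg.pPrimeCore p G = ⊥) : PClean p G :=
  pClean_congr ((QuotientGroup.quotientMulEquivOfEq hO).trans QuotientGroup.quotientBot) h

/-- `PCons` is the same as `p`-constraint. -/
theorem isPConstrained_iff : Cfsg.IsPConstrained p G ↔ PCons p G := by
  set K := Cfsg.pPrimeCore p G
  haveI : K.Normal := Subgroup.sSup_normal _ fun _ h => h.1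
  have hKc : ¬ p ∣ Nat.card K := pPrimeCore_not_dvd Fact.out
  set f := QuotientGroup.mk' K with hf
  have hfs : Function.Surjective f := QuotientGroup.mk'_surjective K
  haveI := pCore_normal' (G := G ⧸ K) p
  set N := Cfsg.pPrimePCore p G with hN
  have himg : ∀ P : Sylow p N,
      ((P : Subgroup N).map N.subtype).map f = Cfsg.pCore p (G ⧸ K) := by
    intro P
    have hNmap : N.map f = Cfsg.pCore p (G ⧸ K) :=
      Subgroup.map_comap_eq_self_of_surjective hfs _
    refine le_antisymm ((Subgroup.map_mono (map_subtype_le _)).trans hNmap.le) ?_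
    rw [← hNmap, Subgroup.map_map]
    set g := f.comp N.subtype with hg
    have hgr : N.map f = g.range := by rw [hg, MonoidHom.range_comp, range_subtype]
    intro x hx
    have hrp : IsPGroup p g.range := hgr ▸ hNmap ▸ pCore_isPGroup p
    have hle : (P : Subgroup N).map g.rangeRestrict = ⊤ := by
      have hPc : ((P.mapSurjective g.rangeRestrict_surjective : Sylow p g.range) :
          Subgroup g.range) = (P : Subgroup N).map g.rangeRestrict :=
        Sylow.coe_mapSurjective g.rangeRestrict_surjective P
      rw [← hPc]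
      exact (P.mapSurjective g.rangeRestrict_surjective).is_maximal'
        (hrp.to_subgroup ⊤) le_top |>.symm
    have hmem : (⟨x, hgr ▸ hx⟩ : g.range) ∈ (P : Subgroup N).map g.rangeRestrict :=
      hle ▸ mem_top _
    obtain ⟨y, hy, hye⟩ := hmem
    exact ⟨y, hy, congrArg Subtype.val hye⟩
  constructor
  · intro h
    obtain ⟨P⟩ : Nonempty (Sylow p N) := inferInstance
    refine pClean_of_centralizer_le ?_
    rw [← himg P]
    refine (CfsgLib.Fusion.centralizer_map_le K hKc (P.2.map _)).trans ?_
    rw [himg P]
    exact Subgroup.map_le_iff_le_comap.2 (h P)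
  · intro h P x hx
    rw [Cfsg.pPrimePCore, Subgroup.mem_comap]
    refine (PClean.centralizer_le (h : PClean p (G ⧸ K))) (mem_centralizer_iff.2 fun y hy => ?_)
    rw [← himg P] at hy
    obtain ⟨z, hz, rfl⟩ := hy
    rw [← map_mul, ← map_mul, mem_centralizer_iff.1 hx z hz]

/-- `p`-constraint passes to centralizers of `p`-subgroups. -/
theorem pCons_centralizer (h : PCons p G) {T : Subgroup G} (hT : IsPGroup p T) :
    PCons p ↥(centralizer (T : Set G)) := by
  set K := Cfsg.pPrimeCore p G with hK
  haveI : K.Normal := Subgroup.sSup_normal _ fun _ h => h.1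
  have hKc : ¬ p ∣ Nat.card K := pPrimeCore_not_dvd Fact.out
  set f := QuotientGroup.mk' K with hf
  set C := centralizer (T : Set G) with hC
  have hC' : C.map f = centralizer (T.map f : Set (G ⧸ K)) := by
    refine le_antisymm ?_ (CfsgLib.Fusion.centralizer_map_le K hKc hT)
    rintro _ ⟨c, hc, rfl⟩
    refine mem_centralizer_iff.2 ?_
    rintro _ ⟨t, ht, rfl⟩
    rw [← map_mul, ← map_mul, mem_centralizer_iff.1 hc t ht]
  refine pCons_of_surjective (f.subgroupMap C) (f.subgroupMap_surjective C) ?_ ?_
  · intro hd
    refine hKc (hd.trans ?_)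
    rw [show Nat.card (f.subgroupMap C).ker
      = Nat.card ((f.subgroupMap C).ker.map C.subtype) from
      (Subgroup.card_map_of_injective C.subtype_injective).symm]
    refine Subgroup.card_dvd_of_le ?_
    rintro _ ⟨c, hc, rfl⟩
    exact (QuotientGroup.eq_one_iff _).1 (congrArg Subtype.val (MonoidHom.mem_ker.1 hc))
  · have h1 : PClean p (⊤ : Subgroup (G ⧸ K)) := pClean_congr Subgroup.topEquiv.symm h
    refine pClean_subgroup_congr ?_ (pClean_inf_centralizer h1 (hT.map f)
      (le_top.trans (Subgroup.normalizer_eq_top (⊤ : Subgroup (G ⧸ K))).ge))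
    rw [top_inf_eq, hC']

/-- A group with a normal `p`-subgroup whose centralizer is `p`-constrained is `p`-constrained. -/
theorem pCons_of_centralizer {T : Subgroup G} [T.Normal] (hT : IsPGroup p T)
    (h : PCons p ↥(centralizer (T : Set G))) : PCons p G := by
  set O := Cfsg.pPrimeCore p G with hO
  haveI : O.Normal := Subgroup.sSup_normal _ fun _ h => h.1
  have hOc : ¬ p ∣ Nat.card O := pPrimeCore_not_dvd Fact.out
  set C := centralizer (T : Set G) with hC
  have hOC : O ≤ C := fun x hx => mem_centralizer_iff.2 fun t ht => by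
    refine (Subgroup.commute_of_normal_of_disjoint T O inferInstance inferInstance ?_ t x ht hx).eq
    rw [disjoint_iff_inf_le]
    exact fun z hz => eq_one_of_coprime_of_isPGroup hT hz.1
      ((pPrimeCore_coprime (Fact.out : p.Prime)).coprime_dvd_left
        (Subgroup.orderOf_dvd_natCard _ hz.2))
  set f := QuotientGroup.mk' O with hf
  set g := f.subgroupMap C with hg
  have hker : g.ker = Cfsg.pPrimeCore p C := by
    apply Subgroup.map_injective C.subtype_injective
    rw [pPrimeCore_map_subtype_eq Fact.out C, ← hO, inf_eq_left.2 hOC]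
    ext x
    constructor
    · rintro ⟨c, hc, rfl⟩
      exact (QuotientGroup.eq_one_iff _).1 (congrArg Subtype.val (MonoidHom.mem_ker.1 hc))
    · intro hx
      exact ⟨⟨x, hOC hx⟩, MonoidHom.mem_ker.2 (Subtype.ext ((QuotientGroup.eq_one_iff x).2 hx)),
        rfl⟩
  have hCbar : PClean p (C.map f) :=
    pClean_congr ((QuotientGroup.quotientMulEquivOfEq hker.symm).trans
      (QuotientGroup.quotientKerEquivOfSurjective g (f.subgroupMap_surjective C))) h
  haveI : (C.map f).Normal := (inferInstance : C.Normal).map f (QuotientGroup.mk'_surjective O)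
  intro y hy hyc
  have hyC : y ∈ C.map f := by
    refine CfsgLib.Fusion.centralizer_map_le O hOc hT (Subgroup.centralizer_le ?_ hyc)
    haveI : (T.map f).Normal := (inferInstance : T.Normal).map f (QuotientGroup.mk'_surjective O)
    exact le_pCore (hT.map f)
  have h1 := hCbar ⟨y, hyC⟩ (by rwa [← Subgroup.orderOf_coe])
    (mem_centralizer_iff.2 fun x hx => Subtype.ext (mem_centralizer_iff.1 hyc x
      (((pCore_map_subtype_eq p (C.map f)).le (mem_map_of_mem (C.map f).subtype hx)).1)))
  exact congrArg Subtype.val h1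

/-- A centralizer taken inside a subgroup containing it. -/
theorem pCons_centralizer_of_le {X T : Subgroup G} (hX : PCons p X) (hT : IsPGroup p T)
    (hTX : T ≤ X) (hCX : centralizer (T : Set G) ≤ X) :
    PCons p ↥(centralizer (T : Set G)) := by
  have hT' : IsPGroup p (T.subgroupOf X) := hT.of_equiv (subgroupOfEquivOfLe hTX).symm
  have e : centralizer (T.subgroupOf X : Set X) = (centralizer (T : Set G)).subgroupOf X := by
    ext x
    constructor
    · intro hx
      refine mem_subgroupOf.2 (mem_centralizer_iff.2 fun t ht => ?_)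
      exact congrArg Subtype.val (mem_centralizer_iff.1 hx ⟨t, hTX ht⟩ (mem_subgroupOf.2 ht))
    · intro hx
      exact mem_centralizer_iff.2 fun t ht =>
        Subtype.ext (mem_centralizer_iff.1 (mem_subgroupOf.1 hx) t (mem_subgroupOf.1 ht))
  exact pCons_congr ((MulEquiv.subgroupCongr e).trans (subgroupOfEquivOfLe hCX))
    (pCons_centralizer hX hT')

/-- A normalizer of a `p`-subgroup is `p`-constrained if its centralizer is. -/
theorem pCons_normalizer {T : Subgroup G} (hT : IsPGroup p T)
    (h : PCons p ↥(centralizer (T : Set G))) : PCons p ↥(normalizer (T : Set G)) := by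
  set N := normalizer (T : Set G) with hN
  haveI : (T.subgroupOf N).Normal := Subgroup.normal_subgroupOf_of_le_normalizer le_rfl
  refine pCons_of_centralizer (T := T.subgroupOf N)
    (hT.of_equiv (subgroupOfEquivOfLe le_normalizer).symm) ?_
  have e : centralizer (T.subgroupOf N : Set N) = (centralizer (T : Set G)).subgroupOf N := by
    ext x
    constructor
    · intro hx
      refine mem_subgroupOf.2 (mem_centralizer_iff.2 fun t ht => ?_)
      exact congrArg Subtype.val
        (mem_centralizer_iff.1 hx ⟨t, le_normalizer ht⟩ (mem_subgroupOf.2 ht))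
    · intro hx
      exact mem_centralizer_iff.2 fun t ht =>
        Subtype.ext (mem_centralizer_iff.1 (mem_subgroupOf.1 hx) t (mem_subgroupOf.1 ht))
  exact pCons_congr ((MulEquiv.subgroupCongr e).trans
    (subgroupOfEquivOfLe (Subgroup.centralizer_le_normalizer _))).symm h

/-- A nontrivial `p`-subgroup has a central element of order `p`. -/
theorem exists_central_prime_order {T : Subgroup G} (hT : IsPGroup p T) (hT1 : T ≠ ⊥) :
    ∃ x ∈ T, orderOf x = p ∧ T ≤ centralizer ({x} : Set G) ∧
      centralizer (T : Set G) ≤ centralizer ({x} : Set G) := by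
  haveI : Nontrivial T := (Subgroup.nontrivial_iff_ne_bot T).2 hT1
  haveI := hT.center_nontrivial
  have hd : p ∣ Nat.card (center T) := by
    obtain ⟨k, hk⟩ := (hT.to_subgroup (center T)).exists_card_eq
    rw [hk]
    refine dvd_pow_self p fun h0 => ?_
    rw [h0, pow_zero, Subgroup.card_eq_one] at hk
    exact (Subgroup.nontrivial_iff_ne_bot _).1 inferInstance hk
  obtain ⟨x, hx⟩ := exists_prime_orderOf_dvd_card' p hd
  refine ⟨((x : T) : G), (x : T).2, by rw [Subgroup.orderOf_coe, Subgroup.orderOf_coe, hx],
    fun t ht => mem_centralizer_singleton_iff.2 ?_, fun c hc =>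
      mem_centralizer_singleton_iff.2 (mem_centralizer_iff.1 hc _ (x : T).2).symm⟩
  exact congrArg Subtype.val (mem_center_iff.1 x.2 ⟨t, ht⟩)

end CfsgLib.Invol
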