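import Mathlib
import Cfsg.Prelude.Def_CaseTheorems

/-!
# Sylow 2-subgroups of `GL₂` over a finite field of odd order
-/

set_option autoImplicit false
set_option linter.style.haveILetI false

namespace CfsgLib.Invol

open Subgroup

section generic

variable {G : Type*} [Group G] [Finite G]

/-- The order of a Sylow 2-subgroup from a factorisation of the group order. -/
theorem card_sylow_of_eq (P : Sylow 2 G) {k r : ℕ} (h : Nat.card G = 2 ^ k * r) (hr : Odd r) :
    Nat.card P = 2 ^ k := by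
  haveI : Fact (Nat.Prime 2) := ⟨Nat.prime_two⟩
  obtain ⟨j, hj⟩ := P.2.exists_card_eq
  have h1 := (P : Subgroup G).card_mul_index
  rw [h, hj] at h1
  have hi : Nat.Coprime 2 (P : Subgroup G).index :=
    Nat.prime_two.coprime_iff_not_dvd.2 P.not_dvd_index
  refine hj.trans (Nat.dvd_antisymm ?_ ?_)
  · exact (Nat.Coprime.pow_left j (Nat.coprime_two_left.2 hr)).dvd_of_dvd_mul_right
      (Dvd.intro _ h1)
  · exact (Nat.Coprime.pow_left k hi).dvd_of_dvd_mul_right (Dvd.intro _ h1.symm)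

/-- A pair of 2-elements, the second normalising the cyclic group of the first, lies in a conjugate
of any Sylow 2-subgroup; the same for a third. -/
theorem exists_conj_sup (P : Sylow 2 G) {A : Subgroup G} (hA : IsPGroup 2 A) {y : G} {b : ℕ}
    (hy : orderOf y = 2 ^ b) (hn : y ∈ normalizer (A : Set G)) :
    ∃ g : G, (∀ a ∈ A, g * a * g⁻¹ ∈ (P : Subgroup G)) ∧ g * y * g⁻¹ ∈ (P : Subgroup G) := by
  haveI : Fact (Nat.Prime 2) := ⟨Nat.prime_two⟩
  have hp : IsPGroup 2 ↥(zpowers y ⊔ A) :=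
    IsPGroup.to_sup_of_normal_right' (IsPGroup.of_card (n := b) (by rw [Nat.card_zpowers, hy])) hA
      (zpowers_le.2 hn)
  obtain ⟨Q, hQ⟩ := hp.exists_le_sylow
  obtain ⟨g, hg⟩ := MulAction.exists_smul_eq G Q P
  have key : ∀ u ∈ zpowers y ⊔ A, g * u * g⁻¹ ∈ (P : Subgroup G) := fun u hu => by
    rw [← hg, Sylow.coe_subgroup_smul]
    exact ⟨u, hQ hu, rfl⟩
  exact ⟨g, fun a ha => key a (mem_sup_right ha), key y (mem_sup_left (mem_zpowers y))⟩

theorem orderOf_subtype_conj {P : Subgroup G} {g u : G} (h : g * u * g⁻¹ ∈ P) :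
    orderOf (⟨g * u * g⁻¹, h⟩ : P) = orderOf u :=
  (Subgroup.orderOf_mk _ h).trans ((MulAut.conj g).orderOf_eq u)

/-- Criterion for a quasidihedral Sylow 2-subgroup. -/
theorem isQuasiDihedral_sylow (P : Sylow 2 G) {n r : ℕ} (hn : 3 ≤ n)
    (hc : Nat.card G = 2 ^ (n + 1) * r) (hr : Odd r) {x y : G} (hx : orderOf x = 2 ^ n)
    (hy : orderOf y = 2) (hxy : y * x * y⁻¹ = x ^ (2 ^ (n - 1) - 1)) :
    Cfsg.IsQuasiDihedral (P : Subgroup G) := by
  have hN : y ∈ normalizer (zpowers x : Set G) := by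
    have hyy : y * y = 1 := by rw [← pow_two, ← hy, pow_orderOf_eq_one]
    refine Subgroup.mem_normalizer_iff.2 fun u => ?_
    have key : ∀ u, u ∈ zpowers x → y * u * y⁻¹ ∈ zpowers x := by
      rintro _ ⟨i, rfl⟩
      show y * x ^ i * y⁻¹ ∈ _
      rw [← conj_zpow, hxy]
      exact zpow_mem (pow_mem (mem_zpowers x) _) i
    refine ⟨key u, fun h => ?_⟩
    have h1 := key _ h
    rwa [show y * (y * u * y⁻¹) * y⁻¹ = (y * y) * u * (y * y)⁻¹ by group, hyy, one_mul, inv_one,
      mul_one] at h1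
  haveI : Fact (Nat.Prime 2) := ⟨Nat.prime_two⟩
  obtain ⟨g, hgA, hgy⟩ := exists_conj_sup P
    (IsPGroup.of_card (n := n) (by rw [Nat.card_zpowers, hx]) : IsPGroup 2 (zpowers x)) (b := 1)
    (by rw [hy, pow_one]) hN
  refine ⟨n, hn, card_sylow_of_eq P hc hr, ⟨_, hgA x (mem_zpowers x)⟩, ⟨_, hgy⟩,
    (orderOf_subtype_conj _).trans hx, (orderOf_subtype_conj _).trans hy, Subtype.ext ?_⟩
  push_cast
  rw [conj_pow, ← hxy]
  group

/-- Criterion for a wreathed Sylow 2-subgroup. -/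
theorem isWreathed_sylow (P : Sylow 2 G) {n r : ℕ} (hn : 2 ≤ n)
    (hc : Nat.card G = 2 ^ (2 * n + 1) * r) (hr : Odd r) {x y z : G} (hx : orderOf x = 2 ^ n)
    (hxy : x * y = y * x) (hd : zpowers x ⊓ zpowers y = ⊥) (hz : orderOf z = 2)
    (hzx : z * x * z⁻¹ = y) : Cfsg.IsWreathed (P : Subgroup G) := by
  haveI : Fact (Nat.Prime 2) := ⟨Nat.prime_two⟩
  have hy : orderOf y = 2 ^ n := by
    rw [← hzx]; exact ((MulAut.conj z).orderOf_eq x).trans hx
  have hzz : z * z = 1 := by rw [← pow_two, ← hz, pow_orderOf_eq_one]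
  have hzy : z * y * z⁻¹ = x := by
    rw [← hzx, show z * (z * x * z⁻¹) * z⁻¹ = (z * z) * x * (z * z)⁻¹ by group, hzz]
    group
  have hA : IsPGroup 2 ↥(zpowers x ⊔ zpowers y) := by
    refine IsPGroup.to_sup_of_normal_right' (IsPGroup.of_card (n := n) (by rw [Nat.card_zpowers, hx]))
      (IsPGroup.of_card (n := n) (by rw [Nat.card_zpowers, hy])) (zpowers_le.2 ?_)
    refine centralizer_le_normalizer _ (mem_centralizer_iff.2 ?_)
    rintro _ ⟨i, rfl⟩
    exact ((Commute.zpow_left (show Commute y x from hxy.symm) i)).eq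
  have hN : z ∈ normalizer ((zpowers x ⊔ zpowers y : Subgroup G) : Set G) := by
    have key : ∀ u ∈ zpowers x ⊔ zpowers y, z * u * z⁻¹ ∈ zpowers x ⊔ zpowers y := by
      intro u hu
      suffices h : zpowers x ⊔ zpowers y ≤
          (zpowers x ⊔ zpowers y).comap (MulAut.conj z).toMonoidHom from h hu
      refine sup_le (zpowers_le.2 ?_) (zpowers_le.2 ?_)
      · show z * x * z⁻¹ ∈ zpowers x ⊔ zpowers y
        rw [hzx]; exact mem_sup_right (mem_zpowers y)
      · show z * y * z⁻¹ ∈ zpowers x ⊔ zpowers y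
        rw [hzy]; exact mem_sup_left (mem_zpowers x)
    refine Subgroup.mem_normalizer_iff.2 fun u => ⟨key u, fun h => ?_⟩
    have h1 := key _ h
    rwa [show z * (z * u * z⁻¹) * z⁻¹ = (z * z) * u * (z * z)⁻¹ by group, hzz, one_mul, inv_one,
      mul_one] at h1
  obtain ⟨g, hgA, hgz⟩ := exists_conj_sup P hA (b := 1) (by rw [hz, pow_one]) hN
  refine ⟨n, hn, card_sylow_of_eq P hc hr, ⟨_, hgA x (mem_sup_left (mem_zpowers x))⟩,
    ⟨_, hgA y (mem_sup_right (mem_zpowers y))⟩, ⟨_, hgz⟩, (orderOf_subtype_conj _).trans hx,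
    Subtype.ext ?_, ?_, (orderOf_subtype_conj _).trans hz, Subtype.ext ?_⟩
  · push_cast
    rw [show g * x * g⁻¹ * (g * y * g⁻¹) = g * (x * y) * g⁻¹ by group, hxy]; group
  · rw [eq_bot_iff]
    rintro ⟨u, hu⟩ ⟨⟨i, hi⟩, ⟨j, hj⟩⟩
    have hi' : g * x ^ i * g⁻¹ = u := by
      rw [← conj_zpow]; simpa using congrArg Subtype.val hi
    have hj' : g * y ^ j * g⁻¹ = u := by
      rw [← conj_zpow]; simpa using congrArg Subtype.val hj
    have h1 : x ^ i ∈ zpowers x ⊓ zpowers y :=
      ⟨zpow_mem_zpowers x i, by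
        rw [mul_left_cancel (mul_right_cancel (hi'.trans hj'.symm))]; exact zpow_mem_zpowers y j⟩
    rw [hd, mem_bot] at h1
    exact mem_bot.2 (Subtype.ext (show u = 1 from hi'.symm.trans (by rw [h1]; simp)))
  · push_cast
    rw [← hzx]; group

end generic

/-- An odd number above one: its distance to `1` and to `-1` as powers of two times odd numbers. -/
theorem exists_two_pow_mul_odd {a : ℕ} (ha : a ≠ 0) : ∃ k r : ℕ, Odd r ∧ a = 2 ^ k * r := by
  obtain ⟨k, r, hr, he⟩ := Nat.exists_eq_pow_mul_and_not_dvd ha 2 (by norm_num)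
  exact ⟨k, r, Nat.not_even_iff_odd.1 fun h => hr h.two_dvd, he⟩

variable {F : Type*} [Field F] [Fintype F]

theorem card_GL_two_eq : Nat.card (GL (Fin 2) F) =
    (Fintype.card F - 1) * (Fintype.card F - 1) * (Fintype.card F + 1) * Fintype.card F := by
  classical
  rw [Matrix.card_GL_field, Fin.prod_univ_two]
  simp only [Fin.val_zero, Fin.val_one, pow_zero, pow_one]
  obtain ⟨q, hq⟩ : ∃ q, Fintype.card F = q + 1 := ⟨Fintype.card F - 1, by
    have := Fintype.card_pos (α := F); omega⟩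
  rw [hq, Nat.add_sub_cancel,
    show (q + 1) ^ 2 - 1 = q * (q + 2) by
      rw [show (q + 1) ^ 2 = q * (q + 2) + 1 by ring, Nat.add_sub_cancel],
    show (q + 1) ^ 2 - (q + 1) = q * (q + 1) by
      rw [show (q + 1) ^ 2 = q * (q + 1) + (q + 1) by ring, Nat.add_sub_cancel]]
  ring

theorem exists_unit_orderOf {K : Type*} [Field K] [Finite K] {d : ℕ} (hd : d ∣ Nat.card K - 1) :
    ∃ u : Kˣ, orderOf u = d := by
  obtain ⟨u, hu⟩ := IsCyclic.exists_ofOrder_eq_natCard (α := Kˣ)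
  rw [Nat.card_units] at hu
  exact ⟨u ^ (orderOf u / d), orderOf_pow_orderOf_div (orderOf_pos u).ne' (hu ▸ hd)⟩

/-- `GL₂(q)` for `q ≡ 3 (mod 4)`: quasidihedral. -/
theorem isQuasiDihedral_GL_two (P : Sylow 2 (GL (Fin 2) F)) (h3 : Fintype.card F % 4 = 3) :
    Cfsg.IsQuasiDihedral (P : Subgroup (GL (Fin 2) F)) := by
  classical
  set q := Fintype.card F with hq
  obtain ⟨a, r, hr, har⟩ := exists_two_pow_mul_odd (a := q + 1) (by omega)
  have ha2 : 2 ≤ a := by
    by_contra h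
    obtain ⟨r', rfl⟩ := hr
    interval_cases a <;> omega
  obtain ⟨s, hs, hs'⟩ : ∃ s, q - 1 = 2 * s ∧ Odd s :=
    ⟨(q - 1) / 2, by omega, Nat.odd_iff.2 (by omega)⟩
  obtain ⟨p, hp⟩ := CharP.exists F
  haveI : Fact p.Prime := ⟨CharP.char_is_prime F p⟩
  let K := FiniteField.Extension F p 2
  have hfin : Module.finrank F K = 2 := FiniteField.finrank_extension F p 2
  haveI : Finite K := Module.finite_of_finite F
  letI : Fintype K := Fintype.ofFinite K
  have hK : Nat.card K = q ^ 2 := by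
    rw [FiniteField.natCard_extension, Nat.card_eq_fintype_card]
  obtain ⟨u, hu⟩ := exists_unit_orderOf (K := K) (d := 2 ^ (a + 1)) (by
    refine ⟨r * s, ?_⟩
    rw [hK, show q ^ 2 - 1 = (q + 1) * (q - 1) by simpa using Nat.sq_sub_sq q 1, har, hs]
    ring)
  let σ := FiniteField.frobeniusAlgEquivOfAlgebraic F K
  have hσ : ∀ v : K, σ v = v ^ q := fun v =>
    congrFun (FiniteField.coe_frobeniusAlgEquivOfAlgebraic F K) v
  let b := Module.finBasisOfFinrankEq F K hfin
  let Φ : (Module.End F K)ˣ →* GL (Fin 2) F :=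
    Units.map (LinearMap.toMatrixAlgEquiv b).toAlgHom.toRingHom.toMonoidHom
  have hΦ : Function.Injective Φ := Units.map_injective (LinearMap.toMatrixAlgEquiv b).injective
  let xE : Kˣ →* (Module.End F K)ˣ := Units.map (Algebra.lmul F K).toRingHom.toMonoidHom
  have hxE : Function.Injective xE := Units.map_injective Algebra.lmul_injective
  have hσσ : ∀ v : K, σ (σ v) = v := fun v => by
    rw [hσ, hσ, ← pow_mul, ← pow_two, ← hK, Nat.card_eq_fintype_card]
    exact FiniteField.pow_card v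
  let y₀ : (Module.End F K)ˣ :=
    ⟨σ.toLinearMap, σ.toLinearMap, LinearMap.ext hσσ, LinearMap.ext hσσ⟩
  have hrel : y₀ * xE u * y₀⁻¹ = xE u ^ q := by
    rw [← map_pow]
    refine Units.ext (LinearMap.ext fun v => ?_)
    show σ ((u : K) * σ v) = ((u ^ q : Kˣ) : K) * v
    rw [map_mul, hσσ, hσ, Units.val_pow_eq_pow_val]
  have hy : orderOf y₀ = 2 := by
    refine orderOf_eq_prime ?_ ?_
    · rw [pow_two]; exact Units.ext (LinearMap.ext hσσ)
    · intro e
      have hfix : u ^ q = u := Units.ext (by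
        rw [Units.val_pow_eq_pow_val, ← hσ]
        exact LinearMap.congr_fun (congrArg Units.val e) (u : K))
      have h1 : u ^ (q - 1) = 1 := by
        have h2 : u ^ (q - 1) * u = 1 * u := by
          rw [← pow_succ, Nat.sub_add_cancel (by omega : 1 ≤ q), hfix, one_mul]
        exact mul_right_cancel h2
      have h2 := orderOf_dvd_of_pow_eq_one h1
      rw [hu, hs, pow_succ', Nat.mul_dvd_mul_iff_left two_pos] at h2
      exact Nat.not_even_iff_odd.2 hs' (even_iff_two_dvd.2 ((dvd_pow_self 2 (by omega)).trans h2))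
  refine isQuasiDihedral_sylow P (n := a + 1) (r := r * s * s * q) (by omega) ?_
    (((hr.mul hs').mul hs').mul (Nat.odd_iff.2 (by omega))) (x := Φ (xE u)) (y := Φ y₀)
    (by rw [orderOf_injective Φ hΦ, orderOf_injective xE hxE, hu])
    (by rw [orderOf_injective Φ hΦ, hy]) ?_
  · rw [card_GL_two_eq, ← hq, hs, har]; ring
  · rw [← map_inv, ← map_mul, ← map_mul, hrel, Nat.add_sub_cancel]
    simp only [← map_pow]
    refine congrArg Φ (congrArg xE ?_)
    rw [pow_eq_pow_iff_modEq, hu]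
    obtain ⟨r', rfl⟩ := hr
    have h2 : q = 2 ^ (a + 1) * r' + (2 ^ a - 1) := by
      have h3 : 1 ≤ 2 ^ a := Nat.one_le_two_pow
      have h4 : 2 ^ a * (2 * r' + 1) = 2 ^ (a + 1) * r' + 2 ^ a := by ring
      omega
    show q % 2 ^ (a + 1) = (2 ^ a - 1) % 2 ^ (a + 1)
    rw [h2, Nat.mul_add_mod]

/-- `GL₂(q)` for `q ≡ 1 (mod 4)`: wreathed. -/
theorem isWreathed_GL_two (P : Sylow 2 (GL (Fin 2) F)) (h1 : Fintype.card F % 4 = 1) :
    Cfsg.IsWreathed (P : Subgroup (GL (Fin 2) F)) := by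
  classical
  set q := Fintype.card F with hq
  have hq1 : 1 < q := Fintype.one_lt_card
  obtain ⟨n, s, hs, hns⟩ := exists_two_pow_mul_odd (a := q - 1) (by omega)
  have hn : 2 ≤ n := by
    by_contra h
    obtain ⟨s', rfl⟩ := hs
    interval_cases n <;> omega
  obtain ⟨r, hr, hr'⟩ : ∃ r, q + 1 = 2 * r ∧ Odd r :=
    ⟨(q + 1) / 2, by omega, Nat.odd_iff.2 (by omega)⟩
  obtain ⟨ζ, hζ⟩ := exists_unit_orderOf (K := F) (d := 2 ^ n)
    ⟨s, by rw [Nat.card_eq_fintype_card]; exact hns⟩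
  let D : (Fin 2 → Fˣ) →* GL (Fin 2) F :=
    { toFun := fun f => ⟨Matrix.diagonal fun i => (f i : F), Matrix.diagonal fun i => ((f i)⁻¹ : Fˣ),
        by rw [Matrix.diagonal_mul_diagonal]; simp, by rw [Matrix.diagonal_mul_diagonal]; simp⟩
      map_one' := Units.ext (by simp)
      map_mul' := fun f g => Units.ext (by
        simp [Matrix.diagonal_mul_diagonal]) }
  have hD : Function.Injective D := fun f g e => funext fun i =>
    Units.ext (congrFun (Matrix.diagonal_injective (congrArg Units.val e)) i)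
  let w : Matrix (Fin 2) (Fin 2) F := !![0, 1; 1, 0]
  have hww : w * w = 1 := by
    ext i j
    fin_cases i <;> fin_cases j <;> simp [w, Matrix.mul_apply, Fin.sum_univ_two]
  let z : GL (Fin 2) F := ⟨w, w, hww, hww⟩
  have hz : orderOf z = 2 := by
    refine orderOf_eq_prime (by rw [pow_two]; exact Units.ext hww) fun e => ?_
    have e' : w = 1 := congrArg (fun v : GL (Fin 2) F => (v : Matrix (Fin 2) (Fin 2) F)) e
    have := congrFun (congrFun e' 0) 0
    simp [w] at this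
  refine isWreathed_sylow P (n := n) (r := s * s * r * q) hn ?_
    (((hs.mul hs).mul hr').mul (Nat.odd_iff.2 (by omega))) (x := D ![ζ, 1]) (y := D ![1, ζ])
    (z := z) ?_ ?_ ?_ hz ?_
  · rw [card_GL_two_eq, ← hq, hns, hr]; ring
  · rw [orderOf_injective D hD, Pi.orderOf]
    simp [Fin.univ_succ, hζ]
  · rw [← map_mul, ← map_mul, mul_comm]
  · rw [eq_bot_iff]
    rintro u ⟨⟨i, hi⟩, ⟨j, hj⟩⟩
    have hij : (![ζ, 1] : Fin 2 → Fˣ) ^ i = ![1, ζ] ^ j := by
      refine hD ?_
      rw [map_zpow, map_zpow]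
      exact hi.trans hj.symm
    have h0 := congrFun hij 0
    simp at h0
    rw [mem_bot, ← hi]
    show D ![ζ, 1] ^ i = 1
    rw [← map_zpow, show (![ζ, 1] : Fin 2 → Fˣ) ^ i = 1 from funext fun l => ?_, map_one]
    fin_cases l <;> simp [h0]
  · refine mul_inv_eq_iff_eq_mul.2 (Units.ext ?_)
    show w * Matrix.diagonal (fun i => ((![ζ, 1] i : Fˣ) : F)) =
      Matrix.diagonal (fun i => ((![1, ζ] i : Fˣ) : F)) * w
    ext i j
    fin_cases i <;> fin_cases j <;>
      simp [w, Matrix.mul_apply, Matrix.diagonal, Fin.sum_univ_two]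

end CfsgLib.Invol
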