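import Mathlib.GroupTheory.Nilpotent
import Mathlib.GroupTheory.SchurZassenhaus
import Mathlib.GroupTheory.NoncommCoprod
import Cfsg.Agent.Lib.Coprime.UniqueOrderP
import Cfsg.Agent.Lib.Coprime.Solvable

/-!
# Groups in which abelian subgroups of equal order are conjugate
-/

set_option autoImplicit false
set_option linter.style.haveILetI false
set_option linter.unusedSectionVars false

namespace CfsgLib.Invol

open Subgroup CfsgLib.Coprime

variable {G : Type*} [Group G] [Finite G]

/-- Any two abelian subgroups of the same order are conjugate. -/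
def AbelianConjugate (G : Type*) [Group G] : Prop :=
  ∀ A B : Subgroup G, IsMulCommutative ↥A → IsMulCommutative ↥B →
    Nat.card ↥A = Nat.card ↥B → ∃ g : G, B = A.map (MulAut.conj g).toMonoidHom

theorem exists_elementary_card_sq {p : ℕ} [hp : Fact p.Prime] {P : Subgroup G} (hP : IsPGroup p P)
    (hu : ¬ UniqueOrderP p P) :
    ∃ E : Subgroup G, IsMulCommutative E ∧ Nat.card E = p ^ 2 ∧ (∀ x ∈ E, x ^ p = 1) ∧ E ≤ P := by
  classical
  obtain ⟨x, y, hx, hy, hx1, hyx⟩ : ∃ x y : P, x ^ p = 1 ∧ y ^ p = 1 ∧ x ≠ 1 ∧ y ∉ zpowers x := by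
    unfold UniqueOrderP at hu
    push_neg at hu
    exact hu
  haveI : Nontrivial P := ⟨⟨x, 1, hx1⟩⟩
  haveI := hP.center_nontrivial
  obtain ⟨c, hc⟩ := exists_prime_orderOf_dvd_card' (G := center P) p (by
    obtain ⟨k, hk, hk'⟩ := (hP.to_subgroup (center P)).nontrivial_iff_card.1 inferInstance
    rw [hk']; exact dvd_pow_self p hk.ne')
  set z : P := c.1 with hz
  have hzo : orderOf z = p := by rw [hz, Subgroup.orderOf_coe, hc]
  obtain ⟨w, hw, hwz⟩ : ∃ w : P, w ^ p = 1 ∧ w ∉ zpowers z := by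
    by_cases h1 : x ∈ zpowers z
    · refine ⟨y, hy, fun h2 => hyx ?_⟩
      have h3 : zpowers x = zpowers z := eq_of_le_of_card_ge (zpowers_le.2 h1)
        (by rw [Nat.card_zpowers, Nat.card_zpowers, hzo, orderOf_eq_prime hx hx1])
      rwa [h3]
    · exact ⟨x, hx, h1⟩
  have hwo : orderOf w = p := orderOf_eq_prime hw fun h => hwz (h ▸ one_mem _)
  have hzw : ∀ (a : zpowers z) (b : zpowers w), Commute ((zpowers z).subtype a) ((zpowers w).subtype b) := by
    rintro ⟨_, i, rfl⟩ ⟨_, j, rfl⟩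
    exact (Commute.zpow_zpow (mem_center_iff.1 c.2 w).symm i j)
  set f : zpowers z × zpowers w →* G :=
    (P : Subgroup G).subtype.comp (MonoidHom.noncommCoprod _ _ hzw) with hf
  have hinj : Function.Injective f := by
    refine (P.subtype_injective).comp ?_
    refine (injective_iff_map_eq_one _).2 ?_
    rintro ⟨a, b⟩ hab
    simp only [MonoidHom.noncommCoprod_apply, Subgroup.coe_subtype] at hab
    have hb : (b : P) ∈ zpowers z := by
      rw [eq_inv_of_mul_eq_one_right hab]; exact inv_mem a.2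
    have hb1 : (b : P) = 1 := by
      by_contra hne
      apply hwz
      have h3 : zpowers (b : P) = zpowers w := eq_of_le_of_card_ge (zpowers_le.2 b.2)
        (by
          rw [Nat.card_zpowers, Nat.card_zpowers, hwo]
          refine le_of_eq (orderOf_eq_prime ?_ hne).symm
          have := pow_card_eq_one' (x := b)
          rw [Nat.card_zpowers, hwo] at this
          exact congrArg Subtype.val this)
      exact zpowers_le.2 hb (h3.symm ▸ mem_zpowers w)
    rw [hb1, mul_one] at hab
    exact Prod.ext (Subtype.ext hab) (Subtype.ext hb1)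
  refine ⟨f.range, ?_, ?_, ?_, ?_⟩
  · exact ⟨⟨fun a b => by
      obtain ⟨_, u, rfl⟩ := a
      obtain ⟨_, v, rfl⟩ := b
      refine Subtype.ext ?_
      show f u * f v = f v * f u
      rw [← map_mul, ← map_mul, mul_comm' u v]⟩⟩
  · rw [← Nat.card_congr (MonoidHom.ofInjective hinj).toEquiv, Nat.card_prod, Nat.card_zpowers,
      Nat.card_zpowers, hzo, hwo, pow_two]
  · rintro _ ⟨u, rfl⟩
    rw [← map_pow, show u ^ p = 1 from Prod.ext ?_ ?_, map_one]
    · have := pow_card_eq_one' (x := u.1); rwa [Nat.card_zpowers, hzo] at this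
    · have := pow_card_eq_one' (x := u.2); rwa [Nat.card_zpowers, hwo] at this
  · rintro _ ⟨u, rfl⟩; exact SetLike.coe_mem _

theorem AbelianConjugate.mem_conj_zpowers (hB : AbelianConjugate G) {a b : G}
    (h : orderOf a = orderOf b) : ∃ g : G, ∃ y ∈ zpowers a, g * y * g⁻¹ = b := by
  obtain ⟨g, hg⟩ := hB (zpowers a) (zpowers b) inferInstance inferInstance
    (by rw [Nat.card_zpowers, Nat.card_zpowers, h])
  obtain ⟨y, hy, hyb⟩ := hg ▸ mem_zpowers b
  exact ⟨g, y, hy, by simpa using hyb⟩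

theorem AbelianConjugate.mem_of_normal (hB : AbelianConjugate G) (M : Subgroup G) [M.Normal]
    {a b : G} (ha : a ∈ M) (h : orderOf a = orderOf b) : b ∈ M := by
  obtain ⟨g, y, hy, rfl⟩ := hB.mem_conj_zpowers h
  exact ‹M.Normal›.conj_mem y (zpowers_le.2 ha hy) g

/-- A Sylow subgroup has a unique subgroup of order `p` or has exponent `p`. -/
theorem AbelianConjugate.unique_or_exponent (hB : AbelianConjugate G) {p : ℕ} [hp : Fact p.Prime]
    (P : Sylow p G) : UniqueOrderP p (P : Subgroup G) ∨ ∀ x ∈ (P : Subgroup G), x ^ p = 1 := by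
  by_contra h
  push_neg at h
  obtain ⟨hu, x, hx, hxp⟩ := h
  obtain ⟨E, hEc, hEcard, hEexp, -⟩ := exists_elementary_card_sq P.2 hu
  obtain ⟨k, hk⟩ := (Nat.dvd_prime_pow hp.out).1
    (show orderOf x ∣ p ^ (Nat.card P).factorization p by
      obtain ⟨n, hn⟩ := P.2.exists_card_eq
      rw [hn, hp.out.factorization_pow, Finsupp.single_eq_same, ← hn]
      exact Subgroup.orderOf_dvd_natCard _ hx)
  have hk2 : 2 ≤ k := by
    by_contra hlt
    refine hxp (orderOf_dvd_iff_pow_eq_one.1 ?_)
    rw [hk.2]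
    exact (pow_dvd_pow p (show k ≤ 1 by omega)).trans (by rw [pow_one])
  set a := x ^ p ^ (k - 2) with ha
  have hao : orderOf a = p ^ 2 := by
    rw [ha, orderOf_pow_of_dvd (pow_ne_zero _ hp.out.ne_zero) (hk.2 ▸ pow_dvd_pow p (Nat.sub_le k 2)),
      hk.2, Nat.pow_div (Nat.sub_le k 2) hp.out.pos, Nat.sub_sub_self hk2]
  obtain ⟨g, hg⟩ := hB E (zpowers a) hEc inferInstance (by rw [hEcard, Nat.card_zpowers, hao])
  obtain ⟨y, hy, hya⟩ := hg ▸ mem_zpowers a
  have : a ^ p = 1 := by rw [← hya, ← map_pow, hEexp y hy, map_one]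
  have h1 := orderOf_dvd_of_pow_eq_one this
  rw [hao] at h1
  have := Nat.le_of_dvd hp.out.pos h1
  have := hp.out.two_le
  nlinarith

/-- An exponent-`p` Sylow subgroup lies in every normal subgroup of order divisible by `p`. -/
theorem AbelianConjugate.not_dvd_index_of_exponent (hB : AbelianConjugate G) {p : ℕ} [hp : Fact p.Prime]
    (P : Sylow p G) (hexp : ∀ x ∈ (P : Subgroup G), x ^ p = 1) (M : Subgroup G) [M.Normal]
    (hM : p ∣ Nat.card M) : ¬ p ∣ M.index := by
  obtain ⟨m, hm⟩ := exists_prime_orderOf_dvd_card' (G := M) p hM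
  have hle : (P : Subgroup G) ≤ M := fun x hx => by
    by_cases h1 : x = 1
    · exact h1 ▸ one_mem M
    · exact hB.mem_of_normal M m.2 (by rw [Subgroup.orderOf_coe, hm, orderOf_eq_prime (hexp x hx) h1])
  exact fun hd => P.not_dvd_index (hd.trans (index_dvd_of_le hle))

theorem le_of_card_dvd_of_cyclic {Z : Type*} [Group Z] [Finite Z] [IsCyclic Z] {H K : Subgroup Z}
    (h : Nat.card H ∣ Nat.card K) : H ≤ K := by
  classical
  haveI := Fintype.ofFinite Z
  intro x hx
  have hxK : x ^ Nat.card K = 1 := orderOf_dvd_iff_pow_eq_one.1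
    ((Subgroup.orderOf_dvd_natCard H hx).trans h)
  set s : Finset Z := Finset.univ.filter (fun a => a ^ Nat.card K = 1) with hs
  have hsub : (Finset.univ.filter (fun a => a ∈ K)) ⊆ s := fun a ha => by
    rw [hs, Finset.mem_filter]
    exact ⟨Finset.mem_univ _, orderOf_dvd_iff_pow_eq_one.1
      (Subgroup.orderOf_dvd_natCard K (Finset.mem_filter.1 ha).2)⟩
  have hcard : (Finset.univ.filter (fun a => a ∈ K)).card = Nat.card K := by
    rw [← Fintype.card_subtype, ← Nat.card_eq_fintype_card]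
  have heq := Finset.eq_of_subset_of_card_le hsub
    (hcard.symm ▸ IsCyclic.card_pow_eq_one_le Nat.card_pos)
  have : x ∈ Finset.univ.filter (fun a => a ∈ K) := by
    rw [heq, hs, Finset.mem_filter]; exact ⟨Finset.mem_univ _, hxK⟩
  exact (Finset.mem_filter.1 this).2

/-- The local condition on a prime needed to lift an abelian subgroup of a quotient. -/
def LiftCond (p : ℕ) (M : Subgroup G) [M.Normal] (A : Subgroup (G ⧸ M)) : Prop :=
  ∀ Q : Subgroup G, IsPGroup p Q → Q.map (QuotientGroup.mk' M) ≤ A → ¬ Q ≤ M →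
    IsMulCommutative Q ∧ p ^ (Nat.card M).factorization p ∣ Nat.card (Q ⊓ M : Subgroup G)

/-- A conjugate of a Sylow subgroup of a normal subgroup inside a given Sylow subgroup. -/
theorem exists_le_sylow_inf {p : ℕ} [Fact p.Prime] (M : Subgroup G) [M.Normal] (P : Sylow p G) :
    ∃ T : Subgroup G, T ≤ (P : Subgroup G) ∧ T ≤ M ∧ Nat.card T = p ^ (Nat.card M).factorization p := by
  obtain ⟨T⟩ : Nonempty (Sylow p M) := inferInstance
  have hT : IsPGroup p ((T : Subgroup M).map M.subtype) := T.2.map _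
  obtain ⟨R, hR⟩ := hT.exists_le_sylow
  obtain ⟨c, rfl⟩ := MulAction.exists_smul_eq G R P
  refine ⟨((T : Subgroup M).map M.subtype).map (MulAut.conj c).toMonoidHom, ?_, ?_, ?_⟩
  · intro x hx
    obtain ⟨y, hy, rfl⟩ := hx
    exact smul_mem_pointwise_smul y (MulAut.conj c) _ (hR hy)
  · rintro _ ⟨_, ⟨y, -, rfl⟩, rfl⟩
    exact ‹M.Normal›.conj_mem _ y.2 c
  · rw [Subgroup.card_map_of_injective (MulEquiv.injective _),
      Subgroup.card_map_of_injective M.subtype_injective, T.card_eq_multiplicity]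

theorem liftCond_of_cyclic {p : ℕ} [hp : Fact p.Prime] (M : Subgroup G) [M.Normal]
    (A : Subgroup (G ⧸ M)) (hc : ∀ P : Sylow p G, IsCyclic P) : LiftCond p M A := by
  intro Q hQ _ hQM
  obtain ⟨P, hQP⟩ := hQ.exists_le_sylow
  haveI := hc P
  refine ⟨⟨⟨fun a b => Subtype.ext ?_⟩⟩, ?_⟩
  · haveI : IsMulCommutative P := IsCyclic.commutative
    exact congrArg (fun z : P => (z : G)) (mul_comm' (⟨a, hQP a.2⟩ : P) ⟨b, hQP b.2⟩)
  obtain ⟨T, hTP, hTM, hT⟩ := exists_le_sylow_inf M P
  obtain ⟨n, hn⟩ := hQ.exists_card_eq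
  have hle : T ≤ Q := by
    rcases le_total ((Nat.card M).factorization p) n with h | h
    · intro x hx
      exact le_of_card_dvd_of_cyclic (Z := P) (H := T.subgroupOf P) (K := Q.subgroupOf P) (by
        rw [Nat.card_congr (subgroupOfEquivOfLe hTP).toEquiv,
          Nat.card_congr (subgroupOfEquivOfLe hQP).toEquiv, hT, hn]
        exact pow_dvd_pow p h) (show (⟨x, hTP hx⟩ : P) ∈ T.subgroupOf P from hx)
    · refine absurd (fun x hx => hTM ?_) hQM
      exact le_of_card_dvd_of_cyclic (Z := P) (H := Q.subgroupOf P) (K := T.subgroupOf P) (by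
        rw [Nat.card_congr (subgroupOfEquivOfLe hTP).toEquiv,
          Nat.card_congr (subgroupOfEquivOfLe hQP).toEquiv, hT, hn]
        exact pow_dvd_pow p h) (show (⟨x, hQP hx⟩ : P) ∈ Q.subgroupOf P from hx)
  rw [← hT]
  exact card_dvd_of_le (le_inf hle hTM)

theorem liftCond_of_not_dvd {p : ℕ} [hp : Fact p.Prime] (M : Subgroup G) [M.Normal]
    (A : Subgroup (G ⧸ M)) [IsMulCommutative A] (h : ¬ p ∣ Nat.card M) : LiftCond p M A := by
  intro Q hQ hQA _
  refine ⟨⟨⟨fun a b => Subtype.ext ?_⟩⟩, by rw [Nat.factorization_eq_zero_of_not_dvd h, pow_zero]; exact one_dvd _⟩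
  have hab : (QuotientGroup.mk' M) ((a : G) * b) = QuotientGroup.mk' M ((b : G) * a) := by
    rw [map_mul, map_mul]
    exact congrArg Subtype.val (mul_comm' (⟨_, hQA (mem_map_of_mem _ a.2)⟩ : A)
      ⟨_, hQA (mem_map_of_mem _ b.2)⟩)
  rw [QuotientGroup.mk'_eq_mk'] at hab
  obtain ⟨m, hm, hab⟩ := hab
  have hmQ : m ∈ Q := by
    rw [eq_inv_mul_of_mul_eq hab]
    exact mul_mem (inv_mem (mul_mem a.2 b.2)) (mul_mem b.2 a.2)
  obtain ⟨k, hk⟩ := hQ ⟨m, hmQ⟩
  have h1 : orderOf m ∣ p ^ k := orderOf_dvd_of_pow_eq_one (congrArg Subtype.val hk)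
  have hm1 : m = 1 := orderOf_eq_one_iff.1 (Nat.eq_one_of_dvd_coprimes
    (((hp.out.coprime_iff_not_dvd.2 h)).pow_left k) h1 (Subgroup.orderOf_dvd_natCard M hm))
  rwa [hm1, mul_one] at hab

/-- Lifting an abelian subgroup of a quotient to an abelian subgroup of prescribed order. -/
theorem exists_abelian_lift (M : Subgroup G) [M.Normal] (A : Subgroup (G ⧸ M)) [IsMulCommutative A]
    (hloc : ∀ p : ℕ, p.Prime → p ∣ Nat.card A → LiftCond p M A) :
    ∃ S : Subgroup G, IsMulCommutative S ∧ S.map (QuotientGroup.mk' M) = A ∧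
      ∀ p : ℕ, p.Prime → (Nat.card S).factorization p = if p ∣ Nat.card A then
        (Nat.card A).factorization p + (Nat.card M).factorization p else 0 := by
  classical
  set π := QuotientGroup.mk' M with hπ
  have hsur := QuotientGroup.mk'_surjective M
  obtain ⟨S, hSmap, hSmin⟩ : ∃ S : Subgroup G, S.map π = A ∧ ∀ T : Subgroup G, T.map π = A → T ≤ S → T = S := by
    obtain ⟨S, -, hS⟩ := exists_minimal_le_of_wellFoundedLT (α := Subgroup G)
      (fun T => T.map π = A) (A.comap π) (map_comap_eq_self_of_surjective hsur A)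
    exact ⟨S, hS.1, fun T hT hle => le_antisymm hle (hS.2 hT hle)⟩
  set N := M.subgroupOf S with hN
  haveI : N.Normal := inferInstance
  have hker : (π.comp S.subtype).ker = N := by
    rw [← MonoidHom.comap_ker, hπ, QuotientGroup.ker_mk']; rfl
  have hrange : (π.comp S.subtype).range = A := by
    rw [MonoidHom.range_comp, Subgroup.range_subtype, hSmap]
  have hcardS : Nat.card S = Nat.card A * Nat.card N := by
    rw [← hrange, ← hker, card_eq_card_quotient_mul_card_subgroup (π.comp S.subtype).ker]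
    congr 1
    exact Nat.card_congr (QuotientGroup.quotientKerEquivRange _).toEquiv
  have hNfr : N ≤ frattini S := by
    refine le_iInf₂ fun L hL => ?_
    by_contra hNL
    have htop : L ⊔ N = ⊤ := hL.2 _ (lt_of_le_of_ne le_sup_left fun e => hNL (e ▸ le_sup_right))
    have h1 : (L.map S.subtype).map π = A := by
      rw [map_map]
      have : (L ⊔ N).map (π.comp S.subtype) = L.map (π.comp S.subtype) := by
        rw [Subgroup.map_sup, ← hker, (Subgroup.map_eq_bot_iff _).2 le_rfl, sup_bot_eq]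
      rw [← this, htop, ← MonoidHom.range_eq_map, hrange]
    have h2 := hSmin _ h1 (map_subtype_le L)
    exact hL.1 (by rw [← comap_map_eq_self_of_injective S.subtype_injective L, h2]
                   exact Subgroup.subgroupOf_self S)
  have hcomN : commutator S ≤ N := by
    rw [← hker, _root_.commutator_def, commutator_le]
    intro a _ b _
    rw [MonoidHom.mem_ker, map_commutatorElement, commutatorElement_eq_one_iff_commute]
    exact congrArg Subtype.val (mul_comm' (⟨_, hrange ▸ ⟨a, rfl⟩⟩ : A) ⟨_, hrange ▸ ⟨b, rfl⟩⟩)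
  haveI hnil : Group.IsNilpotent S := by
    apply isNilpotent_of_frattini_quotient
    haveI : IsMulCommutative (S ⧸ frattini S) :=
      (Subgroup.Normal.quotient_commutative_iff_commutator_le).2 (hcomN.trans hNfr)
    letI : CommGroup (S ⧸ frattini S) :=
      { (inferInstance : Group (S ⧸ frattini S)) with mul_comm := fun a b => mul_comm' a b }
    exact CommGroup.isNilpotent
  have hprimes : ∀ p : ℕ, p.Prime → p ∣ Nat.card S → p ∣ Nat.card A := by
    intro p hp hpS
    by_contra hpA
    haveI := Fact.mk hp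
    obtain ⟨Q⟩ : Nonempty (Sylow p S) := inferInstance
    have hQN : (Q : Subgroup S) ≤ N := fun x hx => by
      rw [← hker, MonoidHom.mem_ker]
      obtain ⟨k, hk⟩ := Q.2 ⟨x, hx⟩
      have h1 : orderOf ((π.comp S.subtype) x) ∣ p ^ k :=
        (orderOf_map_dvd _ x).trans (orderOf_dvd_of_pow_eq_one (congrArg Subtype.val hk))
      exact orderOf_eq_one_iff.1 (Nat.eq_one_of_dvd_coprimes
        ((hp.coprime_iff_not_dvd.2 hpA).pow_left k) h1
        (Subgroup.orderOf_dvd_natCard A (hrange ▸ ⟨x, rfl⟩)))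
    haveI : (Q : Subgroup S).Normal := by
      exact (Group.isNilpotent_of_finite_tfae.out 0 3 rfl rfl).mp hnil p ⟨hp⟩ Q
    have hcop : (Nat.card (Q : Subgroup S)).Coprime (Q : Subgroup S).index := by
      obtain ⟨n, hn⟩ := Q.2.exists_card_eq
      rw [hn]; exact (hp.coprime_iff_not_dvd.2 Q.not_dvd_index).pow_left n
    obtain ⟨L, hL⟩ := exists_left_complement'_of_coprime hcop
    have hLtop : L = ⊤ := frattini_nongenerating (eq_top_iff.2 (hL.sup_eq_top.ge.trans
      (sup_le_sup_left (hQN.trans hNfr) L)))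
    subst hLtop
    have := hL.index_eq_card
    rw [Subgroup.card_top] at this
    exact Q.not_dvd_index (this ▸ hpS)
  have hloc' : ∀ (p : ℕ) [Fact p.Prime] (Q : Sylow p S),
      IsMulCommutative (Q : Subgroup S) ∧ (p ∣ Nat.card A → p ^ (Nat.card M).factorization p ∣ Nat.card N) := by
    intro p hp Q
    have hQ' : IsPGroup p ((Q : Subgroup S).map S.subtype) := Q.2.map _
    have hQA : ((Q : Subgroup S).map S.subtype).map π ≤ A := hSmap ▸ map_mono (map_subtype_le _)
    have hcase : ((Q : Subgroup S).map S.subtype ≤ M) → ¬ p ∣ Nat.card A := by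
      intro hQM hpA
      have hQN : (Q : Subgroup S) ≤ N := fun x hx => hQM (mem_map_of_mem _ hx)
      refine Q.not_dvd_index ((hpA.trans ?_).trans (index_dvd_of_le hQN))
      rw [← hker, Subgroup.index_ker, hrange]
    by_cases hpA : p ∣ Nat.card A
    · obtain ⟨hc, hd⟩ := hloc p hp.out hpA _ hQ' hQA fun h => hcase h hpA
      refine ⟨⟨⟨fun a b => Subtype.ext (Subtype.ext ?_)⟩⟩, fun _ => hd.trans ?_⟩
      · simp only [Subgroup.coe_mul]
        exact congrArg Subtype.val (mul_comm'
          (⟨_, mem_map_of_mem S.subtype a.2⟩ : ((Q : Subgroup S).map S.subtype : Subgroup G))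
          ⟨_, mem_map_of_mem S.subtype b.2⟩)
      · rw [← Subgroup.card_map_of_injective (K := N) S.subtype_injective]
        refine card_dvd_of_le ?_
        rintro x ⟨⟨y, hy, rfl⟩, hxM⟩
        exact ⟨y, hxM, rfl⟩
    · refine ⟨?_, fun h => absurd h hpA⟩
      obtain ⟨n, hn⟩ := Q.2.exists_card_eq
      rcases Nat.eq_zero_or_pos n with h0 | h0
      · haveI : Subsingleton (Q : Subgroup S) := (Nat.card_eq_one_iff_unique.1 (by rw [hn, h0, pow_zero])).1
        exact ⟨⟨fun a b => Subsingleton.elim _ _⟩⟩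
      · exact absurd (hprimes p hp.out ((dvd_pow_self p h0.ne').trans
          (hn ▸ card_subgroup_dvd_card _))) hpA
  refine ⟨S, ?_, hSmap, fun p hp => ?_⟩
  · obtain ⟨e⟩ := (Group.isNilpotent_of_finite_tfae.out 0 4 rfl rfl).mp hnil
    refine ⟨⟨fun a b => e.symm.injective ?_⟩⟩
    rw [map_mul, map_mul]
    funext q Q
    haveI : Fact (q : ℕ).Prime := ⟨Nat.prime_of_mem_primeFactors q.2⟩
    haveI := (hloc' q Q).1
    exact mul_comm' _ _
  · haveI := Fact.mk hp
    split_ifs with hpA
    · rw [hcardS, Nat.factorization_mul Nat.card_pos.ne' Nat.card_pos.ne', Finsupp.add_apply]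
      congr 1
      obtain ⟨Q⟩ : Nonempty (Sylow p S) := inferInstance
      refine le_antisymm ?_ ((hp.pow_dvd_iff_le_factorization Nat.card_pos.ne').1 ((hloc' p Q).2 hpA))
      have hd : Nat.card N ∣ Nat.card M := by
        rw [← Subgroup.card_map_of_injective (K := N) S.subtype_injective]
        exact card_dvd_of_le (by rintro _ ⟨y, hy, rfl⟩; exact hy)
      exact (Nat.factorization_le_iff_dvd Nat.card_pos.ne' Nat.card_pos.ne').2 hd p
    · exact Nat.factorization_eq_zero_of_not_dvd fun h => hpA (hprimes p hp h)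

/-- Two liftable abelian subgroups of equal order of a quotient are conjugate. -/
theorem AbelianConjugate.conj_of_lift (hB : AbelianConjugate G) (M : Subgroup G) [M.Normal]
    (A B : Subgroup (G ⧸ M)) [IsMulCommutative A] [IsMulCommutative B] (hcard : Nat.card A = Nat.card B)
    (hA : ∀ p : ℕ, p.Prime → p ∣ Nat.card A → LiftCond p M A)
    (hB' : ∀ p : ℕ, p.Prime → p ∣ Nat.card B → LiftCond p M B) :
    ∃ g : G ⧸ M, B = A.map (MulAut.conj g).toMonoidHom := by
  obtain ⟨S, hSc, hS, hSf⟩ := exists_abelian_lift M A hA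
  obtain ⟨T, hTc, hT, hTf⟩ := exists_abelian_lift M B hB'
  have hST : Nat.card S = Nat.card T := by
    refine Nat.eq_of_factorization_eq Nat.card_pos.ne' Nat.card_pos.ne' fun p => ?_
    by_cases hp : p.Prime
    · rw [hSf p hp, hTf p hp, hcard]
    · rw [Nat.factorization_eq_zero_of_not_prime _ hp, Nat.factorization_eq_zero_of_not_prime _ hp]
  obtain ⟨g, hg⟩ := hB S T hSc hTc hST
  refine ⟨QuotientGroup.mk' M g, ?_⟩
  rw [← hT, ← hS, hg, map_map, map_map]
  congr 1

end CfsgLib.Invol
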