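import Cfsg.Agent.Lib.Invol.BGroupSolvable

/-!
# In a solvable group with conjugate equal-order abelian subgroups all equal-order subgroups are conjugate
-/

set_option autoImplicit false
set_option linter.style.haveILetI false
set_option linter.unusedSectionVars false

namespace CfsgLib.Invol

open Subgroup CfsgLib.Coprime

universe u

variable {G : Type u} [Group G] [Finite G]

theorem card_map_mk (N L : Subgroup G) [N.Normal] :
    Nat.card L = Nat.card (L.map (QuotientGroup.mk' N)) * Nat.card (L ⊓ N : Subgroup G) := by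
  have h1 := card_eq_card_quotient_mul_card_subgroup ((QuotientGroup.mk' N).comp L.subtype).ker
  rwa [Nat.card_congr (QuotientGroup.quotientKerEquivRange _).toEquiv, MonoidHom.range_comp,
    Subgroup.range_subtype, ← MonoidHom.comap_ker, QuotientGroup.ker_mk',
    ← Subgroup.card_map_of_injective (K := N.comap L.subtype) L.subtype_injective,
    Subgroup.map_comap_eq, Subgroup.range_subtype] at h1

theorem card_inf_hall {F : Subgroup G} [F.Normal] (hF : (Nat.card F).Coprime F.index) (L : Subgroup G) :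
    Nat.card (L ⊓ F : Subgroup G) = Nat.gcd (Nat.card L) (Nat.card F) := by
  refine Nat.dvd_antisymm (Nat.dvd_gcd (card_dvd_of_le inf_le_left) (card_dvd_of_le inf_le_right)) ?_
  have h1 : (Nat.gcd (Nat.card L) (Nat.card F)).Coprime (Nat.card (L.map (QuotientGroup.mk' F))) :=
    Nat.Coprime.coprime_dvd_left (Nat.gcd_dvd_right _ _)
      (hF.coprime_dvd_right (by rw [Subgroup.index_eq_card]; exact card_subgroup_dvd_card _))
  exact h1.dvd_of_dvd_mul_left (card_map_mk F L ▸ Nat.gcd_dvd_left _ _)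

theorem card_sup_of_commute {V H : Subgroup G} (hc : H ≤ normalizer (V : Set G)) (h : V ⊓ H = ⊥) :
    Nat.card (V ⊔ H : Subgroup G) = Nat.card V * Nat.card H := by
  haveI : (V.subgroupOf (V ⊔ H)).Normal :=
    normal_subgroupOf_of_le_normalizer (sup_le le_normalizer hc)
  have h1 := card_sup_of_normal (V.subgroupOf (V ⊔ H)) (H.subgroupOf (V ⊔ H)) (by
    refine (eq_bot_iff_forall _).2 fun x hx => Subtype.ext ?_
    have : (x : G) ∈ V ⊓ H := hx
    rwa [h, mem_bot] at this)
  rwa [← subgroupOf_sup le_sup_left le_sup_right, subgroupOf_self, Subgroup.card_top,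
    Nat.card_congr (subgroupOfEquivOfLe le_sup_left).toEquiv,
    Nat.card_congr (subgroupOfEquivOfLe le_sup_right).toEquiv] at h1

theorem mem_sup_of_normalizing {V H : Subgroup G} (hc : H ≤ normalizer (V : Set G)) {x : G}
    (hx : x ∈ V ⊔ H) : ∃ v ∈ V, ∃ h ∈ H, v * h = x := by
  have e := coe_mul_of_right_le_normalizer_left V H hc
  exact Set.mem_mul.1 (e ▸ (SetLike.mem_coe.2 hx : x ∈ ((V ⊔ H : Subgroup G) : Set G)))

/-- Subgroups with a common normal intersection with `N`, coprime and conjugate modulo `N`, are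
conjugate. -/
theorem conj_of_common_inf [Group.IsSolvable G] {N H K : Subgroup G} [N.Normal]
    [(H ⊓ N : Subgroup G).Normal] (hW : H ⊓ N = K ⊓ N) (hcard : Nat.card H = Nat.card K)
    (hcop : (Nat.card N).Coprime (Nat.card (H.map (QuotientGroup.mk' N)))) (g : G)
    (h : K.map (QuotientGroup.mk' N) = (H.map (QuotientGroup.mk' N)).map
      (MulAut.conj (QuotientGroup.mk' N g)).toMonoidHom) :
    ∃ x : G, K = H.map (MulAut.conj x).toMonoidHom := by
  set W := H ⊓ N with hWdef
  have hWH : W ≤ H := inf_le_left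
  have hWK : W ≤ K := hW.le.trans inf_le_left
  set φ := QuotientGroup.mk' W with hφ
  have hWN : W ≤ N := inf_le_right
  have hmap : ∀ L : Subgroup G, W ≤ L → Nat.card L = Nat.card (L.map φ) * Nat.card W := by
    intro L hL
    have := card_map_mk W L
    rwa [inf_eq_right.2 hL] at this
  have hWg : W ≤ conjBy g H := fun x hx =>
    mem_conjBy.2 (hWH (by simpa using (inferInstance : W.Normal).conj_mem x hx g⁻¹))
  have hKle : K ≤ conjBy g H ⊔ N := by
    have h1 : (H.map (QuotientGroup.mk' N)).map (MulAut.conj (QuotientGroup.mk' N g)).toMonoidHom =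
        (conjBy g H).map (QuotientGroup.mk' N) := (conjBy_map _ g H).symm
    have h2 := le_comap_map (QuotientGroup.mk' N) K
    rwa [h, h1, comap_map_eq, QuotientGroup.ker_mk'] at h2
  have hcop' : (Nat.card (N.map φ)).Coprime (Nat.card ((conjBy g H).map φ)) := by
    have h2 : Nat.card ((conjBy g H).map φ) = Nat.card (H.map (QuotientGroup.mk' N)) :=
      Nat.eq_of_mul_eq_mul_right Nat.card_pos
        ((hmap _ hWg).symm.trans ((card_conjBy g H).trans (card_map_mk N H)))
    rw [h2]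
    exact hcop.coprime_dvd_left (Subgroup.card_map_dvd _ φ)
  obtain ⟨y, -, hy⟩ := sz_conj_in (A := (conjBy g H).map φ) (B := K.map φ) (N := N.map φ)
    (fun z _ => by
      haveI := (inferInstance : N.Normal).map φ (QuotientGroup.mk'_surjective W)
      rw [Subgroup.normalizer_eq_top_iff.2 inferInstance]; trivial) hcop'
    (by rw [← Subgroup.map_sup]; exact map_mono hKle)
    (Nat.eq_of_mul_eq_mul_right Nat.card_pos
      ((hmap K hWK).symm.trans (hcard.symm.trans ((card_conjBy g H).symm.trans (hmap _ hWg)))))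
    (Or.inl inferInstance)
  obtain ⟨y, rfl⟩ := QuotientGroup.mk'_surjective W y
  have hWy : W ≤ conjBy y K := fun x hx =>
    mem_conjBy.2 (hWK (by simpa using (inferInstance : W.Normal).conj_mem x hx y⁻¹))
  have h3 := congrArg (Subgroup.comap φ) hy
  rw [← conjBy_map φ y K, comap_map_eq, comap_map_eq, hφ, QuotientGroup.ker_mk', sup_eq_left.2 hWy,
    sup_eq_left.2 hWg] at h3
  refine ⟨y⁻¹ * g, ?_⟩
  have h4 := congrArg (conjBy y⁻¹) h3
  rw [conjBy_conjBy, inv_mul_cancel, conjBy_one, conjBy_conjBy] at h4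
  exact h4

theorem isCyclic_or_quaternion_of_le {P R : Subgroup G} (h : R ≤ P)
    (hP : IsCyclic P ∨ Nonempty (P ≃* QuaternionGroup 2)) : IsCyclic R ∨ (R = P ∧ Nonempty (P ≃* QuaternionGroup 2)) := by
  rcases hP with hc | ⟨⟨f⟩⟩
  · haveI := hc
    exact Or.inl (isCyclic_of_le h)
  obtain ⟨i, hi, hc⟩ := (Nat.dvd_prime_pow Nat.prime_two).1
    (show Nat.card R ∣ 2 ^ 3 by simpa [card_quaternion f] using card_dvd_of_le h)
  interval_cases i
  · left
    haveI : Subsingleton R := (Nat.card_eq_one_iff_unique.1 (by simpa using hc)).1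
    infer_instance
  · left
    haveI : Fact (Nat.Prime 2) := ⟨Nat.prime_two⟩
    exact isCyclic_of_prime_card (p := 2) (by simpa using hc)
  · exact Or.inl (isCyclic_of_card_four f h (by simpa using hc))
  · exact Or.inr ⟨eq_of_le_of_card_ge h (by rw [card_quaternion f, hc]; norm_num), ⟨f⟩⟩

/-- A Sylow subgroup maps isomorphically modulo a normal subgroup of prime-to-`p` order. -/
theorem exists_equiv_mapSurjective {p : ℕ} [Fact p.Prime] (N : Subgroup G) [N.Normal]
    (hN : ¬ p ∣ Nat.card N) (T : Sylow p (G ⧸ N)) :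
    ∃ R : Sylow p G, Nonempty ((R : Subgroup G) ≃* (T : Subgroup (G ⧸ N))) := by
  obtain ⟨R⟩ : Nonempty (Sylow p G) := inferInstance
  have hsur := QuotientGroup.mk'_surjective N
  refine ⟨R, ⟨((MulEquiv.ofBijective ((QuotientGroup.mk' N).subgroupMap (R : Subgroup G))
    ⟨(injective_iff_map_eq_one _).2 fun x hx => ?_,
      (QuotientGroup.mk' N).subgroupMap_surjective _⟩).trans
    (MulEquiv.subgroupCongr (Sylow.coe_mapSurjective hsur R).symm)).trans
    ((R.mapSurjective hsur).equiv T)⟩⟩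
  have h1 : QuotientGroup.mk' N (x : G) = 1 := congrArg Subtype.val hx
  obtain ⟨k, hk⟩ := R.2 x
  exact Subtype.ext (orderOf_eq_one_iff.1 (Nat.eq_one_of_dvd_coprimes
    (((Fact.out : p.Prime).coprime_iff_not_dvd.2 hN).pow_left k)
    (orderOf_dvd_of_pow_eq_one (congrArg Subtype.val hk))
    (Subgroup.orderOf_dvd_natCard N ((QuotientGroup.eq_one_iff (x : G)).1 h1))))

/-- The elements of order dividing `p` of an abelian subgroup. -/
def primePart (F : Subgroup G) [IsMulCommutative F] (p : ℕ) : Subgroup G where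
  carrier := {x | x ∈ F ∧ x ^ p = 1}
  one_mem' := ⟨one_mem F, one_pow p⟩
  mul_mem' := fun {x y} hx hy => ⟨mul_mem hx.1 hy.1, by
    rw [(show Commute x y from congrArg Subtype.val (mul_comm' (⟨x, hx.1⟩ : F) ⟨y, hy.1⟩)).mul_pow, hx.2, hy.2,
      one_mul]⟩
  inv_mem' := fun {x} hx => ⟨inv_mem hx.1, by rw [inv_pow, hx.2, inv_one]⟩

theorem mem_primePart {F : Subgroup G} [IsMulCommutative F] {p : ℕ} {x : G} :
    x ∈ primePart F p ↔ x ∈ F ∧ x ^ p = 1 := Iff.rfl

/-- The key decomposition: a subgroup of the kernel normalized by a quaternion Sylow subgroup. -/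
theorem le_sup_normalCore (hB : AbelianConjugate G) [Group.IsSolvable G] {F : Subgroup G}
    (hF : IsBKernel F) (hcyc : ∀ p : ℕ, p.Prime → p ≠ 2 → ∀ P : Sylow p G, ¬ p ∣ Nat.card F →
      IsCyclic (P : Subgroup G))
    (hF2 : ¬ 2 ∣ Nat.card F) (Q : Sylow 2 G) (f : (Q : Subgroup G) ≃* QuaternionGroup 2)
    {W : Subgroup G} (hWF : W ≤ F) (hQW : (Q : Subgroup G) ≤ normalizer (W : Set G)) :
    ∀ x ∈ W, x ∈ (W ⊓ (F ⊓ centralizer {y : G | orderOf y = 4})) ⊔ W.normalCore := by
  haveI := hF.normal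
  haveI := hF.comm
  haveI : Fact (Nat.Prime 2) := ⟨Nat.prime_two⟩
  have hcomm : ∀ x ∈ F, ∀ y ∈ F, Commute x y := fun x hx y hy =>
    congrArg Subtype.val (mul_comm' (⟨x, hx⟩ : F) ⟨y, hy⟩)
  -- the Sylow 2-subgroup is normal modulo `F`
  haveI hJ : ((Q : Subgroup G) ⊔ F).Normal := by
    have hsur := QuotientGroup.mk'_surjective F
    have hBQ : AbelianConjugate (G ⧸ F) := Cfsg.Agent.S3912.result hB inferInstance F
    have hodd : ∀ p : ℕ, p.Prime → p ≠ 2 → ∀ T : Sylow p (G ⧸ F), IsCyclic (T : Subgroup (G ⧸ F)) := by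
      intro p hp hp2 T
      haveI := Fact.mk hp
      by_cases hpF : p ∣ Nat.card F
      · have h1 := T.card_eq_multiplicity
        rw [Nat.factorization_eq_zero_of_not_dvd, pow_zero] at h1
        · haveI : Subsingleton (T : Subgroup (G ⧸ F)) := (Nat.card_eq_one_iff_unique.1 h1).1
          infer_instance
        · rw [← Subgroup.index_eq_card]
          exact fun h => hp.ne_one (Nat.eq_one_of_dvd_coprimes hF.hall hpF h)
      · obtain ⟨R, ⟨e⟩⟩ := exists_equiv_mapSurjective F hpF T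
        exact e.isCyclic.1 (hcyc p hp hp2 R hpF)
    obtain ⟨T, ⟨e⟩⟩ := exists_sylow_quotient_equiv F
      ((Nat.prime_two.coprime_iff_not_dvd.2 hF2).symm) Q
    have hn := sylow_two_normal hBQ hodd (Q.mapSurjective hsur)
      ((((Q.mapSurjective hsur).equiv T).trans e.symm).trans f)
    rw [Sylow.coe_mapSurjective] at hn
    rw [← QuotientGroup.ker_mk' F, ← comap_map_eq]
    exact hn.comap _
  suffices key : ∀ p : ℕ, p.Prime → ∀ x ∈ W, x ^ p = 1 → x ≠ 1 →
      x ∈ (W ⊓ (F ⊓ centralizer {y : G | orderOf y = 4})) ⊔ W.normalCore by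
    suffices ∀ n : ℕ, ∀ x ∈ W, orderOf x = n → x ∈ (W ⊓ (F ⊓ centralizer {y : G | orderOf y = 4})) ⊔ W.normalCore from
      fun x hx => this _ x hx rfl
    intro n
    induction n using Nat.strong_induction_on with
    | _ n ih =>
      intro x hx hn
      by_cases hn1 : n = 1
      · rw [hn1, orderOf_eq_one_iff] at hn
        exact hn ▸ one_mem _
      obtain ⟨p, hp, m, hm⟩ : ∃ p : ℕ, p.Prime ∧ ∃ m, n = p * m :=
        ⟨n.minFac, Nat.minFac_prime hn1, Nat.minFac_dvd n⟩
      have hm0 : m ≠ 0 := fun e => by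
        have := orderOf_pos x
        rw [hn, hm, e, mul_zero] at this
        exact lt_irrefl _ this
      have hpm : ¬ p ∣ m := by
        rintro ⟨l, rfl⟩
        have h1 : (x ^ l) ^ p ^ 2 = 1 := by
          rw [← pow_mul, show l * p ^ 2 = p * (p * l) by ring, ← hm, ← hn, pow_orderOf_eq_one]
        have h2 := hF.sqfree p hp (x ^ l) (hWF (pow_mem hx l)) 2 h1
        rw [← pow_mul] at h2
        have h3 := orderOf_dvd_of_pow_eq_one h2
        rw [hn, hm] at h3
        have hl : 0 < l := Nat.pos_of_ne_zero fun e => hm0 (by rw [e, mul_zero])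
        have := Nat.le_of_dvd (Nat.mul_pos hl hp.pos) h3
        nlinarith [hp.two_le, Nat.mul_pos hl hp.pos]
      obtain ⟨u, v, huv⟩ := (Int.isCoprime_iff_nat_coprime.2
        (show (Int.natAbs (p : ℤ)).Coprime (Int.natAbs (m : ℤ)) by
          simpa using hp.coprime_iff_not_dvd.2 hpm) : IsCoprime (p : ℤ) (m : ℤ))
      have hxm : x ^ m ≠ 1 := fun e => by
        have h3 := Nat.le_of_dvd (Nat.pos_of_ne_zero hm0) (orderOf_dvd_of_pow_eq_one e)
        rw [hn, hm] at h3
        nlinarith [hp.two_le, Nat.pos_of_ne_zero hm0]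
      have h1 := key p hp (x ^ m) (pow_mem hx m) (by rw [← pow_mul, mul_comm, ← hm, ← hn, pow_orderOf_eq_one]) hxm
      have h2 := ih (orderOf (x ^ p)) (by
        rw [orderOf_pow_of_dvd hp.ne_zero (hn ▸ hm ▸ dvd_mul_right p m), hn]
        exact Nat.div_lt_self (hn ▸ orderOf_pos x) hp.one_lt) (x ^ p) (pow_mem hx p) rfl
      have he : (x ^ p) ^ u * (x ^ m) ^ v = x := by
        rw [← zpow_natCast x p, ← zpow_natCast x m, ← zpow_mul, ← zpow_mul, ← zpow_add,
          show (p : ℤ) * u + (m : ℤ) * v = 1 by rw [← huv]; ring, zpow_one]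
      exact he ▸ mul_mem (zpow_mem h2 u) (zpow_mem h1 v)
  intro p hp x hx hxp hx1
  haveI := Fact.mk hp
  have hp2 : p ≠ 2 := fun e => hF2 (e ▸ (orderOf_eq_prime hxp hx1) ▸ Subgroup.orderOf_dvd_natCard F (hWF hx))
  set P := primePart F p with hP
  haveI hPn : P.Normal := ⟨fun y hy g => ⟨hF.normal.conj_mem y hy.1 g, by rw [conj_pow, hy.2]; group⟩⟩
  have hxP : x ∈ P := ⟨hWF hx, hxp⟩
  by_cases hPW : P ≤ W
  · exact le_sup_right (a := W ⊓ (F ⊓ centralizer {y : G | orderOf y = 4}))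
      (normal_le_normalCore.2 hPW hxP)
  refine le_sup_left (b := W.normalCore) ⟨hx, hWF hx, ?_⟩
  haveI : IsMulCommutative P := ⟨⟨fun s t => Subtype.ext (hcomm s s.2.1 t t.2.1)⟩⟩
  have hPp : IsPGroup p P := fun y => ⟨1, Subtype.ext (by simpa using y.2.2)⟩
  obtain ⟨n, hn⟩ := hPp.exists_card_eq
  obtain ⟨w, hw⟩ := (hPp.to_le (inf_le_right : W ⊓ P ≤ P)).exists_card_eq
  have hw1 : 1 ≤ w := by
    rcases w with _ | w
    · rw [pow_zero, Subgroup.card_eq_one] at hw
      exact absurd ((eq_bot_iff_forall _).1 hw x ⟨hx, hxP⟩) hx1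
    · omega
  have hwn : w < n := by
    by_contra hle
    refine hPW (inf_eq_right.1 (eq_of_le_of_card_ge inf_le_right ?_))
    rw [hn, hw]
    exact Nat.pow_le_pow_right hp.pos (not_lt.1 hle)
  -- every line of `P` is normalized by `Q`
  have hline : ∀ q ∈ (Q : Subgroup G), ∀ v ∈ P, q * v * q⁻¹ ∈ zpowers v := by
    intro q hq v hv
    by_contra hno
    by_cases hv1 : v = 1
    · simp [hv1] at hno
    obtain ⟨U, hUP, hUc, hvU, huU⟩ :=
      exists_card_avoiding hp (fun y hy => (mem_primePart.1 hy).2) hn hv (hPn.conj_mem v hv q) hno hw1 hwn hv1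
    haveI : IsMulCommutative U := ⟨⟨fun s t => Subtype.ext (hcomm s (hUP s.2).1 t (hUP t.2).1)⟩⟩
    haveI : IsMulCommutative (W ⊓ P : Subgroup G) :=
      ⟨⟨fun s t => Subtype.ext (hcomm s (hWF (mem_inf.1 s.2).1) t (hWF (mem_inf.1 t.2).1))⟩⟩
    obtain ⟨g, hg⟩ := hB (W ⊓ P) U inferInstance inferInstance (hw.trans hUc.symm)
    refine huU ?_
    rw [hg] at hvU ⊢
    obtain ⟨z, hz, rfl⟩ := hvU
    refine ⟨(g⁻¹ * q * g) * z * (g⁻¹ * q * g)⁻¹, ?_, by simp only [MulEquiv.coe_toMonoidHom, MulAut.conj_apply]; group⟩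
    have hqJ : g⁻¹ * q * g ∈ (Q : Subgroup G) ⊔ F := by
      simpa using hJ.conj_mem q (le_sup_left (b := F) hq) g⁻¹
    obtain ⟨y, hy, c, hc, hyc⟩ := (mem_sup_of_normal_right (s := (Q : Subgroup G)) (t := F)).1 hqJ
    have hcz : c * z * c⁻¹ = z := mul_inv_eq_iff_eq_mul.2 (hcomm c hc z (hWF hz.1)).eq
    have e : g⁻¹ * q * g * z * (g⁻¹ * q * g)⁻¹ = y * z * y⁻¹ := by
      rw [← hyc, show y * c * z * (y * c)⁻¹ = y * (c * z * c⁻¹) * y⁻¹ by group, hcz]
    rw [e]
    exact ⟨(mem_normalizer_iff.1 (hQW hy) z).1 hz.1, hPn.conj_mem z hz.2 y⟩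
  obtain ⟨a, ha, b, hb, haa, hbb, hao, hbo, habo⟩ := exists_generators f
  have hxo : orderOf x = p ^ 1 := by rw [pow_one]; exact orderOf_eq_prime hxp hx1
  have hzx : ∀ c ∈ (Q : Subgroup G), ∀ w ∈ zpowers x, c * w * c⁻¹ ∈ zpowers x := by
    intro c hc w hw'
    obtain ⟨i, rfl⟩ := hw'
    simp only
    rw [← conj_zpow]
    exact zpow_mem (hline c hc x hxP) i
  obtain ⟨c, hcQ, hco, hcx⟩ : ∃ c ∈ (Q : Subgroup G), orderOf c = 4 ∧ c * x * c⁻¹ = x := by
    rcases exists_fix hp hp2 hxo (hzx a ha) (hzx b hb) haa hbb with h | h | h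
    · exact ⟨a, ha, hao, h⟩
    · exact ⟨b, hb, hbo, h⟩
    · exact ⟨a * b, mul_mem ha hb, habo, h⟩
  have hcP : c ∈ centralizer (P : Set G) := by
    refine mem_centralizer_iff.2 fun v hv => ?_
    suffices h : c * v * c⁻¹ = v from (mul_inv_eq_iff_eq_mul.1 h).symm
    by_cases hvx : v ∈ zpowers x
    · obtain ⟨i, rfl⟩ := hvx
      simp only
      rw [← conj_zpow, hcx]
    obtain ⟨k, hk⟩ := hline c hcQ v hv
    obtain ⟨m, hm⟩ := hline c hcQ (x * v) (mul_mem hxP hv)
    simp only at hk hm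
    have hxv : Commute x v := hcomm x hxP.1 v hv.1
    have h1 : x ^ m * v ^ m = x * v ^ k := by
      rw [← hxv.mul_zpow, hm, show c * (x * v) * c⁻¹ = (c * x * c⁻¹) * (c * v * c⁻¹) by group, hcx, hk]
    have h2 : x ^ (m - 1) = v ^ (k - m) := by
      calc x ^ (m - 1) = x⁻¹ * (x ^ m * v ^ m) * v ^ (-m) := by group
        _ = x⁻¹ * (x * v ^ k) * v ^ (-m) := by rw [h1]
        _ = v ^ (k - m) := by group
    have h3 : v ^ (k - m) = 1 := by
      by_contra hne
      refine hvx ?_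
      have hvo : orderOf v = p := orderOf_eq_prime hv.2 fun e => hne (by rw [e, one_zpow])
      have hle : zpowers (v ^ (k - m)) = zpowers v := eq_of_le_of_card_ge (zpowers_le.2 (zpow_mem (mem_zpowers v) _))
        (by
          rw [Nat.card_zpowers, Nat.card_zpowers, hvo]
          exact le_of_eq (orderOf_eq_prime
            (by rw [← zpow_natCast, ← zpow_mul, mul_comm, zpow_mul, zpow_natCast, hv.2, one_zpow]) hne).symm)
      have h4 : zpowers (v ^ (k - m)) ≤ zpowers x := zpowers_le.2 (h2 ▸ zpow_mem (mem_zpowers x) _)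
      exact h4 (hle ▸ mem_zpowers v)
    have h5 : (p : ℤ) ∣ m - 1 := by
      have h6 : x ^ (m - 1) = 1 := h2.trans h3
      rwa [← orderOf_dvd_iff_zpow_eq_one, orderOf_eq_prime hxp hx1] at h6
    obtain ⟨l, hl⟩ := h5
    rw [zpow_sub, mul_inv_eq_one] at h3
    rw [← hk, h3, show m = (p : ℤ) * l + 1 by linarith, zpow_add_one, zpow_mul, zpow_natCast, hv.2, one_zpow,
      one_mul]
  refine mem_centralizer_iff.2 fun y hy => ?_
  have hyP : y ∈ centralizer (P : Set G) := hB.centralize_all P hcP (hco.trans (hy : orderOf y = 4).symm)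
  exact (mem_centralizer_iff.1 hyP x hxP).symm

/-- In a solvable group with conjugate equal-order abelian subgroups, equal-order subgroups are
conjugate. -/
theorem AbelianConjugate.conj_subgroups (hB : AbelianConjugate G) [Group.IsSolvable G] (A B : Subgroup G)
    (hcard : Nat.card A = Nat.card B) : ∃ g : G, B = A.map (MulAut.conj g).toMonoidHom := by
  haveI : Fact (Nat.Prime 2) := ⟨Nat.prime_two⟩
  obtain ⟨F, hF, hmax⟩ := IsBKernel.exists_maximal hB
  haveI := hF.normal
  haveI := hF.comm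
  have hcommF : ∀ {L : Subgroup G}, L ≤ F → IsMulCommutative L := fun {L} hL =>
    ⟨⟨fun s t => Subtype.ext ((congrArg Subtype.val (mul_comm' (⟨s, hL s.2⟩ : F) ⟨t, hL t.2⟩) :))⟩⟩
  obtain ⟨g₀, hg₀⟩ := hB (A ⊓ F) (B ⊓ F) (hcommF inf_le_right) (hcommF inf_le_right)
    (by rw [card_inf_hall hF.hall, card_inf_hall hF.hall, hcard])
  set A' := conjBy g₀ A with hA'
  set W := B ⊓ F with hWdef
  have hA'F : A' ⊓ F = W := by
    rw [hg₀, Subgroup.map_inf _ _ _ (MulEquiv.injective _)]
    congr 1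
    refine (eq_of_le_of_card_ge ?_ (le_of_eq (card_conjBy g₀ F).symm)).symm
    rintro _ ⟨y, hy, rfl⟩
    exact hF.normal.conj_mem y hy g₀
  set S := normalizer (W : Set G) with hS
  have hle : ∀ L : Subgroup G, L ⊓ F = W → L ≤ S := fun L hL y hy => by
    refine mem_normalizer_iff.2 fun z => ?_
    rw [← hL, mem_inf, mem_inf]
    refine ⟨fun h => ⟨mul_mem (mul_mem hy h.1) (L.inv_mem hy), hF.normal.conj_mem z h.2 y⟩, fun h => ?_⟩
    refine ⟨?_, ?_⟩
    · simpa [mul_assoc] using mul_mem (mul_mem (L.inv_mem hy) h.1) hy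
    · simpa [mul_assoc] using hF.normal.conj_mem _ h.2 y⁻¹
  have hFS : F ≤ S := fun y hy => mem_normalizer_iff.2 fun z => by
    have hz : ∀ z' ∈ W, y * z' * y⁻¹ = z' := fun z' hz' =>
      mul_inv_eq_iff_eq_mul.2 (congrArg Subtype.val (mul_comm' (⟨y, hy⟩ : F) ⟨z', (mem_inf.1 hz').2⟩))
    refine ⟨fun h => (hz z h).symm ▸ h, fun h => ?_⟩
    have := hz _ h
    exact ((MulAut.conj y).injective (this : MulAut.conj y (y * z * y⁻¹) = MulAut.conj y z)) ▸ h
  have hA'S := hle A' hA'F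
  have hBS := hle B rfl
  set N := F.subgroupOf S with hN
  haveI : N.Normal := inferInstance
  have hNc : Nat.card N = Nat.card F := Nat.card_congr (subgroupOfEquivOfLe hFS).toEquiv
  have hidx : N.index ∣ F.index := relIndex_dvd_index_of_normal (H := F) (K := S)
  -- Sylow subgroups of `S / N`
  have hsyl : ∀ (p : ℕ), p.Prime → ∀ T : Sylow p (S ⧸ N),
      IsCyclic (T : Subgroup (S ⧸ N)) ∨ (p = 2 ∧ ¬ 2 ∣ Nat.card F ∧
        Nonempty ((T : Subgroup (S ⧸ N)) ≃* QuaternionGroup 2) ∧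
        ∃ Q : Sylow 2 G, (Q : Subgroup G) ≤ S ∧ Nonempty ((Q : Subgroup G) ≃* QuaternionGroup 2)) := by
    intro p hp T
    haveI := Fact.mk hp
    by_cases hpF : p ∣ Nat.card F
    · left
      have h1 := T.card_eq_multiplicity
      rw [Nat.factorization_eq_zero_of_not_dvd, pow_zero] at h1
      · haveI : Subsingleton (T : Subgroup (S ⧸ N)) := (Nat.card_eq_one_iff_unique.1 h1).1
        infer_instance
      · rw [← Subgroup.index_eq_card]
        exact fun h => hp.ne_one (Nat.eq_one_of_dvd_coprimes hF.hall hpF (h.trans hidx))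
    obtain ⟨R, ⟨e⟩⟩ := exists_equiv_mapSurjective N (by rwa [hNc]) T
    set R' := (R : Subgroup S).map S.subtype with hR'
    obtain ⟨P, hRP⟩ := (R.2.map S.subtype).exists_le_sylow
    have e' : R' ≃* (T : Subgroup (S ⧸ N)) :=
      (Subgroup.equivMapOfInjective _ _ S.subtype_injective).symm.trans e
    rcases hmax p hp P hpF with hc | ⟨rfl, hq⟩
    · exact Or.inl (e'.isCyclic.1 (haveI := hc; isCyclic_of_le hRP))
    rcases isCyclic_or_quaternion_of_le hRP (Or.inr hq) with hc | ⟨heq, ⟨f⟩⟩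
    · exact Or.inl (e'.isCyclic.1 hc)
    · exact Or.inr ⟨rfl, hpF, ⟨e'.symm.trans ((MulEquiv.subgroupCongr heq).trans f)⟩, P,
        heq ▸ map_subtype_le _, ⟨f⟩⟩
  have hcy : CyclicSylows (S ⧸ N) := by
    refine ⟨fun p hp hp2 T => (hsyl p hp T).resolve_right fun h => hp2 h.1, fun T => ?_⟩
    rcases hsyl 2 Nat.prime_two T with hc | ⟨-, -, hq, -⟩
    · exact Or.inl hc
    · exact Or.inr hq
  have hfour : FourConj (S ⧸ N) := by
    intro X Y hX hY hX4 hY4
    have hXp : IsPGroup 2 X := IsPGroup.of_card (n := 2) (by rw [hX4]; norm_num)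
    have hYp : IsPGroup 2 Y := IsPGroup.of_card (n := 2) (by rw [hY4]; norm_num)
    obtain ⟨T₁, hT₁⟩ := hXp.exists_le_sylow
    obtain ⟨T₂, hT₂⟩ := hYp.exists_le_sylow
    rcases hsyl 2 Nat.prime_two T₂ with hc | ⟨-, hF2, -, Q, hQS, ⟨f⟩⟩
    · obtain ⟨c, hc'⟩ := MulAction.exists_smul_eq (S ⧸ N) T₁ T₂
      refine ⟨c, ?_⟩
      have hXc : conjBy c X ≤ (T₂ : Subgroup (S ⧸ N)) := by
        rw [← hc', Sylow.coe_subgroup_smul, ← conjBy_eq_smul]; exact map_mono hT₁
      haveI := hc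
      have key : ∀ {U V : Subgroup (S ⧸ N)}, U ≤ (T₂ : Subgroup (S ⧸ N)) → V ≤ (T₂ : Subgroup (S ⧸ N)) →
          Nat.card U = Nat.card V → U ≤ V := fun {U V} hU hV hUV y hy =>
        le_of_card_dvd_of_cyclic (Z := (T₂ : Subgroup (S ⧸ N))) (H := U.subgroupOf _) (K := V.subgroupOf _) (by
          rw [Nat.card_congr (subgroupOfEquivOfLe hU).toEquiv,
            Nat.card_congr (subgroupOfEquivOfLe hV).toEquiv, hUV])
          (show (⟨y, hU hy⟩ : (T₂ : Subgroup (S ⧸ N))) ∈ U.subgroupOf _ from hy)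
      have he : Nat.card Y = Nat.card (conjBy c X) := by rw [card_conjBy, hX4, hY4]
      exact le_antisymm (key hT₂ hXc he) (key hXc hT₂ he.symm)
    have hN2 : (Nat.card N).Coprime 2 := by
      rw [hNc]; exact (Nat.prime_two.coprime_iff_not_dvd.2 hF2).symm
    set C := W ⊓ (F ⊓ centralizer {y : G | orderOf y = 4}) with hC
    have hCF : C ≤ F := inf_le_right.trans inf_le_left
    have hWsplit : W = C ⊔ W.normalCore := le_antisymm
      (le_sup_normalCore hB hF (fun p hp hp2 P hpF => (hmax p hp P hpF).resolve_right fun h => hp2 h.1)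
        hF2 Q f inf_le_right hQS)
      (sup_le inf_le_left (normalCore_le W))
    have hlift : ∀ Z : Subgroup (S ⧸ N), IsCyclic Z → Nat.card Z = 4 → ∃ a : S, orderOf a = 4 ∧
        IsMulCommutative (C ⊔ zpowers (a : G) : Subgroup G) ∧
        Nat.card (C ⊔ zpowers (a : G) : Subgroup G) = Nat.card C * 4 ∧
        (C ⊔ zpowers (a : G)) ⊓ F = C ∧ Z = zpowers (QuotientGroup.mk' N a) := by
      intro Z hZ hZ4
      obtain ⟨z, hz⟩ := hZ.exists_generator
      have hzo : orderOf (z : S ⧸ N) = 4 := by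
        rw [Subgroup.orderOf_coe, orderOf_eq_card_of_forall_mem_zpowers hz, hZ4]
      obtain ⟨a, hao, haz⟩ := exists_lift_order_four hN2 hzo
      have haG : orderOf (a : G) = 4 := by rw [Subgroup.orderOf_coe, hao]
      have hca : ∀ y ∈ C, Commute y (a : G) := fun y hy =>
        (mem_centralizer_iff.1 hy.2.2 (a : G) haG).symm
      have hnorm : zpowers (a : G) ≤ normalizer (C : Set G) := by
        rintro _ ⟨i, rfl⟩
        refine mem_normalizer_iff.2 fun y => ⟨fun hy => ?_, fun hy => ?_⟩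
        · simp only; rwa [← ((hca y hy).zpow_right i).eq, mul_inv_cancel_right]
        · simp only at hy
          have h1 := ((hca _ hy).zpow_right i).eq
          rw [inv_mul_cancel_right] at h1
          exact (mul_left_cancel h1).symm ▸ hy
      have hinf : ∀ y ∈ zpowers (a : G), y ∈ F → y = 1 := fun y hy hyF =>
        orderOf_eq_one_iff.1 (Nat.eq_one_of_dvd_coprimes
          ((Nat.prime_two.coprime_iff_not_dvd.2 hF2).pow_left 2)
          (by have := Subgroup.orderOf_dvd_natCard _ hy; rwa [Nat.card_zpowers, haG] at this)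
          (Subgroup.orderOf_dvd_natCard F hyF))
      have hdisj : C ⊓ zpowers (a : G) = ⊥ :=
        (eq_bot_iff_forall _).2 fun y hy => hinf y hy.2 (hCF hy.1)
      refine ⟨a, hao, ?_, ?_, ?_, ?_⟩
      · haveI := hcommF hCF
        refine ⟨⟨fun s t => Subtype.ext ?_⟩⟩
        obtain ⟨c₁, hc₁, d₁, ⟨i, rfl⟩, hs⟩ := mem_sup_of_normalizing hnorm s.2
        obtain ⟨c₂, hc₂, d₂, ⟨j, rfl⟩, ht⟩ := mem_sup_of_normalizing hnorm t.2
        simp only [Subgroup.coe_mul, ← hs, ← ht]
        have hcc : Commute c₁ c₂ := congrArg Subtype.val (mul_comm' (⟨c₁, hCF hc₁⟩ : F) ⟨c₂, hCF hc₂⟩)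
        exact ((hcc.mul_right ((hca c₁ hc₁).zpow_right j)).mul_left
          ((((hca c₂ hc₂).zpow_right i).symm).mul_right (Commute.zpow_zpow_self _ i j))).eq
      · rw [card_sup_of_commute hnorm hdisj, Nat.card_zpowers, haG]
      · refine le_antisymm ?_ (le_inf le_sup_left hCF)
        rintro y ⟨hy, hyF⟩
        obtain ⟨c₁, hc₁, d₁, hd₁, rfl⟩ := mem_sup_of_normalizing hnorm hy
        have : d₁ ∈ F := by simpa using mul_mem (inv_mem (hCF hc₁)) hyF
        rw [hinf d₁ hd₁ this, mul_one]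
        exact hc₁
      · rw [haz]
        exact (eq_of_le_of_card_ge (zpowers_le.2 z.2) (by rw [Nat.card_zpowers, hzo, hZ4])).symm
    obtain ⟨a, hao, hac, hacard, haF, rfl⟩ := hlift X hX hX4
    obtain ⟨b, hbo, hbc, hbcard, hbF, rfl⟩ := hlift Y hY hY4
    obtain ⟨g, hg⟩ := hB _ _ hac hbc (hacard.trans hbcard.symm)
    have hgC : C.map (MulAut.conj g).toMonoidHom = C := by
      refine eq_of_le_of_card_ge ?_ (le_of_eq (card_conjBy g C).symm)
      rintro _ ⟨y, hy, rfl⟩
      rw [← hbF]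
      refine ⟨?_, hF.normal.conj_mem y (hCF hy) g⟩
      rw [hg]
      exact mem_map_of_mem _ (le_sup_left (b := zpowers (a : G)) hy)
    have hgW : conjBy g W = W := by
      refine eq_of_le_of_card_ge ?_ (le_of_eq (card_conjBy g W).symm)
      rw [conjBy, hWsplit, Subgroup.map_sup, hgC]
      refine sup_le le_sup_left (le_trans ?_ le_sup_right)
      rintro _ ⟨y, hy, rfl⟩
      exact (normalCore_normal W).conj_mem y hy g
    have hgS : g ∈ S := by
      refine mem_normalizer_iff.2 fun y => ?_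
      conv_rhs => rw [← hgW, mem_conjBy]
      simp [mul_assoc]
    refine ⟨QuotientGroup.mk' N ⟨g, hgS⟩, ?_⟩
    rw [MonoidHom.map_zpowers]
    refine (eq_of_le_of_card_ge ?_ (by
      rw [hY4]
      refine le_of_eq ?_
      rw [← MonoidHom.map_zpowers, card_conjBy]
      exact hX4.symm)).symm
    refine zpowers_le.2 ?_
    have h1 : g * (a : G) * g⁻¹ ∈ C ⊔ zpowers (b : G) := by
      rw [hg]
      exact mem_map_of_mem (MulAut.conj g).toMonoidHom (le_sup_right (a := C) (mem_zpowers _))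
    have hnormb : C ⊔ zpowers (b : G) = C ⊔ zpowers (b : G) := rfl
    have h2 : (⟨g, hgS⟩ : S) * a * (⟨g, hgS⟩ : S)⁻¹ ∈ N ⊔ zpowers b := by
      have h3 : g * (a : G) * g⁻¹ ∈ F ⊔ zpowers (b : G) := sup_le_sup_right hCF _ h1
      have h4 : (N ⊔ zpowers b).map S.subtype = F ⊔ zpowers (b : G) := by
        rw [Subgroup.map_sup, MonoidHom.map_zpowers, hN, map_subgroupOf_eq_of_le hFS]; rfl
      rw [← h4] at h3
      obtain ⟨s, hs, hse⟩ := h3
      have : s = (⟨g, hgS⟩ : S) * a * (⟨g, hgS⟩ : S)⁻¹ := Subtype.ext hse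
      exact this ▸ hs
    have h5 := mem_map_of_mem (QuotientGroup.mk' N) h2
    rw [Subgroup.map_sup, MonoidHom.map_zpowers, QuotientGroup.map_mk'_self, bot_sup_eq, map_mul, map_mul,
      map_inv] at h5
    exact h5
  haveI : (W.subgroupOf S).Normal := normal_subgroupOf_of_le_normalizer le_rfl
  have hAN : A'.subgroupOf S ⊓ N = W.subgroupOf S := by rw [hN, ← hA'F]; rfl
  have hBN : B.subgroupOf S ⊓ N = W.subgroupOf S := rfl
  haveI : (A'.subgroupOf S ⊓ N : Subgroup S).Normal := hAN ▸ inferInstance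
  have hc : Nat.card (A'.subgroupOf S) = Nat.card (B.subgroupOf S) := by
    rw [Nat.card_congr (subgroupOfEquivOfLe hA'S).toEquiv, Nat.card_congr (subgroupOfEquivOfLe hBS).toEquiv,
      hA', card_conjBy, hcard]
  obtain ⟨y, hy⟩ := conj_of_cyclicSylows _ rfl inferInstance hcy hfour
    ((A'.subgroupOf S).map (QuotientGroup.mk' N)) ((B.subgroupOf S).map (QuotientGroup.mk' N)) (by
      have h1 := card_map_mk N (A'.subgroupOf S)
      have h2 := card_map_mk N (B.subgroupOf S)
      rw [hAN] at h1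
      rw [hBN, ← hc] at h2
      exact Nat.eq_of_mul_eq_mul_right Nat.card_pos (h1.symm.trans h2))
  obtain ⟨y, rfl⟩ := QuotientGroup.mk'_surjective N y
  obtain ⟨x, hx⟩ := conj_of_common_inf (hAN.trans hBN.symm) hc (by
    rw [hNc]
    exact hF.hall.coprime_dvd_right ((card_subgroup_dvd_card _).trans (by
      rw [← Subgroup.index_eq_card]; exact hidx))) y hy
  refine ⟨(x : G) * g₀, ?_⟩
  have h3 := congrArg (Subgroup.map S.subtype) hx
  rw [map_subgroupOf_eq_of_le hBS, ← conjBy, conjBy_map, map_subgroupOf_eq_of_le hA'S, hA', conjBy_conjBy] at h3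
  exact h3

end CfsgLib.Invol
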