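import Cfsg.Agent.Lib.Invol.OddCore
import Cfsg.Agent.Lib.Fusion.Residual
import Cfsg.Agent.Lib.Fusion.Transfer
import Mathlib.GroupTheory.GroupAction.Transitive

/-!
# Actions on three points, counting classes, cyclic Sylow 2-subgroups of a normal subgroup
-/

set_option autoImplicit false
set_option linter.style.haveILetI false

namespace CfsgLib.Invol

open Subgroup

/-- An action on three points with an element fixing a point `z` and acting nontrivially has image of
order 2 or 6, and 6 exactly when `z` is moved. -/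
theorem index_two_or_six {N α : Type*} [Group N] [Finite N] [Finite α] (hα : Nat.card α = 3)
    (φ : N →* Equiv.Perm α) (z : α) {s : N} (hs : φ s z = z) (hs1 : φ s ≠ 1) :
    (φ.ker.index = 2 ∨ φ.ker.index = 6) ∧ (φ.ker.index = 6 ↔ ∃ n, φ n z ≠ z) := by
  classical
  have hperm : Nat.card (Equiv.Perm α) = 6 := by rw [Nat.card_perm, hα]; rfl
  set Z := MulAction.stabilizer (Equiv.Perm α) z with hZ
  have hZ2 : Nat.card Z = 2 := by
    have h := Z.card_mul_index
    rw [hperm, MulAction.index_stabilizer_of_transitive, hα] at h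
    omega
  rw [Subgroup.index_ker]
  set R := φ.range with hR
  have hd : Nat.card R ∣ 6 := hperm ▸ R.card_subgroup_dvd_card
  have he : 2 ∣ Nat.card R := by
    have h1 : orderOf (φ s) ∣ 2 := hZ2 ▸ Subgroup.orderOf_dvd_natCard Z (show φ s ∈ Z from hs)
    rcases (Nat.dvd_prime Nat.prime_two).1 h1 with h2 | h2
    · exact absurd (orderOf_eq_one_iff.1 h2) hs1
    · exact h2 ▸ Subgroup.orderOf_dvd_natCard R ⟨s, rfl⟩
  have h26 : Nat.card R = 2 ∨ Nat.card R = 6 := by
    have hmem : Nat.card R ∈ Nat.divisors 6 := Nat.mem_divisors.2 ⟨hd, by norm_num⟩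
    rw [show Nat.divisors 6 = {1, 2, 3, 6} by decide] at hmem
    simp only [Finset.mem_insert, Finset.mem_singleton] at hmem
    omega
  refine ⟨h26, ⟨fun h6 => ?_, fun ⟨n, hn⟩ => ?_⟩⟩
  · by_contra hall
    push Not at hall
    have hle : R ≤ Z := by
      rintro _ ⟨n, rfl⟩
      exact hall n
    have := Subgroup.card_le_of_le hle
    omega
  · refine h26.resolve_left fun h2 => ?_
    let f : Fin 3 → R := ![1, ⟨φ s, s, rfl⟩, ⟨φ n, n, rfl⟩]
    have h12 : φ s ≠ φ n := fun e => hn (by rw [← e]; exact hs)
    have h02 : φ n ≠ 1 := fun e => hn (by rw [e]; rfl)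
    have hf : Function.Injective f := by
      intro i j hij
      have hv := congrArg Subtype.val hij
      fin_cases i <;> fin_cases j <;> simp [f, hs1, hs1.symm, h12, h12.symm, h02, h02.symm] at hv ⊢
    have := Nat.card_le_card_of_injective f hf
    rw [Nat.card_fin, h2] at this
    omega

variable {G : Type*} [Group G]

/-- One class of elements of order `n`. -/
theorem card_classes_one {n : ℕ} {u : G} (hu : orderOf u = n)
    (hall : ∀ t : G, orderOf t = n → IsConj t u) :
    Nat.card {C : ConjClasses G // ∃ t : G, orderOf t = n ∧ ConjClasses.mk t = C} = 1 := by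
  haveI : Unique {C : ConjClasses G // ∃ t : G, orderOf t = n ∧ ConjClasses.mk t = C} :=
    { default := ⟨ConjClasses.mk u, u, hu, rfl⟩
      uniq := by
        rintro ⟨_, t, ht, rfl⟩
        exact Subtype.ext (ConjClasses.mk_eq_mk_iff_isConj.2 (hall t ht)) }
  exact Nat.card_unique

/-- Two classes of elements of order `n`. -/
theorem card_classes_two {n : ℕ} {u v : G} (huv : ¬ IsConj u v) (hu : orderOf u = n)
    (hv : orderOf v = n) (hall : ∀ t : G, orderOf t = n → IsConj t u ∨ IsConj t v) :
    Nat.card {C : ConjClasses G // ∃ t : G, orderOf t = n ∧ ConjClasses.mk t = C} = 2 := by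
  have hset : {C : ConjClasses G | ∃ t : G, orderOf t = n ∧ ConjClasses.mk t = C} =
      {ConjClasses.mk u, ConjClasses.mk v} := by
    ext C
    constructor
    · rintro ⟨t, ht, rfl⟩
      rcases hall t ht with h' | h'
      · exact Or.inl (ConjClasses.mk_eq_mk_iff_isConj.2 h')
      · exact Or.inr (ConjClasses.mk_eq_mk_iff_isConj.2 h')
    · rintro (rfl | rfl)
      · exact ⟨u, hu, rfl⟩
      · exact ⟨v, hv, rfl⟩
  calc Nat.card {C : ConjClasses G // ∃ t : G, orderOf t = n ∧ ConjClasses.mk t = C}
      = ({C : ConjClasses G | ∃ t : G, orderOf t = n ∧ ConjClasses.mk t = C}).ncard :=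
        Nat.card_coe_set_eq _
    _ = 2 := by rw [hset, Set.ncard_pair fun e => huv (ConjClasses.mk_eq_mk_iff_isConj.1 e)]

variable [Finite G]

/-- A cyclic Sylow 2-subgroup has a normal complement. -/
theorem hasNormalPComplement_two_of_isCyclic (T : Sylow 2 G) (hT : IsCyclic (T : Subgroup G)) :
    Cfsg.HasNormalPComplement 2 G := by
  haveI : Fact (Nat.Prime 2) := ⟨Nat.prime_two⟩
  refine CfsgLib.Fusion.hasNormalPComplement_of_normalizer_le_centralizer T ?_
  by_cases h2 : 2 ∣ Nat.card G
  · exact IsCyclic.normalizer_le_centralizer ((Nat.minFac_eq_two_iff _).2 h2) hT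
  · have hb : (T : Subgroup G) = ⊥ := by
      obtain ⟨k, hk⟩ := T.2.exists_card_eq
      rcases k with _ | k
      · rwa [pow_zero, Subgroup.card_eq_one] at hk
      · exfalso
        exact h2 ((dvd_pow_self 2 k.succ_ne_zero).trans (hk ▸ (T : Subgroup G).card_subgroup_dvd_card))
    intro x _
    refine Subgroup.mem_centralizer_iff.2 fun y hy => ?_
    rw [hb] at hy
    rw [Subgroup.mem_bot.1 hy, one_mul, mul_one]

/-- A normal subgroup with 2-group quotient and a normal 2-complement gives one for the group. -/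
theorem hasNormalPComplement_of_normal_two {M : Subgroup G} [M.Normal] (hM : IsPGroup 2 (G ⧸ M))
    (h : Cfsg.HasNormalPComplement 2 M) : Cfsg.HasNormalPComplement 2 G := by
  haveI : Fact (Nat.Prime 2) := ⟨Nat.prime_two⟩
  refine CfsgLib.Fusion.hasNormalPComplement_iff_coprime.2 ?_
  intro g hg
  have hle : Cfsg.pResidual 2 G ≤ (Cfsg.pResidual 2 M).map M.subtype := by
    refine (Subgroup.closure_le _).2 fun y hy => ?_
    have hyM : y ∈ M := CfsgLib.Fusion.pResidual_le_of_isPGroup_quotient M hM
      (CfsgLib.Fusion.mem_pResidual hy)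
    exact ⟨⟨y, hyM⟩, CfsgLib.Fusion.mem_pResidual (by rwa [Subgroup.orderOf_mk]), rfl⟩
  obtain ⟨m, hm, rfl⟩ := hle hg
  have := CfsgLib.Fusion.hasNormalPComplement_iff_coprime.1 h m hm
  rwa [← Subgroup.orderOf_coe] at this

end CfsgLib.Invol
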