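import Cfsg.Agent.Lib.Invol.Basic
import Mathlib.GroupTheory.Commutator.Basic

/-!
# Trivial-intersection subgroups
-/

namespace CfsgLib.Invol

variable {G : Type*} [Group G]

theorem mem_conj_map {H : Subgroup G} {g x : G} :
    x ∈ H.map (MulAut.conj g).toMonoidHom ↔ g⁻¹ * x * g ∈ H := by
  rw [Subgroup.mem_map]
  constructor
  · rintro ⟨y, hy, rfl⟩
    simpa [mul_assoc] using hy
  · intro h
    exact ⟨g⁻¹ * x * g, h, by simp [mul_assoc]⟩

theorem conj_map_conj_map (H : Subgroup G) (g h : G) :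
    (H.map (MulAut.conj g).toMonoidHom).map (MulAut.conj h).toMonoidHom
      = H.map (MulAut.conj (h * g)).toMonoidHom := by
  ext x; simp only [mem_conj_map]; group

theorem conj_map_one (H : Subgroup G) : H.map (MulAut.conj (1 : G)).toMonoidHom = H := by
  ext x; simp [mem_conj_map]

theorem card_conj_map (H : Subgroup G) (g : G) :
    Nat.card (H.map (MulAut.conj g).toMonoidHom) = Nat.card H :=
  Subgroup.card_map_of_injective (MulAut.conj g).injective

theorem mem_normalizer_of_conj_map_eq {H : Subgroup G} {g : G}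
    (h : H.map (MulAut.conj g).toMonoidHom = H) : g ∈ Subgroup.normalizer (H : Set G) := by
  rw [Subgroup.mem_normalizer_iff]
  intro x
  conv_rhs => rw [← h, mem_conj_map]
  simp [mul_assoc]

theorem conj_map_eq_of_mem_normalizer {H : Subgroup G} {g : G}
    (h : g ∈ Subgroup.normalizer (H : Set G)) : H.map (MulAut.conj g).toMonoidHom = H := by
  ext x
  rw [mem_conj_map, Subgroup.mem_normalizer_iff.1 h]
  simp [mul_assoc]

/-- `H` meets each of its conjugates other than itself trivially. -/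
def IsTI (H : Subgroup G) : Prop :=
  ∀ g : G, H.map (MulAut.conj g).toMonoidHom = H ∨ H.map (MulAut.conj g).toMonoidHom ⊓ H = ⊥

theorem IsTI.mem_normalizer {H : Subgroup G} (hH : IsTI H) {g x : G} (hx : x ∈ H) (hx1 : x ≠ 1)
    (hgx : g * x * g⁻¹ ∈ H) : g ∈ Subgroup.normalizer (H : Set G) := by
  rcases hH g with h | h
  · exact mem_normalizer_of_conj_map_eq h
  · have h2 : g * x * g⁻¹ ∈ H.map (MulAut.conj g).toMonoidHom ⊓ H :=
      ⟨Subgroup.mem_map.2 ⟨x, hx, rfl⟩, hgx⟩
    rw [h, Subgroup.mem_bot, conj_eq_one_iff] at h2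
    exact absurd h2 hx1

theorem IsTI.of_commute {H : Subgroup G} (hH : IsTI H) {g x : G} (hx : x ∈ H) (hx1 : x ≠ 1)
    (hc : Commute g x) : g ∈ Subgroup.normalizer (H : Set G) :=
  hH.mem_normalizer hx hx1 (by rw [hc.eq, mul_inv_cancel_right]; exact hx)

theorem IsTI.conj {H : Subgroup G} (hH : IsTI H) (g : G) :
    IsTI (H.map (MulAut.conj g).toMonoidHom) := by
  intro h
  rcases hH (g⁻¹ * h * g) with e | e
  · left
    have := congrArg (fun K : Subgroup G => K.map (MulAut.conj g).toMonoidHom) e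
    simp only [conj_map_conj_map] at this
    rw [conj_map_conj_map]
    convert this using 3
    group
  · right
    have := congrArg (fun K : Subgroup G => K.map (MulAut.conj g).toMonoidHom) e
    simp only [Subgroup.map_bot] at this
    rw [Subgroup.map_inf _ _ (MulAut.conj g).toMonoidHom (MulAut.conj g).injective] at this
    simp only [conj_map_conj_map] at this
    rw [conj_map_conj_map]
    convert this using 4
    group

/-- If `B` is TI and normalizes `A`, `A ⊓ B = ⊥` and `|A| ≤ |B|`, then `B` centralizes `A`. -/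
theorem IsTI.commutator_eq_bot [Finite G] {A B : Subgroup G} (hB : IsTI B)
    (hle : Nat.card A ≤ Nat.card B) (hAB : A ⊓ B = ⊥)
    (hN : B ≤ Subgroup.normalizer (A : Set G)) : ∀ a ∈ A, ∀ b ∈ B, Commute a b := by
  -- an element of `A` commuting with one nontrivial element of `B` centralizes `B`
  have key : ∀ x ∈ A, ∀ b ∈ B, b ≠ 1 → Commute x b → ∀ c ∈ B, Commute x c := by
    intro x hx b hb hb1 hc c hcB
    have hxN : x ∈ Subgroup.normalizer (B : Set G) := hB.of_commute hb hb1 hc
    have h1 : x * c * x⁻¹ * c⁻¹ ∈ B :=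
      mul_mem ((Subgroup.mem_normalizer_iff.1 hxN c).1 hcB) (inv_mem hcB)
    have h2 : x * c * x⁻¹ * c⁻¹ ∈ A := by
      rw [mul_assoc x, mul_assoc x]
      exact mul_mem hx ((Subgroup.mem_normalizer_iff.1 (hN hcB) _).1 (inv_mem hx))
    have h3 : x * c * x⁻¹ * c⁻¹ ∈ A ⊓ B := ⟨h2, h1⟩
    rw [hAB, Subgroup.mem_bot, mul_inv_eq_one] at h3
    exact mul_inv_eq_iff_eq_mul.1 h3
  by_contra hne
  push Not at hne
  obtain ⟨a, ha, b₀, hb₀, hnc⟩ := hne
  let f : B → A := fun b => ⟨b.1 * a * b.1⁻¹, (Subgroup.mem_normalizer_iff.1 (hN b.2) a).1 ha⟩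
  have hinj : Function.Injective f := by
    intro b c hbc
    have h := congrArg Subtype.val hbc
    by_contra hne'
    apply hnc
    refine key a ha (c.1⁻¹ * b.1) (mul_mem (inv_mem c.2) b.2) ?_ ?_ b₀ hb₀
    · intro h1; exact hne' (Subtype.ext (inv_mul_eq_one.1 h1).symm)
    · show a * (c.1⁻¹ * b.1) = c.1⁻¹ * b.1 * a
      calc a * (c.1⁻¹ * b.1) = c.1⁻¹ * (c.1 * a * c.1⁻¹) * b.1 := by group
        _ = c.1⁻¹ * (b.1 * a * b.1⁻¹) * b.1 := by rw [show b.1 * a * b.1⁻¹ = c.1 * a * c.1⁻¹ from h]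
        _ = c.1⁻¹ * b.1 * a := by group
  have h1 : (1 : A) ∉ Set.range f := by
    rintro ⟨b, hb⟩
    have h := congrArg Subtype.val hb
    simp only [f, OneMemClass.coe_one, conj_eq_one_iff] at h
    exact hnc (by rw [h]; exact Commute.one_left _)
  have := Fintype.ofFinite A
  have := Fintype.ofFinite B
  have hlt := Fintype.card_lt_of_injective_of_notMem f hinj h1
  rw [Nat.card_eq_fintype_card, Nat.card_eq_fintype_card] at hle
  omega

end CfsgLib.Invol
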