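import Cfsg.Agent.Lib.Invol.Basic

/-!
# Counting products of two involutions
-/

namespace CfsgLib.Invol

variable {G : Type*} [Group G]

theorem card_inverting {x g₀ : G} (hg₀ : g₀ * x * g₀⁻¹ = x⁻¹) :
    Nat.card {g : G // g * x * g⁻¹ = x⁻¹} = Nat.card (Subgroup.centralizer ({x} : Set G)) := by
  refine Nat.card_congr ((Equiv.mulLeft g₀⁻¹).subtypeEquiv fun g => ?_)
  rw [Subgroup.mem_centralizer_singleton_iff, Equiv.coe_mulLeft]
  constructor
  · intro h
    calc g₀⁻¹ * g * x = g₀⁻¹ * (g * x * g⁻¹) * g := by group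
      _ = g₀⁻¹ * (g₀ * x * g₀⁻¹) * g := by rw [h, hg₀]
      _ = x * (g₀⁻¹ * g) := by group
  · intro h
    calc g * x * g⁻¹ = g₀ * (g₀⁻¹ * g * x) * g⁻¹ := by group
      _ = g₀ * (x * (g₀⁻¹ * g)) * g⁻¹ := by rw [h]
      _ = g₀ * x * g₀⁻¹ := by group
      _ = x⁻¹ := hg₀

variable [Finite G]

/-- The pairs of involutions with product `x` inject into the elements inverting `x`. -/
theorem card_pairs_le (x : G) :
    Nat.card {p : G × G // orderOf p.1 = 2 ∧ orderOf p.2 = 2 ∧ p.1 * p.2 = x} ≤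
      Nat.card (Subgroup.centralizer ({x} : Set G)) := by
  rcases isEmpty_or_nonempty {p : G × G // orderOf p.1 = 2 ∧ orderOf p.2 = 2 ∧ p.1 * p.2 = x} with
    h | ⟨⟨a, b⟩, ha, hb, e⟩
  · simp
  · rw [← card_inverting (x := x) (g₀ := a) (e ▸ invol_conj_mul ha hb)]
    refine Nat.card_le_card_of_injective
      (fun p => ⟨p.1.1, by have h := invol_conj_mul p.2.1 p.2.2.1; rwa [p.2.2.2] at h⟩) ?_
    rintro ⟨⟨a, b⟩, ha, hb, e1⟩ ⟨⟨c, d⟩, hc, hd, e2⟩ h
    simp only [Subtype.mk.injEq] at h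
    subst h
    simp only [Subtype.mk.injEq, Prod.mk.injEq, true_and]
    exact mul_left_cancel (e1.trans e2.symm)

theorem card_pairs_add_one {x : G} (hx : orderOf x = 2) :
    Nat.card {p : G × G // orderOf p.1 = 2 ∧ orderOf p.2 = 2 ∧ p.1 * p.2 = x} + 1 =
      Nat.card {t : G // orderOf t = 2 ∧ Commute t x} := by
  classical
  have := Fintype.ofFinite G
  rw [Nat.card_eq_fintype_card, Nat.card_eq_fintype_card, Fintype.card_subtype, Fintype.card_subtype]
  have hxm : x ∈ Finset.univ.filter (fun t => orderOf t = 2 ∧ Commute t x) := by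
    simp [hx]
  rw [← Finset.card_erase_add_one hxm]
  congr 1
  refine Finset.card_bij (fun p _ => p.1) ?_ ?_ ?_
  · rintro ⟨a, b⟩ hp
    simp only [Finset.mem_filter, Finset.mem_univ, true_and] at hp
    obtain ⟨ha, hb, e⟩ := hp
    have h := invol_conj_mul ha hb
    rw [e, invol_inv hx] at h
    simp only [Finset.mem_erase, Finset.mem_filter, Finset.mem_univ, true_and]
    refine ⟨?_, ha, mul_inv_eq_iff_eq_mul.1 h⟩
    rintro rfl
    exact invol_ne_one hb (mul_eq_left.1 e)
  · rintro ⟨a, b⟩ hp ⟨c, d⟩ hq h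
    simp only [Finset.mem_filter, Finset.mem_univ, true_and] at hp hq
    simp only at h
    subst h
    rw [mul_left_cancel (hp.2.2.trans hq.2.2.symm)]
  · intro t ht
    simp only [Finset.mem_erase, Finset.mem_filter, Finset.mem_univ, true_and] at ht
    refine ⟨(t, t * x), ?_, rfl⟩
    simp only [Finset.mem_filter, Finset.mem_univ, true_and, invol_iff]
    refine ⟨invol_iff.1 ht.2.1, ⟨?_, ?_⟩, ?_⟩
    · rw [mul_assoc, ← mul_assoc x, ← ht.2.2.eq, mul_assoc t x x, invol_mul_self hx, mul_one,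
        invol_mul_self ht.2.1]
    · intro h1
      exact ht.1 ((eq_inv_of_mul_eq_one_left h1).trans (invol_inv hx))
    · rw [← mul_assoc, invol_mul_self ht.2.1, one_mul]

theorem card_commuting_invol_lt (x : G) :
    Nat.card {t : G // orderOf t = 2 ∧ Commute t x} <
      Nat.card (Subgroup.centralizer ({x} : Set G)) := by
  have := Fintype.ofFinite G
  classical
  rw [Nat.card_eq_fintype_card, Nat.card_eq_fintype_card]
  refine Fintype.card_lt_of_injective_of_notMem
    (fun t => ⟨t.1, Subgroup.mem_centralizer_singleton_iff.2 t.2.2.eq⟩) ?_ (b := 1) ?_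
  · intro a b h
    simpa [Subtype.ext_iff] using h
  · rintro ⟨t, ht⟩
    simp only [Subtype.ext_iff, OneMemClass.coe_one] at ht
    exact invol_ne_one t.2.1 ht

end CfsgLib.Invol
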