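import Cfsg.Agent.Lib.Invol.StronglyEmbedded
import Cfsg.Agent.Lib.Invol.TI
import Mathlib.GroupTheory.Nilpotent

/-!
# Strong embedding from normalizers of 2-subgroups
-/

namespace CfsgLib.Invol

variable {G : Type*} [Group G] [Finite G]

/-- A proper subgroup `D` of a finite `p`-group `S` is properly contained in its normalizer. -/
theorem exists_mem_normalizer_notMem {p : ℕ} [Fact p.Prime] {S D : Subgroup G} (hS : IsPGroup p S)
    (hDS : D ≤ S) (hne : ¬ S ≤ D) :
    ∃ x ∈ S, x ∈ Subgroup.normalizer (D : Set G) ∧ x ∉ D := by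
  have : Group.IsNilpotent S := hS.isNilpotent
  have hlt : D.subgroupOf S < ⊤ :=
    lt_top_iff_ne_top.2 fun e => hne (Subgroup.subgroupOf_eq_top.1 e)
  obtain ⟨v, hv, hv'⟩ := SetLike.exists_of_lt (normalizerCondition_of_isNilpotent (G := S) _ hlt)
  refine ⟨v.1, v.2, ?_, fun h => hv' (Subgroup.mem_subgroupOf.2 h)⟩
  rw [Subgroup.mem_normalizer_iff] at hv ⊢
  intro t
  constructor
  · intro ht
    exact (hv ⟨t, hDS ht⟩).1 ht
  · intro ht
    have htS : t ∈ S := by
      have := mul_mem (mul_mem (inv_mem v.2) (hDS ht)) v.2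
      simpa [mul_assoc] using this
    exact (hv ⟨t, htS⟩).2 ht

variable {H : Subgroup G} (P : Sylow 2 H)

/-- If every nontrivial 2-subgroup of the Sylow `P` of `H` has normalizer in `H`, Sylow
2-subgroups of `G` meeting `P` nontrivially are `H`-conjugates of `P`. -/
theorem exists_conj_of_meet (hP : (P : Subgroup H) ≠ ⊥)
    (hN : ∀ X : Subgroup G, X ≤ (P : Subgroup H).map H.subtype → X ≠ ⊥ →
      Subgroup.normalizer (X : Set G) ≤ H) :
    ∀ Q : Sylow 2 G, (Q : Subgroup G) ⊓ (P : Subgroup H).map H.subtype ≠ ⊥ →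
      ∃ h ∈ H, (Q : Subgroup G) = ((P : Subgroup H).map H.subtype).map (MulAut.conj h).toMonoidHom := by
  classical
  set T := (P : Subgroup H).map H.subtype with hT
  have hTH : T ≤ H := Subgroup.map_subtype_le _
  have hTp : IsPGroup 2 T := P.2.map _
  have hTne : T ≠ ⊥ := fun h => hP ((Subgroup.map_eq_bot_iff_of_injective _ Subtype.coe_injective).1 h)
  -- a 2-subgroup of `H` is conjugate in `H` into `T`
  have hinto : ∀ X : Subgroup G, X ≤ H → IsPGroup 2 X →
      ∃ h ∈ H, X.map (MulAut.conj h).toMonoidHom ≤ T := by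
    intro X hXH hX
    obtain ⟨k, hk⟩ := exists_conj_le_sylow (hX.comap_of_injective H.subtype Subtype.coe_injective) P
    refine ⟨k, k.2, fun y hy => ?_⟩
    obtain ⟨x, hx, rfl⟩ := hy
    exact ⟨_, hk ⟨x, hXH hx⟩ (Subgroup.mem_comap.2 hx), rfl⟩
  intro Q
  induction hd : Nat.card T - Nat.card ((Q : Subgroup G) ⊓ T : Subgroup G) using Nat.strong_induction_on
    generalizing Q with
  | _ d ih =>
  intro hQT
  by_cases hTQ : T ≤ Q
  · refine ⟨1, H.one_mem, ?_⟩
    rw [conj_map_one]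
    refine le_antisymm ?_ hTQ
    by_contra hne
    obtain ⟨x, hxQ, hxN, hxT⟩ := exists_mem_normalizer_notMem Q.2 hTQ hne
    have hxH : x ∈ H := hN T le_rfl hTne hxN
    have hle : Subgroup.zpowers x ⊔ T ≤ H := sup_le (Subgroup.zpowers_le.2 hxH) hTH
    have hp2 : IsPGroup 2 (Subgroup.zpowers x ⊔ T : Subgroup G) :=
      Q.2.to_le (sup_le (Subgroup.zpowers_le.2 hxQ) hTQ)
    obtain ⟨h, hh, hle2⟩ := hinto _ hle hp2
    have hc := Subgroup.card_le_of_le hle2
    rw [card_conj_map] at hc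
    have heq : T = Subgroup.zpowers x ⊔ T := Subgroup.eq_of_le_of_card_ge le_sup_right hc
    exact hxT (heq.ge (Subgroup.mem_sup_left (Subgroup.mem_zpowers x)))
  set D := (Q : Subgroup G) ⊓ T with hD
  have hTD : ¬ T ≤ D := fun h => hTQ (h.trans inf_le_left)
  have hQD : ¬ (Q : Subgroup G) ≤ D := by
    intro h
    have hQT' : (Q : Subgroup G) ≤ T := h.trans inf_le_right
    exact hTQ (Q.3 hTp hQT').le
  obtain ⟨y, hyQ, hyN, hyD⟩ := exists_mem_normalizer_notMem Q.2 inf_le_left hQD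
  obtain ⟨z, hzT, hzN, hzD⟩ := exists_mem_normalizer_notMem hTp inf_le_right hTD
  have hDH : Subgroup.normalizer (D : Set G) ≤ H := hN D inf_le_right hQT
  -- the 2-subgroup `N_Q(D)` of `H` is moved into `T`
  set X := (Q : Subgroup G) ⊓ Subgroup.normalizer (D : Set G) with hX
  obtain ⟨h, hh, hXle⟩ := hinto X (inf_le_right.trans hDH) (Q.2.to_le inf_le_left)
  have hDX : D ≤ X := le_inf inf_le_left Subgroup.le_normalizer
  let Q' : Sylow 2 G := h • Q
  have hQ' : (Q' : Subgroup G) = (Q : Subgroup G).map (MulAut.conj h).toMonoidHom := rfl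
  have hX' : X.map (MulAut.conj h).toMonoidHom ≤ (Q' : Subgroup G) ⊓ T :=
    le_inf (hQ' ▸ Subgroup.map_mono inf_le_left) hXle
  have hcard : Nat.card D < Nat.card ((Q' : Subgroup G) ⊓ T : Subgroup G) := by
    refine lt_of_lt_of_le ?_ (Subgroup.card_le_of_le hX')
    rw [card_conj_map]
    refine lt_of_le_of_ne (Subgroup.card_le_of_le hDX) fun heq => hyD ?_
    exact (Subgroup.eq_of_le_of_card_ge hDX heq.ge).ge ⟨hyQ, hyN⟩
  have hne' : (Q' : Subgroup G) ⊓ T ≠ ⊥ := by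
    intro hb
    rw [hb, Subgroup.card_bot] at hcard
    have := Nat.card_pos (α := D)
    omega
  have hTle := Subgroup.card_le_of_le (inf_le_right : (Q' : Subgroup G) ⊓ T ≤ T)
  obtain ⟨k, hk, hQk⟩ := ih _ (by rw [← hd]; omega) Q' rfl hne'
  refine ⟨h⁻¹ * k, mul_mem (inv_mem hh) hk, ?_⟩
  rw [← conj_map_conj_map, ← hQk, hQ', conj_map_conj_map, inv_mul_cancel, conj_map_one]

/-- Strong embedding from the normalizer condition. -/
theorem stronglyEmbedded_of_normalizers (hH : H ≠ ⊤) (hP : (P : Subgroup H) ≠ ⊥)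
    (hN : ∀ X : Subgroup G, X ≤ (P : Subgroup H).map H.subtype → X ≠ ⊥ →
      Subgroup.normalizer (X : Set G) ≤ H) :
    Cfsg.IsStronglyEmbedded H := by
  have heven : Even (Nat.card H) := by
    obtain ⟨k, hk⟩ := P.2.exists_card_eq
    have h1 := Subgroup.card_subgroup_dvd_card (P : Subgroup H)
    rw [hk] at h1
    rcases k with _ | k
    · exact absurd (Subgroup.eq_bot_of_card_eq _ (by simpa using hk)) hP
    · exact even_iff_two_dvd.2 ((dvd_pow_self 2 (Nat.succ_ne_zero k)).trans h1)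
  set T := (P : Subgroup H).map H.subtype with hT
  have hTH : T ≤ H := Subgroup.map_subtype_le _
  rw [stronglyEmbedded_iff hH heven]
  intro t ht hto g hg
  -- move `t` and `g t g⁻¹` into `T`
  have hzp : ∀ u : H, orderOf (u : G) = 2 → ∃ k : H, (k : G) * u * (k : G)⁻¹ ∈ T := by
    intro u hu
    have hp : IsPGroup 2 (Subgroup.zpowers u) :=
      IsPGroup.of_card (n := 1) (by rw [Nat.card_zpowers, ← Subgroup.orderOf_coe, hu, pow_one])
    obtain ⟨k, hk⟩ := exists_conj_le_sylow hp P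
    exact ⟨k, ⟨_, hk u (Subgroup.mem_zpowers u), rfl⟩⟩
  obtain ⟨a, ha⟩ := hzp ⟨t, ht⟩ hto
  obtain ⟨b, hb⟩ := hzp ⟨g * t * g⁻¹, hg⟩ (invol_conj hto g)
  set t' := (a : G) * t * (a : G)⁻¹ with ht'
  set c := (b : G) * g * (a : G)⁻¹ with hc
  have hct : c * t' * c⁻¹ ∈ T := by
    have e : c * t' * c⁻¹ = b * (g * t * g⁻¹) * (b : G)⁻¹ := by rw [hc, ht']; group
    rw [e]; exact hb
  -- `T` is a Sylow 2-subgroup of `G`
  obtain ⟨Q₀, hQ₀⟩ := (P.2.map H.subtype).exists_le_sylow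
  have hTne : T ≠ ⊥ := fun h => hP ((Subgroup.map_eq_bot_iff_of_injective _ Subtype.coe_injective).1 h)
  have hmeet0 : (Q₀ : Subgroup G) ⊓ T ≠ ⊥ := by rwa [inf_eq_right.2 hQ₀]
  obtain ⟨h₀, -, hQ₀eq⟩ := exists_conj_of_meet P hP hN Q₀ hmeet0
  have hQT : (Q₀ : Subgroup G) = T := (Subgroup.eq_of_le_of_card_ge hQ₀ (le_of_eq (by
    rw [hQ₀eq, card_conj_map]))).symm
  let Q : Sylow 2 G := c • Q₀
  have hQc : (Q : Subgroup G) = T.map (MulAut.conj c).toMonoidHom := by
    rw [← hQT]; rfl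
  have hmeet : (Q : Subgroup G) ⊓ T ≠ ⊥ := by
    intro hbot
    have : c * t' * c⁻¹ ∈ (Q : Subgroup G) ⊓ T := ⟨hQc ▸ Subgroup.mem_map.2 ⟨t', ha, rfl⟩, hct⟩
    rw [hbot, Subgroup.mem_bot, conj_eq_one_iff, ht', conj_eq_one_iff] at this
    exact invol_ne_one hto this
  obtain ⟨h, hh, hQh⟩ := exists_conj_of_meet P hP hN Q hmeet
  have hn : h⁻¹ * c ∈ Subgroup.normalizer (T : Set G) := by
    apply mem_normalizer_of_conj_map_eq
    rw [← conj_map_conj_map, ← hQc, hQh, conj_map_conj_map, inv_mul_cancel, conj_map_one]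
  have hcH : c ∈ H := by
    have := mul_mem hh (hN T le_rfl hTne hn)
    rwa [mul_inv_cancel_left] at this
  have hgH : g = (b : G)⁻¹ * c * a := by rw [hc]; group
  rw [hgH]
  exact mul_mem (mul_mem (inv_mem b.2) hcH) a.2

end CfsgLib.Invol
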