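import Cfsg.Agent.Lib.Invol.Isolated
import Cfsg.Agent.Lib.Invol.TwoClasses

/-!
# The transversal of inverted elements attached to an isolated involution
-/

namespace CfsgLib.Invol

variable {G : Type*} [Group G] [Finite G]

/-- For an element inverted by the involution `z`, `k z k⁻¹ = k² z`. -/
theorem conj_of_inverted {z k : G} (hz : orderOf z = 2) (hk : z * k * z⁻¹ = k⁻¹) :
    k * z * k⁻¹ = k ^ 2 * z := by
  have h1 := zpow_mul_invol hz hk 1
  rw [zpow_one, zpow_neg_one] at h1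
  calc k * z * k⁻¹ = k * (z * k⁻¹) := mul_assoc _ _ _
    _ = k ^ 2 * z := by rw [← h1, pow_two, mul_assoc]

theorem eq_of_sq_eq {a b : G} (ha : Odd (orderOf a)) (hb : Odd (orderOf b)) (h : a ^ 2 = b ^ 2) :
    a = b := by
  obtain ⟨i, hi⟩ := ha
  obtain ⟨j, hj⟩ := hb
  have key : ∀ (x : G) (i l : ℕ), x ^ (2 * i + 1) = 1 →
      (x ^ 2) ^ ((i + 1) + l * (2 * i + 1)) = x := by
    intro x i l hx
    rw [← pow_mul, show 2 * ((i + 1) + l * (2 * i + 1)) = (2 * i + 1) * (1 + 2 * l) + 1 by ring,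
      pow_succ, pow_mul, hx, one_pow, one_mul]
  -- both are powers of the common square
  have ha1 : a ^ (2 * i + 1) = 1 := hi ▸ pow_orderOf_eq_one a
  have hb1 : b ^ (2 * j + 1) = 1 := hj ▸ pow_orderOf_eq_one b
  have hc : Commute a b := by
    have := key b j 0 hb1
    rw [← this, ← h]
    exact (Commute.refl a).pow_right 2 |>.pow_right _
  have h1 : (a * b⁻¹) ^ 2 = 1 := by
    rw [hc.inv_right.mul_pow, inv_pow, h, mul_inv_cancel]
  have h2 : (a * b⁻¹) ^ ((2 * i + 1) * (2 * j + 1)) = 1 := by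
    rw [hc.inv_right.mul_pow, inv_pow, pow_mul, ha1, one_pow, mul_comm, pow_mul, hb1, one_pow,
      inv_one, one_mul]
  have h3 := pow_gcd_eq_one.2 ⟨h1, h2⟩
  have hg : Nat.gcd 2 ((2 * i + 1) * (2 * j + 1)) = 1 :=
    Nat.coprime_two_left.2 (Odd.mul ⟨i, rfl⟩ ⟨j, rfl⟩)
  rw [hg, pow_one] at h3
  exact mul_inv_eq_one.1 h3

variable {z : G} (hz : Cfsg.IsIsolatedInvolution z)

include hz in
theorem exists_inverted_conj (g : G) :
    ∃ k : G, Odd (orderOf k) ∧ z * k * z⁻¹ = k⁻¹ ∧ k * z * k⁻¹ = g * z * g⁻¹ := by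
  obtain ⟨d, hd, h⟩ := exists_conj_zpowers hz g
  refine ⟨d, ?_, ?_, h⟩
  · obtain ⟨i, rfl⟩ := Subgroup.mem_zpowers_iff.1 hd
    exact (odd_mul_conj hz g).of_dvd_nat (orderOf_dvd_of_mem_zpowers hd)
  · obtain ⟨i, rfl⟩ := Subgroup.mem_zpowers_iff.1 hd
    rw [conj_zpow_of_inverts (invol_conj_mul hz.1 (invol_conj hz.1 g)), zpow_neg]

include hz in
theorem inverted_unique {k k' : G} (hk : Odd (orderOf k)) (hki : z * k * z⁻¹ = k⁻¹)
    (hk' : Odd (orderOf k')) (hki' : z * k' * z⁻¹ = k'⁻¹) (h : k * z * k⁻¹ = k' * z * k'⁻¹) :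
    k = k' := by
  rw [conj_of_inverted hz.1 hki, conj_of_inverted hz.1 hki'] at h
  exact eq_of_sq_eq hk hk' (mul_right_cancel h)

include hz in
theorem inverted_transversal (g : G) :
    ∃! k : G, (Odd (orderOf k) ∧ z * k * z⁻¹ = k⁻¹) ∧
      g⁻¹ * k ∈ Subgroup.centralizer ({z} : Set G) := by
  have iff1 : ∀ k : G, g⁻¹ * k ∈ Subgroup.centralizer ({z} : Set G) ↔ k * z * k⁻¹ = g * z * g⁻¹ := by
    intro k
    rw [Subgroup.mem_centralizer_singleton_iff]
    constructor
    · intro h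
      calc k * z * k⁻¹ = g * (g⁻¹ * k * z) * k⁻¹ := by group
        _ = g * (z * (g⁻¹ * k)) * k⁻¹ := by rw [h]
        _ = g * z * g⁻¹ := by group
    · intro h
      calc g⁻¹ * k * z = g⁻¹ * (k * z * k⁻¹) * k := by group
        _ = g⁻¹ * (g * z * g⁻¹) * k := by rw [h]
        _ = z * (g⁻¹ * k) := by group
  obtain ⟨k, h1, h2, h3⟩ := exists_inverted_conj hz g
  exact ⟨k, ⟨⟨h1, h2⟩, (iff1 k).2 h3⟩, fun k' ⟨⟨a, b⟩, c⟩ =>
    inverted_unique hz a b h1 h2 (((iff1 k').1 c).trans h3.symm)⟩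

include hz in
/-- The inverted elements centralizing `w ∈ C(z)` match the conjugates of `z` centralizing `w`. -/
theorem card_inverted_commute {w : G} (hw : Commute w z) :
    Nat.card {k : G // Odd (orderOf k) ∧ z * k * z⁻¹ = k⁻¹ ∧ Commute k w} =
      Nat.card {v : G // IsConj z v ∧ Commute v w} := by
  refine Nat.card_eq_of_bijective (fun k => ⟨k.1 * z * k.1⁻¹, isConj_iff.2 ⟨k.1, rfl⟩, ?_⟩) ⟨?_, ?_⟩
  · obtain ⟨-, -, hc⟩ := k.2
    exact ((hc.mul_left hw.symm).mul_left hc.inv_left)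
  · intro a b h
    exact Subtype.ext (inverted_unique hz a.2.1 a.2.2.1 b.2.1 b.2.2.1 (congrArg Subtype.val h))
  · rintro ⟨v, hv, hvw⟩
    obtain ⟨g, rfl⟩ := isConj_iff.1 hv
    obtain ⟨k, h1, h2, h3⟩ := exists_inverted_conj hz g
    refine ⟨⟨k, h1, h2, ?_⟩, Subtype.ext h3⟩
    -- `w k w⁻¹` is another inverted element with the same image
    have hk' : Odd (orderOf (w * k * w⁻¹)) := by
      rw [← MulAut.conj_apply, MulEquiv.orderOf_eq]
      exact h1
    have hki' : z * (w * k * w⁻¹) * z⁻¹ = (w * k * w⁻¹)⁻¹ := by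
      calc z * (w * k * w⁻¹) * z⁻¹ = (z * w) * k * (z * w)⁻¹ := by group
        _ = (w * z) * k * (w * z)⁻¹ := by rw [hw.eq]
        _ = w * (z * k * z⁻¹) * w⁻¹ := by group
        _ = (w * k * w⁻¹)⁻¹ := by rw [h2]; group
    have he : w * k * w⁻¹ * z * (w * k * w⁻¹)⁻¹ = k * z * k⁻¹ := by
      rw [h3]
      calc w * k * w⁻¹ * z * (w * k * w⁻¹)⁻¹ = w * k * (w⁻¹ * z * w) * k⁻¹ * w⁻¹ := by group
        _ = w * k * (w⁻¹ * (w * z)) * k⁻¹ * w⁻¹ := by rw [mul_assoc w⁻¹ z w, ← hw.eq]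
        _ = w * (k * z * k⁻¹) * w⁻¹ := by group
        _ = g * z * g⁻¹ := by rw [h3, ← hvw.eq, mul_inv_cancel_right]
    exact (mul_inv_eq_iff_eq_mul.1 (inverted_unique hz hk' hki' h1 h2 he)).symm

include hz in
/-- An involution other than `z` in `C(z)` pairs each conjugate of `z` with a unique involution. -/
theorem exists_pair_invol {s : G} (hs : orderOf s = 2) (hsz : Commute s z) (hne : s ≠ z) (v : G)
    (hv : IsConj z v) :
    ∃ v' : G, IsConj z v' ∧ Commute v' s ∧ orderOf (v' * s) = 2 ∧ v' * s ∈ Subgroup.zpowers (v * s) ∧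
      Commute v (v' * s) := by
  obtain ⟨g, hg⟩ := isConj_iff.1 hv
  have hvo : orderOf v = 2 := hg ▸ invol_conj hz.1 g
  have hnc : ¬ IsConj z s := by
    intro h
    obtain ⟨a, ha⟩ := isConj_iff.1 h
    have := hz.2 a (by rw [ha]; exact hsz.symm)
    rw [ha] at this
    exact hne this
  have hodd2 : Odd (orderOf ((v * s) ^ 2)) := by
    have e : (v * s) ^ 2 = g * z * g⁻¹ * ((s * g) * z * (s * g)⁻¹) := by
      rw [pow_two, mul_inv_rev, invol_inv hs, hg]
      calc v * s * (v * s) = v * (s * v * s) := by group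
        _ = v * (s * g * z * (g⁻¹ * s)) := by rw [← hg]; group
    rw [e]
    exact odd_conj_mul_conj hz g (s * g)
  have heven : Even (orderOf (v * s)) :=
    even_of_not_isConj hvo hs fun h => hnc (hv.trans h)
  obtain ⟨m, hm⟩ := heven
  rw [orderOf_pow, show (orderOf (v * s)).gcd 2 = 2 from
    Nat.gcd_eq_right ⟨m, by omega⟩, hm, show (m + m) / 2 = m by omega] at hodd2
  obtain ⟨i, hi⟩ := hodd2
  set t := (v * s) ^ (orderOf (v * s) / 2) with ht
  have hte : t = (v * s) ^ ((2 * i + 1 : ℕ) : ℤ) := by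
    rw [ht, zpow_natCast, hm, hi]; congr 1; omega
  have hinv := invol_conj_mul hvo hs
  have hto : orderOf t = 2 := orderOf_pow_half ⟨m, hm⟩
  have htv : Commute t v := commute_pow_half hinv ⟨m, hm⟩
  have hts : Commute t s := commute_pow_half (invol_conj_mul' hvo hs) ⟨m, hm⟩
  refine ⟨t * s, ?_, (hts.mul_left (Commute.refl s)), ?_, ?_, ?_⟩
  · refine hv.trans (isConj_iff.2 ⟨(v * s) ^ (i : ℤ), ?_⟩)
    rw [zpow_conj_invol hvo hs, hte, show ((2 * i + 1 : ℕ) : ℤ) = (2 * i : ℤ) + 1 by push_cast; ring,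
      zpow_add_one, mul_assoc _ (v * s), mul_assoc v s s, invol_mul_self hs, mul_one,
      zpow_mul_invol hvo hinv]
  · rw [mul_assoc, invol_mul_self hs, mul_one, hto]
  · rw [mul_assoc, invol_mul_self hs, mul_one]
    exact Subgroup.npow_mem_zpowers _ _
  · rw [mul_assoc, invol_mul_self hs, mul_one]
    exact htv.symm

include hz in
theorem isolated_order_formula {s : G} (hs : orderOf s = 2) (hsz : Commute s z) :
    Nat.card G = Nat.card (Subgroup.centralizer ({z} : Set G)) *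
      Nat.card {k : G // Odd (orderOf k) ∧ z * k * z⁻¹ = k⁻¹ ∧ Commute k (s * z)} *
      Nat.card {k : G // Odd (orderOf k) ∧ z * k * z⁻¹ = k⁻¹ ∧ Commute k s} := by
  classical
  have := Fintype.ofFinite G
  rw [card_inverted_commute hz (hsz.mul_left (Commute.refl z)), card_inverted_commute hz hsz,
    mul_assoc, ← card_isConj_mul z, mul_comm]
  congr 1
  by_cases hne : s = z
  · subst hne
    have h1 : Nat.card {v : G // IsConj s v ∧ Commute v s} = 1 := by
      rw [Nat.card_eq_one_iff_exists]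
      refine ⟨⟨s, IsConj.refl s, Commute.refl s⟩, fun ⟨v, hv, hvs⟩ => Subtype.ext ?_⟩
      obtain ⟨g, rfl⟩ := isConj_iff.1 hv
      exact hz.2 g hvs.symm
    rw [h1, mul_one]
    exact Nat.card_congr (Equiv.subtypeEquivRight fun v =>
      ⟨fun h => ⟨h, by rw [invol_mul_self hs]; exact Commute.one_right v⟩, fun h => h.1⟩)
  let T := {v : G // IsConj z v ∧ Commute v s}
  let F : {v : G // IsConj z v} → Σ w : T, {v : G // IsConj z v ∧ Commute v (w.1 * s)} := fun v =>
    ⟨⟨(exists_pair_invol hz hs hsz hne v.1 v.2).choose,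
      (exists_pair_invol hz hs hsz hne v.1 v.2).choose_spec.1,
      (exists_pair_invol hz hs hsz hne v.1 v.2).choose_spec.2.1⟩,
      ⟨v.1, v.2, (exists_pair_invol hz hs hsz hne v.1 v.2).choose_spec.2.2.2.2⟩⟩
  have hF : Function.Bijective F := by
    refine ⟨fun a b h => Subtype.ext (congrArg (fun q => q.2.1) h :), ?_⟩
    rintro ⟨⟨w, hw, hws⟩, v, hv, hvw⟩
    obtain ⟨h1, h2, h3, h4, h5⟩ := (exists_pair_invol hz hs hsz hne v hv).choose_spec
    set w' := (exists_pair_invol hz hs hsz hne v hv).choose with hw'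
    -- `w * s` is also an involution of `⟨v s⟩`
    obtain ⟨g, hg⟩ := isConj_iff.1 hv
    obtain ⟨a, ha⟩ := isConj_iff.1 hw
    have hwo : orderOf w = 2 := ha ▸ invol_conj hz.1 a
    have hwne : w ≠ s := by
      intro e
      have := hz.2 a (by rw [ha, e]; exact hsz.symm)
      exact hne (by rw [← e, ← ha, this])
    have hwso : orderOf (w * s) = 2 := by
      rw [invol_iff]
      refine ⟨?_, fun e => hwne (by rw [eq_inv_of_mul_eq_one_left e, invol_inv hs])⟩
      rw [mul_assoc, ← mul_assoc s, ← hws.eq, mul_assoc w s s, invol_mul_self hs, mul_one,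
        invol_mul_self hwo]
    have hodd : Odd (orderOf (v * w)) := by
      rw [← hg, ← ha]; exact odd_conj_mul_conj hz g a
    have hcw : Commute w (w * s) := (Commute.refl w).mul_right hws
    have hcomm : Commute (v * w) (w * s) := hvw.mul_left hcw
    have hmem : w * s ∈ Subgroup.zpowers (v * s) := by
      have e : v * s = v * w * (w * s) := by
        rw [mul_assoc, ← mul_assoc w w, invol_mul_self hwo, one_mul]
      refine Subgroup.mem_zpowers_iff.2 ⟨(orderOf (v * w) : ℤ), ?_⟩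
      rw [zpow_natCast, e, hcomm.mul_pow, pow_orderOf_eq_one, one_mul]
      obtain ⟨i, hi⟩ := hodd
      rw [hi, pow_succ, pow_mul, pow_two, invol_mul_self hwso, one_pow, one_mul]
    have heq : w' = w := mul_right_cancel (invol_zpowers_unique h3 hwso h4 hmem)
    refine ⟨⟨v, hv⟩, ?_⟩
    subst heq
    rfl
  rw [Nat.card_eq_of_bijective F hF, Nat.card_sigma]
  -- every fibre is a conjugate of the fibre over `z`
  have hfib : ∀ w : T, Nat.card {v : G // IsConj z v ∧ Commute v (w.1 * s)} =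
      Nat.card {v : G // IsConj z v ∧ Commute v (s * z)} := by
    rintro ⟨w, hw, hws⟩
    obtain ⟨a, ha⟩ := isConj_iff.1 hw
    have hzC : z ∈ Subgroup.centralizer ({s} : Set G) :=
      Subgroup.mem_centralizer_singleton_iff.2 hsz.symm.eq
    obtain ⟨d, hd, hdw⟩ := exists_conj_zpowers hz a
    rw [ha] at hd hdw
    have hdC : d ∈ Subgroup.centralizer ({s} : Set G) :=
      Subgroup.zpowers_le.2 (mul_mem hzC (Subgroup.mem_centralizer_singleton_iff.2 hws.eq)) hd
    have hds : d * s * d⁻¹ = s := by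
      rw [Subgroup.mem_centralizer_singleton_iff.1 hdC, mul_inv_cancel_right]
    symm
    refine Nat.card_congr ((MulAut.conj d).toEquiv.subtypeEquiv fun v => ?_)
    show IsConj z v ∧ Commute v (s * z) ↔ IsConj z (d * v * d⁻¹) ∧ Commute (d * v * d⁻¹) (w * s)
    have e : w * s = MulAut.conj d (s * z) := by
      rw [MulAut.conj_apply, ← hdw, hsz.eq]
      conv_lhs => arg 2; rw [← hds]
      group
    rw [e]
    refine and_congr ⟨fun h => h.trans (isConj_iff.2 ⟨d, rfl⟩), fun h =>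
      h.trans (isConj_iff.2 ⟨d⁻¹, by group⟩)⟩ ?_
    constructor
    · intro h; exact h.map (MulAut.conj d).toMonoidHom
    · intro h
      have := h.map (MulAut.conj d⁻¹).toMonoidHom
      simp only [MulEquiv.toMonoidHom_eq_coe, MonoidHom.coe_coe, MulAut.conj_apply, inv_inv] at this
      have e1 : d⁻¹ * (d * v * d⁻¹) * d = v := by group
      have e2 : d⁻¹ * (d * (s * z) * d⁻¹) * d = s * z := by group
      rwa [e1, e2] at this
  rw [Finset.sum_congr rfl fun w _ => hfib w, Finset.sum_const, smul_eq_mul, Finset.card_univ,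
    ← Nat.card_eq_fintype_card, mul_comm]

include hz in
/-- `C(z)` contains a Sylow 2-subgroup. -/
theorem not_two_dvd_index_centralizer :
    ¬ 2 ∣ (Subgroup.centralizer ({z} : Set G)).index := by
  have hp : IsPGroup 2 (Subgroup.zpowers z) :=
    IsPGroup.of_card (n := 1) (by rw [Nat.card_zpowers, hz.1, pow_one])
  obtain ⟨S, hS⟩ := hp.exists_le_sylow
  have hle : (S : Subgroup G) ≤ Subgroup.centralizer ({z} : Set G) := by
    intro u hu
    rw [Subgroup.mem_centralizer_singleton_iff]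
    have hodd := odd_mul_conj hz u
    obtain ⟨k, hk⟩ := orderOf_pow_two_of_mem (P := S)
      (mul_mem (hS (Subgroup.mem_zpowers z)) (mul_mem (mul_mem hu (hS (Subgroup.mem_zpowers z))) (inv_mem hu)))
    have h1 := eq_one_of_odd_of_pow_two hodd (k := k) (hk ▸ pow_orderOf_eq_one _)
    have h2 : u * z * u⁻¹ = z := (inv_eq_of_mul_eq_one_right h1).symm.trans (invol_inv hz.1)
    exact mul_inv_eq_iff_eq_mul.1 h2
  exact fun h => S.not_dvd_index (h.trans (Subgroup.index_dvd_of_le hle))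

include hz in
theorem centralizer_control {x a : G} (hx : x ∈ Subgroup.centralizer ({z} : Set G))
    (ha : a * x * a⁻¹ ∈ Subgroup.centralizer ({z} : Set G)) :
    ∃ h ∈ Subgroup.centralizer ({z} : Set G), h * x * h⁻¹ = a * x * a⁻¹ := by
  rw [Subgroup.mem_centralizer_singleton_iff] at hx ha
  have hzH : z ∈ Subgroup.centralizer ({a * x * a⁻¹} : Set G) :=
    Subgroup.mem_centralizer_singleton_iff.2 ha.symm
  have hgH : a * z * a⁻¹ ∈ Subgroup.centralizer ({a * x * a⁻¹} : Set G) := by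
    rw [Subgroup.mem_centralizer_singleton_iff]
    calc a * z * a⁻¹ * (a * x * a⁻¹) = a * (z * x) * a⁻¹ := by group
      _ = a * (x * z) * a⁻¹ := by rw [hx]
      _ = a * x * a⁻¹ * (a * z * a⁻¹) := by group
  obtain ⟨d, hd, hdz⟩ := exists_conj_zpowers hz a
  have hdH := Subgroup.zpowers_le.2 (mul_mem hzH hgH) hd
  rw [Subgroup.mem_centralizer_singleton_iff] at hdH
  refine ⟨d⁻¹ * a, ?_, ?_⟩
  · rw [Subgroup.mem_centralizer_singleton_iff]
    calc d⁻¹ * a * z = d⁻¹ * (a * z * a⁻¹) * a := by group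
      _ = d⁻¹ * (d * z * d⁻¹) * a := by rw [hdz]
      _ = z * (d⁻¹ * a) := by group
  · calc d⁻¹ * a * x * (d⁻¹ * a)⁻¹ = d⁻¹ * (a * x * a⁻¹ * d) := by group
      _ = d⁻¹ * (d * (a * x * a⁻¹)) := by rw [hdH]
      _ = a * x * a⁻¹ := by group

end CfsgLib.Invol
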