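import Cfsg.Agent.Lib.Invol.StronglyEmbedded
import Cfsg.Agent.Lib.Invol.IsolatedTransversal

/-!
# Strongly embedded subgroups: the action on the cosets
-/

namespace CfsgLib.Invol

open MulAction

variable {G : Type*} [Group G] [Finite G] {H : Subgroup G} (hH : Cfsg.IsStronglyEmbedded H)

include hH in
theorem fixed_unique {t : G} (ht : orderOf t = 2) {a b : G ⧸ H} (ha : t • a = a) (hb : t • b = b) :
    a = b := by
  obtain ⟨g, rfl⟩ := QuotientGroup.mk_surjective a
  obtain ⟨k, rfl⟩ := QuotientGroup.mk_surjective b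
  rw [MulAction.Quotient.smul_mk, QuotientGroup.eq, smul_eq_mul] at ha hb
  rw [QuotientGroup.eq]
  have h1 : g⁻¹ * t * g ∈ H := by
    have := inv_mem ha; simpa [mul_assoc] using this
  have h2 : k⁻¹ * t * k ∈ H := by
    have := inv_mem hb; simpa [mul_assoc] using this
  have ho : orderOf (g⁻¹ * t * g) = 2 := by simpa using invol_conj ht g⁻¹
  have := mem_of_conj_mem hH h1 ho (g := k⁻¹ * g) (by
    have e : k⁻¹ * g * (g⁻¹ * t * g) * (k⁻¹ * g)⁻¹ = k⁻¹ * t * k := by group
    rw [e]; exact h2)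
  simpa using inv_mem this

theorem fixed_one_iff {t : G} : t • ((1 : G) : G ⧸ H) = ((1 : G) : G ⧸ H) ↔ t ∈ H := by
  rw [MulAction.Quotient.smul_mk, QuotientGroup.eq, smul_eq_mul, mul_one, mul_one, inv_mem_iff]

theorem conj_fixes {t g : G} {a : G ⧸ H} : (g * t * g⁻¹) • (g • a) = g • a ↔ t • a = a := by
  rw [smul_smul, inv_mul_cancel_right, mul_smul, smul_left_cancel_iff]

theorem invol_smul_smul {α : Type*} [MulAction G α] {t : G} (ht : orderOf t = 2) (a : α) :
    t • t • a = a := by
  rw [smul_smul, invol_mul_self ht, one_smul]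

include hH in
/-- Every point is fixed by some involution. -/
theorem exists_invol_fixing (a : G ⧸ H) : ∃ t : G, orderOf t = 2 ∧ t • a = a := by
  obtain ⟨t, htH, ht⟩ := exists_invol_mem hH.2.1
  obtain ⟨g, rfl⟩ := QuotientGroup.mk_surjective a
  refine ⟨g * t * g⁻¹, invol_conj ht g, ?_⟩
  have h : ((g : G) : G ⧸ H) = g • ((1 : G) : G ⧸ H) := by
    rw [MulAction.Quotient.smul_mk, smul_eq_mul, mul_one]
  rw [h, conj_fixes, fixed_one_iff]; exact htH

include hH in
/-- Involutions fixing different points generate a dihedral group of order twice an odd number. -/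
theorem odd_mul_of_fix_ne {i w : G} (hi : orderOf i = 2) (hw : orderOf w = 2) {a b : G ⧸ H}
    (hia : i • a = a) (hwb : w • b = b) (hab : a ≠ b) : Odd (orderOf (i * w)) := by
  by_contra h
  rw [Nat.not_odd_iff_even] at h
  set z := (i * w) ^ (orderOf (i * w) / 2)
  have hz : orderOf z = 2 := orderOf_pow_half h
  have hzi : Commute z i := commute_pow_half (invol_conj_mul hi hw) h
  have hzw : Commute z w := commute_pow_half (invol_conj_mul' hi hw) h
  have h1 : z • a = a := by
    refine fixed_unique hH hi ?_ hia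
    rw [smul_smul, ← hzi.eq, mul_smul, hia]
  have h2 : z • b = b := by
    refine fixed_unique hH hw ?_ hwb
    rw [smul_smul, ← hzw.eq, mul_smul, hwb]
  exact hab (fixed_unique hH hz h1 h2)

include hH in
/-- Given involutions fixing `a` and `b`, some involution interchanges them. -/
theorem exists_swap {i w : G} (hi : orderOf i = 2) (hw : orderOf w = 2) {a b : G ⧸ H}
    (hia : i • a = a) (hwb : w • b = b) (hab : a ≠ b) :
    ∃ r : G, orderOf r = 2 ∧ r • a = b ∧ r * w * r = i := by
  obtain ⟨m, hm⟩ := odd_mul_of_fix_ne hH hi hw hia hwb hab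
  set d := (i * w) ^ ((m : ℤ) + 1)
  have hinv := invol_conj_mul hi hw
  have hd : d ^ (2 : ℤ) = i * w := by
    rw [← zpow_mul, show ((m : ℤ) + 1) * 2 = ((2 * m + 1 : ℕ) : ℤ) + 1 by push_cast; ring,
      zpow_add_one, zpow_natCast, ← hm, pow_orderOf_eq_one, one_mul]
  set r := i * d with hr
  have hro : orderOf r = 2 := orderOf_reflection hi hw _
  have hrwr : r * w * r = i := by
    have hw' : w = i * (i * w) := by rw [← mul_assoc, invol_mul_self hi, one_mul]
    rw [hw', ← hd, hr]
    calc i * d * (i * d ^ (2 : ℤ)) * (i * d) = i * (d * i) * (d ^ (2 : ℤ) * i) * d := by group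
      _ = i * (i * d⁻¹) * (i * (d ^ (2 : ℤ))⁻¹) * d := by
        rw [zpow_mul_invol hi hinv, ← zpow_mul, zpow_mul_invol hi hinv]
        simp only [d, zpow_neg, zpow_mul]
      _ = d⁻¹ * i * d⁻¹ := by rw [← mul_assoc i i, invol_mul_self hi, one_mul]; group
      _ = i := by
        simp only [d, ← zpow_neg]
        rw [zpow_mul_invol hi hinv, neg_neg, mul_assoc, ← zpow_add, add_neg_cancel, zpow_zero, mul_one]
  refine ⟨r, hro, ?_, hrwr⟩
  refine fixed_unique hH hw ?_ hwb
  have hw2 : w = r * i * r := by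
    rw [← hrwr]; simp only [mul_assoc, invol_mul_self hro, mul_one]
    rw [← mul_assoc, invol_mul_self hro, one_mul]
  conv_lhs => rw [hw2, mul_smul, mul_smul, invol_smul_smul hro, hia]

include hH in
theorem exists_conj_fixing {i w : G} (hi : orderOf i = 2) (hw : orderOf w = 2) :
    IsConj i w := by
  obtain ⟨g, hg⟩ : ∃ g : G, g ∉ H := by
    by_contra h
    push Not at h
    exact hH.1 (eq_top_iff.2 fun x _ => h x)
  -- two fixed points of different involutions
  have key : ∀ u v : G, orderOf u = 2 → orderOf v = 2 → ∀ a b : G ⧸ H, u • a = a → v • b = b → a ≠ b →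
      IsConj u v := fun u v hu hv a b hua hvb hab =>
    isConj_of_odd hu hv (odd_mul_of_fix_ne hH hu hv hua hvb hab)
  have hfix : ∀ u : G, orderOf u = 2 → ∃ a : G ⧸ H, u • a = a := by
    intro u hu
    by_contra hno
    push Not at hno
    obtain ⟨t, htH, ht⟩ := exists_invol_mem hH.2.1
    -- `u` lies in no conjugate of `H`, so it is not conjugate to `t` and centralizes a common involution
    have hnc : ¬ IsConj t u := by
      intro hc
      obtain ⟨c, rfl⟩ := isConj_iff.1 hc
      exact hno _ (conj_fixes.2 (fixed_one_iff.2 htH))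
    obtain ⟨z, hz, hzt, hzu⟩ := exists_invol_commute_both ht hu hnc
    have h1 : z • ((1 : G) : G ⧸ H) = ((1 : G) : G ⧸ H) := by
      refine fixed_unique hH ht ?_ (fixed_one_iff.2 htH)
      rw [smul_smul, ← hzt.eq, mul_smul, fixed_one_iff.2 htH]
    apply hno ((1 : G) : G ⧸ H)
    refine fixed_unique hH hz ?_ h1
    rw [smul_smul, hzu.eq, mul_smul, h1]
  obtain ⟨a, ha⟩ := hfix i hi
  obtain ⟨b, hb⟩ := hfix w hw
  rcases ne_or_eq a b with hab | rfl
  · exact key i w hi hw a b ha hb hab
  · obtain ⟨c, hc⟩ : ∃ c : G ⧸ H, c ≠ a := by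
      by_contra h
      push Not at h
      exact hg (fixed_one_iff.1 ((h _).trans (h _).symm))
    obtain ⟨v, hv, hvc⟩ := exists_invol_fixing hH c
    exact (key i v hi hv a c ha hvc hc.symm).trans (key w v hw hv a c hb hvc hc.symm).symm

include hH in
theorem card_fixing_eq (a : G ⧸ H) :
    Nat.card {t : G // orderOf t = 2 ∧ t • a = a} = Nat.card {t : G // orderOf t = 2 ∧ t ∈ H} := by
  obtain ⟨g, rfl⟩ := QuotientGroup.mk_surjective a
  symm
  refine Nat.card_congr ((MulAut.conj g).toEquiv.subtypeEquiv fun t => ?_)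
  show _ ↔ orderOf (MulAut.conj g t) = 2 ∧ _
  rw [MulEquiv.orderOf_eq]
  refine and_congr Iff.rfl ?_
  have h : ((g : G) : G ⧸ H) = g • ((1 : G) : G ⧸ H) := by
    rw [MulAction.Quotient.smul_mk, smul_eq_mul, mul_one]
  rw [h]
  exact (fixed_one_iff (H := H)).symm.trans (conj_fixes (g := g)).symm

include hH in
/-- The number of involutions interchanging two points. -/
theorem card_swap_eq (x y : G ⧸ H) (hxy : x ≠ y) :
    Nat.card {i : G // orderOf i = 2 ∧ i • x = y} = Nat.card {t : G // orderOf t = 2 ∧ t ∈ H} := by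
  classical
  set m := Nat.card {t : G // orderOf t = 2 ∧ t ∈ H}
  have := Fintype.ofFinite G
  have := Fintype.ofFinite (G ⧸ H)
  -- at least `m` involutions map `x` to each other point
  have hge : ∀ b : G ⧸ H, b ≠ x → m ≤ Nat.card {i : G // orderOf i = 2 ∧ i • x = b} := by
    intro b hb
    obtain ⟨w, hw, hwb⟩ := exists_invol_fixing hH b
    have hsw : ∀ i : {t : G // orderOf t = 2 ∧ t • x = x}, ∃ r : {i : G // orderOf i = 2 ∧ i • x = b},
        r.1 * w * r.1 = i.1 := by
      intro i
      obtain ⟨r, hr, hrx, hrw⟩ := exists_swap hH i.2.1 hw i.2.2 hwb hb.symm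
      exact ⟨⟨r, hr, hrx⟩, hrw⟩
    choose f hf using hsw
    rw [show m = Nat.card {t : G // orderOf t = 2 ∧ t • x = x} from (card_fixing_eq hH x).symm]
    exact Nat.card_le_card_of_injective f fun i j h => Subtype.ext (by rw [← hf i, ← hf j, h])
  -- the involutions are partitioned by the image of `x`
  have htot : ∀ a : G ⧸ H, Nat.card {t : G // orderOf t = 2} =
      ∑ b : G ⧸ H, Nat.card {i : G // orderOf i = 2 ∧ i • a = b} := by
    intro a
    rw [← Nat.card_sigma]
    exact Nat.card_congr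
      { toFun := fun t => ⟨t.1 • a, t.1, t.2, rfl⟩
        invFun := fun q => ⟨q.2.1, q.2.2.1⟩
        left_inv := fun _ => rfl
        right_inv := fun ⟨b, t, ht, hb⟩ => by subst hb; rfl }
  have hall : Nat.card {t : G // orderOf t = 2} = Fintype.card (G ⧸ H) * m := by
    rw [← smul_eq_mul, ← Finset.card_univ, ← Finset.sum_const,
      ← Finset.sum_congr rfl fun a _ => card_fixing_eq hH a, ← Nat.card_sigma]
    refine (Nat.card_congr (Equiv.ofBijective
      (fun q : Σ a : G ⧸ H, {t : G // orderOf t = 2 ∧ t • a = a} => (⟨q.2.1, q.2.2.1⟩ : {t : G // orderOf t = 2}))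
      ⟨?_, ?_⟩)).symm
    · rintro ⟨a, t, ht, hta⟩ ⟨b, u, hu, hub⟩ h
      obtain rfl : t = u := congrArg Subtype.val h
      obtain rfl := fixed_unique hH ht hta hub
      rfl
    · rintro ⟨t, ht⟩
      obtain ⟨t₀, ht₀H, ht₀⟩ := exists_invol_mem hH.2.1
      obtain ⟨c, rfl⟩ := isConj_iff.1 (exists_conj_fixing hH ht₀ ht)
      exact ⟨⟨c • ((1 : G) : G ⧸ H), c * t₀ * c⁻¹, ht, conj_fixes.2 (fixed_one_iff.2 ht₀H)⟩, rfl⟩
  have hle : ∀ b ∈ (Finset.univ : Finset (G ⧸ H)),
      m ≤ Nat.card {i : G // orderOf i = 2 ∧ i • x = b} := by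
    intro b _
    rcases eq_or_ne b x with rfl | hb
    · exact (card_fixing_eq hH b).ge
    · exact hge b hb
  have hsum : ∑ _b : G ⧸ H, m = ∑ b : G ⧸ H, Nat.card {i : G // orderOf i = 2 ∧ i • x = b} := by
    rw [← htot x, hall, Finset.sum_const, Finset.card_univ, smul_eq_mul]
  exact ((Finset.sum_eq_sum_iff_of_le hle).1 hsum y (Finset.mem_univ y)).symm

include hH in
/-- Involutions interchanging the same two points are conjugate by an element fixing both. -/
theorem swap_conj {x y : G ⧸ H} (hxy : x ≠ y) {u v : G} (hu : orderOf u = 2) (hv : orderOf v = 2)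
    (hux : u • x = y) (hvx : v • x = y) :
    ∃ d : G, d • x = x ∧ d • y = y ∧ d * u * d⁻¹ = v := by
  have hodd : Odd (orderOf (u * v)) := by
    by_contra h
    rw [Nat.not_odd_iff_even] at h
    set z := (u * v) ^ (orderOf (u * v) / 2) with hz
    have hzo : orderOf z = 2 := orderOf_pow_half h
    have huy : u • y = x := by rw [← hux, invol_smul_smul hu]
    have hvy : v • y = x := by rw [← hvx, invol_smul_smul hv]
    have hzx : z • x = x := by
      have : u * v ∈ MulAction.stabilizer G x := by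
        rw [MulAction.mem_stabilizer_iff, mul_smul, hvx, huy]
      exact MulAction.mem_stabilizer_iff.1 (Subgroup.pow_mem _ this _)
    have hzy : z • y = y := by
      have : u * v ∈ MulAction.stabilizer G y := by
        rw [MulAction.mem_stabilizer_iff, mul_smul, hvy, hux]
      exact MulAction.mem_stabilizer_iff.1 (Subgroup.pow_mem _ this _)
    exact hxy (fixed_unique hH hzo hzx hzy)
  obtain ⟨d, hd, h⟩ := exists_conj_eq_of_odd hu hv hodd
  refine ⟨d, ?_, ?_, h⟩
  · have : u * v ∈ MulAction.stabilizer G x := by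
      rw [MulAction.mem_stabilizer_iff, mul_smul, hvx, ← hux, invol_smul_smul hu]
    exact MulAction.mem_stabilizer_iff.1 (Subgroup.zpowers_le.2 this hd)
  · have : u * v ∈ MulAction.stabilizer G y := by
      rw [MulAction.mem_stabilizer_iff, mul_smul, show v • y = x by rw [← hvx, invol_smul_smul hv], hux]
    exact MulAction.mem_stabilizer_iff.1 (Subgroup.zpowers_le.2 this hd)

include hH in
/-- `H` factorizes as a two-point stabilizer times the centralizer of an involution of `H`. -/
theorem factorization {i : G} (hi : orderOf i = 2) (hiH : i ∈ H) {y : G ⧸ H} {h : G} (hh : h ∈ H) :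
    ∃ c : G, Commute c i ∧ c ∈ H ∧ c • (h • y) = y := by
  classical
  set x : G ⧸ H := ((1 : G) : G ⧸ H) with hx
  rcases eq_or_ne y x with rfl | hy
  · exact ⟨1, Commute.one_left _, one_mem _, by rw [one_smul, fixed_one_iff.2 hh]⟩
  set C := Subgroup.centralizer ({i} : Set G) with hC
  have hCH : C ≤ H := fun c hc => by
    refine mem_of_conj_mem hH hiH hi ?_
    rw [Subgroup.mem_centralizer_singleton_iff.1 hc, mul_inv_cancel_right]; exact hiH
  -- orbits of `H` and of `C` on the cosets
  let A := Quotient (orbitRel C (G ⧸ H))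
  let B := Quotient (orbitRel H (G ⧸ H))
  let π : A → B := Quotient.map' id fun a b hab => by
    rw [MulAction.orbitRel_apply] at hab ⊢
    obtain ⟨c, hc⟩ := hab
    exact ⟨⟨c.1, hCH c.2⟩, hc⟩
  have hπ : Function.Surjective π := by
    intro b
    induction b using Quotient.inductionOn' with | _ a => ?_
    exact ⟨Quotient.mk'' a, rfl⟩
  -- each coset `b ≠ x` determines a `C`-orbit
  have hdata : ∀ b : G ⧸ H, b ≠ x → ∃ g : G, ∃ u : G, orderOf u = 2 ∧ u • x = b ∧ g * u * g⁻¹ = i := by
    intro b hb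
    have hb' : 0 < Nat.card {u : G // orderOf u = 2 ∧ u • x = b} := by
      rw [card_swap_eq hH x b hb.symm]
      exact Nat.card_pos_iff.2 ⟨⟨⟨i, hi, hiH⟩⟩, inferInstance⟩
    obtain ⟨⟨u, hu, hub⟩⟩ := (Nat.card_pos_iff.1 hb').1
    obtain ⟨g, hg⟩ := isConj_iff.1 (exists_conj_fixing hH hu hi)
    exact ⟨g, u, hu, hub, hg⟩
  let Ψ : B → A := fun q =>
    if hb : Quotient.out q = x then Quotient.mk'' x
    else Quotient.mk'' ((hdata _ hb).choose • x)
  have hΨ : Function.Surjective Ψ := by
    intro q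
    induction q using Quotient.inductionOn' with | _ z => ?_
    by_cases hzx : z = x
    · refine ⟨Quotient.mk'' x, ?_⟩
      have ho : Quotient.out (Quotient.mk'' x : B) = x := by
        have h1 := Quotient.mk_out (s := orbitRel H (G ⧸ H)) x
        rw [MulAction.orbitRel_apply] at h1
        obtain ⟨k, hk⟩ := h1
        exact hk.symm.trans (fixed_one_iff.2 k.2)
      simp only [Ψ, dif_pos ho, hzx]
    obtain ⟨g, hg⟩ := MulAction.exists_smul_eq G x z
    set u := g⁻¹ * i * g with hu'
    have huo : orderOf u = 2 := by simpa using invol_conj hi g⁻¹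
    set b := u • x with hb
    refine ⟨Quotient.mk'' b, ?_⟩
    have hbx : b ≠ x := by
      intro hbx
      apply hzx
      rw [← hg]
      refine fixed_unique hH hi ?_ (fixed_one_iff.2 hiH)
      rw [hb, hu', mul_smul, mul_smul, inv_smul_eq_iff] at hbx
      exact hbx
    have h1 := Quotient.mk_out (s := orbitRel H (G ⧸ H)) b
    rw [MulAction.orbitRel_apply] at h1
    obtain ⟨k, hk⟩ := h1
    set b' := Quotient.out (Quotient.mk'' b : B) with hb'
    have hk' : (k : G) • b = b' := hk
    have hb'x : b' ≠ x := by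
      intro e
      apply hbx
      rw [← smul_left_cancel_iff (k : G), hk', e, fixed_one_iff.2 k.2]
    simp only [Ψ, ← hb', dif_neg hb'x]
    obtain ⟨u', hu'o, hu'x, hg'⟩ := (hdata _ hb'x).choose_spec
    set g' := (hdata _ hb'x).choose
    -- `k u k⁻¹` and `u'` interchange `x` and `b'`
    have hkx : (k : G)⁻¹ • x = x := fixed_one_iff.2 (inv_mem k.2)
    have h2 : ((k : G) * u * (k : G)⁻¹) • x = b' := by
      rw [mul_smul, mul_smul, hkx, ← hb, hk']
    obtain ⟨d, hdx, -, hdu⟩ := swap_conj hH hb'x.symm (invol_conj huo _) hu'o h2 hu'x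
    -- the two conjugating elements differ by an element of `C`
    have hcC : g' * d * (k : G) * g⁻¹ ∈ C := by
      rw [Subgroup.mem_centralizer_singleton_iff]
      calc g' * d * (k : G) * g⁻¹ * i = g' * (d * ((k : G) * (g⁻¹ * i * g) * (k : G)⁻¹) * d⁻¹) * g'⁻¹ *
            (g' * d * (k : G) * g⁻¹) := by group
        _ = i * (g' * d * (k : G) * g⁻¹) := by rw [← hu', hdu, hg']
    apply Quotient.sound'
    rw [MulAction.orbitRel_apply]
    refine ⟨⟨_, hcC⟩, ?_⟩
    show (g' * d * (k : G) * g⁻¹) • z = g' • x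
    rw [← hg, mul_smul, inv_smul_smul, mul_smul, fixed_one_iff.2 k.2, mul_smul, hdx]
  have hbij : Function.Bijective π :=
    (Nat.bijective_iff_surjective_and_card π).2 ⟨hπ,
      le_antisymm (Nat.card_le_card_of_surjective Ψ hΨ) (Nat.card_le_card_of_surjective π hπ)⟩
  have h3 : π (Quotient.mk'' (h • y)) = π (Quotient.mk'' y) := by
    apply Quotient.sound'
    rw [MulAction.orbitRel_apply]
    exact ⟨⟨h, hh⟩, rfl⟩
  have h4 := Quotient.exact' (hbij.1 h3).symm
  rw [MulAction.orbitRel_apply] at h4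
  obtain ⟨c, hc⟩ := h4
  exact ⟨c.1, Subgroup.mem_centralizer_singleton_iff.1 c.2, hCH c.2, hc⟩

include hH in
theorem transitive_two_point {u : G} {s t : G} (hs : orderOf s = 2) (hsH : s ∈ H) (htH : t ∈ H)
    (ht : orderOf t = 2) :
    ∃ d ∈ H ⊓ H.map (MulAut.conj u).toMonoidHom, d * s * d⁻¹ = t := by
  set x : G ⧸ H := ((1 : G) : G ⧸ H) with hx
  obtain ⟨g, hg⟩ := isConj_iff.1 (exists_conj_fixing hH hs ht)
  have hgH : g ∈ H := mem_of_conj_mem hH hsH hs (hg ▸ htH)
  obtain ⟨c, hc, hcH, hcy⟩ := factorization hH hs hsH (y := u • x) (inv_mem hgH)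
  refine ⟨(c * g⁻¹)⁻¹, ⟨H.inv_mem (H.mul_mem hcH (H.inv_mem hgH)), ?_⟩, ?_⟩
  · have h1 : (c * g⁻¹) • (u • x) = u • x := by rw [mul_smul, hcy]
    have h2 : (u⁻¹ * (c * g⁻¹) * u) ∈ H :=
      fixed_one_iff.1 (by rw [mul_smul, mul_smul, h1, inv_smul_smul])
    refine Subgroup.mem_map.2 ⟨(u⁻¹ * (c * g⁻¹) * u)⁻¹, inv_mem h2, ?_⟩
    simp [mul_assoc]
  · calc (c * g⁻¹)⁻¹ * s * (c * g⁻¹)⁻¹⁻¹ = g * (c⁻¹ * (s * c)) * g⁻¹ := by group
      _ = g * (c⁻¹ * (c * s)) * g⁻¹ := by rw [hc.eq]
      _ = t := by rw [inv_mul_cancel_left, hg]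

end CfsgLib.Invol
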