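import Cfsg.Agent.Lib.Invol.ElementaryCentralizers
import Cfsg.Agent.Lib.Invol.StronglyEmbeddedOrbits
import Cfsg.Agent.Lib.Coprime.Action

/-!
# Elementary abelian involution centralizers: the triply transitive action
-/

set_option autoImplicit false
set_option linter.unusedSectionVars false

namespace CfsgLib.Invol

open Subgroup MulAction

universe u

variable {G : Type u} [Group G] [Finite G]

/-- The hypothesis: `T` is a Sylow 2-subgroup, neither cyclic nor normal, and involutions have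
elementary abelian centralizers. -/
structure ElemCentralizers (T : Sylow 2 G) : Prop where
  notCyclic : ¬ IsCyclic (T : Subgroup G)
  notNormal : ¬ (T : Subgroup G).Normal
  cent : ∀ t : G, orderOf t = 2 → IsMulCommutative (centralizer ({t} : Set G)) ∧
    ∀ c ∈ centralizer ({t} : Set G), c ^ 2 = 1

variable {T : Sylow 2 G} (h : ElemCentralizers T)

local notation "N" => normalizer ((T : Subgroup G) : Set G)
local notation "x₀" => ((1 : G) : G ⧸ normalizer ((T : Subgroup G) : Set G))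

include h

theorem ElemCentralizers.se : Cfsg.IsStronglyEmbedded N :=
  stronglyEmbedded_normalizer_of_elementary T h.notCyclic h.notNormal h.cent

theorem ElemCentralizers.four_le_card : 4 ≤ Nat.card (T : Subgroup G) := by
  haveI : Fact (Nat.Prime 2) := ⟨Nat.prime_two⟩
  obtain ⟨k, hk⟩ := IsPGroup.iff_card.1 T.2
  match k with
  | 0 =>
    rw [pow_zero, Nat.card_eq_one_iff_unique] at hk
    haveI := hk.1
    exact absurd isCyclic_of_subsingleton h.notCyclic
  | 1 => exact absurd (isCyclic_of_prime_card (p := 2) (by rw [hk, pow_one])) h.notCyclic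
  | k + 2 => rw [hk, pow_add]; exact Nat.le_mul_of_pos_left _ (pow_pos two_pos k)

theorem ElemCentralizers.comm : ∀ a ∈ (T : Subgroup G), ∀ b ∈ (T : Subgroup G), a * b = b * a := by
  haveI : Fact (Nat.Prime 2) := ⟨Nat.prime_two⟩
  haveI : Nontrivial (T : Subgroup G) := by
    rw [← Finite.one_lt_card_iff_nontrivial]
    have := h.four_le_card
    omega
  haveI : Nontrivial (center (T : Subgroup G)) := T.2.center_nontrivial
  have hp : IsPGroup 2 (center (T : Subgroup G)) := T.2.to_subgroup _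
  obtain ⟨z, hzo⟩ := exists_prime_orderOf_dvd_card' (G := center (T : Subgroup G)) 2 (by
    obtain ⟨k, hk⟩ := IsPGroup.iff_card.1 hp
    rcases k with _ | k
    · have := Finite.one_lt_card (α := center (T : Subgroup G))
      rw [hk] at this; norm_num at this
    · rw [hk]; exact dvd_pow_self 2 (Nat.succ_ne_zero k))
  rw [← Subgroup.orderOf_coe, ← Subgroup.orderOf_coe] at hzo
  have hle : (T : Subgroup G) ≤ centralizer ({((z : (T : Subgroup G)) : G)} : Set G) := fun u hu =>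
    mem_centralizer_singleton_iff.2
      (congrArg Subtype.val (mem_center_iff.1 z.2 (⟨u, hu⟩ : (T : Subgroup G))))
  intro a ha b hb
  exact congrArg Subtype.val ((h.cent _ hzo).1.is_comm.comm ⟨a, hle ha⟩ ⟨b, hle hb⟩)

theorem ElemCentralizers.mem_of_orderOf {t : G} (ht : t ∈ N) (hto : orderOf t = 2) :
    t ∈ (T : Subgroup G) := by
  haveI : Fact (Nat.Prime 2) := ⟨Nat.prime_two⟩
  have hp : IsPGroup 2 (zpowers t) :=
    IsPGroup.of_card (n := 1) (by rw [Nat.card_zpowers, hto, pow_one])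
  exact (T.3 (hp.to_sup_of_normal_right' T.2 (zpowers_le.2 ht)) le_sup_right).le
    (mem_sup_left (mem_zpowers t))

theorem ElemCentralizers.centralizer_eq {t : G} (ht : t ∈ (T : Subgroup G)) (hto : orderOf t = 2) :
    centralizer ({t} : Set G) = (T : Subgroup G) :=
  T.3 (fun c => ⟨1, Subtype.ext ((h.cent t hto).2 c c.2)⟩) fun u hu =>
    mem_centralizer_singleton_iff.2 (h.comm u hu t ht)

theorem ElemCentralizers.orderOf_eq_two {t : G} (ht : t ∈ (T : Subgroup G)) (ht1 : t ≠ 1) :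
    orderOf t = 2 := by
  haveI : Fact (Nat.Prime 2) := ⟨Nat.prime_two⟩
  obtain ⟨s, hs, hso⟩ : ∃ s ∈ (T : Subgroup G), orderOf s = 2 := by
    obtain ⟨k, hk⟩ := IsPGroup.iff_orderOf.1 T.2 ⟨t, ht⟩
    rw [← Subgroup.orderOf_coe] at hk
    have hk0 : k ≠ 0 := by rintro rfl; exact ht1 (orderOf_eq_one_iff.1 (by simpa using hk))
    refine ⟨t ^ 2 ^ (k - 1), Subgroup.pow_mem _ ht _, ?_⟩
    rw [orderOf_pow_of_dvd (pow_ne_zero _ two_ne_zero) (by rw [hk]; exact pow_dvd_pow 2 (by omega)),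
      hk, Nat.pow_div (by omega) two_pos, show k - (k - 1) = 1 by omega, pow_one]
  refine orderOf_eq_prime ((h.cent s hso).2 t ?_) ht1
  rw [h.centralizer_eq hs hso]
  exact ht

theorem ElemCentralizers.exists_invol : ∃ s ∈ (T : Subgroup G), orderOf s = 2 := by
  obtain ⟨t, ht, ht1⟩ := (bot_or_exists_ne_one (T : Subgroup G)).resolve_left (fun e => by
    have := h.four_le_card
    rw [e, card_bot] at this
    omega)
  exact ⟨t, ht, h.orderOf_eq_two ht ht1⟩

/-- The involutions of `N` are the nontrivial elements of `T`. -/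
theorem ElemCentralizers.card_invol :
    Nat.card {t : G // orderOf t = 2 ∧ t ∈ N} = Nat.card (T : Subgroup G) - 1 := by
  classical
  haveI := Fintype.ofFinite (T : Subgroup G)
  let e : {t : G // orderOf t = 2 ∧ t ∈ N} ≃ {t : (T : Subgroup G) // t ≠ 1} :=
    { toFun := fun t => ⟨⟨t.1, h.mem_of_orderOf t.2.2 t.2.1⟩, fun e => by
        have := congrArg Subtype.val e
        rw [OneMemClass.coe_one] at this
        have h2 := t.2.1
        rw [this, orderOf_one] at h2
        omega⟩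
      invFun := fun t => ⟨t.1.1, h.orderOf_eq_two t.1.2 (fun e => t.2 (Subtype.ext e)),
        le_normalizer t.1.2⟩
      left_inv := fun _ => rfl
      right_inv := fun _ => rfl }
  rw [Nat.card_congr e, Nat.card_eq_fintype_card, Fintype.card_subtype_compl,
    Fintype.card_subtype_eq, Nat.card_eq_fintype_card]

omit h in
/-- The two-point stabilizer. -/
theorem mem_twoPoint_iff {u d : G} :
    d ∈ N ⊓ (N).map (MulAut.conj u).toMonoidHom ↔ d • x₀ = x₀ ∧ d • (u • x₀) = u • x₀ := by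
  rw [Subgroup.mem_inf, fixed_one_iff, Subgroup.mem_map_equiv, MulAut.conj_symm_apply]
  refine and_congr Iff.rfl ?_
  rw [← fixed_one_iff (H := N), mul_smul, mul_smul, inv_smul_eq_iff]

theorem ElemCentralizers.twoPoint_inf {u : G} (hux : u • x₀ ≠ x₀) :
    (N ⊓ (N).map (MulAut.conj u).toMonoidHom) ⊓ (T : Subgroup G) = ⊥ := by
  rw [eq_bot_iff_forall]
  intro d hd
  by_contra hd1
  obtain ⟨h1, h2⟩ := (mem_twoPoint_iff (T := T)).1 hd.1
  exact hux (fixed_unique h.se (h.orderOf_eq_two hd.2 hd1) h2 h1)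

theorem ElemCentralizers.eq_one_of_commute {u d t : G} (hux : u • x₀ ≠ x₀)
    (hd : d ∈ N ⊓ (N).map (MulAut.conj u).toMonoidHom) (ht : t ∈ (T : Subgroup G)) (ht1 : t ≠ 1)
    (hc : d * t = t * d) : d = 1 := by
  have hdT : d ∈ (T : Subgroup G) := by
    rw [← h.centralizer_eq ht (h.orderOf_eq_two ht ht1)]
    exact mem_centralizer_singleton_iff.2 hc
  have : d ∈ (N ⊓ (N).map (MulAut.conj u).toMonoidHom) ⊓ (T : Subgroup G) := ⟨hd, hdT⟩
  rwa [h.twoPoint_inf hux, mem_bot] at this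

theorem ElemCentralizers.card_twoPoint {u : G} (hux : u • x₀ ≠ x₀) :
    Nat.card ↥(N ⊓ (N).map (MulAut.conj u).toMonoidHom) = Nat.card (T : Subgroup G) - 1 := by
  obtain ⟨s, hs, hso⟩ := h.exists_invol
  have hsN : s ∈ N := le_normalizer hs
  rw [← h.card_invol]
  set D := N ⊓ (N).map (MulAut.conj u).toMonoidHom with hD
  refine Nat.card_congr (Equiv.ofBijective
    (fun d : D => (⟨d * s * (d : G)⁻¹, invol_conj hso _,
      mul_mem (mul_mem d.2.1 hsN) (inv_mem d.2.1)⟩ : {t : G // orderOf t = 2 ∧ t ∈ N})) ⟨?_, ?_⟩)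
  · intro a b hab
    have e : (a : G) * s * (a : G)⁻¹ = b * s * (b : G)⁻¹ := congrArg Subtype.val hab
    refine Subtype.ext (inv_mul_eq_one.1 (h.eq_one_of_commute hux
      (D.mul_mem (D.inv_mem a.2) b.2) hs (fun e1 => by simp [e1] at hso) ?_))
    calc (a : G)⁻¹ * b * s = (a : G)⁻¹ * (b * s * (b : G)⁻¹) * b := by group
      _ = (a : G)⁻¹ * (a * s * (a : G)⁻¹) * b := by rw [e]
      _ = s * ((a : G)⁻¹ * b) := by group
  · rintro ⟨t, hto, htN⟩
    obtain ⟨d, hd, e⟩ := transitive_two_point h.se (u := u) hso hsN htN hto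
    exact ⟨⟨d, hd⟩, Subtype.ext e⟩

theorem ElemCentralizers.exists_mul {u g : G} (hux : u • x₀ ≠ x₀) (hg : g ∈ N) :
    ∃ d ∈ N ⊓ (N).map (MulAut.conj u).toMonoidHom, ∃ t ∈ (T : Subgroup G), d * t = g := by
  obtain ⟨s, hs, hso⟩ := h.exists_invol
  have hsN : s ∈ N := le_normalizer hs
  obtain ⟨d, hd, e⟩ := transitive_two_point h.se (u := u) hso hsN
    (mul_mem (mul_mem hg hsN) (inv_mem hg)) (invol_conj hso g)
  refine ⟨d, hd, d⁻¹ * g, ?_, mul_inv_cancel_left d g⟩
  rw [← h.centralizer_eq hs hso, mem_centralizer_singleton_iff]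
  calc d⁻¹ * g * s = d⁻¹ * (g * s * g⁻¹) * g := by group
    _ = d⁻¹ * (d * s * d⁻¹) * g := by rw [e]
    _ = s * (d⁻¹ * g) := by group

theorem ElemCentralizers.card_normalizer {u : G} (hux : u • x₀ ≠ x₀) :
    Nat.card N = Nat.card (T : Subgroup G) * (Nat.card (T : Subgroup G) - 1) ∧
    Subgroup.IsComplement' ((N ⊓ (N).map (MulAut.conj u).toMonoidHom).subgroupOf N)
      ((T : Subgroup G).subgroupOf N) := by
  set D := N ⊓ (N).map (MulAut.conj u).toMonoidHom with hD
  have hbij : Subgroup.IsComplement' (D.subgroupOf N) ((T : Subgroup G).subgroupOf N) := by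
    refine Subgroup.isComplement'_of_disjoint_and_mul_eq_univ ?_ ?_
    · rw [disjoint_iff, eq_bot_iff_forall]
      intro x hx
      have : (x : G) ∈ D ⊓ (T : Subgroup G) := ⟨hx.1, hx.2⟩
      rw [h.twoPoint_inf hux, mem_bot] at this
      exact Subtype.ext this
    · refine Set.eq_univ_of_forall fun g => ?_
      obtain ⟨d, hd, t, ht, e⟩ := h.exists_mul hux g.2
      exact Set.mem_mul.2 ⟨⟨d, hd.1⟩, hd, ⟨t, le_normalizer ht⟩, ht, Subtype.ext e⟩
  refine ⟨?_, hbij⟩
  rw [← hbij.card_mul, Nat.card_congr (subgroupOfEquivOfLe (inf_le_left : D ≤ N)).toEquiv,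
    Nat.card_congr (subgroupOfEquivOfLe (le_normalizer (H := (T : Subgroup G)))).toEquiv,
    h.card_twoPoint hux, mul_comm]

theorem ElemCentralizers.inverts {u d : G} (hu : orderOf u = 2) (hux : u • x₀ ≠ x₀)
    (hd : d ∈ N ⊓ (N).map (MulAut.conj u).toMonoidHom) : u * d * u⁻¹ = d⁻¹ := by
  set D := N ⊓ (N).map (MulAut.conj u).toMonoidHom with hD
  set y := u • x₀ with hy
  have huy : u • y = x₀ := by rw [hy, invol_smul_smul hu]
  have hmem : ∀ v : {i : G // orderOf i = 2 ∧ i • x₀ = y}, u * v.1 ∈ D := by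
    intro v
    refine (mem_twoPoint_iff (T := T)).2 ⟨by rw [mul_smul, v.2.2, huy], ?_⟩
    have hv2 : v.1 • y = x₀ :=
      (congrArg (fun P => v.1 • P) v.2.2).symm.trans (invol_smul_smul v.2.1 _)
    rw [mul_smul, hv2]
  have hsur : Function.Surjective (fun v : {i : G // orderOf i = 2 ∧ i • x₀ = y} =>
      (⟨u * v.1, hmem v⟩ : D)) := by
    refine ((Nat.bijective_iff_injective_and_card _).2 ⟨?_, ?_⟩).2
    · intro a b e
      exact Subtype.ext (mul_left_cancel (congrArg Subtype.val e : u * a.1 = u * b.1))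
    · rw [card_swap_eq h.se x₀ y hux.symm, h.card_invol, h.card_twoPoint hux]
  obtain ⟨⟨v, hv, hv'⟩, e⟩ := hsur ⟨d, hd⟩
  have e' : u * v = d := congrArg Subtype.val e
  have hui : u⁻¹ = u := inv_eq_of_mul_eq_one_right (invol_mul_self hu)
  have hvi : v⁻¹ = v := inv_eq_of_mul_eq_one_right (invol_mul_self hv)
  rw [← e', mul_inv_rev, hui, hvi, ← mul_assoc u u v, invol_mul_self hu, one_mul]

theorem ElemCentralizers.twoPoint_comm {u a b : G} (hu : orderOf u = 2) (hux : u • x₀ ≠ x₀)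
    (ha : a ∈ N ⊓ (N).map (MulAut.conj u).toMonoidHom)
    (hb : b ∈ N ⊓ (N).map (MulAut.conj u).toMonoidHom) : a * b = b * a := by
  have h1 := h.inverts hu hux (Subgroup.mul_mem _ ha hb)
  rw [show u * (a * b) * u⁻¹ = (u * a * u⁻¹) * (u * b * u⁻¹) by group, h.inverts hu hux ha,
    h.inverts hu hux hb, mul_inv_rev] at h1
  calc a * b = (b⁻¹ * a⁻¹)⁻¹ := by group
    _ = (a⁻¹ * b⁻¹)⁻¹ := by rw [h1]
    _ = b * a := by group

theorem ElemCentralizers.exists_swap_base {P : G ⧸ N} (hP : P ≠ x₀) :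
    ∃ v : G, orderOf v = 2 ∧ v • x₀ = P := by
  have hpos : 0 < Nat.card {i : G // orderOf i = 2 ∧ i • x₀ = P} := by
    rw [card_swap_eq h.se x₀ P hP.symm, h.card_invol]
    have := h.four_le_card
    omega
  obtain ⟨⟨v, hv⟩⟩ := (Nat.card_pos_iff.1 hpos).1
  exact ⟨v, hv⟩

theorem ElemCentralizers.exists_nontrivial {u : G} (hux : u • x₀ ≠ x₀) :
    ∃ d ∈ N ⊓ (N).map (MulAut.conj u).toMonoidHom, d ≠ 1 := by
  refine (bot_or_exists_ne_one _).resolve_left fun e => ?_
  have h1 := h.card_twoPoint hux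
  have h2 := h.four_le_card
  rw [e, card_bot] at h1
  omega

theorem ElemCentralizers.odd_twoPoint {u : G} (hux : u • x₀ ≠ x₀) :
    Odd (Nat.card ↥(N ⊓ (N).map (MulAut.conj u).toMonoidHom)) := by
  haveI : Fact (Nat.Prime 2) := ⟨Nat.prime_two⟩
  rw [h.card_twoPoint hux]
  obtain ⟨k, hk⟩ := IsPGroup.iff_card.1 T.2
  have := h.four_le_card
  rcases k with _ | k
  · rw [hk, pow_zero] at this; omega
  · rw [hk, pow_succ]
    refine ⟨2 ^ k - 1, ?_⟩
    have := Nat.one_le_two_pow (n := k)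
    omega

theorem ElemCentralizers.odd_of_twoPoint {u d : G} (hux : u • x₀ ≠ x₀)
    (hd : d ∈ N ⊓ (N).map (MulAut.conj u).toMonoidHom) (hd2 : d ^ 2 = 1) : d = 1 := by
  rw [← orderOf_eq_one_iff]
  have h1 : orderOf d ∣ 2 := orderOf_dvd_of_pow_eq_one hd2
  have h2 := orderOf_dvd_natCard (⟨d, hd⟩ : ↥(N ⊓ (N).map (MulAut.conj u).toMonoidHom))
  rw [← Subgroup.orderOf_coe] at h2
  rcases (Nat.dvd_prime Nat.prime_two).1 h1 with e | e
  · exact e
  · rw [e] at h2
    exact absurd h2 (h.odd_twoPoint hux).not_two_dvd_nat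

/-- An involution inverting a two-point stabilizer fixes none of its fixed points. -/
theorem ElemCentralizers.not_fix {u z : G} (hux : u • x₀ ≠ x₀) (hz : orderOf z = 2)
    (hinv : ∀ d ∈ N ⊓ (N).map (MulAut.conj u).toMonoidHom, z * d * z⁻¹ = d⁻¹) {P : G ⧸ N}
    (hP : ∀ d ∈ N ⊓ (N).map (MulAut.conj u).toMonoidHom, d • P = P) : z • P ≠ P := by
  intro hzP
  obtain ⟨d, hd, hd1⟩ := h.exists_nontrivial hux
  obtain ⟨g, rfl⟩ := QuotientGroup.mk_surjective P
  have hst : ∀ a : G, a • ((g : G) : G ⧸ N) = ((g : G) : G ⧸ N) → g⁻¹ * a * g ∈ N := by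
    intro a ha
    rw [MulAction.Quotient.smul_mk, QuotientGroup.eq, smul_eq_mul] at ha
    have := inv_mem ha
    simpa [mul_assoc] using this
  have hy : orderOf (d * z * d⁻¹) = 2 := invol_conj hz d
  have hdP : (d * z * d⁻¹) • ((g : G) : G ⧸ N) = ((g : G) : G ⧸ N) := by
    have h2 : d⁻¹ • ((g : G) : G ⧸ N) = ((g : G) : G ⧸ N) := hP _ (Subgroup.inv_mem _ hd)
    rw [mul_smul, mul_smul, h2, hzP, hP d hd]
  have hg1 : g⁻¹ * z * g ∈ (T : Subgroup G) :=
    h.mem_of_orderOf (hst z hzP) (by simpa using invol_conj hz g⁻¹)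
  have hg2 : g⁻¹ * (d * z * d⁻¹) * g ∈ (T : Subgroup G) :=
    h.mem_of_orderOf (hst _ hdP) (by simpa using invol_conj hy g⁻¹)
  have hzi : z⁻¹ = z := inv_eq_of_mul_eq_one_right (invol_mul_self hz)
  have hprod : g⁻¹ * (d * d) * g ∈ (T : Subgroup G) := by
    have h3 := mul_mem hg2 hg1
    have e : g⁻¹ * (d * z * d⁻¹) * g * (g⁻¹ * z * g) = g⁻¹ * (d * (z * d⁻¹ * z⁻¹)) * g := by
      rw [hzi]; group
    rw [e, hinv _ (Subgroup.inv_mem _ hd), inv_inv] at h3
    exact h3
  have hdd : (d * d) ^ 2 = 1 := by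
    rcases eq_or_ne (g⁻¹ * (d * d) * g) 1 with e | e
    · have : d * d = 1 := by
        calc d * d = g * (g⁻¹ * (d * d) * g) * g⁻¹ := by group
          _ = 1 := by rw [e, mul_one, mul_inv_cancel]
      rw [this, one_pow]
    · have h4 := pow_orderOf_eq_one (g⁻¹ * (d * d) * g)
      rw [h.orderOf_eq_two hprod e, sq] at h4
      calc (d * d) ^ 2 = g * ((g⁻¹ * (d * d) * g) * (g⁻¹ * (d * d) * g)) * g⁻¹ := by rw [sq]; group
        _ = 1 := by rw [h4, mul_one, mul_inv_cancel]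
  have h1 : d * d = 1 := h.odd_of_twoPoint hux (Subgroup.mul_mem _ hd hd) hdd
  exact hd1 (h.odd_of_twoPoint hux hd (by rw [sq]; exact h1))

/-- The two-point stabilizer fixes exactly two points. -/
theorem ElemCentralizers.fixed_pair {u : G} (hu : orderOf u = 2) (hux : u • x₀ ≠ x₀) {P : G ⧸ N}
    (hP : ∀ d ∈ N ⊓ (N).map (MulAut.conj u).toMonoidHom, d • P = P) :
    P = x₀ ∨ P = u • x₀ := by
  by_contra hne
  push Not at hne
  obtain ⟨hPx, hPy⟩ := hne
  set D := N ⊓ (N).map (MulAut.conj u).toMonoidHom with hD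
  set C := centralizer (D : Set G) with hC
  -- swaps from the base point to fixed points invert `D`
  have hswap : ∀ Q : G ⧸ N, Q ≠ x₀ → (∀ d ∈ D, d • Q = Q) → ∀ v : G, orderOf v = 2 →
      v • x₀ = Q → ∀ d ∈ D, v * d * v⁻¹ = d⁻¹ := by
    intro Q hQ hQD v hv hvx d hd
    refine h.inverts hv (hvx.symm ▸ hQ) ((mem_twoPoint_iff (T := T)).2
      ⟨((mem_twoPoint_iff (T := T)).1 hd).1, ?_⟩)
    rw [hvx]
    exact hQD d hd
  have hyfix : ∀ d ∈ D, d • (u • x₀) = u • x₀ := fun d hd => ((mem_twoPoint_iff (T := T)).1 hd).2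
  have huD := hswap _ hux hyfix u hu rfl
  have hui : u⁻¹ = u := inv_eq_of_mul_eq_one_right (invol_mul_self hu)
  -- fixed points other than the base are in one orbit of `C`
  have horb : ∀ Q : G ⧸ N, Q ≠ x₀ → (∀ d ∈ D, d • Q = Q) → ∃ c ∈ C, c • (u • x₀) = Q := by
    intro Q hQ hQD
    obtain ⟨v, hv, hvx⟩ := h.exists_swap_base hQ
    refine ⟨v * u, ?_, by rw [mul_smul, invol_smul_smul hu, hvx]⟩
    rw [hC, Coprime.mem_centralizer_iff_conj_eq]
    intro d hd
    have h1 : (v * u) * d * (v * u)⁻¹ = d := by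
      rw [show (v * u) * d * (v * u)⁻¹ = v * (u * d * u⁻¹) * v⁻¹ by group, huD d hd,
        hswap Q hQ hQD v hv hvx _ (Subgroup.inv_mem _ hd), inv_inv]
    calc d * (v * u) * d⁻¹ = ((v * u) * d * (v * u)⁻¹) * (v * u) * d⁻¹ := by rw [h1]
      _ = v * u := by group
  obtain ⟨c₁, hc₁, e₁⟩ := horb P hPx hP
  have huP : ∀ d ∈ D, d • (u • P) = u • P := by
    intro d hd
    have h1 := huD d hd
    rw [hui] at h1
    calc d • (u • P) = (u * (u * d * u)) • P := by
          rw [← mul_smul, show u * (u * d * u) = (u * u) * d * u by group, invol_mul_self hu, one_mul]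
      _ = u • P := by rw [h1, mul_smul, hP _ (Subgroup.inv_mem _ hd)]
  obtain ⟨c₂, hc₂, e₂⟩ := horb (u • P) (fun e => hPy (by rw [← e, invol_smul_smul hu])) huP
  -- so `c` maps `y` to the base point
  have huC : ∀ c ∈ C, u * c * u ∈ C := by
    intro c hc
    rw [hC, Coprime.mem_centralizer_iff_conj_eq] at hc ⊢
    intro d hd
    have h1 := hc _ (Subgroup.inv_mem _ hd)
    have h2 := huD d hd
    have h3 := huD _ (Subgroup.inv_mem _ hd)
    rw [hui] at h2 h3
    rw [inv_inv] at h1 h3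
    have huu := invol_mul_self hu
    calc d * (u * c * u) * d⁻¹ = (u * d⁻¹ * u) * (u * c * u) * (u * d * u) := by rw [h3, h2]
      _ = u * (d⁻¹ * (u * u) * c * (u * u) * d) * u := by simp only [mul_assoc]
      _ = u * c * u := by rw [huu, mul_one, mul_one, h1]
  set c := (u * c₂ * u)⁻¹ * c₁ with hc
  have hcC : c ∈ C := mul_mem (inv_mem (huC _ hc₂)) hc₁
  have hcy : c • (u • x₀) = x₀ := by
    rw [hc, mul_smul, e₁, inv_smul_eq_iff, mul_smul, mul_smul, e₂, invol_smul_smul hu]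
  -- `C` has no involutions
  have hCodd : ∀ z ∈ C, z ^ 2 = 1 → z = 1 := by
    intro z hz hz2
    by_contra hz1
    have hzo : orderOf z = 2 := orderOf_eq_prime hz2 hz1
    obtain ⟨d, hd, hd1⟩ := h.exists_nontrivial hux
    refine hd1 (h.odd_of_twoPoint hux hd ((h.cent z hzo).2 d ?_))
    exact mem_centralizer_singleton_iff.2 (mem_centralizer_iff.1 hz d hd)
  set g := c * u with hg
  have hgx : g • x₀ = x₀ := by rw [hg, mul_smul, hcy]
  have hg2 : g ^ 2 ∈ C := by
    rw [sq, hg, show c * u * (c * u) = c * (u * c * u) by group]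
    exact mul_mem hcC (huC c hcC)
  have heven : Even (orderOf g) := by
    rw [← Nat.not_odd_iff_even]
    rintro ⟨k, hk⟩
    have h1 := pow_orderOf_eq_one g
    rw [hk, pow_succ, pow_mul] at h1
    have hgC : g ∈ C := by
      rw [eq_inv_of_mul_eq_one_right h1]
      exact inv_mem (pow_mem hg2 k)
    have huC' : u ∈ C := by
      have := mul_mem (inv_mem hcC) hgC
      rwa [hg, inv_mul_cancel_left] at this
    have := hCodd u huC' (by rw [sq]; exact invol_mul_self hu)
    rw [this, orderOf_one] at hu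
    omega
  set k := orderOf g / 2 with hk
  have hzo : orderOf (g ^ k) = 2 := orderOf_pow_half heven
  rcases Nat.even_or_odd k with ⟨j, hj⟩ | ⟨j, hj⟩
  · have hzC : g ^ k ∈ C := by
      rw [hj, ← two_mul, pow_mul]
      exact pow_mem hg2 j
    have := hCodd _ hzC (by rw [← hzo]; exact pow_orderOf_eq_one _)
    rw [this, orderOf_one] at hzo
    omega
  · refine h.not_fix hux hzo ?_ (fun d hd => ((mem_twoPoint_iff (T := T)).1 hd).1)
      (MulAction.mem_stabilizer_iff.1 (Subgroup.pow_mem _ (MulAction.mem_stabilizer_iff.2 hgx) k))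
    intro d hd
    have hzeq : g ^ k = ((g ^ 2) ^ j * c) * u := by
      rw [hj, pow_succ, pow_mul, hg]; group
    have hmem : (g ^ 2) ^ j * c ∈ C := mul_mem (pow_mem hg2 j) hcC
    rw [hzeq, show ((g ^ 2) ^ j * c) * u * d * (((g ^ 2) ^ j * c) * u)⁻¹ =
      ((g ^ 2) ^ j * c) * (u * d * u⁻¹) * ((g ^ 2) ^ j * c)⁻¹ by group, huD d hd,
      ← mem_centralizer_iff.1 hmem d⁻¹ (Subgroup.inv_mem _ hd), mul_inv_cancel_right]

theorem ElemCentralizers.normalizer_twoPoint {u : G} (hu : orderOf u = 2) (hux : u • x₀ ≠ x₀) :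
    normalizer ((N ⊓ (N).map (MulAut.conj u).toMonoidHom : Subgroup G) : Set G) =
      (N ⊓ (N).map (MulAut.conj u).toMonoidHom) ⊔ zpowers u := by
  set D := N ⊓ (N).map (MulAut.conj u).toMonoidHom with hD
  apply le_antisymm
  · intro g hg
    have hfix : ∀ P : G ⧸ N, (∀ d ∈ D, d • P = P) → ∀ d ∈ D, d • (g • P) = g • P := by
      intro P hP d hd
      have h1 := hP _ ((Subgroup.mem_normalizer_iff''.1 hg d).1 hd)
      rw [mul_smul, mul_smul, inv_smul_eq_iff] at h1
      exact h1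
    have hx : ∀ d ∈ D, d • x₀ = x₀ := fun d hd => ((mem_twoPoint_iff (T := T)).1 hd).1
    have hy : ∀ d ∈ D, d • (u • x₀) = u • x₀ := fun d hd => ((mem_twoPoint_iff (T := T)).1 hd).2
    rcases h.fixed_pair hu hux (hfix _ hx) with e | e
    · refine mem_sup_left ((mem_twoPoint_iff (T := T)).2 ⟨e, ?_⟩)
      rcases h.fixed_pair hu hux (hfix _ hy) with e2 | e2
      · exact absurd (smul_left_cancel g (e.trans e2.symm)) hux.symm
      · exact e2
    · have hmem : u * g ∈ D := by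
        refine (mem_twoPoint_iff (T := T)).2 ⟨by rw [mul_smul, e, invol_smul_smul hu], ?_⟩
        rcases h.fixed_pair hu hux (hfix _ hy) with e2 | e2
        · rw [mul_smul, e2]
        · exact absurd (smul_left_cancel g (e.trans e2.symm)) hux.symm
      have : g = u * (u * g) := by rw [← mul_assoc, invol_mul_self hu, one_mul]
      rw [this]
      exact mul_mem (mem_sup_right (mem_zpowers u)) (mem_sup_left hmem)
  · refine sup_le le_normalizer (zpowers_le.2 ?_)
    rw [Subgroup.mem_normalizer_iff]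
    intro d
    constructor
    · intro hd
      rw [h.inverts hu hux hd]
      exact inv_mem hd
    · intro hd
      have h1 := h.inverts hu hux hd
      have : d = (u * d * u⁻¹)⁻¹ := by
        rw [← h1]
        have e : u * u = 1 := invol_mul_self hu
        calc d = (u * u) * d * (u * u)⁻¹ := by rw [e, one_mul, inv_one, mul_one]
          _ = u * (u * d * u⁻¹) * u⁻¹ := by group
      rw [this]
      exact inv_mem hd

/-- The three-point stabilizers are trivial. -/
theorem ElemCentralizers.eq_one_of_fix {u d : G} (hu : orderOf u = 2) (hux : u • x₀ ≠ x₀)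
    (hd : d ∈ N ⊓ (N).map (MulAut.conj u).toMonoidHom) {P : G ⧸ N} (hPx : P ≠ x₀) (hPy : P ≠ u • x₀)
    (hdP : d • P = P) : d = 1 := by
  by_contra hd1
  obtain ⟨v, hv, hvx⟩ := h.exists_swap_base hPx
  have hvx' : v • x₀ ≠ x₀ := by rw [hvx]; exact hPx
  have hd' : d ∈ N ⊓ (N).map (MulAut.conj v).toMonoidHom :=
    (mem_twoPoint_iff (T := T)).2 ⟨((mem_twoPoint_iff (T := T)).1 hd).1, by rw [hvx]; exact hdP⟩
  have hle : N ⊓ (N).map (MulAut.conj v).toMonoidHom ≤ N ⊓ (N).map (MulAut.conj u).toMonoidHom := by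
    intro e he
    obtain ⟨f, hf, t, ht, rfl⟩ := h.exists_mul hux he.1
    rcases eq_or_ne t 1 with rfl | ht1
    · rwa [mul_one]
    · refine absurd (h.eq_one_of_commute hux hd ht ht1 ?_) hd1
      have h1 := h.twoPoint_comm hv hvx' hd' he
      have h2 := h.twoPoint_comm hu hux hd hf
      calc d * t = f⁻¹ * (f * d) * t := by group
        _ = f⁻¹ * (d * (f * t)) := by rw [← h2]; group
        _ = f⁻¹ * (f * t * d) := by rw [h1]
        _ = t * d := by group
  have heq := eq_of_le_of_card_ge hle (by rw [h.card_twoPoint hux, h.card_twoPoint hvx'])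
  rcases h.fixed_pair hu hux (P := P) (fun e he => by
    rw [← hvx]; exact ((mem_twoPoint_iff (T := T)).1 (heq ▸ he)).2) with e | e
  exacts [hPx e, hPy e]

/-- `T` is regular on the points other than the base point. -/
theorem ElemCentralizers.regular {u : G} (hu : orderOf u = 2) (hux : u • x₀ ≠ x₀) {P : G ⧸ N}
    (hPx : P ≠ x₀) : ∃! t, t ∈ (T : Subgroup G) ∧ t • (u • x₀) = P := by
  haveI : Fact (Nat.Prime 2) := ⟨Nat.prime_two⟩
  obtain ⟨v, hv, hvx⟩ := h.exists_swap_base hPx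
  have hvx' : v • x₀ ≠ x₀ := by rw [hvx]; exact hPx
  set D := N ⊓ (N).map (MulAut.conj u).toMonoidHom with hD
  set D' := N ⊓ (N).map (MulAut.conj v).toMonoidHom with hD'
  have hDN : D ≤ normalizer ((T : Subgroup G) : Set G) := inf_le_left
  have hle : D' ≤ D ⊔ (T : Subgroup G) := by
    intro e he
    obtain ⟨f, hf, t, ht, rfl⟩ := h.exists_mul hux he.1
    exact mul_mem (mem_sup_left hf) (mem_sup_right ht)
  have hcop : (Nat.card (T : Subgroup G)).Coprime (Nat.card D) := by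
    obtain ⟨k, hk⟩ := IsPGroup.iff_card.1 T.2
    rw [hk]
    exact (Nat.coprime_two_left.2 (h.odd_twoPoint hux)).pow_left k
  have hsol : Group.IsSolvable (T : Subgroup G) :=
    Group.isSolvable_of_comm fun a b => Subtype.ext (h.comm _ a.2 _ b.2)
  obtain ⟨m, hm, e⟩ := Coprime.sz_conj_in hDN hcop hle
    (by rw [h.card_twoPoint hux, h.card_twoPoint hvx']) (Or.inr hsol)
  have hm2 : ∀ d ∈ D', d • (m⁻¹ • (u • x₀)) = m⁻¹ • (u • x₀) := by
    intro d hd
    have h1 : m * d * m⁻¹ ∈ D := e ▸ Coprime.conj_mem_conjBy hd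
    have h2 := ((mem_twoPoint_iff (T := T)).1 h1).2
    rw [mul_smul, mul_smul, ← eq_inv_smul_iff] at h2
    exact h2
  have hmy : m⁻¹ • (u • x₀) = P := by
    rcases h.fixed_pair hv hvx' hm2 with e2 | e2
    · exfalso
      apply hux
      have : m⁻¹ • x₀ = x₀ := fixed_one_iff.2 (le_normalizer (inv_mem hm))
      exact smul_left_cancel m⁻¹ (e2.trans this.symm)
    · rw [e2, hvx]
  refine ⟨m⁻¹, ⟨inv_mem hm, hmy⟩, ?_⟩
  rintro t ⟨ht, htP⟩
  by_contra hne
  have h1 : m * t ∈ (T : Subgroup G) := mul_mem hm ht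
  have h2 : (m * t) • (u • x₀) = u • x₀ := by rw [mul_smul, htP, ← hmy, smul_inv_smul]
  exact hux (fixed_unique h.se (h.orderOf_eq_two h1 fun e3 => hne (eq_inv_of_mul_eq_one_right e3)) h2
    (fixed_one_iff.2 (le_normalizer h1)))

theorem ElemCentralizers.exists_move_out : ∃ u : G, orderOf u = 2 ∧ u • x₀ ≠ x₀ := by
  obtain ⟨P, hP⟩ : ∃ P : G ⧸ N, P ≠ x₀ := by
    by_contra hno
    push Not at hno
    exact h.notNormal (normalizer_eq_top_iff.1
      (top_unique fun g _ => fixed_one_iff.1 (hno (g • x₀))))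
  obtain ⟨v, hv, hvx⟩ := h.exists_swap_base hP
  exact ⟨v, hv, hvx ▸ hP⟩

theorem ElemCentralizers.exists_fix_base_move {P Q : G ⧸ N} (hP : P ≠ x₀) (hQ : Q ≠ x₀) :
    ∃! t, t ∈ (T : Subgroup G) ∧ t • P = Q := by
  obtain ⟨v, hv, rfl⟩ := h.exists_swap_base hP
  exact h.regular hv hP hQ

theorem ElemCentralizers.three_transitive {x₁ x₂ x₃ : G ⧸ N} (h12 : x₁ ≠ x₂) (h13 : x₁ ≠ x₃)
    (h23 : x₂ ≠ x₃) {u : G} (hu : orderOf u = 2) (hux : u • x₀ ≠ x₀) {P₀ : G ⧸ N}
    (hP₀ : P₀ ≠ x₀) (hP₀y : P₀ ≠ u • x₀) :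
    ∃ g : G, g • x₁ = x₀ ∧ g • x₂ = u • x₀ ∧ g • x₃ = P₀ := by
  classical
  obtain ⟨g, hg⟩ := MulAction.exists_smul_eq G x₁ x₀
  have hg2 : g • x₂ ≠ x₀ := fun e => h12 (smul_left_cancel g (hg.trans e.symm))
  obtain ⟨t, ⟨ht, ht2⟩, -⟩ := h.exists_fix_base_move hg2 hux
  have htx : t • x₀ = x₀ := fixed_one_iff.2 (le_normalizer ht)
  set Q := t • g • x₃ with hQdef
  have hQx : Q ≠ x₀ := fun e => h13 (smul_left_cancel g (hg.trans
    (smul_left_cancel t (htx.trans e.symm))))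
  have hQy : Q ≠ u • x₀ := fun e => h23 (smul_left_cancel g (smul_left_cancel t (ht2.trans e.symm)))
  -- the two-point stabilizer is transitive on the remaining points
  set D := N ⊓ (N).map (MulAut.conj u).toMonoidHom with hD
  set y := u • x₀ with hy
  have hf : ∀ d : D, (d : G) • Q ≠ x₀ ∧ (d : G) • Q ≠ y := by
    intro d
    obtain ⟨h1, h2⟩ := (mem_twoPoint_iff (T := T)).1 d.2
    exact ⟨fun e => hQx (smul_left_cancel (d : G) (e.trans h1.symm)),
      fun e => hQy (smul_left_cancel (d : G) (e.trans h2.symm))⟩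
  let f : D → {P : G ⧸ N // P ≠ x₀ ∧ P ≠ y} := fun d => ⟨(d : G) • Q, hf d⟩
  have hcard : Nat.card {P : G ⧸ N // P ≠ x₀ ∧ P ≠ y} ≤ Nat.card D := by
    rw [h.card_twoPoint hux]
    have hsur : ∀ P : {P : G ⧸ N // P ≠ x₀ ∧ P ≠ y},
        ∃ s : {s : (T : Subgroup G) // s ≠ 1}, (s.1 : G) • y = P.1 := by
      intro P
      obtain ⟨s, ⟨hs, hsP⟩, -⟩ := h.regular hu hux P.2.1
      refine ⟨⟨⟨s, hs⟩, fun e => P.2.2 ?_⟩, hsP⟩
      rw [← hsP, show s = 1 from congrArg Subtype.val e, one_smul]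
    choose F hF using hsur
    refine (Nat.card_le_card_of_injective F fun a b e => Subtype.ext (by rw [← hF a, ← hF b, e])).trans
      (le_of_eq ?_)
    haveI := Fintype.ofFinite (T : Subgroup G)
    rw [Nat.card_eq_fintype_card, Fintype.card_subtype_compl, Fintype.card_subtype_eq,
      Nat.card_eq_fintype_card]
  have hinj : Function.Injective f := by
    intro a b e
    have e' : (a : G) • Q = (b : G) • Q := congrArg Subtype.val e
    refine Subtype.ext (inv_mul_eq_one.1 (h.eq_one_of_fix hu hux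
      (D.mul_mem (D.inv_mem a.2) b.2) hQx hQy ?_))
    rw [mul_smul, ← e', inv_smul_smul]
  obtain ⟨d, hd⟩ := (hinj.bijective_of_nat_card_le hcard).2 ⟨P₀, hP₀, hP₀y⟩
  obtain ⟨hd1, hd2⟩ := (mem_twoPoint_iff (T := T)).1 d.2
  refine ⟨(d : G) * t * g, ?_, ?_, ?_⟩
  · rw [mul_smul, mul_smul, hg, htx, hd1]
  · rw [mul_smul, mul_smul, ht2, hd2]
  · rw [mul_smul, mul_smul]
    exact congrArg Subtype.val hd

theorem ElemCentralizers.three_fixed {g : G} {x₁ x₂ x₃ : G ⧸ N} (h12 : x₁ ≠ x₂) (h13 : x₁ ≠ x₃)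
    (h23 : x₂ ≠ x₃) (e1 : g • x₁ = x₁) (e2 : g • x₂ = x₂) (e3 : g • x₃ = x₃) : g = 1 := by
  obtain ⟨k, hk⟩ := MulAction.exists_smul_eq G x₁ x₀
  have hk2 : k • x₂ ≠ x₀ := fun e => h12 (smul_left_cancel k (hk.trans e.symm))
  have hk3 : k • x₃ ≠ x₀ := fun e => h13 (smul_left_cancel k (hk.trans e.symm))
  obtain ⟨v, hv, hvx⟩ := h.exists_swap_base hk2
  have hvx' : v • x₀ ≠ x₀ := by rw [hvx]; exact hk2
  have hc : ∀ z : G ⧸ N, g • z = z → (k * g * k⁻¹) • (k • z) = k • z := fun z hz => conj_fixes.2 hz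
  have h1 : (k * g * k⁻¹) • x₀ = x₀ := hk ▸ hc x₁ e1
  have hmem : k * g * k⁻¹ ∈ N ⊓ (N).map (MulAut.conj v).toMonoidHom :=
    (mem_twoPoint_iff (T := T)).2 ⟨h1, by rw [hvx]; exact hc x₂ e2⟩
  have := h.eq_one_of_fix hv hvx' hmem hk3
    (fun e => h23 (smul_left_cancel k (e.trans hvx).symm)) (hc x₃ e3)
  calc g = k⁻¹ * (k * g * k⁻¹) * k := by group
    _ = 1 := by rw [this, mul_one, inv_mul_cancel]

end CfsgLib.Invol
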