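import Cfsg.Agent.Lib.Invol.StronglyEmbeddedOrbits
import Cfsg.Agent.Lib.Invol.ZStar
import Cfsg.Agent.Lib.SolvSignalizer.Main
import Cfsg.Agent.Lib.Coprime.Core
import Cfsg.Agent.Lib.Invol.KleinPair

/-!
# Strongly embedded subgroups: real elements of odd order

* `exists_real_odd_fixedPointFree`: some element of odd order inverted by an involution fixes no
  coset of a strongly embedded subgroup (counting pairs of involutions with different fixed points).
* `exists_invol_normalizing`: if every such element is a `p`-element, some involution of `H`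
  normalizes a Sylow `p`-subgroup of `H`.
-/

set_option autoImplicit false
set_option linter.style.haveILetI false

namespace CfsgLib.Invol.SEFixed

open Subgroup MulAction

universe u

variable {G : Type u} [Group G] [Finite G] {H : Subgroup G} (hH : Cfsg.IsStronglyEmbedded H)

include hH in
/-- In a group with a strongly embedded subgroup some real element of odd order fixes no coset. -/
theorem exists_real_odd_fixedPointFree :
    ∃ x : G, Odd (orderOf x) ∧ (∃ t : G, orderOf t = 2 ∧ t * x * t⁻¹ = x⁻¹) ∧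
      ∀ c : G ⧸ H, x • c ≠ c := by
  classical
  by_contra hno
  push Not at hno
  have := Fintype.ofFinite (G ⧸ H)
  let P := {q : (G ⧸ H) × (G ⧸ H) // q.1 ≠ q.2}
  let Fx := fun a : G ⧸ H => {t : G // orderOf t = 2 ∧ t • a = a}
  let Sw := fun q : P => {t : G // orderOf t = 2 ∧ t • q.1.1 = q.1.2}
  have key : ∀ q : Σ q : P, Fx q.1.1 × Fx q.1.2, ∃ c : G ⧸ H, (q.2.1.1 * q.2.2.1) • c = c ∧
      q.2.1.1 • c ≠ c ∧ q.2.1.1 • c = q.2.2.1 • c ∧ q.2.1.1 ≠ q.2.2.1 := by
    rintro ⟨⟨⟨a, b⟩, hab⟩, ⟨t, ht, hta⟩, ⟨u, hu, hub⟩⟩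
    obtain ⟨c, hc⟩ := hno (t * u) (odd_mul_of_fix_ne hH ht hu hta hub hab)
      ⟨t, ht, invol_conj_mul ht hu⟩
    have hct : t • c = u • c := by
      conv_lhs => rw [← hc, mul_smul, invol_smul_smul ht]
    refine ⟨c, hc, fun h => hab ?_, hct, ?_⟩
    · exact (fixed_unique hH ht hta h).trans (fixed_unique hH hu (hct.symm.trans h) hub)
    · intro h
      have h' : t = u := h
      subst h'
      exact hab (fixed_unique hH ht hta hub)
  choose c _ hne heq htu using key
  let f : (Σ q : P, Fx q.1.1 × Fx q.1.2) → Σ q : P, {s : Sw q × Sw q // s.1 ≠ s.2} := fun q =>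
    ⟨⟨(c q, q.2.1.1 • c q), fun h => hne q h.symm⟩,
      ⟨(⟨q.2.1.1, q.2.1.2.1, rfl⟩, ⟨q.2.2.1, q.2.2.2.1, (heq q).symm⟩),
        fun h => htu q (congrArg Subtype.val h)⟩⟩
  have hf : Function.Injective f := by
    rintro ⟨⟨⟨a, b⟩, hab⟩, ⟨t, ht, hta⟩, ⟨u, hu, hub⟩⟩ ⟨⟨⟨a', b'⟩, hab'⟩, ⟨t', ht', hta'⟩, ⟨u', hu', hub'⟩⟩ h
    have h1 := congrArg (fun z : Σ q : P, {s : Sw q × Sw q // s.1 ≠ s.2} => z.2.1.1.1) h
    have h2 := congrArg (fun z : Σ q : P, {s : Sw q × Sw q // s.1 ≠ s.2} => z.2.1.2.1) h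
    simp only [f] at h1 h2
    subst h1 h2
    obtain rfl := fixed_unique hH ht hta hta'
    obtain rfl := fixed_unique hH hu hub hub'
    rfl
  set m := Nat.card {t : G // orderOf t = 2 ∧ t ∈ H} with hm
  have hm0 : 0 < m := by
    obtain ⟨t, htH, ht⟩ := exists_invol_mem hH.2.1
    exact Nat.card_pos_iff.2 ⟨⟨⟨t, ht, htH⟩⟩, inferInstance⟩
  haveI : ∀ a, Finite (Fx a) := fun a => inferInstance
  have hA : Nat.card (Σ q : P, Fx q.1.1 × Fx q.1.2) = Nat.card P * (m * m) := by
    rw [Nat.card_sigma, Finset.sum_congr rfl (fun q _ => (by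
      rw [Nat.card_prod, card_fixing_eq hH, card_fixing_eq hH] : Nat.card (Fx q.1.1 × Fx q.1.2) = m * m)),
      Finset.sum_const, smul_eq_mul, Finset.card_univ, ← Nat.card_eq_fintype_card]
  have hB : Nat.card (Σ q : P, {s : Sw q × Sw q // s.1 ≠ s.2}) < Nat.card P * (m * m) := by
    have hP : 0 < Nat.card P := by
      obtain ⟨g, hg⟩ : ∃ g : G, g ∉ H := by
        by_contra h
        push Not at h
        exact hH.1 (eq_top_iff.2 fun x _ => h x)
      exact Nat.card_pos_iff.2 ⟨⟨⟨(((1 : G) : G ⧸ H), ((g : G) : G ⧸ H)), fun h => hg (by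
        simpa using QuotientGroup.eq.1 h)⟩⟩, inferInstance⟩
    have hlt : ∀ q : P, Nat.card {s : Sw q × Sw q // s.1 ≠ s.2} < m * m := fun q => by
      have hs : Nat.card (Sw q) = m := card_swap_eq hH _ _ q.2
      rw [← hs, ← Nat.card_prod]
      obtain ⟨⟨s⟩⟩ : Nonempty (Sw q) ∧ Finite (Sw q) :=
        Nat.card_pos_iff.1 (hs ▸ hm0)
      have := Fintype.ofFinite (Sw q × Sw q)
      rw [Nat.card_eq_fintype_card, Nat.card_eq_fintype_card]
      exact Fintype.card_subtype_lt (x := (s, s)) (fun h => h rfl)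
    rw [Nat.card_sigma]
    calc _ < ∑ _q : P, m * m := Finset.sum_lt_sum_of_nonempty
          (Finset.univ_nonempty_iff.2 (Nat.card_pos_iff.1 hP).1) fun q _ => hlt q
      _ = _ := by rw [Finset.sum_const, smul_eq_mul, Finset.card_univ, ← Nat.card_eq_fintype_card]
  exact absurd ((Nat.card_le_card_of_injective f hf).trans_lt hB) (hA ▸ lt_irrefl _)

/-- An involution without commuting conjugates: its products with the involutions lie in the core. -/
theorem mul_mem_oddCore {L : Type u} [Group L] [Finite L]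
    (hK : ∀ v w : L, orderOf v = 2 → orderOf w = 2 → Commute v w → v = w) {v w : L}
    (hv : orderOf v = 2) (hw : orderOf w = 2) : v * w ∈ Cfsg.pPrimeCore 2 L := by
  have hiso : Cfsg.IsIsolatedInvolution v :=
    ⟨hv, fun g hg => (hK v _ hv (invol_conj hv g) hg).symm⟩
  by_cases hvw : v = w
  · rw [hvw, invol_mul_self hw]; exact one_mem _
  have hodd : Odd (orderOf (v * w)) := by
    by_contra h
    rw [Nat.not_odd_iff_even] at h
    have hz := orderOf_pow_half h
    exact hvw ((hK _ v hz hv (commute_pow_half (invol_conj_mul hv hw) h)).symm.trans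
      (hK _ w hz hw (commute_pow_half (invol_conj_mul' hv hw) h)))
  obtain ⟨g, rfl⟩ := isConj_iff.1 (isConj_of_odd hv hw hodd)
  have := zstar hiso g
  rw [invol_inv hv] at this
  simpa [mul_assoc] using this

variable {p : ℕ} [hp : Fact p.Prime]

/-- `R` is a Sylow `p`-subgroup of `H`. -/
def IsSylIn (p : ℕ) (R H : Subgroup G) : Prop :=
  IsPGroup p R ∧ R ≤ H ∧ ¬ p ∣ R.relIndex H

theorem IsSylIn.eq_of_le {R Q H : Subgroup G} (hR : IsSylIn p R H) (hQ : IsPGroup p Q)
    (hQH : Q ≤ H) (hRQ : R ≤ Q) : R = Q := by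
  refine eq_of_le_of_card_ge hRQ ?_
  by_contra hlt
  push Not at hlt
  obtain ⟨k, hk⟩ := hQ.exists_card_eq
  obtain ⟨j, hj⟩ := hR.1.exists_card_eq
  have hidx := relIndex_dvd_of_le_left H hQH
  have h1 : Nat.card R * R.relIndex Q = Nat.card Q := by
    rw [relIndex, ← Nat.card_congr (subgroupOfEquivOfLe hRQ).toEquiv, card_mul_index]
  have h2 : R.relIndex Q ∣ p ^ k := hk ▸ ⟨_, ((mul_comm _ _).trans h1).symm⟩
  obtain ⟨i, -, hi⟩ := (Nat.dvd_prime_pow hp.out).1 h2
  rcases i with _ | i
  · rw [hi, pow_zero, mul_one] at h1; omega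
  · refine hR.2.2 ((hi ▸ dvd_pow_self p (Nat.succ_ne_zero i) : p ∣ R.relIndex Q).trans ?_)
    exact ⟨_, (relIndex_mul_relIndex R Q H hRQ hQH).symm⟩

include hH hp in
/-- If the real elements of odd order are `p`-elements, an involution of `H` normalizes a Sylow
`p`-subgroup of `H`. -/
theorem exists_invol_normalizing (hp2 : p ≠ 2)
    (hreal : ∀ x : G, Odd (orderOf x) → (∃ t : G, orderOf t = 2 ∧ t * x * t⁻¹ = x⁻¹) →
      ∃ k, orderOf x = p ^ k) :
    ∃ R : Subgroup G, IsSylIn p R H ∧ ∃ v ∈ H, orderOf v = 2 ∧ v ∈ normalizer (R : Set G) := by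
  classical
  by_contra hno
  push Not at hno
  obtain ⟨R₀⟩ : Nonempty (Sylow p H) := inferInstance
  set R := (R₀ : Subgroup H).map H.subtype with hRdef
  have hRH : R ≤ H := map_subtype_le _
  have hR : IsSylIn p R H := by
    refine ⟨R₀.isPGroup'.map _, hRH, ?_⟩
    rw [relIndex, hRdef, show ((R₀ : Subgroup H).map H.subtype).subgroupOf H = R₀ from
      comap_map_eq_self_of_injective H.subtype_injective _]
    exact R₀.not_dvd_index
  -- a Sylow subgroup of `G` containing `R`
  obtain ⟨P, hP⟩ := hR.1.exists_le_sylow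
  by_cases hPR : (P : Subgroup G) ≤ R
  · -- then every real element of odd order fixes a coset
    obtain ⟨x, hxo, hxr, hxf⟩ := exists_real_odd_fixedPointFree hH
    obtain ⟨k, hk⟩ := hreal x hxo hxr
    obtain ⟨g, hg⟩ := exists_conj_le_sylow (Q := zpowers x)
      (IsPGroup.of_card (n := k) (by rw [Nat.card_zpowers, hk])) P
    have h1 := hRH (hPR (hg x (mem_zpowers x)))
    refine hxf ((g⁻¹ : G) : G ⧸ H) ?_
    rw [MulAction.Quotient.smul_mk, QuotientGroup.eq, smul_eq_mul]
    have := inv_mem h1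
    simpa [mul_assoc] using this
  have hlt : R < (P : Subgroup G) := lt_of_le_not_ge hP hPR
  obtain ⟨y, hy, hyR⟩ : ∃ y ∈ normalizer (R : Set G) ⊓ (P : Subgroup G), y ∉ R := by
    haveI := P.isPGroup'.isNilpotent
    have hlt' : R.subgroupOf (P : Subgroup G) < ⊤ :=
      lt_top_iff_ne_top.2 fun e => hlt.not_ge (subgroupOf_eq_top.1 e)
    obtain ⟨y, hyn, hyR⟩ := SetLike.exists_of_lt (normalizerCondition_of_isNilpotent _ hlt')
    refine ⟨y, mem_inf.2 ⟨mem_normalizer_iff.2 fun z => ⟨fun hz => ?_, fun hz => ?_⟩, y.2⟩, hyR⟩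
    · exact (mem_normalizer_iff.1 hyn ⟨z, hP hz⟩).1 hz
    · have hzP : z ∈ (P : Subgroup G) := by
        have := mul_mem (mul_mem (inv_mem y.2) (hP hz)) y.2
        simpa [mul_assoc] using this
      exact (mem_normalizer_iff.1 hyn ⟨z, hzP⟩).2 hz
  have hyH : y ∉ H := by
    intro h
    refine hyR (?_ : y ∈ R)
    have hp' : IsPGroup p (R ⊔ zpowers y : Subgroup G) :=
      P.isPGroup'.to_le (sup_le hP (zpowers_le.2 hy.2))
    rw [hR.eq_of_le hp' (sup_le hRH (zpowers_le.2 h)) le_sup_left]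
    exact mem_sup_right (mem_zpowers y)
  set L := normalizer (R : Set G) with hLdef
  let F : Set (G ⧸ H) := {c | R ≤ stabilizer G c}
  have hFL : ∀ l ∈ L, ∀ c ∈ F, l • c ∈ F := fun l hl c hc r hr => by
    have h1 : l⁻¹ * r * l ∈ R := by
      have := (mem_normalizer_iff.1 (inv_mem hl) r).1 hr
      simpa using this
    have h2 : (l⁻¹ * r * l) • c = c := hc h1
    rw [mem_stabilizer_iff]
    rw [mul_smul, mul_smul, inv_smul_eq_iff] at h2
    exact h2
  -- (i) no involution of `L` fixes a point of `F`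
  have hi : ∀ v ∈ L, orderOf v = 2 → ∀ c ∈ F, v • c ≠ c := by
    intro v hvL hv c hc hvc
    obtain ⟨g, rfl⟩ := QuotientGroup.mk_surjective c
    have hst : ∀ x : G, x • ((g : G) : G ⧸ H) = ((g : G) : G ⧸ H) → g⁻¹ * x * g ∈ H := fun x hx => by
      rw [MulAction.Quotient.smul_mk, QuotientGroup.eq, smul_eq_mul] at hx
      have := inv_mem hx
      simpa [mul_assoc] using this
    set c' := (MulAut.conj g⁻¹).toMonoidHom with hc'
    have hR' : R.map c' ≤ H := by
      rintro _ ⟨r, hr, rfl⟩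
      simpa [hc'] using hst r (hc hr)
    have hcard : Nat.card ↥(R.map c') = Nat.card R := card_map_of_injective (MulAut.conj g⁻¹).injective
    refine hno (R.map c') ⟨hR.1.map _, hR', ?_⟩ (g⁻¹ * v * g) (hst v hvc)
      (by simpa using invol_conj hv g⁻¹) ?_
    · intro hd
      apply hR.2.2
      have h1 := card_mul_index (R.subgroupOf H)
      have h2 := card_mul_index ((R.map c').subgroupOf H)
      rw [Nat.card_congr (subgroupOfEquivOfLe hRH).toEquiv] at h1
      rw [Nat.card_congr (subgroupOfEquivOfLe hR').toEquiv, hcard, ← h1] at h2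
      have := Nat.eq_of_mul_eq_mul_left Nat.card_pos h2
      rw [relIndex] at hd ⊢
      rwa [← this]
    · have h := le_normalizer_map (f := c') (H := R) (mem_map_of_mem c' hvL)
      simpa [hc'] using h
  -- (ii) swaps inside `L`
  have hsw : ∀ a ∈ F, ∀ b ∈ F, a ≠ b → ∃ v ∈ L, orderOf v = 2 ∧ v • a = b := by
    intro a ha b hb hab
    have hm0 : 0 < Nat.card {i : G // orderOf i = 2 ∧ i • a = b} := by
      rw [card_swap_eq hH a b hab]
      obtain ⟨t, htH, ht⟩ := exists_invol_mem hH.2.1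
      exact Nat.card_pos_iff.2 ⟨⟨⟨t, ht, htH⟩⟩, inferInstance⟩
    obtain ⟨⟨u, hu, hua⟩⟩ := (Nat.card_pos_iff.1 hm0).1
    have hub : u • b = a := by rw [← hua, invol_smul_smul hu]
    set D := stabilizer G a ⊓ stabilizer G b with hD
    have hRD : R ≤ D := le_inf ha hb
    -- `R` is a Sylow subgroup of `D`
    have hmax : ∀ Q : Subgroup G, IsPGroup p Q → Q ≤ stabilizer G a → Nat.card Q ≤ Nat.card R := by
      intro Q hQ hQa
      obtain ⟨g, rfl⟩ := QuotientGroup.mk_surjective a
      have hQH : Q.map (MulAut.conj g⁻¹).toMonoidHom ≤ H := by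
        rintro _ ⟨x, hx, rfl⟩
        have h := mem_stabilizer_iff.1 (hQa hx)
        rw [MulAction.Quotient.smul_mk, QuotientGroup.eq, smul_eq_mul] at h
        have := inv_mem h
        simpa [mul_assoc] using this
      obtain ⟨h, hh⟩ := exists_conj_le_sylow (Q := (Q.map (MulAut.conj g⁻¹).toMonoidHom).subgroupOf H)
        ((hQ.map _).comap_subtype) R₀
      have h1 := card_le_of_le (K := (R₀ : Subgroup H))
        (show ((Q.map (MulAut.conj g⁻¹).toMonoidHom).subgroupOf H).map (MulAut.conj h).toMonoidHom ≤ _ by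
          rintro _ ⟨x, hx, rfl⟩; exact hh x hx)
      rw [card_map_of_injective (MulAut.conj h).injective,
        Nat.card_congr (subgroupOfEquivOfLe hQH).toEquiv,
        card_map_of_injective (MulAut.conj g⁻¹).injective] at h1
      rwa [hRdef, card_map_of_injective H.subtype_injective]
    obtain ⟨Q, hQ⟩ := (hR.1.comap_subtype (K := D)).exists_le_sylow
    have hQR : (Q : Subgroup D).map D.subtype = R := by
      refine (eq_of_le_of_card_ge ?_ (hmax _ (Q.isPGroup'.map _) ((map_subtype_le _).trans inf_le_left))).symm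
      intro r hr
      exact ⟨⟨r, hRD hr⟩, hQ hr, rfl⟩
    set Ru := R.map (MulAut.conj u).toMonoidHom with hRu
    have hRuD : Ru ≤ D := by
      rintro _ ⟨r, hr, rfl⟩
      have hra : r • a = a := (hRD hr).1
      have hrb : r • b = b := (hRD hr).2
      refine mem_inf.2 ⟨?_, ?_⟩ <;> show (u * r * u⁻¹) ∈ stabilizer G _ <;>
        rw [mem_stabilizer_iff, invol_inv hu, mul_smul, mul_smul]
      · rw [hua, hrb, hub]
      · rw [hub, hra, hua]
    obtain ⟨d, hd⟩ := exists_conj_le_sylow (Q := Ru.subgroupOf D) ((hR.1.map _).comap_subtype) Q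
    set g := (d : G) * u with hg
    have hgL : g ∈ L := by
      rw [hLdef, mem_normalizer_iff_map_conj_eq]
      refine eq_of_le_of_card_ge ?_ (le_of_eq (card_map_of_injective (MulAut.conj g).injective).symm)
      rintro _ ⟨r, hr, rfl⟩
      rw [← hQR]
      refine ⟨_, hd ⟨u * r * u⁻¹, hRuD ⟨r, hr, rfl⟩⟩ ⟨r, hr, rfl⟩, ?_⟩
      simp [hg, mul_assoc]
    have hga : g • a = b := by rw [hg, mul_smul, hua]; exact d.2.2
    have hgb : g • b = a := by rw [hg, mul_smul, hub]; exact d.2.1
    -- the `2`-part of `g`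
    obtain ⟨k, r, hr, hgo⟩ := Nat.exists_eq_two_pow_mul_odd (orderOf_pos g).ne'
    set g' := g ^ r with hg'
    have hg'o : orderOf g' = 2 ^ k := by
      rw [hg', orderOf_pow, hgo, Nat.gcd_eq_right ⟨2 ^ k, mul_comm _ _⟩, Nat.mul_div_cancel _ hr.pos]
    have hgg : ∀ j : ℕ, (g * g) ^ j • a = a := fun j => by
      induction j with
      | zero => rw [pow_zero, one_smul]
      | succ j ih => rw [pow_succ, mul_smul, mul_smul, hga, hgb, ih]
    have hg'a : g' • a = b := by
      obtain ⟨j, rfl⟩ := hr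
      rw [hg', pow_succ', mul_smul, two_mul, pow_add, ← (Commute.refl g).mul_pow, hgg, hga]
    rcases k with _ | _ | k
    · rw [pow_zero, orderOf_eq_one_iff] at hg'o
      rw [hg'o, one_smul] at hg'a
      exact absurd hg'a hab
    · exact ⟨g', pow_mem hgL _, by simpa using hg'o, hg'a⟩
    · exfalso
      have hw : orderOf (g' ^ 2 ^ (k + 1)) = 2 := by
        rw [orderOf_pow, hg'o, Nat.gcd_eq_right (pow_dvd_pow 2 (Nat.le_succ _)),
          Nat.pow_div (Nat.le_succ _) (by norm_num)]
        simp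
      refine hi _ (pow_mem (pow_mem hgL _) _) hw a ha ?_
      rw [← pow_mul, mul_comm r, pow_succ', mul_assoc, pow_mul, sq, hgg]
  -- (iii) no four-group in `L`
  have hK : ∀ v w : L, orderOf v = 2 → orderOf w = 2 → Commute v w → v = w := by
    rintro ⟨v, hvL⟩ ⟨w, hwL⟩ hv hw hvw
    rw [← Subgroup.orderOf_coe] at hv hw
    simp only at hv hw
    have hc : Commute v w := congrArg Subtype.val hvw
    by_contra hne
    have hne' : v ≠ w := fun e => hne (Subtype.ext e)
    haveI := isKleinFour_closure_pair hv hw hne' hc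
    set A := Subgroup.closure ({v, w} : Set G) with hA
    obtain ⟨t₀, ht₀H, ht₀⟩ := exists_invol_mem hH.2.1
    obtain ⟨g, hg⟩ := isConj_iff.1 (exists_conj_fixing hH ht₀ hv)
    set c := g • ((1 : G) : G ⧸ H)
    have hvc : v • c = c := hg ▸ conj_fixes.2 (fixed_one_iff.2 ht₀H)
    have hfixc : ∀ z : G, orderOf z = 2 → z • c = c → ∀ x : G, Commute x z → x • c = c := by
      intro z hz hzc x hx
      refine fixed_unique hH hz ?_ hzc
      rw [smul_smul, ← hx.eq, mul_smul, hzc]
    have hwc : w • c = c := hfixc v hv hvc w hc.symm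
    have hAc : A ≤ stabilizer G c := (closure_le _).2 (by rintro z (rfl | rfl) <;> assumption)
    have hA2 : ∀ z ∈ A, z ^ 2 = 1 := fun z hz => by
      rw [sq]; exact congrArg Subtype.val (IsKleinFour.mul_self (⟨z, hz⟩ : A))
    have hAe : Cfsg.IsElementaryAbelian 2 A := by
      refine ⟨⟨⟨fun a b => ?_⟩⟩, hA2⟩
      exact (IsKleinFour.isMulCommutative (G := A)).is_comm.comm a b
    refine hi v hvL hv c ?_ hvc
    refine CfsgLib.SolvSignalizer.le_of_fixed_points (p := 2) hAe (by rw [IsKleinFour.card_four]; norm_num)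
      (X := R) ((closure_le _).2 (by rintro z (rfl | rfl) <;> assumption)) ?_ fun z hz hz1 x hx => ?_
    · intro h2
      obtain ⟨k, hk⟩ := hR.1.exists_card_eq
      rw [hk] at h2
      exact hp2 ((Nat.prime_dvd_prime_iff_eq Nat.prime_two hp.out).1 (Nat.prime_two.dvd_of_dvd_pow h2)).symm
    · exact hfixc z (orderOf_eq_prime (hA2 z hz) hz1) (hAc hz) x
        (mem_centralizer_singleton_iff.1 (mem_inf.1 hx).2)
  -- (iv) the orbits of the core
  set O := (Cfsg.pPrimeCore 2 L).map L.subtype with hO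
  have hOodd : Odd (Nat.card O) := by
    rw [hO, card_map_of_injective L.subtype_injective, Nat.odd_iff]
    have := CfsgLib.Coprime.pPrimeCore_not_dvd (G := L) Nat.prime_two
    omega
  set a : G ⧸ H := ((1 : G) : G ⧸ H) with ha'
  have ha : a ∈ F := fun r hr => mem_stabilizer_iff.2 (fixed_one_iff.2 (hRH hr))
  set b := y • a with hb'
  have hb : b ∈ F := hFL y hy.1 a ha
  have hab : a ≠ b := fun h => hyH (fixed_one_iff.1 h.symm)
  have horb : ∀ a ∈ F, ∀ b ∈ F, ∀ c ∈ F, a ≠ b → c ≠ a → c ∈ orbit O b := by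
    intro a ha b hb c hc hab hca
    obtain ⟨v, hvL, hv, hva⟩ := hsw a ha b hb hab
    obtain ⟨w, hwL, hw, hwa⟩ := hsw a ha c hc hca.symm
    have hwv : w * v ∈ O := ⟨⟨w, hwL⟩ * ⟨v, hvL⟩, mul_mem_oddCore hK
      (by rw [← Subgroup.orderOf_coe]; exact hw) (by rw [← Subgroup.orderOf_coe]; exact hv), rfl⟩
    refine ⟨⟨_, hwv⟩, ?_⟩
    show (w * v) • b = c
    rw [mul_smul, ← hva, invol_smul_smul hv, hwa]
  have hyy : Odd (orderOf y) := by
    obtain ⟨k, hk⟩ := IsPGroup.iff_orderOf.1 P.isPGroup' ⟨y, hy.2⟩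
    rw [← Subgroup.orderOf_coe] at hk
    simp only at hk
    rw [hk]
    exact (hp.out.odd_of_ne_two hp2).pow
  have hcy : y • b ≠ a := by
    intro h
    obtain ⟨j, hj⟩ := hyy
    have h2 : ∀ i : ℕ, (y * y) ^ i • a = a := fun i => by
      induction i with
      | zero => rw [pow_zero, one_smul]
      | succ i ih => rw [pow_succ, mul_smul, mul_smul, ← hb', h, ih]
    refine hab ?_
    have := pow_orderOf_eq_one y
    rw [hj, pow_succ', two_mul, pow_add, ← (Commute.refl y).mul_pow] at this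
    have h3 := congrArg (fun z : G => z • a) this
    simp only [mul_smul, one_smul, h2] at h3
    exact h3.symm
  have hcb : y • b ≠ b := fun h => hab (smul_left_cancel y (hb' ▸ h.symm : y • a = y • b))
  have hc := hFL y hy.1 b hb
  have hba : b ∈ orbit O a := by
    have h1 := horb a ha b hb _ hc hab hcy
    have h2 := horb b hb a ha _ hc hab.symm hcb
    rw [← orbit_eq_iff] at h1 h2 ⊢
    exact h1.symm.trans h2
  have hall : ∀ c ∈ F, c ∈ orbit O a := by
    intro c hc
    by_cases hca : c = a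
    · rw [hca]; exact mem_orbit_self a
    · have h1 := horb a ha b hb c hc hab hca
      rwa [orbit_eq_iff.2 hba] at h1
  have hOF : orbit O a = F := by
    refine Set.Subset.antisymm ?_ hall
    rintro _ ⟨o, rfl⟩
    exact hFL o (map_subtype_le _ o.2) a ha
  -- an involution of `L` moves every point of `F`
  obtain ⟨v, hvL, hv, hva⟩ := hsw a ha b hb hab
  have hFodd : Odd (Nat.card F) := by
    rw [← hOF]
    have h := card_mul_index (stabilizer O a)
    rw [index_stabilizer, ← Nat.card_coe_set_eq] at h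
    exact hOodd.of_dvd_nat ⟨_, ((mul_comm _ _).trans h).symm⟩
  let e : Equiv.Perm F :=
    { toFun := fun c => ⟨v • c.1, hFL v hvL c c.2⟩
      invFun := fun c => ⟨v • c.1, hFL v hvL c c.2⟩
      left_inv := fun c => Subtype.ext (invol_smul_smul hv _)
      right_inv := fun c => Subtype.ext (invol_smul_smul hv _) }
  have := Fintype.ofFinite F
  have he : e ^ 2 ^ 1 = 1 := by
    rw [pow_one, sq]
    exact Equiv.ext fun c => Subtype.ext (invol_smul_smul hv _)
  have hno2 : ¬ 2 ∣ Fintype.card F := by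
    rw [← Nat.card_eq_fintype_card, Nat.two_dvd_ne_zero, ← Nat.odd_iff]
    exact hFodd
  haveI := Fact.mk Nat.prime_two
  obtain ⟨c, hc'⟩ := Equiv.Perm.exists_fixed_point_of_prime (p := 2) (n := 1) hno2 he
  exact hi v hvL hv c c.2 (congrArg Subtype.val hc')

end CfsgLib.Invol.SEFixed
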