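import Cfsg.Agent.Lib.Block.Subsection
import Cfsg.Agent.Lib.Char.Integrality

/-!
# Kernels, principal blocks and cores of order prime to `p`
-/

open Finset MonoidAlgebra
open scoped ComplexConjugate

set_option linter.unusedSectionVars false

namespace CfsgLib.Invol

open Cfsg CfsgLib.Block

universe u

variable {G : Type u} [Group G]

/-- The kernel of an irreducible character as a normal subgroup. -/
theorem exists_charKernel [Finite G] (χ : IrrCharacter G) :
    ∃ N : Subgroup G, N.Normal ∧ ∀ g, g ∈ N ↔ (χ : G → ℂ) g = (χ : G → ℂ) 1 := by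
  obtain ⟨χ, n, ρ, hρ, rfl⟩ := χ
  refine ⟨MonoidHom.ker ρ, MonoidHom.normal_ker _, fun g => ?_⟩
  rw [MonoidHom.mem_ker]
  show ρ g = 1 ↔ ρ.character g = ρ.character 1
  rw [Representation.char_one, Char.char_eq_degree_iff ρ g]
  exact Iff.rfl

/-- An irreducible character that is constant is the principal one. -/
theorem eq_oneChar_of_constant [Fintype G] (χ : IrrCharacter G)
    (h : ∀ g, (χ : G → ℂ) g = (χ : G → ℂ) 1) : χ = oneChar G := by
  classical
  refine Char.irr_eq_of_inner_ne_zero ?_
  rw [classInner]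
  simp only [oneChar, h, map_one, mul_one, Finset.sum_const, Finset.card_univ, nsmul_eq_mul,
    ← Nat.card_eq_fintype_card, ← mul_assoc]
  rw [inv_mul_cancel₀ (Nat.cast_ne_zero.mpr Nat.card_pos.ne'), one_mul]
  exact Char.irr_one_ne_zero χ

variable {p : ℕ} {M : Ideal AlgInt} [M.IsMaximal] [Fintype G] [DecidableEq G]

/-- Characters of the principal block are constant on cosets of normal subgroups of order prime
to `p`. -/
theorem irr_mul_eq_of_mem_principalBlock (hM : IsPModular p M) {χ : IrrCharacter G}
    (hχ : χ ∈ principalBlock M G) (N : Subgroup G) [hNn : N.Normal] (hN : ¬ p ∣ Nat.card N)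
    (g : G) {n : G} (hn : n ∈ N) : (χ : G → ℂ) (g * n) = (χ : G → ℂ) g := by
  classical
  have hω := omegaBar_eq_of_mem isPBlock_principalBlock hχ (one_mem_principalBlock (M := M))
  obtain ⟨χ, d, ρ, hρ, rfl⟩ := χ
  set S : (Fin d → ℂ) →ₗ[ℂ] (Fin d → ℂ) := ∑ y : N, ρ (y : G) with hS
  obtain ⟨c, hc⟩ := Char.schur_scalar ρ S fun x => by
    rw [hS, Finset.sum_mul, Finset.mul_sum]
    refine Fintype.sum_equiv (MulAut.conjNormal x⁻¹).toEquiv _ _ fun y => ?_
    simp only [MulEquiv.toEquiv_eq_coe, EquivLike.coe_coe, MulAut.conjNormal_apply, ← map_mul]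
    congr 1
    group
  have hSn : S * ρ n = S := by
    rw [hS, Finset.sum_mul]
    refine Fintype.sum_equiv (Equiv.mulRight (⟨n, hn⟩ : N)) _ _ fun y => ?_
    simp [map_mul]
  rcases eq_or_ne c 0 with rfl | hc0
  · exfalso
    rw [zero_smul] at hc
    have hsum : ∑ y : N, ρ.character (y : G) = 0 := by
      simp only [Representation.character]
      rw [← map_sum, ← hS, hc, map_zero]
    set χ' : IrrCharacter G := ⟨ρ.character, d, ρ, hρ, rfl⟩ with hχ'
    have hT : ∀ x c : G, c * x * c⁻¹ ∈ (N : Set G) ↔ x ∈ (N : Set G) := fun x c =>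
      ⟨fun h => by simpa [mul_assoc] using hNn.conj_mem _ h c⁻¹, fun h => hNn.conj_mem _ h c⟩
    have key : ∀ ξ : IrrCharacter G, (∑ᶠ x ∈ (N : Set G), (ξ : G → ℂ) x / (ξ : G → ℂ) 1) =
        (∑ y : N, (ξ : G → ℂ) (y : G)) / (ξ : G → ℂ) 1 := fun ξ => by
      rw [finsum_mem_eq_toFinset_sum, Finset.sum_div,
        Finset.sum_subtype (p := fun x => x ∈ N) _ fun x => by simp]
    have h1 : omegaBar M χ' (toKC M (setSum M (N : Set G) hT)) = res M 0 := by
      rw [← memLocalIdeal_finsum_sub, key, show ∑ y : N, (χ' : G → ℂ) (y : G) = 0 from hsum,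
        zero_div, ZeroMemClass.coe_zero, sub_zero, ← ZeroMemClass.coe_zero (locRing M),
        memLocalIdeal_coe, map_zero]
    have h2 : omegaBar M (oneChar G) (toKC M (setSum M (N : Set G) hT)) =
        res M (Nat.card N : locRing M) := by
      rw [← memLocalIdeal_finsum_sub, key]
      simp [oneChar, Nat.card_eq_fintype_card]
      rw [← ZeroMemClass.coe_zero (locRing M), memLocalIdeal_coe, map_zero]
    rw [← hω, h1, map_zero, eq_comm, ← memLocalIdeal_coe] at h2
    exact hN ((memLocalIdeal_natCast hM _).mp (by simpa using h2))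
  · have hn1 : ρ n = 1 := by
      rw [hc, smul_mul_assoc] at hSn
      exact smul_right_injective _ hc0 hSn
    show ρ.character (g * n) = ρ.character g
    simp only [Representation.character, map_mul, hn1, mul_one]

variable {C : Subgroup G} [Fintype C] [Fintype (IrrCharacter C)]

/-- On a section a character of the principal block only sees the principal block of the
centralizer. -/
theorem irr_secElt_eq_blockPart (hM : IsPModular p M) {x : G} (hxp : ∃ k : ℕ, orderOf x = p ^ k)
    (hC : ∀ t : G, t ∈ C ↔ Commute t x) {χ : IrrCharacter G} (hχ : χ ∈ principalBlock M G) {y : C}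
    (hy : ¬ p ∣ orderOf y) :
    (χ : G → ℂ) (x * (y : G)) = blockPart (principalBlock M C) (secFun x C χ) y := by
  classical
  have := Fintype.ofFinite (IrrCharacter G)
  rw [show (χ : G → ℂ) (x * (y : G)) = secFun x C χ y from rfl,
    secFun_eq_sum_blockPart hM (fun t => (hC t).mp t.2) χ y
      (Finset.univ.filter fun b => IsPBlock M b) fun b => by simp]
  refine Finset.sum_eq_single _ (fun b hb hne => ?_) fun h =>
    absurd (by simp [isPBlock_principalBlock]) h
  obtain ⟨B, hB⟩ := exists_induced_centralizer hM hxp hC (Finset.mem_filter.mp hb).2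
  refine blockPart_secFun_eq_zero hM hxp hC hB (fun hmem => hne ?_) hy
  exact (isInducedBlock_principal_iff hM hB).mp
    (isPBlock_eq_of_mem hB.2.1 isPBlock_principalBlock hmem hχ)

/-- A character of the principal block is constant on the cosets of a normal subgroup of order
prime to `p` in a section. -/
theorem irr_secElt_mul (hM : IsPModular p M) {x : G} (hxp : ∃ k : ℕ, orderOf x = p ^ k)
    (hC : ∀ t : G, t ∈ C ↔ Commute t x) {χ : IrrCharacter G} (hχ : χ ∈ principalBlock M G)
    (N : Subgroup C) [N.Normal] (hN : ¬ p ∣ Nat.card N) {y n : C} (hn : n ∈ N)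
    (hy : ¬ p ∣ orderOf y) (hyn : ¬ p ∣ orderOf (y * n)) :
    (χ : G → ℂ) (x * ((y * n : C) : G)) = (χ : G → ℂ) (x * (y : G)) := by
  classical
  rw [irr_secElt_eq_blockPart hM hxp hC hχ hyn, irr_secElt_eq_blockPart hM hxp hC hχ hy,
    blockPart_eq, blockPart_eq]
  refine Finset.sum_congr rfl fun η hη => ?_
  rw [irr_mul_eq_of_mem_principalBlock hM (by simpa using hη) N hN y hn]

/-- A character outside the principal block has vanishing principal part on the elements of a
centralizer whose `p`-part has its centralizer inside. -/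
theorem blockPart_restrict_eq_zero (hM : IsPModular p M) {x : G}
    (hxp : ∃ k : ℕ, orderOf x = p ^ k) (hC : ∀ t : G, t ∈ C ↔ Commute t x) {χ : IrrCharacter G}
    (hχ : χ ∉ principalBlock M G) {h : C} {z : G} (hz : IsPPart p (h : G) z)
    (hz' : ∀ t, Commute t z → t ∈ C) :
    blockPart (principalBlock M C) (fun c : C => (χ : G → ℂ) c) h = 0 := by
  classical
  obtain ⟨B, hB⟩ := exists_induced_centralizer hM hxp hC (isPBlock_principalBlock (M := M) (G := C))
  have hB0 : B = principalBlock M G := (isInducedBlock_principal_iff hM hB).mpr rfl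
  subst hB0
  rw [blockPart_eq_sum _ (fun a v => ?_) h, ← second_main_theorem hM hB hz hz' hχ]
  · exact Finset.sum_congr rfl fun t _ => by simp
  · simp only [Subgroup.coe_mul, InvMemClass.coe_inv, Char.isClassFunction_irr χ (a : G) (v : G)]

end CfsgLib.Invol
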