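import Cfsg.Agent.Lib.Invol.CyclicNormalAbelian

/-!
# Existence of normal four-groups
-/

set_option autoImplicit false

namespace CfsgLib.Invol

open Subgroup

universe u

variable {S : Type u} [Group S]

/-- An exponent-two subgroup of a group with a cyclic subgroup of index two has order at most 4. -/
theorem card_le_four_of_frame {N : ℕ} {r e : ℤ} {a b : S} (F : CyclicFrame N r e a b)
    (E : Subgroup S) (hE : ∀ x ∈ E, x ^ 2 = 1) : Nat.card E ≤ 4 := by
  haveI := F.finite
  set A := Subgroup.zpowers a with hA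
  have h1 : Nat.card (A.subgroupOf E) ≤ 2 := by
    haveI : IsCyclic (A.subgroupOf E) := isCyclic_of_injective (E.subtype.subgroupComap A)
      fun x y h => Subtype.ext (Subtype.ext (congrArg (fun z : A => (z : S)) h))
    obtain ⟨q, hq⟩ := IsCyclic.exists_generator (α := A.subgroupOf E)
    rw [← orderOf_eq_card_of_forall_mem_zpowers hq]
    exact Nat.le_of_dvd two_pos (orderOf_dvd_of_pow_eq_one
      (Subtype.ext (Subtype.ext (by simpa using hE _ q.1.2))))
  have h2 : (A.subgroupOf E).index ≤ 2 := by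
    show A.relIndex E ≤ 2
    refine le_trans (Nat.le_of_dvd ?_ ?_) (F.index_two.le)
    · rw [F.index_two]; norm_num
    · haveI : A.Normal := Subgroup.normal_of_index_eq_two F.index_two
      exact Subgroup.relIndex_dvd_index_of_normal A E
  calc Nat.card E = Nat.card (A.subgroupOf E) * (A.subgroupOf E).index :=
        ((A.subgroupOf E).card_mul_index).symm
    _ ≤ 2 * 2 := Nat.mul_le_mul h1 h2

/-- A non-cyclic normal abelian subgroup of a 2-group yields a normal four-group. -/
theorem exists_normal_four_of_abelian [Finite S] (hS : IsPGroup 2 S) {B : Subgroup S} (hBn : B.Normal)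
    (hBab : IsMulCommutative B) (hBc : ¬ IsCyclic B) :
    ∃ U : Subgroup S, U.Normal ∧ Nat.card U = 4 ∧ ∀ x ∈ U, x ^ 2 = 1 := by
  haveI : Fact (Nat.Prime 2) := ⟨Nat.prime_two⟩
  haveI := hBn
  haveI := hBab
  -- the elements of order two in `B`
  have hcm : ∀ x ∈ B, ∀ y ∈ B, Commute x y := fun x hx y hy =>
    congrArg Subtype.val (mul_comm' (⟨x, hx⟩ : B) ⟨y, hy⟩)
  let W : Subgroup S :=
    { carrier := {x | x ∈ B ∧ x ^ 2 = 1}
      one_mem' := ⟨one_mem _, one_pow 2⟩
      mul_mem' := fun {x y} hx hy => ⟨mul_mem hx.1 hy.1, by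
        rw [(hcm x hx.1 y hy.1).mul_pow, hx.2, hy.2, one_mul]⟩
      inv_mem' := fun {x} hx => ⟨inv_mem hx.1, by rw [inv_pow, hx.2, inv_one]⟩ }
  haveI hWn : W.Normal := ⟨fun x hx g => ⟨hBn.conj_mem x hx.1 g, by
    rw [conj_pow, hx.2, mul_one, mul_inv_cancel]⟩⟩
  obtain ⟨r, y, z, hr, hy, hz, hz1, hyz⟩ :=
    Coprime.exists_elementary_pair_of_not_cyclic hBc
  have hr2 : r = 2 := by
    obtain ⟨j, hj⟩ := (hS.to_subgroup B) z
    have h1 : orderOf z = r := haveI := Fact.mk hr; orderOf_eq_prime hz hz1
    have h2 := orderOf_dvd_of_pow_eq_one hj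
    rw [h1] at h2
    exact (Nat.prime_dvd_prime_iff_eq hr Nat.prime_two).1 (hr.dvd_of_dvd_pow h2)
  subst hr2
  have hzW : (z : S) ∈ W := ⟨z.2, by simpa using congrArg Subtype.val hz⟩
  have hyW : (y : S) ∈ W := ⟨y.2, by simpa using congrArg Subtype.val hy⟩
  obtain ⟨t, htW, hto, htc⟩ := exists_fixed_of_normalized (p := 2) (P := (⊤ : Subgroup S))
    (hS.to_subgroup ⊤) (hS.to_subgroup W) (fun h => hz1 (Subtype.ext (by
      rw [h] at hzW; simpa using hzW))) (le_of_le_of_eq le_top (Subgroup.normalizer_eq_top_iff.2 hWn).symm)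
  haveI hTn : (Subgroup.zpowers t).Normal := ⟨fun w hw g => by
    obtain ⟨i, rfl⟩ := Subgroup.mem_zpowers_iff.1 hw
    rw [((show Commute g t from Subgroup.mem_centralizer_singleton_iff.1
      (htc (Subgroup.mem_top g))).zpow_right i).eq, mul_inv_cancel_right]
    exact zpow_mem (Subgroup.mem_zpowers t) i⟩
  set π := QuotientGroup.mk' (Subgroup.zpowers t) with hπ
  haveI hVn : (W.map π).Normal := Subgroup.Normal.map hWn π (QuotientGroup.mk'_surjective _)
  obtain ⟨u', hu', huo, huc⟩ := exists_fixed_of_normalized (p := 2) (P := (⊤ : Subgroup (S ⧸ Subgroup.zpowers t)))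
    ((hS.to_quotient _).to_subgroup ⊤) ((hS.to_quotient _).to_subgroup (W.map π)) (by
      rw [Ne, Subgroup.map_eq_bot_iff, QuotientGroup.ker_mk']
      intro hle
      have h2 : ∀ x ∈ W, x = 1 ∨ x = t := fun x hx => by
        obtain ⟨i, rfl⟩ := Subgroup.mem_zpowers_iff.1 (hle hx)
        rcases Int.even_or_odd' i with ⟨l, rfl | rfl⟩
        · exact Or.inl (by rw [zpow_mul, zpow_two, ← pow_two, ← hto, pow_orderOf_eq_one, one_zpow])
        · exact Or.inr (by rw [zpow_add, zpow_mul, zpow_two, ← pow_two, ← hto, pow_orderOf_eq_one,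
            one_zpow, one_mul, zpow_one])
      rcases h2 _ hzW with h | h
      · exact hz1 (Subtype.ext h)
      · rcases h2 _ hyW with h' | h'
        · exact hyz (by rw [show y = 1 from Subtype.ext h']; exact one_mem _)
        · exact hyz (by rw [show y = z from Subtype.ext (h'.trans h.symm)]
                        exact Subgroup.mem_zpowers z))
    (le_of_le_of_eq le_top (Subgroup.normalizer_eq_top_iff.2 hVn).symm)
  haveI : (Subgroup.zpowers u').Normal := ⟨fun w hw g => by
    obtain ⟨i, rfl⟩ := Subgroup.mem_zpowers_iff.1 hw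
    rw [((show Commute g u' from Subgroup.mem_centralizer_singleton_iff.1
      (huc (Subgroup.mem_top g))).zpow_right i).eq, mul_inv_cancel_right]
    exact zpow_mem (Subgroup.mem_zpowers u') i⟩
  refine ⟨(Subgroup.zpowers u').comap π, Subgroup.normal_comap π, ?_, ?_⟩
  · have h1 := ((Subgroup.zpowers u').comap π).card_mul_index
    rw [Subgroup.index_comap_of_surjective _ (QuotientGroup.mk'_surjective _)] at h1
    have h2 := (Subgroup.zpowers u').card_mul_index
    rw [Nat.card_zpowers, huo] at h2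
    have h3 := (Subgroup.zpowers t).card_mul_index
    rw [Nat.card_zpowers, hto, Subgroup.index_eq_card, ← h2] at h3
    refine Nat.eq_of_mul_eq_mul_right (Nat.pos_of_ne_zero
      (Subgroup.index_ne_zero_of_finite (H := Subgroup.zpowers u'))) ?_
    rw [h1, ← h3]; ring
  · intro x hx
    obtain ⟨w, hw, hwx⟩ : ∃ w ∈ W, π x = π w := by
      obtain ⟨i, hi⟩ := Subgroup.mem_zpowers_iff.1 (Subgroup.mem_comap.1 hx)
      obtain ⟨w, hw, hwu⟩ := hu'
      exact ⟨w ^ i, zpow_mem hw i, by rw [map_zpow, hwu, hi]⟩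
    have hle : Subgroup.zpowers t ≤ W := Subgroup.zpowers_le.2 htW
    have hxw : w⁻¹ * x ∈ W := hle (by
      rw [← QuotientGroup.eq_one_iff, ← QuotientGroup.mk'_apply, map_mul, map_inv, ← hπ, hwx,
        inv_mul_cancel])
    have := mul_mem hw hxw
    rw [mul_inv_cancel_left] at this
    exact this.2

/-- A 2-group with an elementary subgroup of order at least 8 has a normal four-group. -/
theorem exists_normal_four [Finite S] (hS : IsPGroup 2 S) (E : Subgroup S)
    (hE : ∀ x ∈ E, x ^ 2 = 1) (hcard : 4 < Nat.card E) :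
    ∃ U : Subgroup S, U.Normal ∧ Nat.card U = 4 ∧ ∀ x ∈ U, x ^ 2 = 1 := by
  haveI : Fact (Nat.Prime 2) := ⟨Nat.prime_two⟩
  obtain ⟨B, hBn, hBab, hBc⟩ : ∃ B : Subgroup S, B.Normal ∧ IsMulCommutative B ∧ ¬ IsCyclic B := by
    by_contra hall
    push Not at hall
    rcases cyclic_or_std hS hall with hc | ⟨-, k, r, e, a, b, -, F, -⟩
    · obtain ⟨q, hq⟩ := IsCyclic.exists_generator (α := E)
      rw [← orderOf_eq_card_of_forall_mem_zpowers hq] at hcard
      have := Nat.le_of_dvd two_pos
        (orderOf_dvd_of_pow_eq_one (Subtype.ext (by simpa using hE _ q.2) : q ^ 2 = 1))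
      omega
    · exact absurd (card_le_four_of_frame F E hE) (by omega)
  exact exists_normal_four_of_abelian hS hBn hBab hBc

end CfsgLib.Invol

namespace CfsgLib.Invol

open Subgroup

/-- The centralizer of a normal four-group in a 2-group has index at most two. -/
theorem relIndex_centralizer_four {S : Type*} [Group S] [Finite S] (hS : IsPGroup 2 S)
    (U : Subgroup S) [U.Normal] (hU : Nat.card U = 4) :
    (Subgroup.centralizer (U : Set S)).index ∣ 2 := by
  haveI : Fact (Nat.Prime 2) := ⟨Nat.prime_two⟩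
  classical
  let φ : S →* Equiv.Perm {u : U // u ≠ 1} :=
    { toFun := fun s => (MulAut.conjNormal s : MulAut U).toEquiv.subtypeEquiv fun u => by simp
      map_one' := by ext; simp
      map_mul' := fun s t => by ext; simp [mul_assoc] }
  have hker : φ.ker = Subgroup.centralizer (U : Set S) := by
    ext s
    rw [MonoidHom.mem_ker, Subgroup.mem_centralizer_iff]
    constructor
    · intro h u hu
      by_cases hu1 : (⟨u, hu⟩ : U) = 1
      · have : u = 1 := congrArg Subtype.val hu1
        simp [this]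
      · have h1 := congrArg (fun e : Equiv.Perm {u : U // u ≠ 1} => ((e ⟨⟨u, hu⟩, hu1⟩).1 : S)) h
        have h2 : s * u * s⁻¹ = u := by simpa [φ] using h1
        exact (mul_inv_eq_iff_eq_mul.1 h2).symm
    · intro h
      ext u
      have h2 := h _ u.1.2
      simp [φ, ← h2]
  have h3 : Nat.card {u : U // u ≠ 1} = 3 := by
    have := Fintype.ofFinite U
    rw [Nat.card_eq_fintype_card, Fintype.card_subtype_compl (fun u : U => u = 1),
      Fintype.card_subtype_eq, ← Nat.card_eq_fintype_card, hU]
  have h6 : Nat.card φ.range ∣ 6 := by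
    refine (Subgroup.card_subgroup_dvd_card φ.range).trans ?_
    rw [Nat.card_perm, h3]; rfl
  obtain ⟨j, hj⟩ := hS.exists_card_eq
  have h2 : Nat.card φ.range ∣ 2 ^ j := by
    rw [← hj]; exact Subgroup.card_range_dvd φ
  rw [← hker, Subgroup.index_ker]
  exact (Nat.Coprime.dvd_of_dvd_mul_left
    ((((Nat.coprime_primes Nat.prime_two Nat.prime_three).2 (by norm_num)).pow_left j).coprime_dvd_left h2)
    (show Nat.card φ.range ∣ 3 * 2 from h6))

end CfsgLib.Invol
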