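import Cfsg.Agent.Lib.Invol.Basic
import Cfsg.Agent.Lib.Invol.BaerSuzuki
import Cfsg.Agent.Lib.Coprime.Core

/-!
# Involutions outside `O₂(G)` invert an element of odd order
-/

set_option autoImplicit false

namespace CfsgLib.Invol

variable {G : Type*} [Group G]

/-- An element of odd order is a square in its cyclic group. -/
theorem exists_sqrt_of_odd {x : G} (h : Odd (orderOf x)) :
    ∃ k ∈ Subgroup.zpowers x, k * k = x := by
  obtain ⟨m, hm⟩ := h
  refine ⟨x ^ (m + 1), Subgroup.npow_mem_zpowers x _, ?_⟩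
  rw [← pow_add, show m + 1 + (m + 1) = orderOf x + 1 by omega, pow_succ, pow_orderOf_eq_one,
    one_mul]

/-- An element of odd order with square one is trivial. -/
theorem eq_one_of_odd_of_mul_self {x : G} (h : Odd (orderOf x)) (h2 : x * x = 1) : x = 1 := by
  rcases (Nat.dvd_prime Nat.prime_two).1 (orderOf_dvd_of_pow_eq_one (show x ^ 2 = 1 by rw [pow_two]; exact h2)) with h1 | h1
  · exact orderOf_eq_one_iff.1 h1
  · rw [h1] at h; exact absurd h (by decide)

/-- Baer–Suzuki, for involutions: outside `O₂(G)` an involution inverts a nontrivial element of odd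
order. -/
theorem exists_odd_inverted_of_notMem_pCore [Finite G] {a : G} (ha : orderOf a = 2)
    (hO : a ∉ Cfsg.pCore 2 G) :
    ∃ x : G, x ≠ 1 ∧ Odd (orderOf x) ∧ a * x * a⁻¹ = x⁻¹ := by
  haveI : Fact (Nat.Prime 2) := ⟨Nat.prime_two⟩
  by_contra hc
  apply hO
  suffices hall : ∀ g : G, IsPGroup 2 (Subgroup.closure ({a, g * a * g⁻¹} : Set G)) by
    obtain ⟨N, hN, hNp, haN⟩ := exists_normal_pGroup_mem hall
    haveI := hN
    exact CfsgLib.Coprime.le_pCore hNp haN
  intro g
  have hb : orderOf (g * a * g⁻¹) = 2 := invol_conj ha g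
  set r := a * (g * a * g⁻¹) with hr
  have hr0 : orderOf r ≠ 0 := (orderOf_pos r).ne'
  have hd : 2 ^ (orderOf r).factorization 2 ∣ orderOf r := Nat.ordProj_dvd _ _
  have hxo : orderOf (r ^ (2 ^ (orderOf r).factorization 2)) =
      orderOf r / 2 ^ (orderOf r).factorization 2 := odd_dvd_orderOf hd
  have hodd : Odd (orderOf (r ^ (2 ^ (orderOf r).factorization 2))) := by
    rw [hxo, Nat.odd_iff]
    have := Nat.not_dvd_ordCompl Nat.prime_two hr0
    omega
  have hinv : a * r ^ (2 ^ (orderOf r).factorization 2) * a⁻¹ =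
      (r ^ (2 ^ (orderOf r).factorization 2))⁻¹ := by
    rw [← conj_pow, hr, invol_conj_mul ha hb, inv_pow]
  have h1 : r ^ (2 ^ (orderOf r).factorization 2) = 1 := by
    by_contra h
    exact hc ⟨_, h, hodd, hinv⟩
  obtain ⟨j, -, hj⟩ := (Nat.dvd_prime_pow Nat.prime_two).1 (orderOf_dvd_of_pow_eq_one h1)
  exact IsPGroup.of_card (n := j + 1) (by rw [card_closure_pair ha hb, ← hr, hj, pow_succ'])

end CfsgLib.Invol
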