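import Cfsg.Agent.Lib.Invol.Signalizer

/-!
# The transitivity theorem for solvable signalizer functors and its consequences
-/

set_option autoImplicit false
set_option linter.unusedSectionVars false
set_option linter.style.haveILetI false

namespace CfsgLib.Invol

open Subgroup
open CfsgLib.Coprime

universe u

variable {G : Type u} [Group G] [Finite G] {p : ℕ} [hp : Fact p.Prime]
variable {A : Subgroup G} {θ : G → Subgroup G} {q : ℕ} [hq : Fact q.Prime]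

theorem signalizerInf_le_theta {a : G} (ha : a ∈ A) (ha1 : a ≠ 1) :
    Cfsg.signalizerInf A θ ≤ θ a :=
  iInf_le (fun a : {a : G // a ∈ A ∧ a ≠ 1} => θ (a : G)) ⟨a, ha, ha1⟩

theorem signalizerInf_le_centralizer (hθ : Cfsg.IsSolvableSignalizerFunctor p A θ) :
    Cfsg.signalizerInf A θ ≤ centralizer (A : Set G) := by
  intro x hx
  rw [mem_centralizer_iff]
  intro b hb
  rcases eq_or_ne b 1 with rfl | hb1
  · rw [one_mul, mul_one]
  · exact mem_centralizer_iff.1 (hθ.1.1 b hb hb1 (signalizerInf_le_theta hb hb1 hx)) b rfl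

theorem mem_signalizerInf_of_centralizer (hθ : Cfsg.IsSolvableSignalizerFunctor p A θ) {a x : G}
    (ha : a ∈ A) (ha1 : a ≠ 1) (hx : x ∈ θ a) (hxA : x ∈ centralizer (A : Set G)) :
    x ∈ Cfsg.signalizerInf A θ := by
  refine Subgroup.mem_iInf.2 fun b => hθ.1.2.2.2 a ha ha1 b.1 b.2.1 b.2.2 ⟨hx, ?_⟩
  exact centralizer_le (Set.singleton_subset_iff.2 b.2.1) hxA

theorem conjBy_mem_family (hθ : Cfsg.IsSolvableSignalizerFunctor p A θ) {c : G}
    (hc : c ∈ Cfsg.signalizerInf A θ) {U : Subgroup G} (hU : U ∈ Cfsg.signalizerFamily p A θ) :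
    conjBy c U ∈ Cfsg.signalizerFamily p A θ := by
  have hcA := signalizerInf_le_centralizer hθ hc
  refine ⟨isSolvable_conjBy hU.1, by rw [card_conjBy]; exact hU.2.1,
    fun b hb u hu => conj_mem_of_le_normalizer
      (normalizer_conjBy_le hcA (family_normalizer hU)) hb hu, ?_⟩
  intro a ha ha1 x hx
  obtain ⟨hxU, hxa⟩ := Subgroup.mem_inf.1 hx
  rw [mem_conjBy] at hxU
  have hca : c ∈ centralizer ({a} : Set G) := centralizer_le (Set.singleton_subset_iff.2 ha) hcA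
  have hcθ := signalizerInf_le_theta ha ha1 hc
  have := mul_mem (mul_mem hcθ (hU.2.2.2 a ha ha1
    (Subgroup.mem_inf.2 ⟨hxU, mul_mem (mul_mem (inv_mem hca) hxa) hca⟩))) (inv_mem hcθ)
  rwa [show c * (c⁻¹ * x * c) * c⁻¹ = x by group] at this

/-- The maximal `q`-members of the family. -/
def IsMaxMember (p : ℕ) (A : Subgroup G) (θ : G → Subgroup G) (q : ℕ) (Q : Subgroup G) : Prop :=
  Q ∈ Cfsg.signalizerFamily p A θ ∧ IsPGroup q Q ∧
    ∀ R ∈ Cfsg.signalizerFamily p A θ, IsPGroup q R → Q ≤ R → R = Q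

theorem exists_maxMember_ge {U : Subgroup G} (hU : U ∈ Cfsg.signalizerFamily p A θ)
    (hUq : IsPGroup q U) : ∃ Q : Subgroup G, IsMaxMember p A θ q Q ∧ U ≤ Q := by
  obtain ⟨Q, hUQ, hQ⟩ := exists_maximal_ge_of_wellFoundedGT
    (fun W : Subgroup G => W ∈ Cfsg.signalizerFamily p A θ ∧ IsPGroup q W) U ⟨hU, hUq⟩
  exact ⟨Q, ⟨hQ.prop.1, hQ.prop.2, fun R h1 h2 h3 => (hQ.eq_of_le ⟨h1, h2⟩ h3).symm⟩, hUQ⟩

theorem isPGroup_conjBy {Q : Subgroup G} (h : IsPGroup q Q) (c : G) : IsPGroup q (conjBy c Q) := by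
  obtain ⟨n, hn⟩ := IsPGroup.iff_card.1 h
  exact IsPGroup.of_card (n := n) (by rw [card_conjBy]; exact hn)

theorem isMaxMember_conjBy (hθ : Cfsg.IsSolvableSignalizerFunctor p A θ) {c : G}
    (hc : c ∈ Cfsg.signalizerInf A θ) {Q : Subgroup G} (hQ : IsMaxMember p A θ q Q) :
    IsMaxMember p A θ q (conjBy c Q) := by
  refine ⟨conjBy_mem_family hθ hc hQ.1, isPGroup_conjBy hQ.2.1 c, fun R hR hRq hle => ?_⟩
  have h1 : Q ≤ conjBy c⁻¹ R := by
    intro x hx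
    rw [mem_conjBy, inv_inv]
    exact hle (conj_mem_conjBy hx)
  have h2 := hQ.2.2 _ (conjBy_mem_family hθ (inv_mem hc) hR) (isPGroup_conjBy hRq _) h1
  rw [← h2, conjBy_conjBy, mul_inv_cancel, conjBy_one]

theorem isPGroup_sup {D P : Subgroup G} (hD : IsPGroup q D) (hP : IsPGroup q P)
    (h : P ≤ normalizer (D : Set G)) : IsPGroup q ↥(D ⊔ P) := by
  obtain ⟨m, hm⟩ := IsPGroup.iff_card.1 hP
  obtain ⟨n, hn⟩ := IsPGroup.iff_card.1 hD
  have hd := card_sup_dvd_of_le_normalizer h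
  rw [hm, hn, ← pow_add, sup_comm] at hd
  obtain ⟨k, -, hk⟩ := (Nat.dvd_prime_pow hq.out).1 hd
  exact IsPGroup.of_card hk

theorem card_lt_of_not_le {D C X : Subgroup G} (hDX : D ≤ X) (hCX : C ≤ X) (h : ¬ C ≤ D) :
    Nat.card D < Nat.card X := by
  refine lt_of_le_of_ne (Nat.le_of_dvd Nat.card_pos (card_dvd_of_le hDX)) fun e => h ?_
  rw [eq_of_le_of_card_ge hDX e.ge]
  exact hCX

theorem maxMember_conj (hA : Cfsg.IsElementaryAbelian p A) (hA3 : p ^ 3 ≤ Nat.card A)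
    (hθ : Cfsg.IsSolvableSignalizerFunctor p A θ) (hqp : q ≠ p) :
    ∀ (n : ℕ) (Q₁ Q₂ : Subgroup G), IsMaxMember p A θ q Q₁ → IsMaxMember p A θ q Q₂ →
      Nat.card G - Nat.card ↥(Q₁ ⊓ Q₂) = n →
      ∃ c ∈ Cfsg.signalizerInf A θ, conjBy c Q₁ = Q₂ := by
  intro n
  induction n using Nat.strongRecOn with
  | ind n ih =>
  intro Q₁ Q₂ h₁ h₂ hn
  by_cases hD₁ : Q₁ ⊓ Q₂ = Q₁
  · refine ⟨1, one_mem _, ?_⟩
    rw [conjBy_one]
    exact (h₁.2.2 Q₂ h₂.1 h₂.2.1 (inf_eq_left.1 hD₁)).symm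
  by_cases hD₂ : Q₁ ⊓ Q₂ = Q₂
  · refine ⟨1, one_mem _, ?_⟩
    rw [conjBy_one]
    exact h₂.2.2 Q₁ h₁.1 h₁.2.1 (inf_eq_right.1 hD₂)
  obtain ⟨a, haA, ha1, hC₁, hC₂⟩ := exists_common_fixing hA hA3 hqp h₁.2.1 h₂.2.1
    (family_normalizer h₁.1) (family_normalizer h₂.1) hD₁ hD₂
  set D := Q₁ ⊓ Q₂ with hDdef
  set C₁ := normalizer (D : Set G) ⊓ Q₁ ⊓ centralizer {a} with hC₁def
  set C₂ := normalizer (D : Set G) ⊓ Q₂ ⊓ centralizer {a} with hC₂def
  set M := θ a ⊓ normalizer (D : Set G) with hMdef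
  have hDinv : A ≤ normalizer (D : Set G) :=
    inf_le_normalizer (family_normalizer h₁.1) (family_normalizer h₂.1)
  have hAa : A ≤ centralizer ({a} : Set G) := by
    intro x hx
    rw [mem_centralizer_singleton_iff]
    haveI := hA.1
    exact congrArg Subtype.val (mul_comm' (⟨x, hx⟩ : A) ⟨a, haA⟩)
  have hWa := theta_mem_family hθ haA ha1
  have hMinv : A ≤ normalizer (M : Set G) :=
    inf_le_normalizer (family_normalizer hWa) (hDinv.trans le_normalizer)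
  have hcop : (Nat.card A).Coprime (Nat.card M) :=
    coprime_card_of_not_dvd (isPGroup_of_isElementaryAbelian hA)
      fun h => hWa.2.1 (h.trans (card_dvd_of_le inf_le_left))
  have hsolv : Group.IsSolvable A ∨ Group.IsSolvable M :=
    Or.inl (isSolvable_of_isMulCommutative hA.1)
  have hCM : ∀ Q : Subgroup G, Q ∈ Cfsg.signalizerFamily p A θ →
      normalizer (D : Set G) ⊓ Q ⊓ centralizer {a} ≤ M ∧
      A ≤ normalizer ((normalizer (D : Set G) ⊓ Q ⊓ centralizer {a} : Subgroup G) : Set G) :=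
    fun Q hQ => ⟨le_inf ((inf_le_inf_right _ inf_le_right).trans (hQ.2.2.2 a haA ha1))
      (inf_le_left.trans inf_le_left),
      inf_le_normalizer (inf_le_normalizer (hDinv.trans le_normalizer) (family_normalizer hQ))
        (hAa.trans le_normalizer)⟩
  obtain ⟨P₁, hP₁s, hC₁P, hP₁A⟩ := le_invariant_sylow hMinv hcop hsolv (hCM Q₁ h₁.1).1
    (h₁.2.1.to_le (inf_le_left.trans inf_le_right)) (hCM Q₁ h₁.1).2
  obtain ⟨P₂, hP₂s, hC₂P, hP₂A⟩ := le_invariant_sylow hMinv hcop hsolv (hCM Q₂ h₂.1).1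
    (h₂.2.1.to_le (inf_le_left.trans inf_le_right)) (hCM Q₂ h₂.1).2
  obtain ⟨c, hc, hcP⟩ := invariant_sylow_conj hMinv hcop hsolv hP₁s hP₂s hP₁A hP₂A
  obtain ⟨hcM, hcA⟩ := Subgroup.mem_inf.1 hc
  obtain ⟨hcθ, hcD⟩ := Subgroup.mem_inf.1 hcM
  have hcZ := mem_signalizerInf_of_centralizer hθ haA ha1 hcθ hcA
  have hDW := mem_family_of_le h₁.1 inf_le_left hDinv
  have hT : ∀ P : Subgroup G, IsSylowIn q P M → A ≤ normalizer (P : Set G) →
      ∃ S : Subgroup G, IsMaxMember p A θ q S ∧ D ⊔ P ≤ S := by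
    intro P hP hPA
    refine exists_maxMember_ge (sup_mem_family hA hDW
      (mem_family_of_le hWa (hP.1.trans inf_le_left) hPA) (hP.1.trans inf_le_right)) ?_
    exact isPGroup_sup (h₁.2.1.to_le inf_le_left) hP.isPGroup (hP.1.trans inf_le_right)
  obtain ⟨S₁, hS₁, hT₁⟩ := hT P₁ hP₁s hP₁A
  obtain ⟨S₂, hS₂, hT₂⟩ := hT P₂ hP₂s hP₂A
  obtain ⟨hDS₁, hPS₁⟩ := sup_le_iff.1 hT₁
  obtain ⟨hDS₂, hPS₂⟩ := sup_le_iff.1 hT₂
  have hmeas : ∀ {X : Subgroup G}, Nat.card D < Nat.card X → Nat.card G - Nat.card X < n := by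
    intro X hX
    have := card_le_card_group X
    omega
  obtain ⟨c₁, hc₁, e₁⟩ := ih _ (hmeas (card_lt_of_not_le (le_inf inf_le_left hDS₁)
    (le_inf (inf_le_left.trans inf_le_right) (hC₁P.trans hPS₁)) hC₁)) Q₁ S₁ h₁ hS₁ rfl
  have hS₁' := isMaxMember_conjBy hθ hcZ hS₁
  have hDS₁' : D ≤ conjBy c S₁ := by
    have : conjBy c D = D := conjBy_eq_self_iff.2 hcD
    rw [← this]
    exact map_mono hDS₁
  have hPS₁' : P₂ ≤ conjBy c S₁ := by
    rw [← hcP]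
    exact map_mono hPS₁
  obtain ⟨c₂, hc₂, e₂⟩ := ih _ (hmeas (card_lt_of_not_le (le_inf hDS₁' hDS₂)
    (le_inf (hC₂P.trans hPS₁') (hC₂P.trans hPS₂)) hC₂)) _ S₂ hS₁' hS₂ rfl
  obtain ⟨c₃, hc₃, e₃⟩ := ih _ (hmeas (card_lt_of_not_le (le_inf hDS₂ inf_le_right)
    (le_inf (hC₂P.trans hPS₂) (inf_le_left.trans inf_le_right)) hC₂)) S₂ Q₂ hS₂ h₂ rfl
  refine ⟨c₃ * (c₂ * (c * c₁)), mul_mem hc₃ (mul_mem hc₂ (mul_mem hcZ hc₁)), ?_⟩
  rw [← conjBy_conjBy, ← conjBy_conjBy, ← conjBy_conjBy, e₁, e₂, e₃]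

theorem isSylowIn_of_max {Q H : Subgroup G} {S : Subgroup G} (hS : IsSylowIn q S H)
    (hSQ : S ≤ Q) (hQ : IsPGroup q Q) : IsSylowIn q (Q ⊓ H) H := by
  have hle : S ≤ Q ⊓ H := le_inf hSQ hS.1
  refine ⟨inf_le_right, ?_⟩
  obtain ⟨k, hk⟩ := IsPGroup.iff_card.1 (hQ.to_le (inf_le_left : Q ⊓ H ≤ Q))
  refine le_antisymm ?_ (hS.2 ▸ Nat.le_of_dvd Nat.card_pos (card_dvd_of_le hle))
  rw [hk]
  exact Nat.pow_le_pow_right hq.out.pos
    ((hq.out.pow_dvd_iff_le_factorization Nat.card_pos.ne').1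
      (hk ▸ card_dvd_of_le inf_le_right))

theorem exists_sylow_inter (hA : Cfsg.IsElementaryAbelian p A) (hA3 : p ^ 3 ≤ Nat.card A)
    (hθ : Cfsg.IsSolvableSignalizerFunctor p A θ) (hqp : q ≠ p) {Q H : Subgroup G}
    (hQ : IsMaxMember p A θ q Q) (hH : H ∈ Cfsg.signalizerFamily p A θ) :
    ∃ c ∈ Cfsg.signalizerInf A θ, IsSylowIn q (conjBy c Q ⊓ H) H := by
  obtain ⟨S, hS, hSA⟩ := exists_invariant_sylow (A := A) (K := H) (family_normalizer hH)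
    (coprime_card_of_not_dvd (isPGroup_of_isElementaryAbelian hA) hH.2.1)
    (Or.inl (isSolvable_of_isMulCommutative hA.1)) q
  obtain ⟨R, hR, hSR⟩ := exists_maxMember_ge (mem_family_of_le hH hS.1 hSA) hS.isPGroup
  obtain ⟨c, hc, e⟩ := maxMember_conj hA hA3 hθ hqp _ Q R hQ hR rfl
  exact ⟨c, hc, e ▸ isSylowIn_of_max hS hSR hR.2.1⟩

theorem ne_bot_of_card {k : ℕ} (hk : k ≠ 0) (hA3 : p ^ k ≤ Nat.card A) : A ≠ ⊥ := by
  rintro rfl
  rw [card_bot] at hA3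
  exact absurd hA3 (not_le.2 (Nat.one_lt_pow hk hp.out.one_lt))

theorem signalizerInf_mem_family (hθ : Cfsg.IsSolvableSignalizerFunctor p A θ) {B : Subgroup G}
    (hBA : B ≤ A) (hB : B ≠ ⊥) : Cfsg.signalizerInf B θ ∈ Cfsg.signalizerFamily p A θ := by
  obtain ⟨b, hb, hb1⟩ := (bot_or_exists_ne_one B).resolve_left hB
  refine mem_family_of_le (theta_mem_family hθ (hBA hb) hb1) (signalizerInf_le_theta hb hb1) ?_
  refine le_normalizer_of_forall_conj fun x hx y hy => Subgroup.mem_iInf.2 fun d => ?_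
  exact hθ.1.2.2.1 d.1 (hBA d.2.1) d.2.2 x hx y (Subgroup.mem_iInf.1 hy d)

theorem inf_signalizerInf_eq (hθ : Cfsg.IsSolvableSignalizerFunctor p A θ) {B Q : Subgroup G}
    (hBA : B ≤ A) (hQ : Q ∈ Cfsg.signalizerFamily p A θ) :
    Q ⊓ Cfsg.signalizerInf B θ = Q ⊓ centralizer (B : Set G) := by
  refine le_antisymm (inf_le_inf_left _ fun x hx => ?_) (le_inf inf_le_left fun x hx => ?_)
  · rw [mem_centralizer_iff]
    intro b hb
    rcases eq_or_ne b 1 with rfl | hb1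
    · rw [one_mul, mul_one]
    · exact mem_centralizer_iff.1 (hθ.1.1 b (hBA hb) hb1 (signalizerInf_le_theta hb hb1 hx)) b rfl
  · obtain ⟨hxQ, hxB⟩ := Subgroup.mem_inf.1 hx
    exact Subgroup.mem_iInf.2 fun d => hQ.2.2.2 d.1 (hBA d.2.1) d.2.2
      ⟨hxQ, centralizer_le (Set.singleton_subset_iff.2 d.2.1) hxB⟩

theorem isSylowIn_inf_centralizer (hA : Cfsg.IsElementaryAbelian p A) (hA3 : p ^ 3 ≤ Nat.card A)
    (hθ : Cfsg.IsSolvableSignalizerFunctor p A θ) (hqp : q ≠ p) {B Q : Subgroup G}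
    (hBA : B ≤ A) (hB : B ≠ ⊥) (hQ : IsMaxMember p A θ q Q) :
    IsSylowIn q (Q ⊓ centralizer (B : Set G)) (Cfsg.signalizerInf B θ) := by
  obtain ⟨c, hc, hS⟩ := exists_sylow_inter hA hA3 hθ hqp hQ (signalizerInf_mem_family hθ hBA hB)
  have hcB : c ∈ Cfsg.signalizerInf B θ := Subgroup.mem_iInf.2 fun d =>
    signalizerInf_le_theta (hBA d.2.1) d.2.2 hc
  have h := hS.conjBy (g := c⁻¹) (le_normalizer (inv_mem hcB))
  rw [conjBy, Subgroup.map_inf _ _ _ (MulAut.conj c⁻¹).injective, ← conjBy, ← conjBy,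
    conjBy_conjBy, inv_mul_cancel, conjBy_one, conjBy_eq_self_of_mem (inv_mem hcB),
    inf_signalizerInf_eq hθ hBA hQ.1] at h
  exact h

theorem exists_maxMember : ∃ Q : Subgroup G, IsMaxMember p A θ q Q :=
  (exists_maxMember_ge bot_mem_family IsPGroup.of_bot).imp fun _ h => h.1

end CfsgLib.Invol
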