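import Cfsg.Agent.Lib.Invol.QuaternionAut
import Cfsg.Agent.Lib.Fusion.PComplement
import Cfsg.Agent.Lib.Char.TransLinear.SL23

/-!
# Sections `SL(2, 3)` from odd automorphisms of subgroups of quaternion groups
-/

set_option autoImplicit false
set_option linter.style.haveILetI false

namespace CfsgLib.Invol

open QuaternionGroup

/-- A generalized quaternion group has one involution. -/
theorem quaternion_involution_eq {n : ℕ} {x y : QuaternionGroup (2 ^ n)}
    (hx : orderOf x = 2) (hy : orderOf y = 2) : x = y := by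
  haveI : NeZero (2 ^ n) := ⟨by positivity⟩
  suffices h : ∀ x : QuaternionGroup (2 ^ n), orderOf x = 2 → x = a ((2 ^ n : ℕ) : ZMod (2 * 2 ^ n)) by
    rw [h x hx, h y hy]
  intro x hx
  cases x with
  | xa i => rw [orderOf_xa] at hx; norm_num at hx
  | a i =>
    have h2 : (a i : QuaternionGroup (2 ^ n)) * a i = 1 := by
      have h := pow_orderOf_eq_one (a i : QuaternionGroup (2 ^ n))
      rwa [hx, pow_two] at h
    have hne : i ≠ 0 := fun h => by
      rw [h, show (a 0 : QuaternionGroup (2 ^ n)) = 1 from rfl, orderOf_one] at hx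
      norm_num at hx
    rw [a_mul_a] at h2
    have h3 : i + i = 0 := by simpa [← a_zero] using h2
    have hv : i.val < 2 * 2 ^ n := ZMod.val_lt i
    have hdvd : 2 * 2 ^ n ∣ i.val + i.val := by
      rw [← ZMod.natCast_eq_zero_iff, Nat.cast_add, ZMod.natCast_zmod_val, h3]
    have hne' : i.val ≠ 0 := fun h => hne (ZMod.val_injective _ (by rw [h, ZMod.val_zero]))
    congr 1
    rw [← ZMod.natCast_zmod_val i]
    congr 1
    obtain ⟨c, hc⟩ := hdvd
    have hc2 : c < 2 := Nat.lt_of_mul_lt_mul_left (a := 2 * 2 ^ n) (by omega)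
    interval_cases c <;> omega

/-- A subgroup of a quaternion group with a nontrivial automorphism of odd order has order eight. -/
theorem quaternion_subgroup_of_aut {H : Type*} [Group H] [Finite H] (hH : IsPGroup 2 H) {n : ℕ}
    (φ : H →* QuaternionGroup (2 ^ n)) (hφ : Function.Injective φ) (σ : MulAut H) {m : ℕ}
    (hm : Odd m) (hσ : σ ^ m = 1) (hne : σ ≠ 1) :
    Nat.card H = 8 ∧ (∃ u v : H, u * v ≠ v * u) ∧ σ ^ 3 = 1 := by
  classical
  haveI : NeZero (2 ^ n) := ⟨by positivity⟩
  obtain ⟨K, hK⟩ : ∃ K : Subgroup H,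
      K = (Subgroup.zpowers (a 1 : QuaternionGroup (2 ^ n))).comap φ := ⟨_, rfl⟩
  have ha : ∀ i : ZMod (2 * 2 ^ n), a i ∈ Subgroup.zpowers (a 1 : QuaternionGroup (2 ^ n)) := by
    intro i
    refine ⟨(i.val : ℤ), ?_⟩
    show (a 1 : QuaternionGroup (2 ^ n)) ^ (i.val : ℤ) = a i
    rw [zpow_natCast, a_one_pow, ZMod.natCast_zmod_val]
  haveI hcyc : IsCyclic K := by
    subst hK
    exact isCyclic_of_injective (φ.subgroupComap _)
      (fun u v h => Subtype.ext (hφ (congrArg Subtype.val h)))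
  have hout : ∀ x, x ∉ K → ∃ i, φ x = xa i := by
    intro x hx
    cases h : φ x with
    | a i => exact absurd (show x ∈ K by rw [hK, Subgroup.mem_comap, h]; exact ha i) hx
    | xa i => exact ⟨i, rfl⟩
  have hout4 : ∀ x, x ∉ K → orderOf x = 4 := fun x hx => by
    obtain ⟨i, hi⟩ := hout x hx
    rw [← orderOf_injective φ hφ, hi, orderOf_xa]
  have hK2 : ∀ u v : H, u ∉ K → v ∉ K → u⁻¹ * v ∈ K := by
    intro u v hu hv
    obtain ⟨k, hk⟩ := hout u hu
    obtain ⟨l, hl⟩ := hout v hv
    rw [hK, Subgroup.mem_comap, map_mul, map_inv, hk, hl]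
    show a _ ∈ _
    exact ha _
  by_cases htop : K = ⊤
  · haveI : IsCyclic H := isCyclic_of_surjective (K.subtype)
      (fun x => ⟨⟨x, htop ▸ Subgroup.mem_top x⟩, rfl⟩)
    exact absurd (aut_eq_one_of_cyclic_two_group hH σ hm hσ) hne
  obtain ⟨x₀, -, hx₀⟩ := SetLike.exists_of_lt (lt_top_iff_ne_top.2 htop)
  obtain ⟨c, hc⟩ := IsCyclic.exists_generator (α := K)
  have hgen : ∀ k ∈ K, ∃ j : ℤ, (c : H) ^ j = k := fun k hk => by
    obtain ⟨j, hj⟩ := Subgroup.mem_zpowers_iff.1 (hc ⟨k, hk⟩)
    exact ⟨j, by simpa using congrArg Subtype.val hj⟩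
  have hfix : ∀ τ : MulAut H, τ (c : H) = c → ∀ k ∈ K, τ k = k := fun τ hτ k hk => by
    obtain ⟨j, rfl⟩ := hgen k hk
    rw [map_zpow, hτ]
  have hmove : σ (c : H) ∉ K := by
    intro h
    have hmap : ∀ k ∈ K, σ k ∈ K := fun k hk => by
      obtain ⟨j, rfl⟩ := hgen k hk
      rw [map_zpow]
      exact zpow_mem h j
    let e : K →* K :=
      { toFun := fun k => ⟨σ k, hmap k k.2⟩
        map_one' := Subtype.ext (map_one σ)
        map_mul' := fun u v => Subtype.ext (map_mul σ (u : H) (v : H)) }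
    have he : Function.Bijective e := Finite.injective_iff_bijective.1 fun u v h =>
      Subtype.ext (σ.injective (congrArg Subtype.val h))
    let σK : MulAut K := MulEquiv.ofBijective e he
    have hit : ∀ (i : ℕ) (k : K), (((σK ^ i) k : K) : H) = (σ ^ i) (k : H) := by
      intro i
      induction i with
      | zero => simp
      | succ i ih => intro k; rw [pow_succ', pow_succ', MulAut.mul_apply, MulAut.mul_apply, ← ih]; rfl
    have h1 : σK = 1 := aut_eq_one_of_cyclic_two_group (hH.to_subgroup K) σK hm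
      (MulEquiv.ext fun k => Subtype.ext (by rw [hit, hσ]; rfl))
    refine hne (aut_eq_one_of_fix_index_two hH σ hm hσ K hK2 (hfix σ ?_))
    exact congrArg (fun s : MulAut K => ((s c : K) : H)) h1
  have hc4 : orderOf (c : H) = 4 := by rw [← MulEquiv.orderOf_eq σ, hout4 _ hmove]
  have hKcard : Nat.card K = 4 := by
    rw [← hc4, Subgroup.orderOf_coe]
    exact (orderOf_eq_card_of_forall_mem_zpowers hc).symm
  have hidx : K.index = 2 := by
    rw [Subgroup.index_eq_two_iff]
    refine ⟨x₀, fun b => ?_⟩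
    by_cases hb : b ∈ K
    · exact Or.inr ⟨hb, fun h => hx₀ ((mul_mem_cancel_left hb).1 h)⟩
    · refine Or.inl ⟨?_, hb⟩
      have hbi : b⁻¹ ∉ K := fun h => hb (K.inv_mem_iff.1 h)
      have := hK2 b⁻¹ x₀ hbi hx₀
      rwa [inv_inv] at this
  have h8 : Nat.card H = 8 := by rw [← K.card_mul_index, hKcard, hidx]
  refine ⟨h8, ⟨x₀, c, fun h => ?_⟩, ?_⟩
  · obtain ⟨i, hi⟩ := hout x₀ hx₀
    cases hcφ : φ (c : H) with
    | xa j =>
      have : φ (c : H) ∈ Subgroup.zpowers (a 1 : QuaternionGroup (2 ^ n)) := (SetLike.ext_iff.1 hK _).1 c.2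
      rw [hcφ] at this
      obtain ⟨k, hk⟩ := Subgroup.mem_zpowers_iff.1 this
      obtain ⟨r, hr⟩ := (isOfFinOrder_of_finite (a 1 : QuaternionGroup (2 ^ n))).mem_powers_iff_mem_zpowers.2
        (Subgroup.mem_zpowers_iff.2 ⟨k, hk⟩)
      simp [a_one_pow] at hr
    | a j =>
      have h' := congrArg φ h
      rw [map_mul, map_mul, hi, hcφ, xa_mul_a, a_mul_xa] at h'
      have h2 : (a j : QuaternionGroup (2 ^ n)) ^ 2 = 1 := by
        rw [pow_two, a_mul_a, ← a_zero]
        congr 1
        have h3 : i + j = i - j := xa.injEq _ _ ▸ h'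
        linear_combination h3
      rw [← hcφ, ← map_pow] at h2
      have h5 : (c : H) ^ 2 = 1 := hφ (by rw [h2, map_one])
      have := orderOf_dvd_of_pow_eq_one h5
      rw [hc4] at this
      norm_num at this
  -- the orbit of `c` has at most three elements
  refine aut_eq_one_of_fix_index_two hH (σ ^ 3) hm ?_ K hK2 (hfix _ ?_)
  · rw [← pow_mul, mul_comm, pow_mul, hσ, one_pow]
  have hex : ∃ k, 0 < k ∧ (σ ^ k) (c : H) = c := ⟨m, hm.pos, by rw [hσ, MulAut.one_apply]⟩
  set k := Nat.find hex with hk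
  obtain ⟨hk0, hkc⟩ := Nat.find_spec hex
  have hmul : ∀ j : ℕ, (σ ^ (k * j)) (c : H) = c := by
    intro j
    induction j with
    | zero => simp
    | succ j ih => rw [Nat.mul_succ, pow_add, MulAut.mul_apply, hkc, ih]
  have hkm : k ∣ m := by
    rw [Nat.dvd_iff_mod_eq_zero]
    by_contra h0
    refine Nat.find_min hex (Nat.mod_lt m hk0) ⟨Nat.pos_of_ne_zero h0, ?_⟩
    have := congrArg (fun s : MulAut H => s (c : H)) hσ
    simp only [MulAut.one_apply] at this
    rw [← Nat.mod_add_div m k, pow_add, MulAut.mul_apply, hmul] at this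
    exact this
  have hodd : Odd k := hm.of_dvd_nat hkm
  have hinv : ∀ d : ℕ, (σ ^ d) (c : H) ≠ (c : H)⁻¹ := by
    intro d hd
    have hpar : ∀ j : ℕ, (σ ^ (d * (2 * j + 1))) (c : H) = (c : H)⁻¹ := by
      intro j
      induction j with
      | zero => simpa using hd
      | succ j ih =>
        rw [show d * (2 * (j + 1) + 1) = d + d + d * (2 * j + 1) by ring, pow_add, pow_add,
          MulAut.mul_apply, MulAut.mul_apply, ih, map_inv, map_inv, hd, map_inv, hd, inv_inv]
    obtain ⟨j, hj⟩ := hm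
    have h1 := hpar j
    rw [← hj, mul_comm, pow_mul, hσ, one_pow, MulAut.one_apply] at h1
    have h5 : (c : H) ^ 2 = 1 := by rw [pow_two]; nth_rewrite 1 [h1]; rw [inv_mul_cancel]
    have := orderOf_dvd_of_pow_eq_one h5
    rw [hc4] at this
    norm_num at this
  have hord : ∀ i : ℕ, orderOf ((σ ^ i) (c : H)) = 4 := fun i => by rw [MulEquiv.orderOf_eq, hc4]
  let f : Fin k ⊕ Fin k ⊕ Fin 2 → H := Sum.elim (fun i => (σ ^ (i : ℕ)) (c : H))
    (Sum.elim (fun i => ((σ ^ (i : ℕ)) (c : H))⁻¹) (fun i => (c : H) ^ (2 * (i : ℕ))))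
  have hshift : ∀ i j : ℕ, i ≤ j → (σ ^ i) (c : H) = (σ ^ j) c → (σ ^ (j - i)) (c : H) = c := by
    intro i j hij h
    refine (σ ^ i).injective ?_
    rw [← MulAut.mul_apply, ← pow_add, Nat.add_sub_cancel' hij, h]
  have hsame : ∀ i j : Fin k, (σ ^ (i : ℕ)) (c : H) = (σ ^ (j : ℕ)) c → i = j := by
    intro i j h
    rcases le_total (i : ℕ) j with hij | hij
    · rcases Nat.eq_zero_or_pos ((j : ℕ) - i) with h0 | h0
      · exact Fin.ext (by omega)
      · exact absurd ⟨h0, hshift _ _ hij h⟩ (Nat.find_min hex (by omega))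
    · rcases Nat.eq_zero_or_pos ((i : ℕ) - j) with h0 | h0
      · exact Fin.ext (by omega)
      · exact absurd ⟨h0, hshift _ _ hij h.symm⟩ (Nat.find_min hex (by omega))
  have hcross : ∀ i j : ℕ, i < k → (σ ^ i) (c : H) ≠ ((σ ^ j) (c : H))⁻¹ := by
    intro i j hi h
    refine hinv (j + (k - i)) ?_
    have h2 := congrArg (σ ^ (k - i)) h
    rw [← MulAut.mul_apply, ← pow_add, Nat.sub_add_cancel hi.le, hkc, map_inv, ← MulAut.mul_apply,
      ← pow_add, add_comm] at h2
    exact (inv_eq_iff_eq_inv.2 h2).symm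
  have hsmall : ∀ i : Fin 2, orderOf ((c : H) ^ (2 * (i : ℕ))) ≠ 4 := fun i => by
    fin_cases i
    · simp
    · show orderOf ((c : H) ^ 2) ≠ 4
      rw [orderOf_pow' _ two_ne_zero, hc4]
      norm_num
  have hinj : Function.Injective f := by
    rintro (i | i | i) (j | j | j) h <;> simp only [f, Sum.elim_inl, Sum.elim_inr] at h
    · rw [hsame i j h]
    · exact absurd h (hcross i j i.2)
    · exact absurd (h ▸ hord i) (hsmall j)
    · exact absurd h.symm (hcross j i j.2)
    · rw [hsame i j (inv_injective h)]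
    · exact absurd (h ▸ (orderOf_inv _).trans (hord i)) (hsmall j)
    · exact absurd (h.symm ▸ hord j) (hsmall i)
    · exact absurd (h.symm ▸ (orderOf_inv _).trans (hord j)) (hsmall i)
    · fin_cases i <;> fin_cases j
      · rfl
      · exfalso
        have h5 : (c : H) ^ 2 = 1 := by simpa using h.symm
        have := orderOf_dvd_of_pow_eq_one h5
        rw [hc4] at this
        norm_num at this
      · exfalso
        have h5 : (c : H) ^ 2 = 1 := by simpa using h
        have := orderOf_dvd_of_pow_eq_one h5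
        rw [hc4] at this
        norm_num at this
      · rfl
  have hle := Nat.card_le_card_of_injective f hinj
  simp only [Nat.card_sum, Nat.card_fin, h8] at hle
  obtain ⟨r, hr⟩ := hodd
  have hr2 : r < 2 := by omega
  interval_cases r
  · have := hmul 3
    rwa [show k = 1 by omega, one_mul] at this
  · have := hmul 1
    rwa [show k = 3 by omega, mul_one] at this

end CfsgLib.Invol
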