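import Cfsg.Agent.Lib.Char.Basic
import Cfsg.Agent.Lib.Char.Scalar

/-!
# Values of characters at elements of order dividing four and at central involutions
-/

open scoped ComplexConjugate

set_option autoImplicit false

namespace CfsgLib.Invol

open Cfsg Module

universe u

theorem sum_fourth_roots {ι : Type*} (s : Finset ι) (μ : ι → ℂ) (h : ∀ i ∈ s, μ i ^ 4 = 1) :
    ∃ a b c d : ℕ, (s.card = a + b + c + d) ∧ ∑ i ∈ s, μ i = ((a : ℂ) - b) + ((c : ℂ) - d) * Complex.I
      ∧ ∑ i ∈ s, μ i ^ 2 = (a : ℂ) + b - c - d := by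
  classical
  induction s using Finset.induction_on with
  | empty => exact ⟨0, 0, 0, 0, by simp, by simp, by simp⟩
  | insert i s hi ih =>
    obtain ⟨a, b, c, d, h0, h1, h2⟩ := ih fun j hj => h j (Finset.mem_insert_of_mem hj)
    have h4 := h i (Finset.mem_insert_self i s)
    have hcases : μ i = 1 ∨ μ i = -1 ∨ μ i = Complex.I ∨ μ i = -Complex.I := by
      have : (μ i - 1) * (μ i + 1) * ((μ i - Complex.I) * (μ i + Complex.I)) = 0 := by
        linear_combination h4 - (μ i ^ 2 - 1) * Complex.I_sq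
      rcases mul_eq_zero.1 this with h5 | h5 <;> rcases mul_eq_zero.1 h5 with h6 | h6
      · exact Or.inl (sub_eq_zero.1 h6)
      · exact Or.inr (Or.inl (eq_neg_of_add_eq_zero_left h6))
      · exact Or.inr (Or.inr (Or.inl (sub_eq_zero.1 h6)))
      · exact Or.inr (Or.inr (Or.inr (eq_neg_of_add_eq_zero_left h6)))
    simp only [Finset.card_insert_of_notMem hi, Finset.sum_insert hi, h1, h2, h0]
    rcases hcases with h5 | h5 | h5 | h5 <;> rw [h5]
    · exact ⟨a + 1, b, c, d, by omega, by push_cast; ring, by push_cast; ring⟩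
    · exact ⟨a, b + 1, c, d, by omega, by push_cast; ring, by push_cast; ring⟩
    · exact ⟨a, b, c + 1, d, by omega, by push_cast; ring, by push_cast; rw [Complex.I_sq]; ring⟩
    · exact ⟨a, b, c, d + 1, by omega, by push_cast; ring, by
        push_cast; rw [neg_sq, Complex.I_sq]; ring⟩

variable {G : Type u} [Group G] [Finite G]

/-- Eigenvalue counts of an element of order dividing four. -/
theorem exists_counts_four (χ : IrrCharacter G) {g : G} (hg : g ^ 4 = 1) :
    ∃ a b c d : ℕ, (χ : G → ℂ) 1 = (a : ℂ) + b + c + d ∧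
      (χ : G → ℂ) g = ((a : ℂ) - b) + ((c : ℂ) - d) * Complex.I ∧
      (χ : G → ℂ) (g ^ 2) = (a : ℂ) + b - c - d := by
  obtain ⟨χ, n, ρ, hρ, rfl⟩ := χ
  obtain ⟨bs, μ, hμ, -, hpow⟩ := Char.exists_eigen_data ρ g
  obtain ⟨a, b, c, d, h0, h1, h2⟩ := sum_fourth_roots Finset.univ μ fun i _ => by
    obtain ⟨j, hj⟩ := orderOf_dvd_of_pow_eq_one hg
    rw [hj, pow_mul, hμ i, one_pow]
  refine ⟨a, b, c, d, ?_, ?_, ?_⟩
  · show ρ.character 1 = _
    rw [Representation.char_one]
    rw [Finset.card_univ, Fintype.card_fin] at h0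
    rw [h0]; push_cast; ring
  · have := hpow 1
    simp only [pow_one] at this
    show ρ.character g = _
    rw [this, h1]
  · show ρ.character (g ^ 2) = _
    rw [hpow 2, h2]

/-- A central involution acts by a sign. -/
theorem exists_sign_of_central (χ : IrrCharacter G) {z : G} (hz : z ∈ Subgroup.center G)
    (hz2 : z * z = 1) :
    ∃ s : ℂ, (s = 1 ∨ s = -1) ∧ ∀ g, (χ : G → ℂ) (z * g) = s * (χ : G → ℂ) g := by
  have hne := Char.irr_one_ne_zero χ
  obtain ⟨χ, n, ρ, hρ, rfl⟩ := χ
  obtain ⟨s, hs⟩ := Char.exists_scalar_of_mem_center ρ hz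
  have hval : ∀ g, ρ.character (z * g) = s * ρ.character g := fun g => by
    simp only [Representation.character, map_mul, hs, smul_mul_assoc, map_smul, smul_eq_mul]
    rfl
  refine ⟨s, ?_, hval⟩
  have h1 : s * s = 1 := by
    apply mul_right_cancel₀ hne
    show s * s * ρ.character 1 = 1 * ρ.character 1
    rw [one_mul, mul_assoc, ← hval, mul_one, ← hval, hz2]
  exact mul_self_eq_one_iff.1 h1

end CfsgLib.Invol
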