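import Cfsg.Agent.Lib.Invol.CyclicIndexTwo
import Cfsg.Agent.Lib.Invol.CharTwo
import Cfsg.Prelude.Def_CaseTheorems
import Mathlib.GroupTheory.PGroup

/-!
# 2-groups of maximal class
-/

set_option autoImplicit false

namespace CfsgLib.Invol

open Subgroup
open scoped commutatorElement

variable {S : Type*} [Group S]

/-- The three standard shapes: dihedral, generalized quaternion, semidihedral. -/
def IsStdType (k : ℕ) (r e : ℤ) : Prop :=
  2 ≤ k ∧ ((r = -1 ∧ (e = 0 ∨ e = 2 ^ (k - 1))) ∨ (3 ≤ k ∧ r = 2 ^ (k - 1) - 1 ∧ e = 0))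

theorem two_mul_pow_pred {k : ℕ} (hk : 1 ≤ k) : (2 : ℤ) * 2 ^ (k - 1) = 2 ^ k := by
  rw [← pow_succ', Nat.sub_add_cancel hk]

theorem cast_eq_zero_or_half {k : ℕ} (hk : 1 ≤ k) {x : ℤ} (h : (2 : ℤ) ^ (k - 1) ∣ x) :
    (x : ZMod (2 ^ k)) = 0 ∨ (x : ZMod (2 ^ k)) = ((2 ^ (k - 1) : ℤ) : ZMod (2 ^ k)) := by
  obtain ⟨m, rfl⟩ := h
  rcases Int.even_or_odd' m with ⟨l, rfl | rfl⟩
  · refine Or.inl ?_
    rw [ZMod.intCast_zmod_eq_zero_iff_dvd]
    exact ⟨l, by push_cast; rw [← two_mul_pow_pred hk]; ring⟩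
  · refine Or.inr ?_
    rw [ZMod.intCast_eq_intCast_iff_dvd_sub]
    exact ⟨-l, by push_cast; rw [← two_mul_pow_pred hk]; ring⟩

theorem commutator_le_zpowers_frame {N : ℕ} {r e : ℤ} {a b : S} (F : CyclicFrame N r e a b) :
    commutator S ≤ Subgroup.zpowers (a ^ (r - 1)) := by
  haveI : (Subgroup.zpowers (a ^ (r - 1))).Normal := ⟨fun n hn g => by
    obtain ⟨m, rfl⟩ := Subgroup.mem_zpowers_iff.1 hn
    rw [← conj_zpow]
    refine zpow_mem ?_ m
    obtain ⟨i, rfl | rfl⟩ := F.exists_eq g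
    · rw [((Commute.refl a).zpow_zpow i (r - 1)).eq, mul_inv_cancel_right]
      exact Subgroup.mem_zpowers _
    · rw [F.ref_conj_rot, mul_comm r, zpow_mul]
      exact zpow_mem (Subgroup.mem_zpowers _) r⟩
  refine commutator_le_of_generators F.closure_pair ?_
  have h1 : ⁅b, a⁆ = a ^ (r - 1) := by
    rw [commutatorElement_def, F.conj, zpow_sub_one]
  intro x hx y hy
  rcases hx with rfl | rfl <;> rcases hy with rfl | rfl <;>
    first
    | (rw [commutatorElement_self]; exact one_mem _)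
    | (rw [h1]; exact Subgroup.mem_zpowers _)
    | (rw [← commutatorElement_inv, h1]; exact inv_mem (Subgroup.mem_zpowers _))

/-- A nonabelian 2-group with a cyclic subgroup of index two and small abelianization has a
standard shape. -/
theorem frame_std {k : ℕ} {r e : ℤ} {a b : S} (F : CyclicFrame (2 ^ k) r e a b)
    (hna : ¬ IsMulCommutative S) (hab : Nat.card S ≤ 4 * Nat.card (commutator S)) :
    r % 4 = 3 ∧ ∃ (r' e' : ℤ) (b' : S), IsStdType k r' e' ∧ CyclicFrame (2 ^ k) r' e' a b' := by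
  haveI := F.finite
  have hk0 : 1 ≤ k := by
    by_contra h
    refine hna (isMulCommutative_iff.2 fun x y => ?_)
    have h2 : Nat.card S = 2 := by rw [F.card, show k = 0 by omega]; norm_num
    haveI := isCyclic_of_prime_card (p := 2) h2
    exact IsCyclic.commGroup.mul_comm x y
  have hrodd : r % 2 = 1 := by
    by_contra hr
    obtain ⟨s, hs⟩ : (2 : ℤ) ∣ r := by omega
    have h1 : a ^ (2 ^ (k - 1) : ℤ) = 1 := by
      have h2 : (b * a * b⁻¹) ^ (2 ^ (k - 1) : ℤ) = 1 := by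
        rw [F.conj, ← zpow_mul, F.zpow_eq_one_iff]
        exact ⟨s, by push_cast; rw [hs, ← two_mul_pow_pred hk0]; ring⟩
      rwa [conj_zpow, conj_eq_one_iff] at h2
    have h3 := F.zpow_eq_one_iff.1 h1
    push_cast at h3
    have h4 := Int.le_of_dvd (by positivity) h3
    have h5 : (2 : ℤ) * 2 ^ (k - 1) = 2 ^ k := two_mul_pow_pred hk0
    have h6 : (0 : ℤ) < 2 ^ (k - 1) := by positivity
    omega
  have hk : 2 ≤ k := by
    by_contra h
    obtain rfl : k = 1 := by omega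
    refine hna (isMulCommutative_iff.2 fun x y => ?_)
    have hr1 : a ^ (r - 1) = 1 := F.zpow_eq_one_iff.2 (by push_cast; omega)
    have h := commutator_le_zpowers_frame F
    rw [hr1, Subgroup.zpowers_one_eq_bot] at h
    have h2 := h (Subgroup.commutator_mem_commutator (Subgroup.mem_top x) (Subgroup.mem_top y))
    exact commutatorElement_eq_one_iff_mul_comm.1 h2
  have hr4 : r % 4 = 3 := by
    by_contra hr
    obtain ⟨s, hs⟩ : (4 : ℤ) ∣ r - 1 := by omega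
    have h1 : (a ^ (r - 1)) ^ (2 ^ (k - 2) : ℕ) = 1 := by
      rw [← zpow_natCast, ← zpow_mul, F.zpow_eq_one_iff]
      refine ⟨s, ?_⟩
      have h5 : (2 : ℤ) ^ k = 4 * 2 ^ (k - 2) := by
        rw [show (4 : ℤ) = 2 ^ 2 by norm_num, ← pow_add, show 2 + (k - 2) = k by omega]
      push_cast
      rw [h5, hs]; ring
    have h2 : Nat.card (commutator S) ≤ 2 ^ (k - 2) := by
      refine (Nat.le_of_dvd Nat.card_pos
        (Subgroup.card_dvd_of_le (commutator_le_zpowers_frame F))).trans ?_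
      rw [Nat.card_zpowers]
      exact Nat.le_of_dvd (by positivity) (orderOf_dvd_of_pow_eq_one h1)
    have h3 : Nat.card S = 8 * 2 ^ (k - 2) := by
      rw [F.card, show (8 : ℕ) = 2 ^ 3 by norm_num, ← pow_add, ← pow_succ']
      congr 1; omega
    have h4 : 0 < 2 ^ (k - 2) := by positivity
    omega
  refine ⟨hr4, ?_⟩
  have hcop : IsCoprime ((2 : ℤ) ^ (k - 1)) ((r - 1) / 2) := by
    refine IsCoprime.pow_left ?_
    rw [Int.isCoprime_iff_nat_coprime]
    refine (Nat.Prime.coprime_iff_not_dvd Nat.prime_two).2 ?_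
    omega
  have hdvd : ∀ x : ℤ, ((2 : ℤ) ^ k) ∣ (r - 1) * x → (2 : ℤ) ^ (k - 1) ∣ x := by
    intro x hx
    refine hcop.dvd_of_dvd_mul_left ?_
    obtain ⟨m, hm⟩ := hx
    refine ⟨m, mul_left_cancel₀ (two_ne_zero (α := ℤ)) ?_⟩
    rw [← mul_assoc, ← mul_assoc, two_mul_pow_pred (by omega), ← hm]
    congr 1; omega
  have hr1 : (2 : ℤ) ^ (k - 1) ∣ r + 1 := hdvd _ (by
    have h := F.mul_sq_conj
    have h2 : (((r - 1) * (r + 1) : ℤ) : ZMod (2 ^ k)) = 0 := by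
      push_cast; ring_nf; ring_nf at h; rw [h]; ring
    rw [ZMod.intCast_zmod_eq_zero_iff_dvd] at h2
    simpa using h2)
  have he1 : (2 : ℤ) ^ (k - 1) ∣ e := hdvd _ (by
    have h := F.mul_e
    have h2 : (((r - 1) * e : ℤ) : ZMod (2 ^ k)) = 0 := by
      push_cast; rw [sub_mul, one_mul, h, sub_self]
    rw [ZMod.intCast_zmod_eq_zero_iff_dvd] at h2
    simpa using h2)
  obtain ⟨e₀, he₀, hee⟩ : ∃ e₀ : ℤ, (e₀ = 0 ∨ e₀ = 2 ^ (k - 1)) ∧
      (e₀ : ZMod (2 ^ k)) = e := by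
    rcases cast_eq_zero_or_half (by omega) he1 with h | h
    · exact ⟨0, Or.inl rfl, by rw [h]; simp⟩
    · exact ⟨_, Or.inr rfl, h.symm⟩
  rcases cast_eq_zero_or_half (by omega) hr1 with hr | hr
  · refine ⟨-1, e₀, b, ⟨hk, Or.inl ⟨rfl, he₀⟩⟩, F.congr ?_ hee⟩
    push_cast at hr ⊢
    exact (eq_neg_of_add_eq_zero_left hr).symm
  · have hk3 : 3 ≤ k := by
      by_contra h
      obtain rfl : k = 2 := by omega
      rw [ZMod.intCast_eq_intCast_iff_dvd_sub] at hr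
      norm_num at hr
      omega
    have hr' : ((2 ^ (k - 1) - 1 : ℤ) : ZMod (2 ^ k)) = r := by
      push_cast at hr ⊢
      rw [← hr]; ring
    have F' := F.congr hr' hee
    rcases he₀ with rfl | rfl
    · exact ⟨_, 0, b, ⟨hk, Or.inr ⟨hk3, rfl, rfl⟩⟩, F'⟩
    · refine ⟨_, 0, _, ⟨hk, Or.inr ⟨hk3, rfl, rfl⟩⟩, (F'.shift 1).congr rfl ?_⟩
      symm
      rw [ZMod.intCast_eq_intCast_iff_dvd_sub]
      exact ⟨-1, by push_cast; rw [← two_mul_pow_pred (show 1 ≤ k by omega)]; ring⟩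

theorem isQuasiDihedral_of_frame {k : ℕ} (hk : 3 ≤ k) {a b : S}
    (F : CyclicFrame (2 ^ k) (2 ^ (k - 1) - 1) 0 a b) : Cfsg.IsQuasiDihedral S := by
  refine ⟨k, hk, by rw [F.card, pow_succ'], a, b, F.ord, ?_, ?_⟩
  · rw [orderOf_eq_prime_iff, pow_two, F.sq, zpow_zero]
    exact ⟨rfl, fun h => F.notMem (h ▸ one_mem _)⟩
  · rw [F.conj, ← zpow_natCast]
    congr 1
    have h : 1 ≤ 2 ^ (k - 1) := Nat.one_le_two_pow
    push_cast [h]
    rfl

theorem exists_frame_of_quasiDihedral [Finite S] (h : Cfsg.IsQuasiDihedral S) :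
    ∃ (k : ℕ) (a b : S), 3 ≤ k ∧ Nat.card S = 2 ^ (k + 1) ∧
      CyclicFrame (2 ^ k) (2 ^ (k - 1) - 1) 0 a b := by
  obtain ⟨k, hk, hc, x, y, hx, hy, hxy⟩ := h
  have h1 : 1 ≤ 2 ^ (k - 1) := Nat.one_le_two_pow
  have hconj : y * x * y⁻¹ = x ^ ((2 : ℤ) ^ (k - 1) - 1) := by
    rw [hxy, ← zpow_natCast]; congr 1; push_cast [h1]; rfl
  have hne : ¬ ((2 : ℤ) ^ k ∣ (2 : ℤ) ^ (k - 1) - 1 - 1) := by
    intro hd
    have h5 : (2 : ℤ) * 2 ^ (k - 1) = 2 ^ k := two_mul_pow_pred (by omega)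
    have h6 : (4 : ℤ) ≤ 2 ^ (k - 1) := by
      calc (4 : ℤ) = 2 ^ 2 := by norm_num
        _ ≤ 2 ^ (k - 1) := pow_le_pow_right₀ (by norm_num) (by omega)
    have := Int.le_of_dvd (by omega) hd
    omega
  have hy' : y ∉ Subgroup.zpowers x := by
    intro hmem
    obtain ⟨i, hi⟩ := Subgroup.mem_zpowers_iff.1 hmem
    refine hne ?_
    have h2 : x ^ ((2 : ℤ) ^ (k - 1) - 1 - 1) = 1 := by
      rw [zpow_sub_one, ← hconj, ← hi, ((Commute.refl x).zpow_left i).eq, mul_inv_cancel_right,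
        mul_inv_cancel]
    rw [← orderOf_dvd_iff_zpow_eq_one, hx] at h2
    simpa using h2
  exact ⟨k, x, y, hk, hc, hx, by rw [hc, pow_succ'], hy', hconj,
    by rw [← pow_two, ← hy, pow_orderOf_eq_one, zpow_zero], by positivity⟩

/-- The standard shapes are the dihedral, quaternion and semidihedral groups. -/
theorem cases_of_std {k : ℕ} {r e : ℤ} {a b : S} (ht : IsStdType k r e)
    (F : CyclicFrame (2 ^ k) r e a b) :
    Nonempty (S ≃* DihedralGroup (2 ^ k)) ∨ Nonempty (S ≃* QuaternionGroup (2 ^ (k - 1))) ∨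
      Cfsg.IsQuasiDihedral S := by
  obtain ⟨hk, ⟨rfl, rfl | rfl⟩ | ⟨hk3, rfl, rfl⟩⟩ := ht
  · exact Or.inl F.dihedralEquiv
  · refine Or.inr (Or.inl ?_)
    have h : 2 * 2 ^ (k - 1) = 2 ^ k := by rw [← pow_succ', Nat.sub_add_cancel (by omega : 1 ≤ k)]
    rw [← h] at F
    exact CyclicFrame.quaternionEquiv (n := 2 ^ (k - 1)) (a := a) (b := b) (by exact_mod_cast F)
  · exact Or.inr (Or.inr (isQuasiDihedral_of_frame hk3 F))

end CfsgLib.Invol
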