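import Cfsg.Agent.Lib.Invol.OrdersThousandData
import Cfsg.Agent.Lib.Invol.SmallSimple
import Cfsg.Agent.Lib.Char.Burnside
import Cfsg.Agent.Lib.Perm.Small.InvolutionCriterion
import Cfsg.Agent.Lib.Perm.Small.PrimeTest

/-!
# The orders of simple groups up to 1092
-/

set_option autoImplicit false

namespace CfsgLib.Invol.Thousand

open CfsgLib.Perm.PrimeBlock

/-- The orders that occur. -/
def allowed : List ℕ := [60, 168, 360, 504, 660, 1092]

/-- A primality test by trial division. -/
def primeB (p : ℕ) : Bool := decide (2 ≤ p) && (List.range p).all fun d => decide (d < 2) || !(p % d == 0)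

theorem primeB_spec {p : ℕ} (h : primeB p = true) : p.Prime := by
  simp only [primeB, Bool.and_eq_true, decide_eq_true_eq, List.all_eq_true, List.mem_range,
    Bool.or_eq_true, Bool.not_eq_true', beq_eq_false_iff_ne] at h
  refine Nat.prime_def_lt.2 ⟨h.1, fun d hd hdvd => ?_⟩
  rcases h.2 d hd with h2 | h2
  · rcases Nat.lt_or_ge d 1 with h3 | h3
    · obtain rfl : d = 0 := by omega
      have := zero_dvd_iff.1 hdvd
      omega
    · omega
  · exact absurd (Nat.mod_eq_zero_of_dvd hdvd) h2

/-- Check of one certificate. -/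
def ok (g : ℕ) (c : Cert) : Bool :=
  match c.kind with
  | 0 => g == 0
  | 1 => primeB c.p && (primeB c.q && (g == c.p ^ c.a * c.q ^ c.b))
  | 2 => allowed.contains g || g == 900
  | 3 => g % 4 == 2
  | 4 => primeB c.p && (decide (0 < c.a) && ((g % c.p ^ c.a == 0) && (!(g % c.p ^ (c.a + 1) == 0) &&
      (List.range (g / c.p ^ c.a + 1)).all fun d =>
        !(g / c.p ^ c.a % d == 0) || (!(d % c.p == 1) || ((d == 1) ||
          (decide (d < 14) && !(d.factorial % (2 * g) == 0)))))))
  | 5 => primeB c.p && (decide (c.p ≠ 2) && (!primeB g && ((g % c.p == 0) && (!((g / c.p) % c.p == 0) &&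
      (decide (g ≤ c.a * c.a) && refutedAll g (g / c.p) c.p c.a [])))))
  | 6 => primeB c.p && (decide (c.p ≠ 2) && (!primeB g && ((g % c.p == 0) && (!((g / c.p) % c.p == 0) &&
      (decide (g ≤ c.a * c.a) && (decide ((List.range 11).any fun k => c.q == 2 ^ k) && ((g % c.q == 0) &&
        ((g % 2 == 0) && refutedTwo g (g / c.p) c.p c.a c.q []))))))))
  | _ => false

/-- All certificates check. -/
def allOk : List Cert → ℕ → Bool
  | [], g => g == 1093
  | c :: l, g => ok g c && allOk l (g + 1)

theorem allOk_certs : allOk certs 0 = true := by decide +kernel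

theorem exists_ok : ∀ (l : List Cert) (s : ℕ), allOk l s = true → ∀ g, s ≤ g → g ≤ 1092 →
    ∃ c, ok g c = true
  | [], s, h, g, h1, h2 => by
      simp only [allOk, beq_iff_eq] at h
      omega
  | c :: l, s, h, g, h1, h2 => by
      simp only [allOk, Bool.and_eq_true] at h
      rcases eq_or_lt_of_le h1 with rfl | hlt
      · exact ⟨c, h.1⟩
      · exact exists_ok l (s + 1) h.2 g hlt h2

theorem factorization_eq {p a r n : ℕ} (hp : p.Prime) (h : ¬ p ∣ r) (e : n = p ^ a * r) :
    n.factorization p = a := by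
  have hr : r ≠ 0 := fun h0 => h (h0 ▸ dvd_zero p)
  rw [e, Nat.factorization_mul (pow_ne_zero _ hp.ne_zero) hr, Finsupp.add_apply,
    Nat.Prime.factorization_pow hp, Finsupp.single_eq_same, Nat.factorization_eq_zero_of_not_dvd h, add_zero]

variable {G : Type*} [Group G] [Finite G] [IsSimpleGroup G]

theorem card_ne_nineHundred (hG : ¬ IsMulCommutative G) : Nat.card G ≠ 900 := by
  intro hg
  haveI : Fact (Nat.Prime 5) := ⟨by norm_num⟩
  obtain ⟨P⟩ : Nonempty (Sylow 5 G) := inferInstance
  have hf := sylow_dvd_factorial hG (p := 5) (by rw [hg]; norm_num)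
  have h1 := one_lt_card_sylow hG (p := 5) (by rw [hg]; norm_num)
  have hmod : Nat.card (Sylow 5 G) % 5 = 1 := card_sylow_modEq_one 5 G
  have hPc : Nat.card (P : Subgroup G) = 25 := by
    rw [P.card_eq_multiplicity, hg, show (25 : ℕ) = 5 ^ 2 from rfl]
    congr 1
    exact factorization_eq (r := 36) (by norm_num) (by norm_num) (by norm_num)
  have hidx : (P : Subgroup G).index = 36 := by
    have h2 := (P : Subgroup G).index_mul_card
    rw [hPc, hg] at h2
    omega
  have hd : Nat.card (Sylow 5 G) ∣ 36 := hidx ▸ P.card_dvd_index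
  have h36 : Nat.card (Sylow 5 G) = 36 := by
    have := Nat.le_of_dvd (by norm_num) hd
    interval_cases h : Nat.card (Sylow 5 G) <;> first | rfl | omega |
      (rw [hg] at hf; norm_num [Nat.factorial] at hf; done) | (norm_num at hd; done)
  have hN : Subgroup.normalizer ((P : Subgroup G) : Set G) = P := by
    refine (Subgroup.eq_of_le_of_card_ge Subgroup.le_normalizer ?_).symm
    have h2 := (Subgroup.normalizer ((P : Subgroup G) : Set G)).index_mul_card
    have h3 : (Subgroup.normalizer ((P : Subgroup G) : Set G)).index = 36 :=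
      h36 ▸ (Sylow.card_eq_index_normalizer P).symm
    rw [h3, hg] at h2
    rw [hPc]
    omega
  have hab : IsMulCommutative (P : Subgroup G) :=
    IsPGroup.isMulCommutative_of_card_eq_prime_sq (p := 5) (by rw [hPc]; rfl)
  have hle : Subgroup.normalizer ((P : Subgroup G) : Set G) ≤ Subgroup.centralizer ((P : Subgroup G) : Set G) := by
    rw [hN]
    exact Subgroup.le_centralizer_iff_isMulCommutative.2 hab
  have hc := MonoidHom.ker_transferSylow_isComplement' P hle
  have hne := IsSimpleGroup.eq_bot_or_eq_top_of_normal (MonoidHom.transferSylow P hle).ker inferInstance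
  have h3 := hc.card_mul
  rw [hPc, hg] at h3
  rcases hne with e | e
  · rw [e, Subgroup.card_bot] at h3; omega
  · rw [e, Subgroup.card_top, hg] at h3; omega

/-- The orders of non-abelian simple groups up to 1092. -/
theorem card_mem_allowed (hG : ¬ IsMulCommutative G) (h : Nat.card G ≤ 1092) :
    Nat.card G ∈ allowed := by
  obtain ⟨g, hg⟩ : ∃ g, Nat.card G = g := ⟨_, rfl⟩
  rw [hg] at h ⊢
  obtain ⟨c, hc⟩ := exists_ok certs 0 allOk_certs g (Nat.zero_le _) h
  unfold ok at hc
  split at hc
  · rw [beq_iff_eq] at hc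
    exact absurd (hg.trans hc) Nat.card_pos.ne'
  · simp only [Bool.and_eq_true, beq_iff_eq] at hc
    haveI := CfsgLib.Char.isSolvable_of_card_two_primes (primeB_spec hc.1) (primeB_spec hc.2.1) G c.a c.b
      (hg.trans hc.2.2)
    exact absurd ⟨⟨fun a b => IsSimpleGroup.comm_iff_isSolvable.2 inferInstance a b⟩⟩ hG
  · simp only [Bool.or_eq_true, List.contains_iff_mem, beq_iff_eq] at hc
    exact hc.resolve_right fun e => card_ne_nineHundred hG (hg.trans e)
  · rw [beq_iff_eq] at hc
    exact absurd (hg ▸ hc) (card_mod_four_ne_two hG)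
  · simp only [Bool.and_eq_true, decide_eq_true_eq, beq_iff_eq, Bool.not_eq_true', beq_eq_false_iff_ne,
      List.all_eq_true, List.mem_range, Bool.or_eq_true] at hc
    obtain ⟨hp, ha, hdvd, hndvd, hall⟩ := hc
    haveI : Fact c.p.Prime := ⟨primeB_spec hp⟩
    have hpg : c.p ∣ Nat.card G := by
      rw [hg]; exact (dvd_pow_self _ ha.ne').trans (Nat.dvd_of_mod_eq_zero hdvd)
    obtain ⟨P⟩ : Nonempty (Sylow c.p G) := inferInstance
    have hPc : Nat.card (P : Subgroup G) = c.p ^ c.a := by
      rw [P.card_eq_multiplicity, hg]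
      congr 1
      obtain ⟨r, hr⟩ := Nat.dvd_of_mod_eq_zero hdvd
      refine factorization_eq (r := r) (primeB_spec hp) ?_ hr
      intro hpr
      refine hndvd (Nat.mod_eq_zero_of_dvd ?_)
      rw [hr, pow_succ]
      exact mul_dvd_mul_left _ hpr
    have h2 := (P : Subgroup G).index_mul_card
    rw [hPc, hg] at h2
    have hdiv : g / c.p ^ c.a = (P : Subgroup G).index := by
      rw [← h2, Nat.mul_div_cancel _ (pow_pos (primeB_spec hp).pos _)]
    have hn : Nat.card (Sylow c.p G) ∣ g / c.p ^ c.a := hdiv ▸ P.card_dvd_index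
    have hpos : 0 < g / c.p ^ c.a := hdiv ▸ Nat.pos_of_ne_zero Subgroup.index_ne_zero_of_finite
    have h1 := one_lt_card_sylow hG hpg
    have hmod : Nat.card (Sylow c.p G) % c.p = 1 := by
      rw [card_sylow_modEq_one c.p G, Nat.mod_eq_of_lt (primeB_spec hp).one_lt]
    rcases hall _ (Nat.lt_succ_of_le (Nat.le_of_dvd hpos hn)) with e | e | e | e
    · exact absurd (Nat.mod_eq_zero_of_dvd hn) e
    · exact absurd hmod e
    · omega
    · exact absurd (Nat.mod_eq_zero_of_dvd (hg ▸ sylow_dvd_factorial hG hpg)) e.2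
  · simp only [Bool.and_eq_true, decide_eq_true_eq, beq_iff_eq, Bool.not_eq_true', beq_eq_false_iff_ne] at hc
    obtain ⟨hp, hodd, hnp, hdvd, hm, hB, href⟩ := hc
    haveI : Fact c.p.Prime := ⟨primeB_spec hp⟩
    refine absurd hg (card_ne_of_refutedAll g c.p (g / c.p) c.a (fun e => ?_) hodd
      (Nat.div_mul_cancel (Nat.dvd_of_mod_eq_zero hdvd)).symm (fun e => hm (Nat.mod_eq_zero_of_dvd e)) hB href)
    rw [primeB_of_prime e] at hnp
    exact absurd hnp (by decide)
  · simp only [Bool.and_eq_true, decide_eq_true_eq, beq_iff_eq, Bool.not_eq_true', beq_eq_false_iff_ne,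
      List.any_eq_true, List.mem_range] at hc
    obtain ⟨hp, hodd, hnp, hdvd, hm, hB, ⟨k, -, hk⟩, hq, h2, href⟩ := hc
    haveI : Fact c.p.Prime := ⟨primeB_spec hp⟩
    refine absurd hg (card_ne_of_refutedTwo g c.p (g / c.p) c.a c.q (fun e => ?_) hodd
      (Nat.div_mul_cancel (Nat.dvd_of_mod_eq_zero hdvd)).symm (fun e => hm (Nat.mod_eq_zero_of_dvd e)) hB
      (Nat.dvd_of_mod_eq_zero h2) ⟨k, hk⟩ (Nat.dvd_of_mod_eq_zero hq) href)
    rw [primeB_of_prime e] at hnp
    exact absurd hnp (by decide)
  · exact absurd hc (by decide)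
where
  primeB_of_prime {n : ℕ} (h : n.Prime) : primeB n = true := by
    simp only [primeB, Bool.and_eq_true, decide_eq_true_eq, List.all_eq_true, List.mem_range,
      Bool.or_eq_true, Bool.not_eq_true', beq_eq_false_iff_ne]
    refine ⟨h.two_le, fun d hd => ?_⟩
    by_contra hno
    push Not at hno
    rcases (Nat.dvd_prime h).1 (Nat.dvd_of_mod_eq_zero hno.2) with e | e <;> omega

end CfsgLib.Invol.Thousand
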