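import Cfsg.Agent.Lib.Invol.NormalFour

/-!
# The structure of p-groups whose normal abelian subgroups are cyclic
-/

set_option autoImplicit false

namespace CfsgLib.Invol

open Subgroup
open scoped commutatorElement

universe u

variable {P : Type u} [Group P] {p : ℕ}

/-- The action of an element on a normal cyclic subgroup. -/
theorem conj_pow_exp {a g : P} {r : ℤ} (hr : g * a * g⁻¹ = a ^ r) (n : ℕ) :
    g ^ n * a * (g ^ n)⁻¹ = a ^ (r ^ n) := by
  induction n with
  | zero => simp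
  | succ n ih =>
    rw [pow_succ g, pow_succ' r, show g ^ n * g * a * (g ^ n * g)⁻¹ =
      g ^ n * (g * a * g⁻¹) * (g ^ n)⁻¹ by group, hr, ← conj_zpow, ih, ← zpow_mul, mul_comm]

/-- In `D₈` there is a normal four-group. -/
theorem exists_noncyclic_of_dihedral_eight {a b : P} (F : CyclicFrame 4 (-1) 0 a b) :
    ∃ B : Subgroup P, B.Normal ∧ IsMulCommutative B ∧ ¬ IsCyclic B := by
  haveI := F.finite
  haveI : Fact (Nat.Prime 2) := ⟨Nat.prime_two⟩
  set z := a ^ (2 : ℤ) with hz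
  set B := Subgroup.closure ({z, b} : Set P) with hB
  have hzb : Commute z b := by
    have h := F.b_mul_zpow 2
    rw [show a ^ ((-1 : ℤ) * 2) = a ^ (2 : ℤ) from F.zpow_eq_iff.2 (by decide)] at h
    exact h.symm
  have hz2 : z * z = 1 := by
    rw [hz, ← zpow_add, F.zpow_eq_one_iff]; norm_num
  have hzo : orderOf z = 2 := orderOf_eq_prime (by rw [pow_two, hz2]) fun h => by
    rw [hz, F.zpow_eq_one_iff] at h; norm_num at h
  have hbo : b * b = 1 := by rw [F.sq, zpow_zero]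
  have hform : ∀ x ∈ B, x = 1 ∨ x = z ∨ x = b ∨ x = z * b := by
    intro x hx
    induction hx using Subgroup.closure_induction with
    | mem y hy => rcases hy with rfl | rfl <;> simp
    | one => simp
    | mul y w _ _ hy hw =>
      have e1 : b * z = z * b := hzb.eq.symm
      have e2 : z * (z * b) = b := by rw [← mul_assoc, hz2, one_mul]
      have e3 : b * (z * b) = z := by rw [← mul_assoc, e1, mul_assoc, hbo, mul_one]
      have e4 : z * b * z = b := by rw [mul_assoc, e1, e2]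
      have e5 : z * b * b = z := by rw [mul_assoc, hbo, mul_one]
      have e6 : z * b * (z * b) = 1 := by rw [← mul_assoc, e4, hbo]
      rcases hy with rfl | rfl | rfl | rfl <;> rcases hw with rfl | rfl | rfl | rfl <;>
        simp [hz2, hbo, e1, e2, e3, e4, e5, e6]
    | inv y _ hy =>
      have hi1 : z⁻¹ = z := inv_eq_of_mul_eq_one_left hz2
      have hi2 : b⁻¹ = b := inv_eq_of_mul_eq_one_left hbo
      rcases hy with rfl | rfl | rfl | rfl <;> simp [hi1, hi2, hzb.eq]
  have hzB : z ∈ B := Subgroup.subset_closure (by simp)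
  have hbB : b ∈ B := Subgroup.subset_closure (by simp)
  have hab : IsMulCommutative B := isMulCommutative_iff.2 fun x y => Subtype.ext (by
    show (x : P) * y = y * x
    have h : ∀ u, (u = 1 ∨ u = z ∨ u = b ∨ u = z * b) → Commute u z ∧ Commute u b := by
      rintro u (rfl | rfl | rfl | rfl)
      · exact ⟨Commute.one_left _, Commute.one_left _⟩
      · exact ⟨Commute.refl _, hzb⟩
      · exact ⟨hzb.symm, Commute.refl _⟩
      · exact ⟨(Commute.refl z).mul_left hzb.symm, hzb.mul_left (Commute.refl b)⟩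
    obtain ⟨h1, h2⟩ := h _ (hform _ x.2)
    rcases hform _ y.2 with e | e | e | e <;> rw [e]
    · simp
    · exact h1.eq
    · exact h2.eq
    · exact (h1.mul_right h2).eq)
  refine ⟨B, ⟨fun x hx g => ?_⟩, hab, fun hc => ?_⟩
  · obtain ⟨i, hi⟩ := F.exists_eq g
    have hgen : Subgroup.closure ({z, b} : Set P) ≤ B.comap (MulAut.conj g).toMonoidHom :=
      (Subgroup.closure_le _).2 (by
        intro y hy
        show g * y * g⁻¹ ∈ B
        have hib : a ^ i * b * (a ^ i)⁻¹ ∈ B := by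
          have h := F.rot_conj_ref i 0
          rw [zpow_zero, one_mul] at h
          rw [h, zero_add]
          refine mul_mem ?_ hbB
          rw [show ((1 : ℤ) - -1) * i = 2 * i by ring, zpow_mul, ← hz]
          exact zpow_mem hzB i
        have hiz : a ^ i * z * (a ^ i)⁻¹ = z := by
          rw [hz, ((Commute.refl a).zpow_zpow i 2).eq, mul_inv_cancel_right]
        rcases hy with rfl | rfl <;> rcases hi with rfl | rfl
        · rw [hiz]; exact hzB
        · rw [show a ^ i * b * z * (a ^ i * b)⁻¹ = a ^ i * (b * z * b⁻¹) * (a ^ i)⁻¹ by group,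
            ← hzb.eq, mul_inv_cancel_right, hiz]; exact hzB
        · exact hib
        · rw [show a ^ i * y * y * (a ^ i * y)⁻¹ = a ^ i * y * (a ^ i)⁻¹ by group]; exact hib)
    exact hgen hx
  · obtain ⟨⟨q, hq⟩, hgen⟩ := IsCyclic.exists_generator (α := B)
    have hq2 : q * q = 1 := by
      rcases hform q hq with rfl | rfl | rfl | rfl
      · simp
      · exact hz2
      · exact hbo
      · rw [mul_assoc, ← mul_assoc b, ← hzb.eq, mul_assoc, hbo, mul_one, hz2]
    have hcard : Nat.card B ≤ 2 := by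
      rw [← orderOf_eq_card_of_forall_mem_zpowers hgen]
      exact Nat.le_of_dvd two_pos (orderOf_dvd_of_pow_eq_one (Subtype.ext (by simpa [pow_two] using hq2)))
    have heq : Subgroup.zpowers z = B :=
      Subgroup.eq_of_le_of_card_ge (Subgroup.zpowers_le.2 hzB)
        (by rw [Nat.card_zpowers, hzo]; exact hcard)
    exact F.notMem ((Subgroup.zpowers_le.2 (zpow_mem (Subgroup.mem_zpowers a) _)) (heq.ge hbB))

/-- A `p`-group all of whose normal abelian subgroups are cyclic is cyclic, or `p = 2` and it is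
dihedral of order at least 16, generalized quaternion or semidihedral. -/
theorem cyclic_or_std [Finite P] [Fact p.Prime] (hP : IsPGroup p P)
    (hn : ∀ B : Subgroup P, B.Normal → IsMulCommutative B → IsCyclic B) :
    IsCyclic P ∨ (p = 2 ∧ ∃ (k : ℕ) (r e : ℤ) (a b : P), IsStdType k r e ∧
      CyclicFrame (2 ^ k) r e a b ∧ ¬ (k = 2 ∧ e = 0)) := by
  classical
  have hp : p.Prime := Fact.out
  by_cases hcyc : IsCyclic P
  · exact Or.inl hcyc
  right
  obtain ⟨A, ⟨hAn, hAab⟩, hmax⟩ : ∃ A : Subgroup P, (A.Normal ∧ IsMulCommutative A) ∧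
      ∀ B : Subgroup P, B.Normal → IsMulCommutative B → A ≤ B → B = A := by
    obtain ⟨A, hA, hmax⟩ := (Set.toFinite {A : Subgroup P | A.Normal ∧ IsMulCommutative A}).exists_maximal
      ⟨⊥, inferInstance, inferInstance⟩
    exact ⟨A, hA, fun B h1 h2 h => le_antisymm (hmax ⟨h1, h2⟩ h) h⟩
  haveI := hn A hAn hAab
  obtain ⟨a, rfl⟩ := (Subgroup.isCyclic_iff_exists_zpowers_eq_top A).1 inferInstance
  have hC := centralizer_le_of_maximal hP hAn hAab hmax
  have hAC : ∀ x : P, Commute x a → x ∈ Subgroup.zpowers a := fun x hx =>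
    hC (Subgroup.mem_centralizer_iff.2 fun y hy => by
      obtain ⟨i, rfl⟩ := Subgroup.mem_zpowers_iff.1 hy
      exact (hx.zpow_right i).eq.symm)
  obtain ⟨j, hj⟩ := hP a
  obtain ⟨k, -, ha⟩ := (Nat.dvd_prime_pow hp).1 (orderOf_dvd_of_pow_eq_one hj)
  have hne : Subgroup.zpowers a ≠ ⊤ := fun h => hcyc ((isCyclic_iff_exists_zpowers_eq_top).2 ⟨a, h⟩)
  set A := Subgroup.zpowers a with hA
  haveI := hAn
  have hexp : ∀ g : P, ∃ r : ℤ, g * a * g⁻¹ = a ^ r := fun g => by
    obtain ⟨r, hr⟩ := Subgroup.mem_zpowers_iff.1 (hAn.conj_mem a (Subgroup.mem_zpowers a) g)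
    exact ⟨r, hr.symm⟩
  choose r hr using hexp
  have hreq : ∀ g : P, ∀ s : ℤ, ((p : ℤ) ^ k) ∣ r g - s → g * a * g⁻¹ = a ^ s := by
    intro g s h
    rw [hr g, zpow_eq_zpow_iff_modEq, ha, Int.modEq_iff_dvd, ← dvd_neg, neg_sub]
    exact_mod_cast h
  have hdiv : ∀ g h : P, g * a * g⁻¹ = h * a * h⁻¹ → g⁻¹ * h ∈ A := by
    intro g h e
    refine hAC _ (mul_inv_eq_iff_eq_mul.1 ?_)
    rw [show g⁻¹ * h * a * (g⁻¹ * h)⁻¹ = g⁻¹ * (h * a * h⁻¹) * g by group, ← e]
    group
  have hk1 : 1 ≤ k := by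
    by_contra h
    rw [show k = 0 by omega, pow_zero, orderOf_eq_one_iff] at ha
    exact hne (top_le_iff.1 fun x _ => hAC x (ha ▸ Commute.one_right x))
  -- no element acts trivially on `a ^ p` only
  have key : (p ≠ 2 ∨ 3 ≤ k) → ∀ g : P, g ∉ A → g ^ p ∈ A → ¬ (p : ℤ) ^ (k - 1) ∣ r g - 1 := by
    intro hk g hg hgp hd
    have hga : g * a ^ p * g⁻¹ = a ^ p := by
      rw [← conj_pow, hr g, ← zpow_natCast, ← zpow_mul, ← zpow_natCast a p,
        zpow_eq_zpow_iff_modEq, ha, Int.modEq_iff_dvd]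
      obtain ⟨m, hm⟩ := hd
      refine ⟨-m, ?_⟩
      push_cast
      rw [show (p : ℤ) ^ k = p * (p : ℤ) ^ (k - 1) by rw [← pow_succ', Nat.sub_add_cancel hk1],
        show r g = (p : ℤ) ^ (k - 1) * m + 1 by linarith]
      ring
    obtain ⟨B, hB1, hB2, hB3⟩ := exists_noncyclic_of_elt ha hk hAn hC hg hgp hga
    exact hB3 (hn B hB1 hB2)
  obtain ⟨g, hg, hgp⟩ : ∃ g, g ∉ A ∧ g ^ p ∈ A := by
    have hd : p ∣ Nat.card (P ⧸ A) := by
      obtain ⟨l, hl⟩ := (hP.to_quotient A).exists_card_eq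
      rw [hl]
      refine dvd_pow_self p fun h0 => hne (Subgroup.index_eq_one.1 ?_)
      rw [Subgroup.index_eq_card, hl, h0, pow_zero]
    obtain ⟨x, hx⟩ := exists_prime_orderOf_dvd_card' (G := P ⧸ A) p hd
    obtain ⟨g, rfl⟩ := QuotientGroup.mk_surjective x
    refine ⟨g, fun h => hp.ne_one ?_, ?_⟩
    · rw [← hx, (QuotientGroup.eq_one_iff g).2 h, orderOf_one]
    · rw [← QuotientGroup.eq_one_iff, QuotientGroup.mk_pow, ← hx, pow_orderOf_eq_one]
  have hrp : ∀ g : P, g ^ p ∈ A → ((p : ℤ) ^ k) ∣ r g ^ p - 1 := by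
    intro g hgp
    have h1 : a ^ (r g ^ p) = a := by
      obtain ⟨m, hm⟩ := Subgroup.mem_zpowers_iff.1 hgp
      rw [← conj_pow_exp (hr g) p, ← hm, ((Commute.refl a).zpow_left m).eq, mul_inv_cancel_right]
    have h2 : a ^ (r g ^ p - 1) = 1 := by rw [zpow_sub_one, h1, mul_inv_cancel]
    rw [← orderOf_dvd_iff_zpow_eq_one, ha] at h2
    exact_mod_cast h2
  have hp2 : p = 2 := by
    by_contra hp2
    refine key (Or.inl hp2) g hg hgp ?_
    have hodd : Odd p := hp.odd_of_ne_two hp2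
    have hpz : Prime (p : ℤ) := Nat.prime_iff_prime_int.1 hp
    have h0 : (p : ℤ) ∣ r g ^ p - 1 := (dvd_pow_self _ (by omega)).trans (hrp g hgp)
    have h1 : (p : ℤ) ∣ r g - 1 := by
      rw [← ZMod.intCast_zmod_eq_zero_iff_dvd] at h0 ⊢
      push_cast at h0 ⊢
      rwa [ZMod.pow_card] at h0
    have h2 : ¬ (p : ℤ) ∣ r g := fun h => hpz.not_unit (isUnit_of_dvd_one (by
      have := dvd_sub h h1
      simpa using this))
    have h3 := Int.emultiplicity_pow_sub_pow hp hodd (x := r g) (y := 1) (by simpa using h1) h2 p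
    rw [one_pow, hp.emultiplicity_self] at h3
    rw [pow_dvd_iff_le_emultiplicity]
    have h4 := pow_dvd_iff_le_emultiplicity.1 (hrp g hgp)
    rw [h3] at h4
    generalize emultiplicity (p : ℤ) (r g - 1) = m at h4 ⊢
    rcases m with _ | m
    · exact le_top
    · have h5 : (k : ℕ∞) ≤ ((m + 1 : ℕ) : ℕ∞) := h4
      rw [Nat.cast_le] at h5
      exact WithTop.coe_le_coe.2 (show k - 1 ≤ m by omega)
  refine ⟨hp2, ?_⟩
  subst hp2
  have hk2 : 2 ≤ k := by
    by_contra h
    obtain rfl : k = 1 := by omega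
    refine hg (hAC g (mul_inv_eq_iff_eq_mul.1 ?_))
    have h1 : orderOf (g * a * g⁻¹) = 2 := by
      rw [show g * a * g⁻¹ = MulAut.conj g a from rfl, MulEquiv.orderOf_eq, ha, pow_one]
    rw [hr g] at h1 ⊢
    rcases Int.even_or_odd' (r g) with ⟨l, hl | hl⟩
    · exfalso
      rw [hl, zpow_mul, zpow_two, ← pow_two,
        show a ^ 2 = 1 by rw [← orderOf_dvd_iff_pow_eq_one, ha, pow_one], one_zpow, orderOf_one] at h1
      omega
    · rw [hl, zpow_add, zpow_mul, zpow_two, ← pow_two,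
        show a ^ 2 = 1 by rw [← orderOf_dvd_iff_pow_eq_one, ha, pow_one], one_zpow, one_mul, zpow_one]
  have hrodd : ∀ g : P, r g % 2 = 1 := by
    intro g
    by_contra h
    obtain ⟨s, hs⟩ : (2 : ℤ) ∣ r g := by omega
    have h1 : (g * a * g⁻¹) ^ (2 ^ (k - 1) : ℕ) = 1 := by
      rw [hr g, ← zpow_natCast, ← zpow_mul, ← orderOf_dvd_iff_zpow_eq_one, ha]
      refine ⟨s, ?_⟩
      push_cast
      rw [hs, ← two_mul_pow_pred hk1]; ring
    rw [conj_pow, conj_eq_one_iff, ← orderOf_dvd_iff_pow_eq_one, ha] at h1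
    have h2 := (Nat.pow_dvd_pow_iff_le_right Nat.one_lt_two).1 h1
    omega
  have hneg : ∀ g : P, g ∉ A → g ^ 2 ∈ A → (2 : ℤ) ^ (k - 1) ∣ r g + 1 := by
    intro g hg hgp
    have hsq : (2 : ℤ) ^ k ∣ (r g - 1) * (r g + 1) := by
      have := hrp g hgp
      push_cast at this
      rwa [show (r g - 1) * (r g + 1) = r g ^ 2 - 1 by ring]
    by_cases hk3 : 3 ≤ k
    · have h4 := key (Or.inr hk3) g hg hgp
      obtain ⟨u, hu⟩ : (2 : ℤ) ∣ r g - 1 := by have := hrodd g; omega
      obtain ⟨v, hv⟩ : (2 : ℤ) ∣ r g + 1 := by have := hrodd g; omega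
      rw [hu, hv] at hsq
      have h5 : (2 : ℤ) ^ (k - 2) ∣ u * v := by
        refine (mul_dvd_mul_iff_left (show (4 : ℤ) ≠ 0 by norm_num)).1 ?_
        rw [show (4 : ℤ) = 2 ^ 2 by norm_num, ← pow_add, show 2 + (k - 2) = k by omega]
        rw [show (2 : ℤ) ^ 2 * (u * v) = 2 * u * (2 * v) by ring]; exact hsq
      rcases Int.even_or_odd u with hu2 | hu2
      · exfalso
        refine h4 ?_
        push_cast
        have hv2 : ¬ (2 : ℤ) ∣ v := by rw [even_iff_two_dvd] at hu2; omega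
        have h6 : (2 : ℤ) ^ (k - 2) ∣ u :=
          ((Int.prime_two.coprime_iff_not_dvd.2 hv2).pow_left).dvd_of_dvd_mul_right h5
        rw [hu, show k - 1 = k - 2 + 1 by omega, pow_succ']
        exact mul_dvd_mul_left 2 h6
      · have h6 : (2 : ℤ) ^ (k - 2) ∣ v :=
          ((Int.prime_two.coprime_iff_not_dvd.2 (by
            rw [← even_iff_two_dvd, Int.not_even_iff_odd]; exact hu2)).pow_left).dvd_of_dvd_mul_left h5
        rw [hv, show k - 1 = k - 2 + 1 by omega, pow_succ']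
        exact mul_dvd_mul_left 2 h6
    · obtain rfl : k = 2 := by omega
      have := hrodd g
      norm_num; omega
  -- elements of order 4 outside `A` do not exist
  have hinv : ∀ g : P, g ^ 2 ∈ A := by
    intro g
    by_contra hg2
    -- replace `g` by a power with `g ^ 4 ∈ A`
    obtain ⟨m, hm⟩ := hP g
    have hex : ∃ n, g ^ 2 ^ n ∈ A := ⟨m, by rw [hm]; exact one_mem _⟩
    obtain ⟨n, hn4, hn2⟩ : ∃ n, g ^ 2 ^ (n + 2) ∈ A ∧ g ^ 2 ^ (n + 1) ∉ A := by
      have hge : 2 ≤ Nat.find hex := by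
        by_contra h
        have hs := Nat.find_spec hex
        rcases (show Nat.find hex = 0 ∨ Nat.find hex = 1 by omega) with e | e <;> rw [e] at hs
        · exact hg2 (pow_mem (by simpa using hs) 2)
        · exact hg2 (by simpa using hs)
      refine ⟨Nat.find hex - 2, ?_, Nat.find_min hex (by omega)⟩
      rw [Nat.sub_add_cancel hge]; exact Nat.find_spec hex
    set y := g ^ 2 ^ n with hy
    have hy2 : y ^ 2 ∉ A := by rwa [hy, ← pow_mul, ← pow_succ]
    have hy4 : (y ^ 2) ^ 2 ∈ A := by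
      rw [hy, ← pow_mul, ← pow_mul]
      rwa [pow_add, show (2 : ℕ) ^ 2 = 2 * 2 by norm_num] at hn4
    have h1 := hneg (y ^ 2) hy2 hy4
    have h2 : (2 : ℤ) ^ k ∣ r (y ^ 2) - r y ^ 2 := by
      have h3 : a ^ r (y ^ 2) = a ^ (r y ^ 2) := by rw [← hr, conj_pow_exp (hr y) 2]
      rw [zpow_eq_zpow_iff_modEq, ha, Int.modEq_iff_dvd, ← dvd_neg, neg_sub] at h3
      exact_mod_cast h3
    have h4 : (4 : ℤ) ∣ (2 : ℤ) ^ k := by
      rw [show (4 : ℤ) = 2 ^ 2 by norm_num]; exact pow_dvd_pow 2 hk2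
    have h5 : (4 : ℤ) ∣ r (y ^ 2) - r y ^ 2 := h4.trans h2
    by_cases hk3 : 3 ≤ k
    · have h6 : (4 : ℤ) ∣ r (y ^ 2) + 1 := by
        refine dvd_trans ?_ h1
        rw [show (4 : ℤ) = 2 ^ 2 by norm_num]; exact pow_dvd_pow 2 (by omega)
      obtain ⟨l, hl⟩ : (2 : ℤ) ∣ r y - 1 := by have := hrodd y; omega
      rw [show r y = 2 * l + 1 by omega, show (2 * l + 1) ^ 2 = 4 * (l * l + l) + 1 by ring] at h5
      omega
    · obtain rfl : k = 2 := by omega
      refine hy2 (hAC _ (mul_inv_eq_iff_eq_mul.1 ?_))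
      obtain ⟨l, hl⟩ : (2 : ℤ) ∣ r y - 1 := by have := hrodd y; omega
      rw [show r y = 2 * l + 1 by omega, show (2 * l + 1) ^ 2 = 4 * (l * l + l) + 1 by ring] at h5
      rw [hreq (y ^ 2) 1 ?_, zpow_one]
      have : (4 : ℤ) ∣ r (y ^ 2) - 1 := by omega
      norm_num; exact this
  have hidx : A.index = 2 := by
    have hsurj : ∀ h : P, h ∉ A → g⁻¹ * h ∈ A := by
      intro h hh
      by_contra hgh
      have h1 := hneg g hg (hinv g)
      have h2 := hneg h hh (hinv h)
      have h3 := hneg _ hgh (hinv _)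
      have hmul : (2 : ℤ) ^ k ∣ r (g⁻¹ * h) * r g - r h := by
        have : a ^ (r (g⁻¹ * h) * r g) = a ^ r h := by
          rw [mul_comm, zpow_mul, ← hr g, conj_zpow, ← hr (g⁻¹ * h), ← hr h]; group
        rw [zpow_eq_zpow_iff_modEq, ha, Int.modEq_iff_dvd, ← dvd_neg, neg_sub] at this
        exact_mod_cast this
      have h4 : (2 : ℤ) ^ (k - 1) ∣ 2 := by
        have hd : (2 : ℤ) ^ (k - 1) ∣ (r (g⁻¹ * h) + 1) * r g - (r g + 1) - (r h + 1)
            - (r (g⁻¹ * h) * r g - r h) :=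
          dvd_sub (dvd_sub (dvd_sub (h3.mul_right _) h1) h2)
            ((pow_dvd_pow 2 (Nat.sub_le k 1)).trans hmul)
        have e2 : (r (g⁻¹ * h) + 1) * r g - (r g + 1) - (r h + 1)
            - (r (g⁻¹ * h) * r g - r h) = -2 := by ring
        rw [e2, dvd_neg] at hd
        exact hd
      have hk' : k = 2 := by
        by_contra h5
        have h7 : (4 : ℤ) ∣ 2 := (show (4 : ℤ) = 2 ^ 2 by norm_num) ▸
          (pow_dvd_pow 2 (show 2 ≤ k - 1 by omega)).trans h4
        omega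
      subst hk'
      refine hgh (hdiv g h ?_)
      rw [hreq g (-1) ?_, hreq h (-1) ?_]
      · obtain ⟨l, hl⟩ : (2 : ℤ) ∣ r h - 1 := by have := hrodd h; omega
        rcases Int.even_or_odd' l with ⟨m, rfl | rfl⟩
        · exfalso
          refine hh (hAC h (mul_inv_eq_iff_eq_mul.1 ?_))
          rw [hreq h 1 ⟨m, by push_cast; omega⟩, zpow_one]
        · exact ⟨m + 1, by push_cast; norm_num; omega⟩
      · obtain ⟨l, hl⟩ : (2 : ℤ) ∣ r g - 1 := by have := hrodd g; omega
        rcases Int.even_or_odd' l with ⟨m, rfl | rfl⟩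
        · exfalso
          refine hg (hAC g (mul_inv_eq_iff_eq_mul.1 ?_))
          rw [hreq g 1 ⟨m, by push_cast; omega⟩, zpow_one]
        · exact ⟨m + 1, by push_cast; norm_num; omega⟩
    rw [Subgroup.index_eq_two_iff_exists_notMem_and']
    exact ⟨g⁻¹, fun h => hg (inv_mem_iff.1 h), fun b => (em (b ∈ A)).symm.imp (fun hb => hsurj b hb) id⟩
  obtain ⟨s, e, F⟩ := exists_frame hidx hg
  rw [ha] at F
  have hna : ¬ IsMulCommutative P := fun h => hg (hAC g (h.is_comm.comm g a))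
  have hab : Nat.card P ≤ 4 * Nat.card (commutator P) := by
    have hmem : a ^ (r g - 1) ∈ commutator P := by
      rw [zpow_sub_one, ← hr g, ← commutatorElement_def]
      exact Subgroup.commutator_mem_commutator (Subgroup.mem_top g) (Subgroup.mem_top a)
    refine le_trans ?_ (Nat.mul_le_mul_left 4 (Nat.le_of_dvd Nat.card_pos
      (Subgroup.card_dvd_of_le (Subgroup.zpowers_le.2 hmem))))
    rw [Nat.card_zpowers, F.card]
    have h1 : a ^ (2 : ℤ) ∈ Subgroup.zpowers (a ^ (r g - 1)) := by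
      obtain ⟨u, hu⟩ := hneg g hg (hinv g)
      by_cases hk3 : 3 ≤ k
      · have hcop : IsCoprime ((2 : ℤ) ^ k) (1 - 2 ^ (k - 2) * u) := by
          refine IsCoprime.pow_left ?_
          refine ⟨(2 : ℤ) ^ (k - 3) * u, 1, ?_⟩
          rw [show k - 2 = k - 3 + 1 by omega, pow_succ']; ring
        obtain ⟨c, d, hcd⟩ := hcop
        refine Subgroup.mem_zpowers_iff.2 ⟨-d, ?_⟩
        rw [← zpow_mul, F.zpow_eq_iff, ZMod.intCast_eq_intCast_iff_dvd_sub]
        refine ⟨2 * c, ?_⟩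
        push_cast
        rw [show r g - 1 = -2 * (1 - 2 ^ (k - 2) * u) by
          have : (2 : ℤ) ^ (k - 1) = 2 * 2 ^ (k - 2) := by rw [← pow_succ']; congr 1; omega
          rw [this] at hu; linarith]
        linear_combination -2 * hcd
      · obtain rfl : k = 2 := by omega
        norm_num at hu
        rcases Int.even_or_odd' u with ⟨m, rfl | rfl⟩
        · refine Subgroup.mem_zpowers_iff.2 ⟨1, ?_⟩
          rw [zpow_one, F.zpow_eq_iff, ZMod.intCast_eq_intCast_iff_dvd_sub]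
          exact ⟨1 - m, by push_cast; omega⟩
        · exfalso
          refine hg (hAC g (mul_inv_eq_iff_eq_mul.1 ?_))
          rw [hreq g 1 ⟨m, by push_cast; omega⟩, zpow_one]
    have h2 : 2 ^ (k - 1) ≤ orderOf (a ^ (r g - 1)) := by
      refine Nat.le_of_dvd (orderOf_pos _) ?_
      obtain ⟨l, hl⟩ := Subgroup.mem_zpowers_iff.1 h1
      have h3 : orderOf (a ^ (2 : ℤ)) ∣ orderOf (a ^ (r g - 1)) := by
        rw [← hl]; exact orderOf_dvd_of_pow_eq_one (by
          rw [← zpow_natCast, ← zpow_mul, mul_comm, zpow_mul, zpow_natCast, pow_orderOf_eq_one, one_zpow])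
      refine dvd_trans ?_ h3
      rw [show (2 : ℤ) = ((2 : ℕ) : ℤ) from rfl, zpow_natCast, orderOf_pow, ha,
        Nat.gcd_eq_right (dvd_pow_self 2 (by omega)),
        show 2 ^ k / 2 = 2 ^ (k - 1) by rw [Nat.div_eq_iff_eq_mul_left two_pos (dvd_pow_self 2 (by omega)),
          ← pow_succ, Nat.sub_add_cancel hk1]]
    have h4 : 2 ^ k = 2 * 2 ^ (k - 1) := by rw [← pow_succ', Nat.sub_add_cancel hk1]
    omega
  obtain ⟨-, r', e', b', hstd, F'⟩ := frame_std F hna hab
  refine ⟨k, r', e', a, b', hstd, F', ?_⟩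
  rintro ⟨rfl, rfl⟩
  obtain ⟨-, ⟨rfl, -⟩ | ⟨h3, -⟩⟩ := hstd
  · obtain ⟨B, hB1, hB2, hB3⟩ := exists_noncyclic_of_dihedral_eight (a := a) (b := b')
      (by norm_num at F'; exact F')
    exact hB3 (hn B hB1 hB2)
  · omega

end CfsgLib.Invol
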