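import Cfsg.Prelude.Def_Local
import Cfsg.Agent.Lib.Invol.TwoClasses
import Cfsg.Agent.Lib.Invol.ElementaryTransitive
import Mathlib.GroupTheory.Transfer

/-!
# An involution with centralizer a four-group
-/

set_option autoImplicit false
set_option linter.unusedSectionVars false

namespace CfsgLib.Invol

open Subgroup

universe u

variable {G : Type u} [Group G] [Finite G]

theorem four_mem_cases {V : Subgroup G} (h4 : Nat.card V = 4) {a b : G} (ha : a ∈ V) (hb : b ∈ V)
    (ha1 : a ≠ 1) (hb1 : b ≠ 1) (hab : a ≠ b) (hab1 : a * b ≠ 1) {c : G} (hc : c ∈ V) :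
    c = 1 ∨ c = a ∨ c = b ∨ c = a * b := by
  classical
  have hs : (({1, a, b, a * b} : Finset G) : Set G) = (V : Set G) := by
    refine Set.eq_of_subset_of_ncard_le ?_ ?_ (Set.toFinite _)
    · intro y hy
      simp only [Finset.coe_insert, Finset.coe_singleton, Set.mem_insert_iff,
        Set.mem_singleton_iff] at hy
      rcases hy with rfl | rfl | rfl | rfl
      exacts [one_mem V, ha, hb, mul_mem ha hb]
    · rw [Set.ncard_coe_finset, ← Nat.card_coe_set_eq]
      show Nat.card V ≤ _
      rw [h4, Finset.card_insert_of_notMem, Finset.card_insert_of_notMem, Finset.card_pair]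
      · intro e
        exact ha1 (mul_eq_right.1 e.symm)
      · simp only [Finset.mem_insert, Finset.mem_singleton, not_or]
        exact ⟨hab, fun e => hb1 (left_eq_mul.1 e)⟩
      · simp only [Finset.mem_insert, Finset.mem_singleton, not_or]
        exact ⟨Ne.symm ha1, Ne.symm hb1, Ne.symm hab1⟩
  have h2 : c ∈ (V : Set G) := hc
  rw [← hs] at h2
  simpa using h2

/-- The centralizer of a conjugate. -/
theorem centralizer_conj (g a : G) :
    centralizer ({g * a * g⁻¹} : Set G) =
      (centralizer ({a} : Set G)).map (MulAut.conj g).toMonoidHom := by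
  ext c
  rw [Subgroup.mem_map_equiv, MulAut.conj_symm_apply, mem_centralizer_singleton_iff,
    mem_centralizer_singleton_iff]
  constructor <;> intro h
  · calc g⁻¹ * c * g * a = g⁻¹ * (c * (g * a * g⁻¹)) * g := by group
      _ = g⁻¹ * (g * a * g⁻¹ * c) * g := by rw [h]
      _ = a * (g⁻¹ * c * g) := by group
  · calc c * (g * a * g⁻¹) = g * (g⁻¹ * c * g * a) * g⁻¹ := by group
      _ = g * (a * (g⁻¹ * c * g)) * g⁻¹ := by rw [h]
      _ = g * a * g⁻¹ * c := by group

theorem card_centralizer_conj {a b : G} (h : IsConj a b) :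
    Nat.card (centralizer ({b} : Set G)) = Nat.card (centralizer ({a} : Set G)) := by
  obtain ⟨g, rfl⟩ := isConj_iff.1 h
  rw [centralizer_conj]
  exact card_map_of_injective (MulAut.conj g).injective

/-- If the four-group `C(x)` is not a Sylow 2-subgroup then `G` has a normal elementary abelian
subgroup of order two or four. -/
theorem exists_normal_small_of_not_sylow {x : G} (hx : orderOf x = 2)
    (hC4 : Nat.card (centralizer ({x} : Set G)) = 4)
    (hCe : ∀ c ∈ centralizer ({x} : Set G), c ^ 2 = 1) (T : Sylow 2 G)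
    (hVT : centralizer ({x} : Set G) ≤ (T : Subgroup G))
    (hne : centralizer ({x} : Set G) ≠ (T : Subgroup G)) :
    ∃ E : Subgroup G, E.Normal ∧ Cfsg.IsElementaryAbelian 2 E ∧
      (Nat.card E = 2 ∨ Nat.card E = 4) := by
  haveI : Fact (Nat.Prime 2) := ⟨Nat.prime_two⟩
  set V := centralizer ({x} : Set G) with hV
  have hxV : x ∈ V := mem_centralizer_singleton_iff.2 rfl
  have hxT : x ∈ (T : Subgroup G) := hVT hxV
  have hx1 := invol_ne_one hx
  have hlt : 4 < Nat.card (T : Subgroup G) := by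
    rw [← hC4]
    refine lt_of_le_of_ne (Nat.le_of_dvd Nat.card_pos (card_dvd_of_le hVT)) fun e => hne ?_
    exact eq_of_le_of_card_ge hVT e.ge
  haveI : Nontrivial (T : Subgroup G) := by
    rw [← Finite.one_lt_card_iff_nontrivial]; omega
  haveI : Nontrivial (center (T : Subgroup G)) := T.2.center_nontrivial
  obtain ⟨⟨⟨z, hzT⟩, hzZ⟩, hz1⟩ := exists_ne (1 : center (T : Subgroup G))
  have hz1 : z ≠ 1 := fun e => hz1 (Subtype.ext (Subtype.ext e))
  have hzc : ∀ t ∈ (T : Subgroup G), t * z = z * t := fun t ht =>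
    congrArg Subtype.val (mem_center_iff.1 hzZ ⟨t, ht⟩)
  have hzV : z ∈ V := mem_centralizer_singleton_iff.2 (hzc x hxT).symm
  have hz : orderOf z = 2 := orderOf_eq_prime (hCe z hzV) hz1
  have hzcard : 4 < Nat.card (centralizer ({z} : Set G)) :=
    hlt.trans_le (Nat.le_of_dvd Nat.card_pos (card_dvd_of_le fun t ht =>
      mem_centralizer_singleton_iff.2 (hzc t ht)))
  have hnconj : ¬ IsConj x z := fun e => by
    rw [card_centralizer_conj e, hC4] at hzcard
    omega
  have hxz : x ≠ z := fun e => hnconj (e ▸ IsConj.refl x)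
  have hxz1 : x * z ≠ 1 := fun e => hxz (by
    rw [eq_inv_of_mul_eq_one_left e, invol_inv hz])
  have hmem : ∀ c ∈ V, c = 1 ∨ c = x ∨ c = z ∨ c = x * z := fun c hc =>
    four_mem_cases hC4 hxV hzV hx1 hz1 hxz hxz1 hc
  -- `x * z` is conjugate to `x`
  have hxzconj : IsConj x (x * z) := by
    haveI : Group.IsNilpotent (T : Subgroup G) := T.2.isNilpotent
    have hlt' : V.subgroupOf (T : Subgroup G) < ⊤ := lt_of_le_of_ne le_top fun e =>
      hne (le_antisymm hVT (subgroupOf_eq_top.1 e))
    obtain ⟨⟨g, hgT⟩, hgN, hgV⟩ :=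
      SetLike.exists_of_lt (Group.normalizerCondition_of_isNilpotent _ hlt')
    have hgx : g * x * g⁻¹ ∈ V :=
      (Subgroup.mem_normalizer_iff.1 hgN ⟨x, hxT⟩).1 (mem_subgroupOf.2 hxV)
    refine isConj_iff.2 ⟨g, ?_⟩
    rcases hmem _ hgx with e | e | e | e
    · exact absurd (conj_eq_one_iff.1 e) hx1
    · exfalso
      apply hgV
      rw [mem_subgroupOf]
      exact mem_centralizer_singleton_iff.2 (mul_inv_eq_iff_eq_mul.1 e)
    · exact absurd (isConj_iff.2 ⟨g, e⟩) hnconj
    · exact e
  have hCxz : centralizer ({x * z} : Set G) = V := by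
    refine (eq_of_le_of_card_ge ?_ ?_).symm
    · intro c hc
      rw [mem_centralizer_singleton_iff]
      have hcx := mem_centralizer_singleton_iff.1 hc
      have hcz : c * z = z * c := hzc c (hVT hc)
      rw [← mul_assoc, hcx, mul_assoc, hcz, ← mul_assoc]
    · rw [card_centralizer_conj hxzconj, hC4]
  -- conjugates of `z` commute with `z`
  have hcomm : ∀ k : G, Commute z (k * z * k⁻¹) := by
    intro k
    set v := k * z * k⁻¹ with hv
    have hvz : IsConj z v := isConj_iff.2 ⟨k, rfl⟩
    have hvo : orderOf v = 2 := invol_conj hz k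
    have hvV : v ∈ V → Commute z v := fun h => (hzc v (hVT h)).symm
    obtain ⟨w, hw, hwx, hwv⟩ :=
      exists_invol_commute_both hx hvo fun e => hnconj (e.trans hvz.symm)
    have hwV : w ∈ V := mem_centralizer_singleton_iff.2 hwx.eq
    rcases hmem w hwV with e | e | e | e
    · exact absurd e (invol_ne_one hw)
    · exact hvV (mem_centralizer_singleton_iff.2 (e ▸ hwv.eq.symm))
    · exact e ▸ hwv
    · apply hvV
      rw [← hCxz, mem_centralizer_singleton_iff]
      exact e ▸ hwv.eq.symm
  -- hence the normal closure of `z` is elementary abelian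
  set S := Set.range (fun k : G => k * z * k⁻¹) with hS
  have hpair : ∀ a ∈ S, ∀ b ∈ S, a * b = b * a := by
    rintro _ ⟨g, rfl⟩ _ ⟨k, rfl⟩
    have h := hcomm (g⁻¹ * k)
    calc g * z * g⁻¹ * (k * z * k⁻¹) = g * (z * (g⁻¹ * k * z * (g⁻¹ * k)⁻¹)) * g⁻¹ := by group
      _ = g * (g⁻¹ * k * z * (g⁻¹ * k)⁻¹ * z) * g⁻¹ := by rw [h.eq]
      _ = k * z * k⁻¹ * (g * z * g⁻¹) := by group
  set E := closure S with hE
  haveI hcommE : IsMulCommutative E := Subgroup.isMulCommutative_closure hpair
  have hEe : ∀ a ∈ E, a ^ 2 = 1 := by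
    intro a ha
    induction ha using Subgroup.closure_induction with
    | mem b hb =>
      obtain ⟨k, rfl⟩ := hb
      rw [← invol_conj hz k]
      exact pow_orderOf_eq_one _
    | one => exact one_pow 2
    | mul b c hb hc ihb ihc =>
      have h := congrArg Subtype.val (hcommE.is_comm.comm (⟨b, hb⟩ : E) ⟨c, hc⟩)
      rw [Commute.mul_pow h, ihb, ihc, mul_one]
    | inv b _ ih => rw [inv_pow, ih, inv_one]
  haveI hEn : E.Normal := by
    refine ⟨fun a ha g => ?_⟩
    have hle : E ≤ E.comap (MulAut.conj g).toMonoidHom := by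
      rw [hE, closure_le]
      rintro _ ⟨k, rfl⟩
      refine subset_closure ⟨g * k, ?_⟩
      show g * k * z * (g * k)⁻¹ = g * (k * z * k⁻¹) * g⁻¹
      group
    exact hle ha
  refine ⟨E, hEn, ⟨hcommE, hEe⟩, ?_⟩
  have hzE : z ∈ E := subset_closure ⟨1, by simp⟩
  have hE2 : IsPGroup 2 E := fun a => ⟨1, by rw [pow_one]; exact Subtype.ext (hEe a a.2)⟩
  obtain ⟨n, hn⟩ := IsPGroup.iff_card.1 hE2
  have hcardE : Nat.card E ≤ 4 := by
    by_cases hxE : x ∈ E
    · refine hC4 ▸ Nat.le_of_dvd Nat.card_pos (card_dvd_of_le fun a ha => ?_)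
      rw [mem_centralizer_singleton_iff]
      exact congrArg Subtype.val (hcommE.is_comm.comm (⟨a, ha⟩ : E) ⟨x, hxE⟩)
    -- fixed points lie in `{1, z}`
    have hfix : ∀ a ∈ E, a * x = x * a → a = 1 ∨ a = z := by
      intro a ha hax
      rcases hmem a (mem_centralizer_singleton_iff.2 hax) with e | e | e | e
      · exact Or.inl e
      · exact absurd (e ▸ ha) hxE
      · exact Or.inr e
      · refine absurd ?_ hxE
        have h2 := mul_mem (e ▸ ha : x * z ∈ E) (inv_mem hzE)
        rwa [mul_inv_cancel_right] at h2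
    letI : CommGroup E :=
      { (inferInstance : Group E) with mul_comm := hcommE.is_comm.comm }
    have hconjE : ∀ a : E, x * (a : G) * x⁻¹ ∈ E := fun a => hEn.conj_mem a a.2 x
    let f : E →* E := MonoidHom.mk' (fun a => a * ⟨x * (a : G) * x⁻¹, hconjE a⟩) fun a b => by
      rw [mul_mul_mul_comm a]
      congr 1
      refine Subtype.ext ?_
      show x * ((a : G) * b) * x⁻¹ = x * (a : G) * x⁻¹ * (x * (b : G) * x⁻¹)
      group
    have hker : Nat.card f.ker ≤ 2 := by
      classical
      have hsub : ∀ a : f.ker, (a : G) = 1 ∨ (a : G) = z := by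
        intro a
        refine hfix _ a.1.2 ?_
        have h := congrArg Subtype.val (MonoidHom.mem_ker.1 a.2)
        have h2 : (a : G) * (x * (a : G) * x⁻¹) = 1 := h
        have h3 : ((a : G))⁻¹ = (a : G) :=
          inv_eq_of_mul_eq_one_right (by rw [← sq]; exact hEe _ a.1.2)
        have h4 : x * (a : G) * x⁻¹ = (a : G) := (inv_eq_of_mul_eq_one_right h2).symm.trans h3
        exact (mul_inv_eq_iff_eq_mul.1 h4).symm
      refine (Nat.card_le_card_of_injective (fun a : f.ker => decide ((a : G) = z)) ?_).trans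
        (le_of_eq (by simp))
      intro a b e
      have e' := decide_eq_decide.1 e
      refine Subtype.ext (Subtype.ext ?_)
      rcases hsub a with ha | ha <;> rcases hsub b with hb | hb
      · rw [ha, hb]
      · exact absurd (e'.2 hb) (fun h => hz1 (h.symm.trans ha))
      · exact absurd (e'.1 ha) (fun h => hz1 (h.symm.trans hb))
      · rw [ha, hb]
    have hrange : Nat.card f.range ≤ 2 := by
      classical
      have hsub : ∀ a : f.range, (a : G) = 1 ∨ (a : G) = z := by
        rintro ⟨_, a, rfl⟩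
        refine hfix _ (f a).2 ?_
        show (a : G) * (x * (a : G) * x⁻¹) * x = x * ((a : G) * (x * (a : G) * x⁻¹))
        have hc : (a : G) * (x * (a : G) * x⁻¹) = (x * (a : G) * x⁻¹) * a :=
          congrArg Subtype.val (hcommE.is_comm.comm a ⟨_, hconjE a⟩)
        have hxi := invol_inv hx
        calc (a : G) * (x * (a : G) * x⁻¹) * x = (x * (a : G) * x⁻¹) * a * x := by rw [hc]
          _ = x * ((a : G) * (x * (a : G) * x⁻¹)) := by rw [hxi]; simp only [mul_assoc]
      refine (Nat.card_le_card_of_injective (fun a : f.range => decide ((a : G) = z)) ?_).trans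
        (le_of_eq (by simp))
      intro a b e
      have e' := decide_eq_decide.1 e
      refine Subtype.ext (Subtype.ext ?_)
      rcases hsub a with ha | ha <;> rcases hsub b with hb | hb
      · rw [ha, hb]
      · exact absurd (e'.2 hb) (fun h => hz1 (h.symm.trans ha))
      · exact absurd (e'.1 ha) (fun h => hz1 (h.symm.trans hb))
      · rw [ha, hb]
    rw [← f.ker.card_mul_index, index_ker]
    exact Nat.mul_le_mul hker hrange
  have hE1 : 1 < Nat.card E := by
    rw [Finite.one_lt_card_iff_nontrivial]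
    exact ⟨⟨⟨z, hzE⟩, 1, fun e => hz1 (congrArg Subtype.val e)⟩⟩
  match n with
  | 0 => rw [hn] at hE1; norm_num at hE1
  | 1 => exact Or.inl hn
  | 2 => exact Or.inr hn
  | n + 3 =>
    have h8 : 8 ≤ 2 ^ (n + 3) := by rw [pow_add]; exact Nat.le_mul_of_pos_left _ (pow_pos two_pos n)
    omega

theorem iso_alternating_five {x : G} (hx : orderOf x = 2)
    (hC4 : Nat.card (centralizer ({x} : Set G)) = 4)
    (hCe : ∀ c ∈ centralizer ({x} : Set G), c ^ 2 = 1)
    (hnc : ¬ Cfsg.HasNormalPComplement 2 G)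
    (hne : ∀ E : Subgroup G, E.Normal → Cfsg.IsElementaryAbelian 2 E →
      Nat.card E ≠ 2 ∧ Nat.card E ≠ 4) :
    Nonempty (G ≃* alternatingGroup (Fin 5)) := by
  haveI : Fact (Nat.Prime 2) := ⟨Nat.prime_two⟩
  set V := centralizer ({x} : Set G) with hV
  obtain ⟨T, hVT⟩ := (IsPGroup.of_card (n := 2) (by rw [hC4]; norm_num) : IsPGroup 2 V).exists_le_sylow
  by_cases heq : V = (T : Subgroup G)
  swap
  · obtain ⟨E, hEn, hEe, h24⟩ := exists_normal_small_of_not_sylow hx hC4 hCe T hVT heq
    exact absurd h24 (not_or.2 ⟨(hne E hEn hEe).1, (hne E hEn hEe).2⟩)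
  have hT4 : Nat.card (T : Subgroup G) = 4 := heq ▸ hC4
  have hTe : ∀ c ∈ (T : Subgroup G), c ^ 2 = 1 := fun c hc => hCe c (heq ▸ hc)
  have hcommT : ∀ a ∈ (T : Subgroup G), ∀ b ∈ (T : Subgroup G), a * b = b * a := by
    intro a ha b hb
    have h1 : ∀ c ∈ (T : Subgroup G), c⁻¹ = c := fun c hc =>
      inv_eq_of_mul_eq_one_right (by rw [← sq]; exact hTe c hc)
    rw [← h1 _ (mul_mem ha hb), mul_inv_rev, h1 a ha, h1 b hb]
  have hxT : x ∈ (T : Subgroup G) := heq ▸ mem_centralizer_singleton_iff.2 rfl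
  have hTle : (T : Subgroup G) ≤ centralizer ((T : Subgroup G) : Set G) := fun a ha =>
    mem_centralizer_iff.2 fun b hb => hcommT b hb a ha
  -- an element of the normalizer moves every involution
  obtain ⟨g, hgN, hgC⟩ : ∃ g ∈ normalizer ((T : Subgroup G) : Set G),
      g ∉ centralizer ((T : Subgroup G) : Set G) := by
    by_contra hno
    push Not at hno
    exact hnc ⟨T, _, inferInstance, MonoidHom.ker_transferSylow_isComplement' T hno⟩
  have hCle : centralizer ((T : Subgroup G) : Set G) ≤ (T : Subgroup G) :=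
    (centralizer_le (Set.singleton_subset_iff.2 hxT)).trans heq.le
  have hmoves : ∀ t ∈ (T : Subgroup G), t ≠ 1 → g * t * g⁻¹ ≠ t := by
    intro t ht ht1 hfix
    obtain ⟨s, hs, hs1, hst⟩ : ∃ s ∈ (T : Subgroup G), s ≠ 1 ∧ s ≠ t := by
      by_contra hno
      push Not at hno
      have hle : (T : Subgroup G) ≤ zpowers t := fun s hs => by
        rcases eq_or_ne s 1 with rfl | hs1
        · exact one_mem _
        · rw [hno s hs hs1]; exact mem_zpowers t
      have := card_dvd_of_le hle
      rw [Nat.card_zpowers, hT4, orderOf_eq_prime (hTe t ht) ht1] at this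
      norm_num at this
    have hconjT : ∀ a ∈ (T : Subgroup G), g * a * g⁻¹ ∈ (T : Subgroup G) := fun a ha =>
      (Subgroup.mem_normalizer_iff.1 hgN a).1 ha
    have hts1 : t * s ≠ 1 := fun e => hst (by
      rw [eq_inv_of_mul_eq_one_right e]
      exact inv_eq_of_mul_eq_one_right (by rw [← sq]; exact hTe t ht))
    have hall : ∀ a ∈ (T : Subgroup G), a = 1 ∨ a = t ∨ a = s ∨ a = t * s := fun a ha =>
      four_mem_cases hT4 ht hs ht1 hs1 (Ne.symm hst) hts1 ha
    have hfix2 : (g * g) * s * (g * g)⁻¹ = s := by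
      rcases hall _ (hconjT s hs) with e | e | e | e
      · exact absurd (conj_eq_one_iff.1 e) hs1
      · exact absurd (mul_left_cancel (mul_right_cancel (e.trans hfix.symm))) hst
      · rw [show (g * g) * s * (g * g)⁻¹ = g * (g * s * g⁻¹) * g⁻¹ by group, e, e]
      · rw [show (g * g) * s * (g * g)⁻¹ = g * (g * s * g⁻¹) * g⁻¹ by group, e,
          show g * (t * s) * g⁻¹ = (g * t * g⁻¹) * (g * s * g⁻¹) by group, hfix, e, ← mul_assoc,
          ← sq, hTe t ht, one_mul]
    have hg2 : g * g ∈ (T : Subgroup G) := by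
      refine hCle (mem_centralizer_iff.2 fun a ha => ?_)
      have key : (g * g) * a * (g * g)⁻¹ = a := by
        have hfixt : (g * g) * t * (g * g)⁻¹ = t := by
          rw [show (g * g) * t * (g * g)⁻¹ = g * (g * t * g⁻¹) * g⁻¹ by group, hfix, hfix]
        rcases hall a ha with rfl | rfl | rfl | rfl
        · rw [mul_one, mul_inv_cancel]
        · exact hfixt
        · exact hfix2
        · rw [show (g * g) * (t * s) * (g * g)⁻¹ =
            ((g * g) * t * (g * g)⁻¹) * ((g * g) * s * (g * g)⁻¹) by group, hfixt, hfix2]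
      exact (mul_inv_eq_iff_eq_mul.1 key).symm
    have hp : IsPGroup 2 (zpowers g) := by
      refine IsPGroup.of_card (n := (Nat.card (zpowers g)).factorization 2) ?_
      have h4 : g ^ 4 = 1 := by
        rw [show g ^ 4 = (g * g) ^ 2 by rw [← sq, ← pow_mul]]
        exact hTe _ hg2
      obtain ⟨j, -, hj⟩ := (Nat.dvd_prime_pow Nat.prime_two).1
        (show orderOf g ∣ 2 ^ 2 from orderOf_dvd_of_pow_eq_one h4)
      rw [Nat.card_zpowers, hj, Nat.Prime.factorization_pow Nat.prime_two, Finsupp.single_eq_same]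
    have hgT : g ∈ (T : Subgroup G) :=
      (T.3 (hp.to_sup_of_normal_right' T.2 (zpowers_le.2 hgN)) le_sup_right).le
        (mem_sup_left (mem_zpowers g))
    exact hgC (hTle hgT)
  -- the three involutions are conjugate
  have hall : ∀ t ∈ (T : Subgroup G), t ≠ 1 → IsConj x t := by
    have hx1 := invol_ne_one hx
    have hconjT : ∀ a ∈ (T : Subgroup G), g * a * g⁻¹ ∈ (T : Subgroup G) := fun a ha =>
      (Subgroup.mem_normalizer_iff.1 hgN a).1 ha
    have hy := hconjT x hxT
    have hy1 : g * x * g⁻¹ ≠ 1 := fun e => hx1 (conj_eq_one_iff.1 e)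
    have hxy : x ≠ g * x * g⁻¹ := Ne.symm (hmoves x hxT hx1)
    have hxy1 : x * (g * x * g⁻¹) ≠ 1 := fun e => hxy (by
      rw [eq_inv_of_mul_eq_one_right e, invol_inv hx])
    intro t ht ht1
    rcases four_mem_cases hT4 hxT hy hx1 hy1 hxy hxy1 ht with rfl | rfl | rfl | rfl
    · exact absurd rfl ht1
    · exact IsConj.refl _
    · exact isConj_iff.2 ⟨g, rfl⟩
    · refine isConj_iff.2 ⟨g * g, ?_⟩
      rw [show g * g * x * (g * g)⁻¹ = g * (g * x * g⁻¹) * g⁻¹ by group]
      rcases four_mem_cases hT4 hxT hy hx1 hy1 hxy hxy1 (hconjT _ hy) with e | e | e | e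
      · exact absurd (conj_eq_one_iff.1 e) hy1
      · exfalso
        refine hmoves _ (mul_mem hxT hy) ht1 ?_
        rw [show g * (x * (g * x * g⁻¹)) * g⁻¹ = (g * x * g⁻¹) * (g * (g * x * g⁻¹) * g⁻¹) by group,
          e, hcommT _ hy _ hxT]
      · exact absurd e (hmoves _ hy hy1)
      · exact e
  have hC : ∀ t : G, orderOf t = 2 → IsMulCommutative (centralizer ({t} : Set G)) ∧
      ∀ c ∈ centralizer ({t} : Set G), c ^ 2 = 1 := by
    intro t ht
    obtain ⟨k, hk⟩ := exists_conj_le_sylow (Q := zpowers t)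
      (IsPGroup.of_card (n := 1) (by rw [Nat.card_zpowers, ht, pow_one])) T
    have hkT : k * t * k⁻¹ ∈ (T : Subgroup G) := hk t (mem_zpowers t)
    obtain ⟨g', hg'⟩ := isConj_iff.1
      ((hall _ hkT (invol_ne_one (invol_conj ht k))).trans (isConj_iff.2 ⟨k⁻¹, by group⟩) : IsConj x t)
    subst hg'
    rw [centralizer_conj, ← hV, heq]
    refine ⟨⟨⟨fun a b => ?_⟩⟩, ?_⟩
    · obtain ⟨a', ha', ea⟩ := mem_map.1 a.2
      obtain ⟨b', hb', eb⟩ := mem_map.1 b.2
      refine Subtype.ext ?_
      rw [coe_mul, coe_mul, ← ea, ← eb, ← map_mul, hcommT a' ha' b' hb', map_mul]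
    · rintro _ ⟨c, hc, rfl⟩
      rw [← map_pow, hTe c hc, map_one]
  have h : ElemCentralizers T := by
    refine ⟨fun hcyc => ?_, fun hn => (hne _ hn ⟨⟨⟨fun a b =>
      Subtype.ext (hcommT _ a.2 _ b.2)⟩⟩, hTe⟩).2 hT4, hC⟩
    obtain ⟨a, ha⟩ := hcyc.exists_ofOrder_eq_natCard
    have h1 := orderOf_dvd_of_pow_eq_one (Subtype.ext (hTe a a.2) : a ^ 2 = 1)
    rw [ha, hT4] at h1
    norm_num at h1
  -- the action on five points
  obtain ⟨u, hu, hux⟩ := h.exists_move_out
  set N := normalizer ((T : Subgroup G) : Set G)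
  have hN : Nat.card N = 12 := by rw [(h.card_normalizer hux).1, hT4]
  classical
  have hothers : Nat.card {P : G ⧸ N // P ≠ ((1 : G) : G ⧸ N)} = 4 := by
    rw [← hT4]
    symm
    refine Nat.card_congr (Equiv.ofBijective (fun t : (T : Subgroup G) =>
      (⟨(t : G) • (u • ((1 : G) : G ⧸ N)), fun e => hux (MulAction.injective (t : G)
        (e.trans (fixed_one_iff.2 (le_normalizer t.2)).symm))⟩ :
          {P : G ⧸ N // P ≠ ((1 : G) : G ⧸ N)})) ⟨?_, ?_⟩)
    · intro a b e
      exact Subtype.ext ((h.regular hu hux fun e' => hux (MulAction.injective (a : G)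
        (e'.trans (fixed_one_iff.2 (le_normalizer a.2)).symm))).unique ⟨a.2, rfl⟩
        ⟨b.2, (congrArg Subtype.val e).symm⟩)
    · rintro ⟨P, hP⟩
      obtain ⟨t, ⟨ht, hP'⟩, -⟩ := h.regular hu hux hP
      exact ⟨⟨t, ht⟩, Subtype.ext hP'⟩
  haveI := Fintype.ofFinite (G ⧸ N)
  have h5 : Fintype.card (G ⧸ N) = 5 := by
    rw [Nat.card_eq_fintype_card, Fintype.card_subtype_compl, Fintype.card_subtype_eq] at hothers
    omega
  set f := MulAction.toPermHom G (G ⧸ N)
  have hinj : Function.Injective f := by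
    rw [injective_iff_map_eq_one]
    intro a ha
    have hall' : ∀ P : G ⧸ N, a • P = P := fun P => by
      have := congrArg (fun σ : Equiv.Perm (G ⧸ N) => σ P) ha
      simpa [f] using this
    obtain ⟨P, hP1, hP2⟩ : ∃ P : G ⧸ N, P ≠ ((1 : G) : G ⧸ N) ∧ P ≠ u • ((1 : G) : G ⧸ N) := by
      by_contra hno
      push Not at hno
      have hsub : (Finset.univ : Finset (G ⧸ N)) ⊆
          {((1 : G) : G ⧸ N), u • ((1 : G) : G ⧸ N)} := by
        intro P _
        simp only [Finset.mem_insert, Finset.mem_singleton]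
        exact or_iff_not_imp_left.2 (hno P)
      have := (Finset.card_le_card hsub).trans Finset.card_le_two
      rw [Finset.card_univ, h5] at this
      omega
    exact h.three_fixed hux.symm hP1.symm hP2.symm (hall' _) (hall' _) (hall' _)
  have hidx : f.range.index = 2 := by
    have h1 := f.range.card_mul_index
    have hcardG : Nat.card G = 12 * 5 := by
      rw [← N.card_mul_index, hN, Subgroup.index, Nat.card_eq_fintype_card, h5]
    rw [← Nat.card_congr (MonoidHom.ofInjective hinj).toEquiv, hcardG, Nat.card_perm,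
      Nat.card_eq_fintype_card, h5, show Nat.factorial 5 = 120 from rfl] at h1
    omega
  exact ⟨((MonoidHom.ofInjective hinj).trans
    (MulEquiv.subgroupCongr (Equiv.Perm.eq_alternatingGroup_of_index_eq_two hidx))).trans
    (Fintype.equivFinOfCardEq h5).altCongrHom⟩

end CfsgLib.Invol
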