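import Cfsg.Agent.Lib.Invol.BGroup
import Cfsg.Agent.Lib.Coprime.FpfAction
import Cfsg.Agent.S3912

/-!
# Sylow subgroups of a solvable group in which equal-order abelian subgroups are conjugate
-/

set_option autoImplicit false
set_option linter.style.haveILetI false
set_option linter.unusedSectionVars false

namespace CfsgLib.Invol

open Subgroup CfsgLib.Coprime

universe u

variable {G : Type u} [Group G] [Finite G]

/-- If an abelian group acts on an abelian group so that all stabilizers of non-trivial elements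
have the same order, then they all coincide. -/
theorem centralizer_inf_eq {P N : Subgroup G} [IsMulCommutative P] [IsMulCommutative N]
    (hPN : P ≤ normalizer (N : Set G)) (s : ℕ)
    (hs : ∀ n ∈ N, n ≠ 1 → Nat.card (P ⊓ centralizer {n} : Subgroup G) = s)
    {n m : G} (hn : n ∈ N) (hn1 : n ≠ 1) (hm : m ∈ N) (hm1 : m ≠ 1) :
    P ⊓ centralizer {n} = P ⊓ centralizer {m} := by
  set B := P ⊓ centralizer {n} with hB
  set C := P ⊓ centralizer {m} with hC
  by_contra hne
  have hfix : ∀ {b a x : G}, b ∈ P → a ∈ P → b * x = x * b →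
      b * (a * x * a⁻¹) = (a * x * a⁻¹) * b := by
    intro b a x hb ha hx
    have hab : b * a = a * b := congrArg Subtype.val (mul_comm' (⟨b, hb⟩ : P) ⟨a, ha⟩)
    have hab' : Commute b a⁻¹ := Commute.inv_right hab
    calc b * (a * x * a⁻¹) = a * (b * x) * a⁻¹ := by rw [← mul_assoc, ← mul_assoc, hab]; group
      _ = a * x * (b * a⁻¹) := by rw [hx]; group
      _ = a * x * a⁻¹ * b := by rw [hab'.eq]; group
  by_cases hnm : n * m = 1
  · exact hne (by
      rw [hB, hC, eq_inv_of_mul_eq_one_right hnm]
      congr 1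
      exact SetLike.ext fun x => by
        rw [mem_centralizer_singleton_iff, mem_centralizer_singleton_iff]
        exact ⟨fun h => ((show Commute x n from h).inv_right).eq,
          fun h => by simpa using ((show Commute x n⁻¹ from h).inv_right).eq⟩)
  set D := P ⊓ centralizer {n * m} with hD
  have key : ∀ a ∈ D, a ∈ B ∧ a ∈ C := by
    intro a ha
    obtain ⟨haP, hac⟩ := mem_inf.1 ha
    rw [mem_centralizer_singleton_iff] at hac
    have hconj : ∀ {x : G}, x ∈ N → a * x * a⁻¹ ∈ N := fun {x} hx =>
      (mem_normalizer_iff.1 (hPN haP) x).1 hx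
    have hcomm : ∀ {x y : G}, x ∈ N → y ∈ N → x * y = y * x := fun {x y} hx hy =>
      congrArg Subtype.val (mul_comm' (⟨x, hx⟩ : N) ⟨y, hy⟩)
    set d := a * n * a⁻¹ * n⁻¹ with hd
    have hdN : d ∈ N := mul_mem (hconj hn) (inv_mem hn)
    have heq : (a * n * a⁻¹) * (a * m * a⁻¹) = n * m := by
      rw [show (a * n * a⁻¹) * (a * m * a⁻¹) = a * (n * m) * a⁻¹ by group, hac]; group
    have hd' : d = m * (a * m * a⁻¹)⁻¹ := by
      have h1 : a * n * a⁻¹ = n * (m * (a * m * a⁻¹)⁻¹) := by
        rw [← mul_assoc, eq_mul_inv_iff_mul_eq]; exact heq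
      rw [hd, h1, hcomm hn (mul_mem hm (inv_mem (hconj hm))), mul_inv_cancel_right]
    have hd1 : d = 1 := by
      by_contra hd1
      apply hne
      have hle : ∀ b ∈ B, b ∈ P ⊓ centralizer {d} := by
        intro b hb
        obtain ⟨hbP, hbn⟩ := mem_inf.1 hb
        rw [mem_centralizer_singleton_iff] at hbn
        refine ⟨hbP, mem_centralizer_singleton_iff.2 ?_⟩
        exact (Commute.mul_right (hfix hbP haP hbn) (Commute.inv_right hbn)).eq
      have hle' : ∀ b ∈ C, b ∈ P ⊓ centralizer {d} := by
        intro b hb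
        obtain ⟨hbP, hbn⟩ := mem_inf.1 hb
        rw [mem_centralizer_singleton_iff] at hbn
        refine ⟨hbP, mem_centralizer_singleton_iff.2 ?_⟩
        rw [hd']
        exact (Commute.mul_right hbn (Commute.inv_right (hfix hbP haP hbn))).eq
      rw [eq_of_le_of_card_ge hle (by rw [hs d hdN hd1, hs n hn hn1]),
        eq_of_le_of_card_ge hle' (by rw [hs d hdN hd1, hs m hm hm1])]
    have han : a * n = n * a := mul_inv_eq_iff_eq_mul.1 (mul_inv_eq_one.1 hd1)
    refine ⟨⟨haP, mem_centralizer_singleton_iff.2 han⟩, haP, mem_centralizer_singleton_iff.2 ?_⟩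
    rw [hd1] at hd'
    exact mul_inv_eq_iff_eq_mul.1 (mul_inv_eq_one.1 hd'.symm).symm
  apply hne
  rw [← eq_of_le_of_card_ge (H := D) (K := B) (fun a ha => (key a ha).1)
      (by rw [hs n hn hn1, hs _ (mul_mem hn hm) hnm]),
    ← eq_of_le_of_card_ge (H := D) (K := C) (fun a ha => (key a ha).2)
      (by rw [hs m hm hm1, hs _ (mul_mem hn hm) hnm])]

theorem card_sup_of_normal (V H : Subgroup G) [V.Normal] (h : V ⊓ H = ⊥) :
    Nat.card (V ⊔ H : Subgroup G) = Nat.card V * Nat.card H := by
  have h1 := card_mul_index (V.subgroupOf (H ⊔ V))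
  rw [Nat.card_congr (subgroupOfEquivOfLe le_sup_right).toEquiv, ← relIndex, relIndex_sup_right,
    ← inf_relIndex_right, h, relIndex_bot_left, sup_comm] at h1
  exact h1.symm

theorem card_map_conj (H : Subgroup G) (g : G) :
    Nat.card (H.map (MulAut.conj g).toMonoidHom) = Nat.card H :=
  card_map_of_injective (MulEquiv.injective _)

/-- A noncyclic Sylow subgroup of exponent `p` is normal and abelian. -/
theorem AbelianConjugate.normal_of_noncyclic (hB : AbelianConjugate G) [Group.IsSolvable G]
    {p : ℕ} [hp : Fact p.Prime] (P : Sylow p G) (hexp : ∀ x ∈ (P : Subgroup G), x ^ p = 1)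
    (hnc : ¬ IsCyclic P) : (P : Subgroup G).Normal ∧ IsMulCommutative (P : Subgroup G) := by
  induction hn : Nat.card G using Nat.strong_induction_on generalizing G with
  | _ n ih =>
    subst hn
    haveI hnt : Nontrivial G := by
      by_contra h
      rw [not_nontrivial_iff_subsingleton] at h
      exact hnc inferInstance
    obtain ⟨N, hNn, hN, -, hNmin⟩ := exists_minimal_normal_le (G := G) (N := ⊤) (by
      exact top_ne_bot)
    haveI := hNn
    obtain ⟨hNcomm, q, hq, hNexp⟩ := minimal_normal_solvable hN hNmin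
    haveI : IsMulCommutative N := ⟨⟨fun a b => Subtype.ext (hNcomm a a.2 b b.2)⟩⟩
    haveI : Fact q.Prime := ⟨hq⟩
    have hNq : IsPGroup q N := fun x => ⟨1, Subtype.ext (by simpa using hNexp x x.2)⟩
    by_cases hpq : q = p
    · subst hpq
      have hdvd : q ∣ Nat.card N := by
        obtain ⟨k, hk⟩ := hNq.exists_card_eq
        rw [hk]
        refine dvd_pow_self q fun hk0 => hN (Subgroup.card_eq_one.1 ?_)
        rw [hk, hk0, pow_zero]
      have hidx := hB.not_dvd_index_of_exponent P hexp N hdvd
      obtain ⟨R, hR⟩ := hNq.exists_le_sylow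
      have hNR : N = (R : Subgroup G) := by
        refine eq_of_le_of_card_ge hR ?_
        rw [R.card_eq_multiplicity]
        refine Nat.le_of_dvd Nat.card_pos ?_
        have h1 := Nat.ordProj_dvd (Nat.card G) q
        rw [← N.card_mul_index] at h1 ⊢
        exact ((hq.coprime_iff_not_dvd.2 hidx).pow_left _).dvd_of_dvd_mul_right h1
      haveI : (R : Subgroup G).Normal := hNR ▸ hNn
      haveI := Sylow.unique_of_normal R inferInstance
      have hPN : (P : Subgroup G) = N := by rw [Subsingleton.elim P R, hNR]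
      rw [hPN]
      exact ⟨hNn, inferInstance⟩
    · have hcop : ¬ p ∣ Nat.card N := by
        obtain ⟨k, hk⟩ := hNq.exists_card_eq
        rw [hk]
        exact fun h => hpq ((Nat.prime_dvd_prime_iff_eq hp.out hq).1 (hp.out.dvd_of_dvd_pow h)).symm
      have hdisj : (P : Subgroup G) ⊓ N = ⊥ := by
        refine (eq_bot_iff_forall _).2 fun x hx => ?_
        obtain ⟨k, hk⟩ := P.2.exists_card_eq
        exact orderOf_eq_one_iff.1 (Nat.eq_one_of_dvd_coprimes
          (hk ▸ (hp.out.coprime_iff_not_dvd.2 hcop).pow_left k)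
          (Subgroup.orderOf_dvd_natCard _ hx.1) (Subgroup.orderOf_dvd_natCard _ hx.2))
      set π := QuotientGroup.mk' N with hπ
      set P' := P.mapSurjective (QuotientGroup.mk'_surjective N) with hP'
      have hP'coe : (P' : Subgroup (G ⧸ N)) = (P : Subgroup G).map π := Sylow.coe_mapSurjective _ _
      have hinj : Function.Injective (π.subgroupMap (P : Subgroup G)) :=
        (injective_iff_map_eq_one _).2 fun x hx => Subtype.ext (mem_bot.1 (hdisj ▸
          (⟨x.2, (QuotientGroup.eq_one_iff (x : G)).1 (congrArg Subtype.val hx)⟩ :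
            (x : G) ∈ (P : Subgroup G) ⊓ N)))
      have hBQ : AbelianConjugate (G ⧸ N) := Cfsg.Agent.S3912.result hB inferInstance N
      obtain ⟨hP'n, hP'c⟩ := ih (Nat.card (G ⧸ N)) (by
          rw [Subgroup.card_eq_card_quotient_mul_card_subgroup N]
          exact lt_mul_of_one_lt_right Nat.card_pos ((Subgroup.one_lt_card_iff_ne_bot _).2 hN))
        hBQ P' (fun x hx => by
          rw [hP'coe] at hx
          obtain ⟨y, hy, rfl⟩ := hx
          rw [← map_pow, hexp y hy, map_one])
        (fun hc => hnc (by
          rw [hP'coe] at hc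
          haveI := hc
          exact isCyclic_of_injective (π.subgroupMap (P : Subgroup G)) hinj)) rfl
      rw [hP'coe] at hP'n hP'c
      haveI : IsMulCommutative (P : Subgroup G) := ⟨⟨fun a b => hinj (by
        rw [map_mul, map_mul]
        exact @mul_comm' _ _ hP'c _ _)⟩⟩
      refine ⟨?_, inferInstance⟩
      set J := (P : Subgroup G) ⊔ N with hJ
      haveI hJn : J.Normal := by
        rw [hJ, ← QuotientGroup.ker_mk' N, ← comap_map_eq]
        exact hP'n.comap _
      have hPN : (P : Subgroup G) ≤ normalizer (N : Set G) := fun x _ => by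
        rw [Subgroup.normalizer_eq_top_iff.2 hNn]; trivial
      -- stabilizers of non-trivial elements of `N` have a common order
      have hgen : ∀ n ∈ N, ∀ m ∈ N, n ≠ 1 → m ≠ 1 →
          Nat.card ((P : Subgroup G) ⊓ centralizer {n} : Subgroup G) =
            Nat.card ((P : Subgroup G) ⊓ centralizer {m} : Subgroup G) := by
        intro n hn m hm hn1 hm1
        obtain ⟨g, y, hy, hgy⟩ := hB.mem_conj_zpowers (a := n) (b := m)
          (by rw [orderOf_eq_prime (hNexp n hn) hn1, orderOf_eq_prime (hNexp m hm) hm1])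
        have hJcard : ∀ x ∈ N, Nat.card (J ⊓ centralizer {x} : Subgroup G) =
            Nat.card N * Nat.card ((P : Subgroup G) ⊓ centralizer {x} : Subgroup G) := by
          intro x hx
          have hNC : N ≤ centralizer {x} := fun z hz => mem_centralizer_singleton_iff.2 (hNcomm z hz x hx)
          have hsplit : J ⊓ centralizer {x} = ((P : Subgroup G) ⊓ centralizer {x}) ⊔ N := by
            refine le_antisymm ?_ (sup_le (inf_le_inf_right _ le_sup_left) (le_inf le_sup_right hNC))
            rintro z ⟨hzJ, hzc⟩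
            obtain ⟨a, ha, b, hb, rfl⟩ := (mem_sup_of_normal_right (s := (P : Subgroup G)) (t := N)).1 hzJ
            refine mul_mem_sup ⟨ha, ?_⟩ hb
            have hzc' : a * b ∈ centralizer ({x} : Set G) := hzc
            have := mul_mem hzc' (inv_mem (hNC hb))
            rwa [mul_inv_cancel_right] at this
          rw [hsplit, sup_comm]
          exact card_sup_of_normal N _ (le_bot_iff.1
            ((inf_le_inf_left N inf_le_left).trans ((inf_comm N _).trans hdisj).le))
        obtain ⟨j, rfl⟩ := hy
        have hnj : n ^ j ∈ N := zpow_mem hn j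
        have hcm : Nat.card (J ⊓ centralizer {n} : Subgroup G) ≤ Nat.card (J ⊓ centralizer {m} : Subgroup G) := by
          rw [← card_map_conj _ g]
          refine Subgroup.card_le_of_le ?_
          rintro _ ⟨z, ⟨hzJ, hzc⟩, rfl⟩
          refine ⟨hJn.conj_mem z hzJ g, ?_⟩
          have hz : Commute z n := mem_centralizer_singleton_iff.1 hzc
          refine mem_centralizer_singleton_iff.2 ?_
          rw [← hgy]
          exact ((hz.zpow_right j).map (MulAut.conj g).toMonoidHom).eq
        rw [hJcard n hn, hJcard m hm] at hcm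
        refine le_antisymm (Nat.le_of_mul_le_mul_left hcm Nat.card_pos) ?_
        obtain ⟨g', y', hy', hgy'⟩ := hB.mem_conj_zpowers (a := m) (b := n)
          (by rw [orderOf_eq_prime (hNexp n hn) hn1, orderOf_eq_prime (hNexp m hm) hm1])
        obtain ⟨i, rfl⟩ := hy'
        have hcn : Nat.card (J ⊓ centralizer {m} : Subgroup G) ≤ Nat.card (J ⊓ centralizer {n} : Subgroup G) := by
          rw [← card_map_conj _ g']
          refine Subgroup.card_le_of_le ?_
          rintro _ ⟨z, ⟨hzJ, hzc⟩, rfl⟩
          refine ⟨hJn.conj_mem z hzJ g', ?_⟩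
          have hz : Commute z m := mem_centralizer_singleton_iff.1 hzc
          refine mem_centralizer_singleton_iff.2 ?_
          rw [← hgy']
          exact ((hz.zpow_right i).map (MulAut.conj g').toMonoidHom).eq
        rw [hJcard n hn, hJcard m hm] at hcn
        exact Nat.le_of_mul_le_mul_left hcn Nat.card_pos
      obtain ⟨b, hbP, hb1, n₀, hn₀, hn₀1, hbn⟩ : ∃ b ∈ (P : Subgroup G), b ≠ 1 ∧
          ∃ n₀ ∈ N, n₀ ≠ 1 ∧ b ∈ centralizer ({n₀} : Set G) := by
        by_contra hno
        push_neg at hno
        refine hnc (IsFpfOn.isCyclic (A := (P : Subgroup G)) (K := N) hPN (fun a ha ha1 => ?_) hN)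
        refine (eq_bot_iff_forall _).2 fun x hx => ?_
        by_contra hx1
        exact hno a ha ha1 x hx.1 hx1
          (mem_centralizer_singleton_iff.2 (mem_centralizer_singleton_iff.1 hx.2).symm)
      set K := J ⊓ centralizer (N : Set G) with hK
      have hbK : b ∈ K := by
        refine ⟨le_sup_left (a := (P : Subgroup G)) hbP, mem_centralizer_iff.2 fun x hx => ?_⟩
        by_cases hx1 : x = 1
        · simp [hx1]
        have h2 : b ∈ (P : Subgroup G) ⊓ centralizer {x} := by
          rw [← centralizer_inf_eq hPN _ (fun m hm hm1 => hgen m hm n₀ hn₀ hm1 hn₀1) hn₀ hn₀1 hx hx1]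
          exact ⟨hbP, hbn⟩
        exact (mem_centralizer_singleton_iff.1 h2.2).symm
      haveI : K.Normal := Subgroup.normal_inf_normal _ _
      have hPK : (P : Subgroup G) ≤ K := fun x hx => by
        by_cases hx1 : x = 1
        · exact hx1 ▸ one_mem K
        · exact hB.mem_of_normal K hbK (by
            rw [orderOf_eq_prime (hexp b hbP) hb1, orderOf_eq_prime (hexp x hx) hx1])
      refine ⟨fun x hx g => ?_⟩
      obtain ⟨a, ha, c, hc, hac⟩ := (mem_sup_of_normal_right (s := (P : Subgroup G)) (t := N)).1
        (hJn.conj_mem x (le_sup_left (a := (P : Subgroup G)) hx) g)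
      have hcomm : Commute a c := (mem_centralizer_iff.1 (hPK ha).2 c hc).symm
      have h1 : (g * x * g⁻¹) ^ p = 1 := by rw [conj_pow, hexp x hx]; group
      rw [← hac, hcomm.mul_pow, hexp a ha, one_mul] at h1
      have hc1 : c = 1 := orderOf_eq_one_iff.1 (Nat.eq_one_of_dvd_coprimes
        (hp.out.coprime_iff_not_dvd.2 hcop) (orderOf_dvd_of_pow_eq_one h1)
        (Subgroup.orderOf_dvd_natCard N hc))
      rw [← hac, hc1, mul_one]
      exact ha

end CfsgLib.Invol
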