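import Mathlib.GroupTheory.SpecificGroups.Alternating
import Cfsg.Agent.Lib.Invol.Basic

/-!
# Groups of order 12 without central involutions
-/

namespace CfsgLib.Invol

variable {G : Type*} [Group G] [Finite G]

theorem card_sylow_three_eq_four (hG : Nat.card G = 12)
    (hz : ∀ z : G, orderOf z = 2 → z ∉ Subgroup.center G) : Nat.card (Sylow 3 G) = 4 := by
  classical
  have := Fact.mk (Nat.prime_three)
  have h1 := card_sylow_modEq_one 3 G
  obtain ⟨P⟩ := (inferInstance : Nonempty (Sylow 3 G))
  have hP : Nat.card (P : Subgroup G) = 3 := by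
    rw [P.card_eq_multiplicity, hG]
    norm_num [show (12 : ℕ).factorization 3 = 1 by
      rw [show (12 : ℕ) = 2 ^ 2 * 3 ^ 1 by norm_num, Nat.factorization_mul (by norm_num) (by norm_num),
        Nat.Prime.factorization_pow Nat.prime_two, Nat.Prime.factorization_pow Nat.prime_three]
      simp]
  have hidx : (P : Subgroup G).index = 4 := by
    have := (P : Subgroup G).card_mul_index
    rw [hP, hG] at this
    omega
  have hd : Nat.card (Sylow 3 G) ∣ 4 := hidx ▸ P.card_dvd_index
  have hmem : Nat.card (Sylow 3 G) ∈ Nat.divisors 4 := Nat.mem_divisors.2 ⟨hd, by norm_num⟩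
  rw [show Nat.divisors 4 = {1, 2, 4} by decide] at hmem
  simp only [Finset.mem_insert, Finset.mem_singleton] at hmem
  rcases hmem with h | h | h
  · exfalso
    have hsub : Subsingleton (Sylow 3 G) := (Nat.card_eq_one_iff_unique.1 h).1
    have hn : (P : Subgroup G).Normal := Sylow.normal_of_subsingleton P
    -- the conjugation action on the normal subgroup of order 3
    have hPc : IsCyclic (P : Subgroup G) := isCyclic_of_prime_card hP
    have hker : Even (Nat.card (MulAut.conjNormal (H := (P : Subgroup G))).ker) := by
      set f := MulAut.conjNormal (H := (P : Subgroup G))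
      have hr : Nat.card f.range ∣ 2 := by
        have := Subgroup.card_subgroup_dvd_card f.range
        rwa [hPc.card_mulAut, hP, show Nat.totient 3 = 2 from rfl] at this
      have h2 := f.ker.card_mul_index
      rw [Subgroup.index_ker, hG] at h2
      obtain ⟨c, hc⟩ := hr
      rw [even_iff_two_dvd]
      refine ⟨3 * c, ?_⟩
      have : Nat.card f.ker * Nat.card f.range * c = 12 * c := by rw [h2]
      rw [mul_assoc, ← hc] at this
      omega
    obtain ⟨z, hzk, hzo⟩ := exists_invol_mem hker
    have hzP : ∀ a ∈ P, Commute a z := fun a ha => by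
      have h3 := congrArg (fun e : MulAut (P : Subgroup G) => ((e ⟨a, ha⟩ : (P : Subgroup G)) : G))
        (MonoidHom.mem_ker.1 hzk)
      simp only [MulAut.conjNormal_apply, MulAut.one_apply] at h3
      exact (mul_inv_eq_iff_eq_mul.1 h3).symm
    have hz2 : IsPGroup 2 (Subgroup.zpowers z) :=
      IsPGroup.of_card (n := 1) (by rw [Nat.card_zpowers, hzo, pow_one])
    obtain ⟨Q, hQ⟩ := hz2.exists_le_sylow
    have hQc : Nat.card (Q : Subgroup G) = 4 := by
      rw [Q.card_eq_multiplicity, hG]
      norm_num [show (12 : ℕ).factorization 2 = 2 by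
        rw [show (12 : ℕ) = 2 ^ 2 * 3 ^ 1 by norm_num, Nat.factorization_mul (by norm_num) (by norm_num),
          Nat.Prime.factorization_pow Nat.prime_two, Nat.Prime.factorization_pow Nat.prime_three]
        simp]
    have hQcomm : IsMulCommutative (Q : Subgroup G) :=
      IsPGroup.isMulCommutative_of_card_eq_prime_sq (p := 2) (by rw [hQc]; norm_num)
    apply hz z hzo
    have hle : ((P : Subgroup G) ⊔ (Q : Subgroup G)) ≤ Subgroup.centralizer ({z} : Set G) := by
      refine sup_le (fun a ha => ?_) (fun a ha => ?_)
      · exact Subgroup.mem_centralizer_singleton_iff.2 (hzP a ha).eq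
      · rw [Subgroup.mem_centralizer_singleton_iff]
        exact congrArg Subtype.val (hQcomm.is_comm.comm (⟨a, ha⟩ : (Q : Subgroup G))
          ⟨z, hQ (Subgroup.mem_zpowers z)⟩)
    have htop : ((P : Subgroup G) ⊔ (Q : Subgroup G)) = ⊤ := by
      refine Subgroup.eq_top_of_le_card _ (Nat.le_of_dvd Nat.card_pos ?_)
      rw [hG]
      exact (show Nat.Coprime 3 4 by norm_num).mul_dvd_of_dvd_of_dvd
        ((dvd_of_eq hP.symm).trans (Subgroup.card_dvd_of_le le_sup_left))
        ((dvd_of_eq hQc.symm).trans (Subgroup.card_dvd_of_le le_sup_right))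
    rw [htop] at hle
    rw [Subgroup.mem_center_iff]
    exact fun g => (Subgroup.mem_centralizer_singleton_iff.1 (hle (Subgroup.mem_top g)))
  · rw [h] at h1; exact absurd h1 (by decide)
  · exact h

theorem mulEquiv_alternating_four (hG : Nat.card G = 12)
    (hz : ∀ z : G, orderOf z = 2 → z ∉ Subgroup.center G) :
    Nonempty (G ≃* alternatingGroup (Fin 4)) := by
  classical
  have := Fact.mk (Nat.prime_three)
  have h4 := card_sylow_three_eq_four hG hz
  let e : Sylow 3 G ≃ Fin 4 := (Nat.equivFinOfCardPos (by omega)).trans (finCongr h4)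
  let f : G →* Equiv.Perm (Fin 4) :=
    e.permCongrHom.toMonoidHom.comp (MulAction.toPermHom G (Sylow 3 G))
  have hfix : ∀ g, f g = 1 → ∀ P : Sylow 3 G, g ∈ (P : Subgroup G) := by
    intro g hg P
    have h2 : g • P = P := by
      have : MulAction.toPermHom G (Sylow 3 G) g = 1 := by
        apply e.permCongrHom.injective
        rw [map_one]; exact hg
      exact congrArg (fun σ : Equiv.Perm (Sylow 3 G) => σ P) this
    rw [Sylow.smul_eq_iff_mem_normalizer] at h2
    have hc := P.card_eq_index_normalizer
    rw [h4] at hc
    have hN := (Subgroup.normalizer ((P : Subgroup G) : Set G)).card_mul_index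
    have hc' : 4 = (Subgroup.normalizer ((P : Subgroup G) : Set G)).index := hc
    rw [← hc', hG] at hN
    have hP : Nat.card (P : Subgroup G) = 3 := by
      rw [P.card_eq_multiplicity, hG]
      norm_num [show (12 : ℕ).factorization 3 = 1 by
        rw [show (12 : ℕ) = 2 ^ 2 * 3 ^ 1 by norm_num, Nat.factorization_mul (by norm_num) (by norm_num),
          Nat.Prime.factorization_pow Nat.prime_two, Nat.Prime.factorization_pow Nat.prime_three]
        simp]
    rwa [Subgroup.eq_of_le_of_card_ge (P : Subgroup G).le_normalizer (by omega)]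
  have hinj : Function.Injective f := by
    rw [← MonoidHom.ker_eq_bot_iff, eq_bot_iff]
    intro g hg
    obtain ⟨P, Q, hPQ⟩ := (Finite.one_lt_card_iff_nontrivial.1 (by omega)).exists_pair_ne
      (α := Sylow 3 G)
    by_contra hg1
    apply hPQ
    have hp : ∀ R : Sylow 3 G, Subgroup.zpowers g = (R : Subgroup G) := by
      intro R
      have hR : Nat.card (R : Subgroup G) = 3 := by
        rw [R.card_eq_multiplicity, hG]
        norm_num [show (12 : ℕ).factorization 3 = 1 by
          rw [show (12 : ℕ) = 2 ^ 2 * 3 ^ 1 by norm_num, Nat.factorization_mul (by norm_num) (by norm_num),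
            Nat.Prime.factorization_pow Nat.prime_two, Nat.Prime.factorization_pow Nat.prime_three]
          simp]
      have hle := Subgroup.zpowers_le.2 (hfix g (MonoidHom.mem_ker.1 hg) R)
      refine Subgroup.eq_of_le_of_card_ge hle ?_
      rw [hR]
      have := Subgroup.card_dvd_of_le hle
      rw [hR, Nat.dvd_prime Nat.prime_three, Nat.card_zpowers] at this
      rcases this with h | h
      · exact absurd (orderOf_eq_one_iff.1 h) (by simpa using hg1)
      · rw [Nat.card_zpowers, h]
    exact Sylow.ext ((hp P).symm.trans (hp Q))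
  have hidx : f.range.index = 2 := by
    have h1 := f.range.card_mul_index
    rw [← Nat.card_congr (MonoidHom.ofInjective hinj).toEquiv, hG, Nat.card_perm, Nat.card_fin,
      show Nat.factorial 4 = 24 from rfl] at h1
    omega
  exact ⟨(MonoidHom.ofInjective hinj).trans
    (MulEquiv.subgroupCongr (Equiv.Perm.eq_alternatingGroup_of_index_eq_two hidx))⟩

end CfsgLib.Invol
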