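import Cfsg.Prelude.Def_Transfer
import Cfsg.Agent.Lib.Invol.TI

/-!
# Weakly closed subgroups
-/

namespace CfsgLib.Invol

variable {G : Type*} [Group G] [Finite G] {p : ℕ} [Fact p.Prime]

/-- Two conjugates of a weakly closed subgroup lying in a common `p`-subgroup are equal. -/
theorem conj_eq_of_le_pGroup (P : Sylow p G) {W : Subgroup G}
    (hW : Cfsg.IsWeaklyClosed W (P : Subgroup G)) {a b : G} {Q : Subgroup G} (hQ : IsPGroup p Q)
    (ha : W.map (MulAut.conj a).toMonoidHom ≤ Q) (hb : W.map (MulAut.conj b).toMonoidHom ≤ Q) :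
    W.map (MulAut.conj a).toMonoidHom = W.map (MulAut.conj b).toMonoidHom := by
  obtain ⟨k, hk⟩ := exists_conj_le_sylow hQ P
  have key : ∀ c, W.map (MulAut.conj c).toMonoidHom ≤ Q →
      W.map (MulAut.conj (k * c)).toMonoidHom = W := by
    intro c hc
    refine hW.2 _ fun x hx => ?_
    rw [mem_conj_map] at hx
    have h1 : k⁻¹ * x * k ∈ Q := hc (mem_conj_map.2 (by
      have : c⁻¹ * (k⁻¹ * x * k) * c = (k * c)⁻¹ * x * (k * c) := by group
      rwa [this]))
    have := hk _ h1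
    have e : k * (k⁻¹ * x * k) * k⁻¹ = x := by group
    rwa [e] at this
  have h := (key a ha).trans (key b hb).symm
  have h2 := congrArg (fun K : Subgroup G => K.map (MulAut.conj k⁻¹).toMonoidHom) h
  simpa only [conj_map_conj_map, inv_mul_cancel_left] using h2

/-- Inside a subgroup, conjugates of a weakly closed subgroup are conjugate. -/
theorem exists_mem_conj_eq (P : Sylow p G) {W : Subgroup G}
    (hW : Cfsg.IsWeaklyClosed W (P : Subgroup G)) {H : Subgroup G} {a : G} (h1 : W ≤ H)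
    (ha : W.map (MulAut.conj a).toMonoidHom ≤ H) :
    ∃ c ∈ H, W.map (MulAut.conj c).toMonoidHom = W.map (MulAut.conj a).toMonoidHom := by
  have hp1 : IsPGroup p W := P.2.to_le hW.1
  have hp2 : IsPGroup p (W.map (MulAut.conj a).toMonoidHom) := hp1.map _
  obtain ⟨Q2, hQ2⟩ := (hp2.comap_of_injective H.subtype Subtype.coe_injective).exists_le_sylow
  obtain ⟨k, hk⟩ := exists_conj_le_sylow (hp1.comap_of_injective H.subtype Subtype.coe_injective) Q2
  refine ⟨k, k.2, conj_eq_of_le_pGroup P hW (Q := (Q2 : Subgroup H).map H.subtype)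
    (Q2.2.map _) ?_ ?_⟩
  · intro x hx
    rw [mem_conj_map] at hx
    have hxH : x ∈ H := by
      have := mul_mem (mul_mem k.2 (h1 hx)) (inv_mem k.2)
      simpa [mul_assoc] using this
    refine Subgroup.mem_map.2 ⟨⟨x, hxH⟩, ?_, rfl⟩
    have := hk (k⁻¹ * ⟨x, hxH⟩ * k) (Subgroup.mem_comap.2 hx)
    have e : k * (k⁻¹ * (⟨x, hxH⟩ : H) * k) * k⁻¹ = ⟨x, hxH⟩ := by group
    rw [e] at this
    exact this
  · intro x hx
    exact Subgroup.mem_map.2 ⟨⟨x, ha hx⟩, hQ2 (Subgroup.mem_comap.2 hx), rfl⟩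

end CfsgLib.Invol
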