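import Cfsg.Agent.Lib.Invol.QuasiDihedralSubgroups
import Cfsg.Agent.Lib.Invol.ThreePoint
import Cfsg.Agent.Lib.Invol.WeaklyClosed
import Cfsg.Agent.Lib.Fusion.Sylow
import Cfsg.Agent.Lib.Coprime.Action

/-!
# Fusion in groups with quasidihedral Sylow 2-subgroups

The two local automizers (of a four-group and of a quaternion subgroup) decide the fusion of
involutions and of elements of order four.
-/

set_option autoImplicit false
set_option linter.style.haveILetI false
set_option linter.unusedSectionVars false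

namespace CfsgLib.Invol

open Subgroup

section

variable {G : Type*} [Group G] {S : Sylow 2 G}

/-- A rotation, as an element of the ambient group. -/
def rotG (a : (S : Subgroup G)) (i : ℤ) : G := ((a ^ i : (S : Subgroup G)) : G)

/-- A reflection, as an element of the ambient group. -/
def refG (a b : (S : Subgroup G)) (i : ℤ) : G := ((a ^ i * b : (S : Subgroup G)) : G)

/-- The central involution is fused with a reflection. -/
def FusedTwo (a b : (S : Subgroup G)) (h : ℤ) : Prop :=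
  ∃ i : ℤ, 2 ∣ i ∧ IsConj (refG a b i) (rotG a (2 * h))

/-- The central elements of order four are fused with reflections. -/
def FusedFour (a b : (S : Subgroup G)) (h : ℤ) : Prop :=
  ∃ i : ℤ, ¬ 2 ∣ i ∧ IsConj (refG a b i) (rotG a h)

theorem rotG_mem (a : (S : Subgroup G)) (i : ℤ) : rotG a i ∈ (S : Subgroup G) := SetLike.coe_mem _

theorem refG_mem (a b : (S : Subgroup G)) (i : ℤ) : refG a b i ∈ (S : Subgroup G) :=
  SetLike.coe_mem _

theorem rotG_add (a : (S : Subgroup G)) (i j : ℤ) : rotG a (i + j) = rotG a i * rotG a j := by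
  simp [rotG, zpow_add]

theorem rotG_neg (a : (S : Subgroup G)) (i : ℤ) : rotG a (-i) = (rotG a i)⁻¹ := by
  simp [rotG, zpow_neg]

theorem rotG_zero (a : (S : Subgroup G)) : rotG a 0 = 1 := by simp [rotG]

theorem refG_eq (a b : (S : Subgroup G)) (i j : ℤ) : refG a b (i + j) = rotG a i * refG a b j := by
  simp [rotG, refG, zpow_add, mul_assoc]

end

namespace QDFrame

variable {G : Type*} [Group G] [Finite G] {S : Sylow 2 G} {h : ℤ} {a b : (S : Subgroup G)}

theorem rotG_eq_iff (Q : QDFrame h a b) {i j : ℤ} : rotG a i = rotG a j ↔ 4 * h ∣ j - i :=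
  Subtype.coe_injective.eq_iff.trans Q.zpow_eq_iff

theorem refG_eq_iff (Q : QDFrame h a b) {i j : ℤ} : refG a b i = refG a b j ↔ 4 * h ∣ j - i :=
  Subtype.coe_injective.eq_iff.trans Q.ref_eq_iff

theorem rotG_ne_refG (Q : QDFrame h a b) (i j : ℤ) : rotG a i ≠ refG a b j :=
  fun e => Q.ne_mul i j (Subtype.ext e)

theorem rotG_conj_rotG (l i : ℤ) : rotG a l * rotG a i * (rotG a l)⁻¹ = rotG a i := by
  rw [← rotG_add, ← rotG_neg, ← rotG_add]; congr 1; ring

theorem rotG_conj_refG (Q : QDFrame h a b) (l i : ℤ) :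
    rotG a l * refG a b i * (rotG a l)⁻¹ = refG a b (i + (2 - 2 * h) * l) := by
  obtain ⟨N, -, F⟩ := Q.frame
  have := congrArg Subtype.val (F.rot_conj_ref l i)
  push_cast at this
  rw [show i + (2 - 2 * h) * l = i + (1 - (2 * h - 1)) * l by ring]
  simpa [rotG, refG] using this

theorem exists_shift (Q : QDFrame h a b) {i j : ℤ} (hij : 2 ∣ j - i) :
    ∃ l : ℤ, 4 * h ∣ j - (i + (2 - 2 * h) * l) := by
  obtain ⟨l, hl⟩ := Q.exists_conj_ref hij
  refine ⟨l, Q.refG_eq_iff.1 ?_⟩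
  rw [← Q.rotG_conj_refG]
  exact congrArg Subtype.val hl

theorem isConj_refG (Q : QDFrame h a b) {i j : ℤ} (hij : 2 ∣ j - i) :
    IsConj (refG a b i) (refG a b j) := by
  obtain ⟨l, hl⟩ := Q.exists_shift hij
  exact isConj_iff.2 ⟨rotG a l, (Q.rotG_conj_refG l i).trans (Q.refG_eq_iff.2 hl)⟩

theorem refG_conj_quarter (Q : QDFrame h a b) (i : ℤ) :
    refG a b i * rotG a h * (refG a b i)⁻¹ = rotG a (-h) := by
  rcases Q.conj_quarter (a ^ i * b) with e | e
  · exfalso
    have h1 := Q.rot_ref_commute_iff.1 (mul_inv_eq_iff_eq_mul.1 e).symm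
    have := Q.two_le
    have := Int.le_of_dvd (by omega) h1
    omega
  · exact congrArg Subtype.val e

theorem conj_quarterG (Q : QDFrame h a b) {s : G} (hs : s ∈ (S : Subgroup G)) :
    s * rotG a h * s⁻¹ = rotG a h ∨ s * rotG a h * s⁻¹ = rotG a (-h) := by
  rcases Q.conj_quarter (⟨s, hs⟩ : (S : Subgroup G)) with e | e
  exacts [Or.inl (congrArg Subtype.val e), Or.inr (congrArg Subtype.val e)]

theorem commute_center (Q : QDFrame h a b) {s : G} (hs : s ∈ (S : Subgroup G)) :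
    s * rotG a (2 * h) = rotG a (2 * h) * s :=
  congrArg Subtype.val (Q.center_commute (⟨s, hs⟩ : (S : Subgroup G)))

theorem sq_quarter : rotG a h * rotG a h = rotG a (2 * h) := by rw [← rotG_add, two_mul]

theorem sq_refG_odd (Q : QDFrame h a b) {i : ℤ} (hi : ¬ 2 ∣ i) :
    refG a b i * refG a b i = rotG a (2 * h) := by
  have h1 := congrArg Subtype.val (Q.ref_sq i)
  push_cast at h1
  rw [pow_two] at h1
  refine h1.trans (Q.rotG_eq_iff.2 ⟨-((i - 1) / 2), ?_⟩)
  have hi2 : i = 2 * ((i - 1) / 2) + 1 := by omega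
  linear_combination (2 * h) * (-1 : ℤ) * hi2

theorem orderOf_centerG (Q : QDFrame h a b) : orderOf (rotG a (2 * h)) = 2 := by
  rw [rotG, Subgroup.orderOf_coe, Q.orderOf_center]

theorem orderOf_quarterG (Q : QDFrame h a b) : orderOf (rotG a h) = 4 := by
  rw [rotG, Subgroup.orderOf_coe, Q.orderOf_quarter]

theorem orderOf_refG_even (Q : QDFrame h a b) {i : ℤ} (hi : 2 ∣ i) : orderOf (refG a b i) = 2 := by
  rw [refG, Subgroup.orderOf_coe, Q.orderOf_ref_even hi]

theorem orderOf_refG_odd (Q : QDFrame h a b) {i : ℤ} (hi : ¬ 2 ∣ i) : orderOf (refG a b i) = 4 := by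
  rw [refG, Subgroup.orderOf_coe, Q.orderOf_ref_odd hi]

theorem isConj_quarter_neg (Q : QDFrame h a b) : IsConj (rotG a (-h)) (rotG a h) :=
  (isConj_iff.2 ⟨refG a b 0, Q.refG_conj_quarter 0⟩ : IsConj (rotG a h) (rotG a (-h))).symm

/-- The involutions of `S`. -/
theorem invol_casesG (Q : QDFrame h a b) {x : G} (hxS : x ∈ (S : Subgroup G)) (hx : orderOf x = 2) :
    x = rotG a (2 * h) ∨ ∃ i : ℤ, 2 ∣ i ∧ x = refG a b i := by
  rcases Q.invol_cases (x := (⟨x, hxS⟩ : (S : Subgroup G)))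
    (Subtype.ext (by simpa [← hx] using pow_orderOf_eq_one x)) with e | e | ⟨i, hi, e⟩
  · exact absurd (congrArg Subtype.val e) (invol_ne_one hx)
  · exact Or.inl (congrArg Subtype.val e)
  · exact Or.inr ⟨i, hi, congrArg Subtype.val e⟩

/-- The elements of order four of `S`. -/
theorem order_four_casesG (Q : QDFrame h a b) {x : G} (hxS : x ∈ (S : Subgroup G))
    (hx : orderOf x = 4) :
    x = rotG a h ∨ x = rotG a (-h) ∨ ∃ i : ℤ, ¬ 2 ∣ i ∧ x = refG a b i := by
  have h2 : (⟨x, hxS⟩ : (S : Subgroup G)) ^ 2 ≠ 1 := fun e => by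
    have h' := orderOf_dvd_of_pow_eq_one e
    rw [Subgroup.orderOf_mk, hx] at h'
    norm_num at h'
  rcases Q.order_four_cases (x := (⟨x, hxS⟩ : (S : Subgroup G)))
    (Subtype.ext (by simpa [← hx] using pow_orderOf_eq_one x)) h2 with e | e | ⟨i, hi, e⟩
  · exact Or.inl (congrArg Subtype.val e)
  · exact Or.inr (Or.inl (congrArg Subtype.val e))
  · exact Or.inr (Or.inr ⟨i, hi, congrArg Subtype.val e⟩)

theorem exists_four (Q : QDFrame h a b) {T : Subgroup G} (hT : IsKleinFour T)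
    (hTS : T ≤ (S : Subgroup G)) : ∃ i : ℤ, 2 ∣ i ∧ ∀ x : G, x ∈ T ↔
      x = 1 ∨ x = rotG a (2 * h) ∨ x = refG a b i ∨ x = refG a b (i + 2 * h) := by
  set T' := T.subgroupOf (S : Subgroup G)
  have hT' : IsKleinFour T' := ⟨by rw [Nat.card_congr (subgroupOfEquivOfLe hTS).toEquiv, hT.card_four],
    by rw [Monoid.exponent_eq_of_mulEquiv (subgroupOfEquivOfLe hTS), hT.exponent_two]⟩
  obtain ⟨i, hi, hU⟩ := Q.kleinFour_eq T' hT'
  obtain ⟨U, hU1, hU2, hU3⟩ := Q.exists_sub (d := 2 * h) (i := i) dvd_rfl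
  have e := hU U hU1 hU2 hU3
  refine ⟨i, hi, fun x => ⟨fun hx => ?_, ?_⟩⟩
  · have hxU : (⟨x, hTS hx⟩ : (S : Subgroup G)) ∈ U := e ▸ mem_subgroupOf.2 hx
    obtain ⟨j, hj | hj⟩ := Q.exists_eq (⟨x, hTS hx⟩ : (S : Subgroup G)) <;> rw [hj] at hxU
    · rcases half_dvd (Q := Q) ((hU1 j).1 hxU) with h' | h' <;> rw [h'] at hj
      · exact Or.inl (congrArg Subtype.val hj)
      · exact Or.inr (Or.inl (congrArg Subtype.val hj))
    · obtain ⟨q, hq⟩ := (hU2 j).1 hxU
      rcases Int.even_or_odd' q with ⟨m, rfl | rfl⟩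
      · exact Or.inr (Or.inr (Or.inl ((congrArg Subtype.val hj).trans
          (Q.refG_eq_iff.2 ⟨-m, by linarith⟩))))
      · exact Or.inr (Or.inr (Or.inr ((congrArg Subtype.val hj).trans
          (Q.refG_eq_iff.2 ⟨-m, by linarith⟩))))
  · have hin : ∀ y : (S : Subgroup G), y ∈ U → (y : G) ∈ T := fun y hy =>
      mem_subgroupOf.1 (show y ∈ T' from e ▸ hy)
    rintro (rfl | rfl | rfl | rfl)
    · exact one_mem _
    · exact hin _ ((hU1 _).2 dvd_rfl)
    · exact hin _ ((hU2 _).2 (by simp))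
    · exact hin _ ((hU2 _).2 ⟨1, by ring⟩)

/-- The automizer of a four-group. -/
theorem four_relIndex (Q : QDFrame h a b) {T : Subgroup G} (hT : IsKleinFour T)
    (hTS : T ≤ (S : Subgroup G)) :
    ((centralizer (T : Set G)).relIndex (normalizer (T : Set G)) = 2 ∨
      (centralizer (T : Set G)).relIndex (normalizer (T : Set G)) = 6) ∧
    ((centralizer (T : Set G)).relIndex (normalizer (T : Set G)) = 6 ↔ FusedTwo a b h) := by
  classical
  haveI : Fact (Nat.Prime 2) := ⟨Nat.prime_two⟩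
  obtain ⟨i, hi, hmem⟩ := Q.exists_four hT hTS
  have hh := Q.two_le
  set z := rotG a (2 * h) with hz
  set N := normalizer (T : Set G) with hN
  let toPerm : MulAut T →* Equiv.Perm {x : T // x ≠ 1} :=
    { toFun := fun σ => σ.toEquiv.subtypeEquiv fun x => by simp
      map_one' := by ext; simp
      map_mul' := fun σ τ => by ext; simp }
  set φ := toPerm.comp T.normalizerMonoidHom with hφ
  have hzT : z ∈ T := (hmem z).2 (Or.inr (Or.inl rfl))
  have hyT : refG a b i ∈ T := (hmem _).2 (Or.inr (Or.inr (Or.inl rfl)))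
  have hzo := Q.orderOf_centerG
  let z' : {x : T // x ≠ 1} := ⟨⟨z, hzT⟩, fun e => invol_ne_one hzo (congrArg Subtype.val e)⟩
  have hact : ∀ (n : N) (x : {x : T // x ≠ 1}),
      ((φ n x).1 : G) = (n : G) * (x.1 : G) * (n : G)⁻¹ := fun n x => rfl
  have hker : φ.ker = (centralizer (T : Set G)).subgroupOf N := by
    ext n
    constructor
    · intro hn
      refine mem_subgroupOf.2 (mem_centralizer_iff.2 fun x hx => ?_)
      by_cases hx1 : x = 1
      · simp [hx1]
      · have h1 := hact n ⟨⟨x, hx⟩, fun e => hx1 (congrArg Subtype.val e)⟩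
        rw [MonoidHom.mem_ker.1 hn] at h1
        exact mul_inv_eq_iff_eq_mul.1 h1.symm |>.symm
    · intro hn
      refine MonoidHom.mem_ker.2 (Equiv.ext fun x => Subtype.ext (Subtype.ext ?_))
      rw [hact]
      exact mul_inv_eq_iff_eq_mul.2 (mem_centralizer_iff.1 (mem_subgroupOf.1 hn) _ x.1.2).symm
  have hcard : Nat.card {x : T // x ≠ 1} = 3 := by
    have := Fintype.ofFinite T
    rw [Nat.card_eq_fintype_card, Fintype.card_subtype_compl, Fintype.card_subtype_eq,
      ← Nat.card_eq_fintype_card, hT.card_four]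
  -- `rotG a h` swaps the two reflections
  have hshift : ∀ j : ℤ, rotG a h * refG a b j * (rotG a h)⁻¹ = refG a b (j + 2 * h) := by
    intro j
    rw [Q.rotG_conj_refG]
    obtain ⟨u, hu⟩ := Q.even
    exact Q.refG_eq_iff.2 ⟨u, by rw [hu]; ring⟩
  have hsN : rotG a h ∈ N := by
    refine Subgroup.mem_normalizer_iff.2 fun x => ?_
    have hfix : ∀ j : ℤ, rotG a h * rotG a j * (rotG a h)⁻¹ = rotG a j := rotG_conj_rotG h
    have hinj : ∀ y, rotG a h * x * (rotG a h)⁻¹ = rotG a h * y * (rotG a h)⁻¹ → x = y :=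
      fun y e => mul_left_cancel (mul_right_cancel e)
    rw [hmem, hmem]
    constructor
    · rintro (rfl | rfl | rfl | rfl)
      · exact Or.inl (by group)
      · exact Or.inr (Or.inl (hfix _))
      · exact Or.inr (Or.inr (Or.inr (hshift i)))
      · refine Or.inr (Or.inr (Or.inl ((hshift _).trans (Q.refG_eq_iff.2 ⟨-1, by ring⟩))))
    · rintro (e | e | e | e)
      · exact Or.inl (hinj 1 (e.trans (by group)))
      · exact Or.inr (Or.inl (hinj _ (e.trans (hfix _).symm)))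
      · exact Or.inr (Or.inr (Or.inr (hinj _ (e.trans
          ((hshift (i + 2 * h)).trans (Q.refG_eq_iff.2 ⟨-1, by ring⟩)).symm))))
      · exact Or.inr (Or.inr (Or.inl (hinj _ (e.trans (hshift _).symm))))
  have hs1 : φ ⟨rotG a h, hsN⟩ ≠ 1 := by
    intro e
    have h1 := hact ⟨rotG a h, hsN⟩ ⟨⟨refG a b i, hyT⟩, fun e' => by
      have := Q.orderOf_refG_even hi
      have e'' : refG a b i = 1 := congrArg Subtype.val e'
      rw [e'', orderOf_one] at this
      omega⟩
    rw [e] at h1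
    have h2 := Q.refG_eq_iff.1 (h1.trans (hshift i))
    rw [show i + 2 * h - i = 2 * h by ring] at h2
    have := Int.le_of_dvd (by omega) h2
    omega
  have key := index_two_or_six hcard φ z' (s := ⟨rotG a h, hsN⟩)
    (Subtype.ext (Subtype.ext (by rw [hact]; exact rotG_conj_rotG h _))) hs1
  rw [hker] at key
  refine ⟨key.1, key.2.trans ⟨?_, ?_⟩⟩
  · rintro ⟨n, hn⟩
    have h1 : (n : G) * z * (n : G)⁻¹ ∈ T := (Subgroup.mem_normalizer_iff.1 n.2 z).1 hzT
    rcases (hmem _).1 h1 with e | e | e | e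
    · exact absurd (conj_eq_one_iff.1 e) (invol_ne_one hzo)
    · exact absurd (Subtype.ext (Subtype.ext ((hact n z').trans e))) hn
    · exact ⟨i, hi, (isConj_iff.2 ⟨(n : G), e⟩ : IsConj z _).symm⟩
    · exact ⟨i + 2 * h, Int.dvd_add hi (dvd_mul_right 2 h),
        (isConj_iff.2 ⟨(n : G), e⟩ : IsConj z _).symm⟩
  · rintro ⟨j, hj, hjz⟩
    obtain ⟨g, hg⟩ := isConj_iff.1 ((Q.isConj_refG (i := i) (j := j) (Int.dvd_sub hj hi)).trans hjz)
    set Cz := centralizer ({z} : Set G)
    have hSC : (S : Subgroup G) ≤ Cz := fun s hs =>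
      mem_centralizer_singleton_iff.2 (Q.commute_center hs)
    have hcomm : ∀ x ∈ T, Commute x (refG a b i) := fun x hx =>
      congrArg Subtype.val (mul_comm_of_exponent_two hT.exponent_two
        (⟨x, hx⟩ : T) ⟨_, hyT⟩)
    have hgT : CfsgLib.Fusion.conjBy g T ≤ Cz := by
      rintro _ ⟨x, hx, rfl⟩
      refine mem_centralizer_singleton_iff.2 ?_
      show g * x * g⁻¹ * z = z * (g * x * g⁻¹)
      rw [hz, ← hg, show g * x * g⁻¹ * (g * refG a b i * g⁻¹) = g * (x * refG a b i) * g⁻¹ by group,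
        (hcomm x hx).eq]
      group
    obtain ⟨m, hm, hmS⟩ := CfsgLib.Fusion.exists_conj_le_of_not_dvd_relIndex S.2 hSC
      (fun hd => S.not_dvd_index (hd.trans (Subgroup.relIndex_dvd_index_of_le hSC)))
      (CfsgLib.Fusion.isPGroup_conjBy g (S.2.to_le hTS)) hgT
    rw [CfsgLib.Fusion.conjBy_conjBy] at hmS
    set T₁ := CfsgLib.Fusion.conjBy (m * g) T with hT₁
    have e := T.equivMapOfInjective (MulAut.conj (m * g)).toMonoidHom (MulAut.conj (m * g)).injective
    have hT₁K : IsKleinFour T₁ := ⟨(Nat.card_congr e.toEquiv).symm.trans hT.card_four,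
      (Monoid.exponent_eq_of_mulEquiv e).symm.trans hT.exponent_two⟩
    obtain ⟨k, hk, hmem₁⟩ := Q.exists_four hT₁K hmS
    obtain ⟨l, hl⟩ := Q.exists_shift (i := k) (j := i) (Int.dvd_sub hi hk)
    set g' := rotG a l * (m * g) with hg'
    have hmap : ∀ x ∈ T, g' * x * g'⁻¹ ∈ T := by
      intro x hx
      rw [hg', show rotG a l * (m * g) * x * (rotG a l * (m * g))⁻¹ =
        rotG a l * (m * g * x * (m * g)⁻¹) * (rotG a l)⁻¹ by group]
      rcases (hmem₁ _).1 (⟨x, hx, rfl⟩ : m * g * x * (m * g)⁻¹ ∈ T₁) with e | e | e | e <;> rw [e]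
      · simp
      · rw [rotG_conj_rotG]; exact hzT
      · rw [Q.rotG_conj_refG]
        exact (hmem _).2 (Or.inr (Or.inr (Or.inl (Q.refG_eq_iff.2 hl))))
      · rw [Q.rotG_conj_refG]
        refine (hmem _).2 (Or.inr (Or.inr (Or.inr (Q.refG_eq_iff.2 ?_))))
        rwa [show i + 2 * h - (k + 2 * h + (2 - 2 * h) * l) = i - (k + (2 - 2 * h) * l) by ring]
    have hg'N : g' ∈ N := by
      have heq : CfsgLib.Fusion.conjBy g' T = T := Subgroup.eq_of_le_of_card_ge
        (by rintro _ ⟨x, hx, rfl⟩; exact hmap x hx)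
        (Nat.card_congr (T.equivMapOfInjective _ (MulAut.conj g').injective).toEquiv).le
      refine Subgroup.mem_normalizer_iff.2 fun x => ⟨hmap x, fun hx => ?_⟩
      rw [← heq] at hx
      obtain ⟨y, hy, hye⟩ := hx
      rwa [← (MulAut.conj g').injective hye]
    have hmz : m * z * m⁻¹ = z :=
      mul_inv_eq_iff_eq_mul.2 (mem_centralizer_singleton_iff.1 hm)
    have hgz : g' * refG a b i * g'⁻¹ = z := by
      rw [hg', show rotG a l * (m * g) * refG a b i * (rotG a l * (m * g))⁻¹ =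
        rotG a l * (m * (g * refG a b i * g⁻¹) * m⁻¹) * (rotG a l)⁻¹ by group, hg, hmz,
        hz, rotG_conj_rotG]
    refine ⟨⟨g', hg'N⟩⁻¹, fun e => ?_⟩
    have h1 := hact ⟨g', hg'N⟩⁻¹ z'
    rw [e] at h1
    refine Q.rotG_ne_refG (2 * h) i (h1.trans ?_)
    show g'⁻¹ * z * g'⁻¹⁻¹ = refG a b i
    rw [← hgz]; group

theorem exists_quat (Q : QDFrame h a b) {P : Subgroup G} (eP : P ≃* QuaternionGroup 2)
    (hPS : P ≤ (S : Subgroup G)) : ∃ i : ℤ, ¬ 2 ∣ i ∧ ∀ x : G, x ∈ P ↔
      (∃ q : ℤ, h ∣ q ∧ x = rotG a q) ∨ ∃ q : ℤ, h ∣ q - i ∧ x = refG a b q := by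
  obtain ⟨i, hi, hU⟩ := Q.quaternion_eq (P.subgroupOf (S : Subgroup G))
    ⟨(subgroupOfEquivOfLe hPS).trans eP⟩
  obtain ⟨U, hU1, hU2, hU3⟩ := Q.exists_sub (d := h) (i := i) ⟨2, by ring⟩
  have e := hU U hU1 hU2 hU3
  refine ⟨i, hi, fun x => ⟨fun hx => ?_, ?_⟩⟩
  · have hxU : (⟨x, hPS hx⟩ : (S : Subgroup G)) ∈ U := e ▸ mem_subgroupOf.2 hx
    obtain ⟨j, hj | hj⟩ := Q.exists_eq (⟨x, hPS hx⟩ : (S : Subgroup G)) <;> rw [hj] at hxU
    · exact Or.inl ⟨j, (hU1 j).1 hxU, congrArg Subtype.val hj⟩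
    · exact Or.inr ⟨j, (hU2 j).1 hxU, congrArg Subtype.val hj⟩
  · have hin : ∀ y : (S : Subgroup G), y ∈ U → (y : G) ∈ P := fun y hy =>
      mem_subgroupOf.1 (show y ∈ P.subgroupOf (S : Subgroup G) from e ▸ hy)
    rintro (⟨q, hq, rfl⟩ | ⟨q, hq, rfl⟩)
    exacts [hin _ ((hU1 q).2 hq), hin _ ((hU2 q).2 hq)]

/-- The automizer of a quaternion subgroup of order eight. -/
theorem quat_relIndex (Q : QDFrame h a b) {P : Subgroup G} (eP : P ≃* QuaternionGroup 2)
    (hPS : P ≤ (S : Subgroup G)) :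
    ((P ⊔ centralizer (P : Set G)).relIndex (normalizer (P : Set G)) = 2 ∨
      (P ⊔ centralizer (P : Set G)).relIndex (normalizer (P : Set G)) = 6) ∧
    ((P ⊔ centralizer (P : Set G)).relIndex (normalizer (P : Set G)) = 6 ↔ FusedFour a b h) := by
  classical
  haveI : Fact (Nat.Prime 2) := ⟨Nat.prime_two⟩
  obtain ⟨i, hi, hmem⟩ := Q.exists_quat eP hPS
  obtain ⟨u, hu⟩ := Q.even
  have hh := Q.two_le
  set x := rotG a h with hx
  set y := refG a b i with hy
  set z := rotG a (2 * h) with hz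
  set N := normalizer (P : Set G) with hN
  have hxP : x ∈ P := (hmem x).2 (Or.inl ⟨h, dvd_rfl, rfl⟩)
  have hyP : y ∈ P := (hmem y).2 (Or.inr ⟨i, by simp, rfl⟩)
  have hzP : z ∈ P := (hmem z).2 (Or.inl ⟨2 * h, dvd_mul_left h 2, rfl⟩)
  have hzo := Q.orderOf_centerG
  have hzz : z * z = 1 := invol_mul_self hzo
  have hyy : y * y = z := Q.sq_refG_odd hi
  have hxx : x * x = z := sq_quarter
  have hxy : x * y * x⁻¹ = y * z := by
    rw [hx, hy, Q.rotG_conj_refG, hz, Q.commute_center (refG_mem a b i), ← refG_eq]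
    exact Q.refG_eq_iff.2 ⟨u, by rw [hu]; ring⟩
  have hyx : y * x * y⁻¹ = x * z := by
    rw [hy, hx, Q.refG_conj_quarter, hz, ← rotG_add]
    exact Q.rotG_eq_iff.2 ⟨1, by ring⟩
  -- generation
  have hgen : ∀ K : Subgroup G, x ∈ K → y ∈ K → P ≤ K := by
    intro K hxK hyK w hw
    have hrot : ∀ q, h ∣ q → rotG a q ∈ K := by
      rintro _ ⟨k, rfl⟩
      rw [show rotG a (h * k) = rotG a h ^ k by simp [rotG, zpow_mul]]
      exact zpow_mem hxK k
    rcases (hmem w).1 hw with ⟨q, hq, rfl⟩ | ⟨q, hq, rfl⟩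
    · exact hrot q hq
    · rw [show q = (q - i) + i by ring, refG_eq]
      exact mul_mem (hrot _ hq) hyK
  -- the centre
  have hcen : Nat.card (center P) = 2 := by
    rw [Nat.card_congr (Subgroup.centerCongr eP).toEquiv,
      Nat.card_congr (Equiv.subtypeEquivRight
        (fun _ => Subgroup.mem_center_iff (G := QuaternionGroup 2))), Nat.card_eq_fintype_card]
    decide
  have hzc : (⟨z, hzP⟩ : P) ∈ center P :=
    mem_center_iff.2 fun w => Subtype.ext (Q.commute_center (hPS w.2))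
  have hmemZ : ∀ w : P, w ∈ center P ↔ ((w : G) = 1 ∨ (w : G) = z) := by
    intro w
    have e : zpowers (⟨z, hzP⟩ : P) = center P := Subgroup.eq_of_le_of_card_ge (zpowers_le.2 hzc)
      (by rw [hcen, Nat.card_zpowers, Subgroup.orderOf_mk, hzo])
    rw [← e]
    constructor
    · rintro ⟨k, rfl⟩
      rcases Int.even_or_odd' k with ⟨l, rfl | rfl⟩
      · left; push_cast; rw [zpow_mul, zpow_two, hzz, one_zpow]
      · right; push_cast; rw [zpow_add, zpow_mul, zpow_two, hzz, one_zpow, one_mul, zpow_one]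
    · rintro (e1 | e1)
      · rw [show w = 1 from Subtype.ext e1]; exact one_mem _
      · rw [show w = ⟨z, hzP⟩ from Subtype.ext e1]; exact mem_zpowers _
  have hquot : Nat.card (P ⧸ center P) = 4 := by
    have h1 := Subgroup.card_eq_card_quotient_mul_card_subgroup (center P)
    rw [(quaternion_eight_facts eP).1, hcen] at h1
    omega
  have hab : ∀ u w : P ⧸ center P, u * w = w * u := fun u w =>
    (IsPGroup.isMulCommutative_of_card_eq_prime_sq (p := 2) (G := P ⧸ center P)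
      (by rw [hquot]; norm_num)).is_comm.comm u w
  let toQ : MulAut P →* MulAut (P ⧸ center P) :=
    { toFun := fun σ => QuotientGroup.congr _ _ σ
        (Subgroup.characteristic_iff_map_eq.1 inferInstance σ)
      map_one' := MulEquiv.ext fun q => Quotient.inductionOn' q fun w => rfl
      map_mul' := fun σ τ => MulEquiv.ext fun q => Quotient.inductionOn' q fun w => rfl }
  let toPerm : MulAut (P ⧸ center P) →* Equiv.Perm {c : P ⧸ center P // c ≠ 1} :=
    { toFun := fun σ => σ.toEquiv.subtypeEquiv fun c => by simp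
      map_one' := by ext; simp
      map_mul' := fun σ τ => by ext; simp }
  set φ := toPerm.comp (toQ.comp P.normalizerMonoidHom) with hφ
  have hact : ∀ (n : N) (w : P) (hw : (w : P ⧸ center P) ≠ 1),
      (φ n ⟨w, hw⟩).1 = ((⟨(n : G) * w * (n : G)⁻¹,
        (Subgroup.mem_normalizer_iff.1 n.2 w).1 w.2⟩ : P) : P ⧸ center P) := fun n w hw => rfl
  have hclass : ∀ v w : P, (v : P ⧸ center P) = w ↔ ((v : G) = w ∨ (v : G) = w * z) := by
    intro v w
    rw [eq_comm, QuotientGroup.eq, hmemZ]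
    push_cast
    constructor
    · rintro (e | e)
      · exact Or.inl (inv_mul_eq_one.1 e).symm
      · exact Or.inr (inv_mul_eq_iff_eq_mul.1 e)
    · rintro (e | e)
      · exact Or.inl (inv_mul_eq_one.2 e.symm)
      · exact Or.inr (inv_mul_eq_iff_eq_mul.2 e)
  have hxne : ((⟨x, hxP⟩ : P) : P ⧸ center P) ≠ 1 := fun e => by
    rcases (hmemZ _).1 ((QuotientGroup.eq_one_iff _).1 e) with e1 | e1
    · exact absurd (Q.orderOf_quarterG) (by rw [show rotG a h = 1 from e1, orderOf_one]; norm_num)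
    · exact absurd (Q.orderOf_quarterG)
        (by rw [show rotG a h = z from e1, hzo]; norm_num)
  have hyne : ((⟨y, hyP⟩ : P) : P ⧸ center P) ≠ 1 := fun e => by
    rcases (hmemZ _).1 ((QuotientGroup.eq_one_iff _).1 e) with e1 | e1
    · exact absurd (Q.orderOf_refG_odd hi) (by rw [show refG a b i = 1 from e1, orderOf_one]; norm_num)
    · exact absurd e1.symm (Q.rotG_ne_refG _ _)
  have hker : φ.ker = (P ⊔ centralizer (P : Set G)).subgroupOf N := by
    ext n
    constructor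
    · intro hn
      have hfix : ∀ (w : G) (hw : w ∈ P), ((⟨w, hw⟩ : P) : P ⧸ center P) ≠ 1 →
          (n : G) * w * (n : G)⁻¹ = w ∨ (n : G) * w * (n : G)⁻¹ = w * z := by
        intro w hw hw1
        have h1 := hact n ⟨w, hw⟩ hw1
        rw [MonoidHom.mem_ker.1 hn] at h1
        exact (hclass _ ⟨w, hw⟩).1 h1.symm
      obtain ⟨q, hq, hqx, hqy⟩ : ∃ q ∈ P, q * x * q⁻¹ = (n : G) * x * (n : G)⁻¹ ∧
          q * y * q⁻¹ = (n : G) * y * (n : G)⁻¹ := by
        have hcx := Q.commute_center (rotG_mem a h)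
        have hcy := Q.commute_center (refG_mem a b i)
        rcases hfix x hxP hxne with e1 | e1 <;> rcases hfix y hyP hyne with e2 | e2 <;>
          rw [e1, e2]
        · exact ⟨1, one_mem _, by group, by group⟩
        · exact ⟨x, hxP, by group, hxy⟩
        · exact ⟨y, hyP, hyx, by group⟩
        · refine ⟨x * y, mul_mem hxP hyP, ?_, ?_⟩
          · rw [show x * y * x * (x * y)⁻¹ = x * (y * x * y⁻¹) * x⁻¹ by group, hyx,
              mul_assoc x (x * z), show x * z * x⁻¹ = z by rw [hcx, mul_inv_cancel_right]]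
          · rw [show x * y * y * (x * y)⁻¹ = x * y * x⁻¹ by group, hxy]
      have hc : q⁻¹ * (n : G) ∈ centralizer (P : Set G) := by
        refine Subgroup.centralizer_le
          (hgen (closure {x, y}) (subset_closure (by simp)) (subset_closure (by simp))) ?_
        rw [centralizer_closure]
        refine mem_centralizer_iff.2 ?_
        have hcase : ∀ w, q * w * q⁻¹ = (n : G) * w * (n : G)⁻¹ →
            w * (q⁻¹ * (n : G)) = q⁻¹ * (n : G) * w := fun w e => by
          calc w * (q⁻¹ * (n : G)) = q⁻¹ * (q * w * q⁻¹) * (n : G) := by group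
            _ = _ := by rw [e]; group
        rintro w (rfl | rfl)
        exacts [hcase _ hqx, hcase _ hqy]
      refine mem_subgroupOf.2 ?_
      rw [show (n : G) = q * (q⁻¹ * n) by group]
      exact mul_mem (mem_sup_left hq) (mem_sup_right hc)
    · intro hn
      refine MonoidHom.mem_ker.2 (Equiv.ext fun c => Subtype.ext ?_)
      obtain ⟨c, hc⟩ := c
      obtain ⟨w, rfl⟩ := QuotientGroup.mk_surjective c
      rw [hact]
      have hle : P ⊔ centralizer (P : Set G) ≤ normalizer (P : Set G) :=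
        sup_le le_normalizer (centralizer_le_normalizer _)
      let K : Subgroup N :=
        { carrier := {m | ((⟨(m : G) * w * (m : G)⁻¹,
            (Subgroup.mem_normalizer_iff.1 m.2 w).1 w.2⟩ : P) : P ⧸ center P) = w}
          one_mem' := by simp
          mul_mem' := fun {m₁ m₂} h1 h2 => by
            simp only [Set.mem_ofPred_eq] at h1 h2 ⊢
            obtain h2 := (hclass _ _).1 h2
            rw [← h1, hclass]
            simp only [Subgroup.coe_mul, mul_inv_rev] at h2 ⊢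
            have hcz : (m₁ : G) * z * (m₁ : G)⁻¹ = z := by
              have := (hmemZ ⟨_, (Subgroup.mem_normalizer_iff.1 m₁.2 z).1 hzP⟩).1
                ((Subgroup.characteristic_iff_map_eq.1 (inferInstance : (center P).Characteristic)
                  (P.normalizerMonoidHom m₁)).le ⟨⟨z, hzP⟩, hzc, rfl⟩)
              exact this.resolve_left fun e => invol_ne_one hzo (conj_eq_one_iff.1 e)
            rcases h2 with e | e
            · exact Or.inl (by
                rw [show (m₁ : G) * m₂ * w * ((m₂ : G)⁻¹ * (m₁ : G)⁻¹) =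
                  m₁ * (m₂ * w * (m₂ : G)⁻¹) * (m₁ : G)⁻¹ by group, e])
            · exact Or.inr (by
                rw [show (m₁ : G) * m₂ * w * ((m₂ : G)⁻¹ * (m₁ : G)⁻¹) =
                  m₁ * (m₂ * w * (m₂ : G)⁻¹) * (m₁ : G)⁻¹ by group, e,
                  show (m₁ : G) * (w * z) * (m₁ : G)⁻¹ =
                  m₁ * w * (m₁ : G)⁻¹ * (m₁ * z * (m₁ : G)⁻¹) by group, hcz])
          inv_mem' := fun {m} h1 => by
            simp only [Set.mem_ofPred_eq] at h1 ⊢
            have hinj := (toQ (P.normalizerMonoidHom m)).injective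
            refine hinj (Eq.trans ?_ h1.symm)
            show ((⟨(m : G) * ((m⁻¹ : N) * w * ((m⁻¹ : N) : G)⁻¹) * (m : G)⁻¹, _⟩ : P) :
              P ⧸ center P) = w
            congr 1
            apply Subtype.ext
            push_cast
            group }
      suffices hle' : (P ⊔ centralizer (P : Set G)).subgroupOf N ≤ K from hle' hn
      rw [Subgroup.subgroupOf_sup le_normalizer (centralizer_le_normalizer _)]
      refine sup_le ?_ ?_
      · intro m hm
        have hmP : (m : G) ∈ P := hm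
        show _ = _
        have e1 : ((⟨(m : G) * w * (m : G)⁻¹, (Subgroup.mem_normalizer_iff.1 m.2 w).1 w.2⟩ : P) :
            P ⧸ center P) = ((⟨(m : G), hmP⟩ * w * ⟨(m : G), hmP⟩⁻¹ : P) : P ⧸ center P) := rfl
        rw [e1, QuotientGroup.mk_mul, QuotientGroup.mk_mul, hab _ (w : P ⧸ center P), mul_assoc,
          ← QuotientGroup.mk_mul, mul_inv_cancel, QuotientGroup.mk_one, mul_one]
      · intro m hm
        show _ = _
        congr 1
        exact Subtype.ext (mul_inv_eq_iff_eq_mul.2 (mem_centralizer_iff.1 hm w w.2).symm)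
  have hcard : Nat.card {c : P ⧸ center P // c ≠ 1} = 3 := by
    have := Fintype.ofFinite (P ⧸ center P)
    rw [Nat.card_eq_fintype_card, Fintype.card_subtype_compl, Fintype.card_subtype_eq,
      ← Nat.card_eq_fintype_card, hquot]
  have hsN : rotG a u ∈ N := by
    have hmap : ∀ l : ℤ, h ∣ (2 - 2 * h) * l → ∀ w ∈ P, rotG a l * w * (rotG a l)⁻¹ ∈ P := by
      intro l hl w hw
      rcases (hmem w).1 hw with ⟨q, hq, rfl⟩ | ⟨q, hq, rfl⟩
      · rw [rotG_conj_rotG]; exact hw
      · rw [Q.rotG_conj_refG]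
        exact (hmem _).2 (Or.inr ⟨_, by
          rw [show q + (2 - 2 * h) * l - i = q - i + (2 - 2 * h) * l by ring]
          exact dvd_add hq hl, rfl⟩)
    have hl : h ∣ (2 - 2 * h) * u := ⟨1 - 2 * u, by rw [hu]; ring⟩
    refine Subgroup.mem_normalizer_iff.2 fun w => ⟨hmap u hl w, fun hw => ?_⟩
    have := hmap (-u) (by rw [mul_neg]; exact hl.neg_right) _ hw
    rwa [rotG_neg, show (rotG a u)⁻¹ * (rotG a u * w * (rotG a u)⁻¹) * (rotG a u)⁻¹⁻¹ = w by group]
      at this
  have hs1 : φ ⟨rotG a u, hsN⟩ ≠ 1 := by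
    intro e
    have h1 := hact ⟨rotG a u, hsN⟩ ⟨y, hyP⟩ hyne
    rw [e] at h1
    have h2 : rotG a u * y * (rotG a u)⁻¹ = y ∨ rotG a u * y * (rotG a u)⁻¹ = y * z :=
      (hclass _ ⟨y, hyP⟩).1 h1.symm
    rw [hy, hz] at h2
    rw [Q.rotG_conj_refG, Q.commute_center (refG_mem a b i), ← refG_eq, Q.refG_eq_iff,
      Q.refG_eq_iff] at h2
    rcases h2 with ⟨k, hk⟩ | ⟨k, hk⟩ <;> rw [hu] at hk
    · have : (2 * u) * (4 * k + 1 - 2 * u) = 0 := by linarith
      rcases mul_eq_zero.1 this with h3 | h3 <;> omega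
    · have : (2 * u) * (4 * k - 1 - 2 * u) = 0 := by linarith
      rcases mul_eq_zero.1 this with h3 | h3 <;> omega
  have key := index_two_or_six hcard φ ⟨_, hxne⟩ (s := ⟨rotG a u, hsN⟩)
    (Subtype.ext ((hact _ _ hxne).trans ((hclass _ _).2 (Or.inl (rotG_conj_rotG u h))))) hs1
  rw [hker] at key
  refine ⟨key.1, key.2.trans ⟨?_, ?_⟩⟩
  · rintro ⟨n, hn⟩
    have hnP : (n : G) * x * (n : G)⁻¹ ∈ P := (Subgroup.mem_normalizer_iff.1 n.2 x).1 hxP
    have hne : ¬ ((n : G) * x * (n : G)⁻¹ = x ∨ (n : G) * x * (n : G)⁻¹ = x * z) := fun e =>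
      hn (Subtype.ext ((hact n _ hxne).trans ((hclass _ ⟨x, hxP⟩).2 e)))
    have ho : orderOf ((n : G) * x * (n : G)⁻¹) = 4 :=
      ((MulAut.conj (n : G)).orderOf_eq x).trans Q.orderOf_quarterG
    rcases Q.order_four_casesG (hPS hnP) ho with e | e | ⟨q, hq, e⟩
    · exact absurd (Or.inl e) hne
    · refine absurd (Or.inr ?_) hne
      rw [e, hx, hz, ← rotG_add]
      exact Q.rotG_eq_iff.2 ⟨1, by ring⟩
    · exact ⟨q, hq, (isConj_iff.2 ⟨(n : G), e⟩ : IsConj x _).symm⟩
  · rintro ⟨j, hj, hjx⟩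
    obtain ⟨g, hg⟩ := isConj_iff.1 ((Q.isConj_refG (i := i) (j := j) (by omega)).trans hjx)
    set X := zpowers x with hX
    set NX := normalizer (X : Set G) with hNX
    have hNXmem : ∀ s : G, (s * x * s⁻¹ = x ∨ s * x * s⁻¹ = x * z) → s ∈ NX := by
      intro s hs
      have hle : X.map (MulAut.conj s).toMonoidHom ≤ X := by
        rw [hX, MonoidHom.map_zpowers, zpowers_le]
        show s * x * s⁻¹ ∈ _
        rcases hs with e | e <;> rw [e]
        · exact mem_zpowers x
        · exact mul_mem (mem_zpowers x) (hxx ▸ mul_mem (mem_zpowers x) (mem_zpowers x))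
      have heq := Subgroup.eq_of_le_of_card_ge hle
        (Nat.card_congr (X.equivMapOfInjective _ (MulAut.conj s).injective).toEquiv).le
      refine Subgroup.mem_normalizer_iff.2 fun w => ⟨fun hw => heq ▸ ⟨w, hw, rfl⟩, fun hw => ?_⟩
      rw [← heq] at hw
      obtain ⟨v, hv, hve⟩ := hw
      rwa [← (MulAut.conj s).injective hve]
    have hSN : (S : Subgroup G) ≤ NX := by
      intro s hs
      refine hNXmem s ((Q.conj_quarterG hs).imp id fun e => e.trans ?_)
      rw [hx, hz, ← rotG_add]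
      exact Q.rotG_eq_iff.2 ⟨1, by ring⟩
    have hgP : CfsgLib.Fusion.conjBy g P ≤ NX := by
      rintro _ ⟨w, hw, rfl⟩
      refine hNXmem _ ?_
      show g * w * g⁻¹ * x * (g * w * g⁻¹)⁻¹ = x ∨ g * w * g⁻¹ * x * (g * w * g⁻¹)⁻¹ = x * z
      have hgz : g * z * g⁻¹ = z := by
        rw [← hyy, show g * (y * y) * g⁻¹ = (g * y * g⁻¹) * (g * y * g⁻¹) by group, hg, hxx, hyy]
      have h1 : w * y * w⁻¹ = y ∨ w * y * w⁻¹ = y * z := by
        refine (hclass ⟨_, mul_mem (mul_mem hw hyP) (inv_mem hw)⟩ ⟨y, hyP⟩).1 ?_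
        show ((⟨w, hw⟩ * ⟨y, hyP⟩ * ⟨w, hw⟩⁻¹ : P) : P ⧸ center P) = _
        rw [QuotientGroup.mk_mul, QuotientGroup.mk_mul, hab _ ((⟨y, hyP⟩ : P) : P ⧸ center P),
          mul_assoc, ← QuotientGroup.mk_mul, mul_inv_cancel, QuotientGroup.mk_one, mul_one]
      rw [hx, ← hg, show g * w * g⁻¹ * (g * y * g⁻¹) * (g * w * g⁻¹)⁻¹ =
        g * (w * y * w⁻¹) * g⁻¹ by group]
      refine h1.imp (fun e => by rw [e]) fun e => ?_
      rw [e, show g * (y * z) * g⁻¹ = g * y * g⁻¹ * (g * z * g⁻¹) by group, hgz]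
    obtain ⟨m, hm, hmS⟩ := CfsgLib.Fusion.exists_conj_le_of_not_dvd_relIndex S.2 hSN
      (fun hd => S.not_dvd_index (hd.trans (Subgroup.relIndex_dvd_index_of_le hSN)))
      (CfsgLib.Fusion.isPGroup_conjBy g (S.2.to_le hPS)) hgP
    rw [CfsgLib.Fusion.conjBy_conjBy] at hmS
    set P₁ := CfsgLib.Fusion.conjBy (m * g) P with hP₁
    obtain ⟨k, hk, hmem₁⟩ := Q.exists_quat
      ((P.equivMapOfInjective (MulAut.conj (m * g)).toMonoidHom
        (MulAut.conj (m * g)).injective).symm.trans eP) hmS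
    obtain ⟨l, hl⟩ := Q.exists_shift (i := k) (j := i) (by omega)
    set g' := rotG a l * (m * g) with hg'
    have hmap : ∀ w ∈ P, g' * w * g'⁻¹ ∈ P := by
      intro w hw
      rw [hg', show rotG a l * (m * g) * w * (rotG a l * (m * g))⁻¹ =
        rotG a l * (m * g * w * (m * g)⁻¹) * (rotG a l)⁻¹ by group]
      rcases (hmem₁ _).1 (⟨w, hw, rfl⟩ : m * g * w * (m * g)⁻¹ ∈ P₁) with
        ⟨q, hq, e⟩ | ⟨q, hq, e⟩ <;> rw [e]
      · rw [rotG_conj_rotG]; exact (hmem _).2 (Or.inl ⟨q, hq, rfl⟩)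
      · rw [Q.rotG_conj_refG]
        refine (hmem _).2 (Or.inr ⟨_, ?_, rfl⟩)
        rw [show q + (2 - 2 * h) * l - i = q - k - (i - (k + (2 - 2 * h) * l)) by ring]
        exact dvd_sub hq ((dvd_mul_left h 4).trans hl)
    have hg'N : g' ∈ N := by
      have heq : CfsgLib.Fusion.conjBy g' P = P := Subgroup.eq_of_le_of_card_ge
        (by rintro _ ⟨w, hw, rfl⟩; exact hmap w hw)
        (Nat.card_congr (P.equivMapOfInjective _ (MulAut.conj g').injective).toEquiv).le
      refine Subgroup.mem_normalizer_iff.2 fun w => ⟨hmap w, fun hw => ?_⟩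
      rw [← heq] at hw
      obtain ⟨v, hv, hve⟩ := hw
      rwa [← (MulAut.conj g').injective hve]
    have hmx : m * x * m⁻¹ = rotG a h ∨ m * x * m⁻¹ = rotG a (-h) := by
      have h1 : m * x * m⁻¹ ∈ X := (Subgroup.mem_normalizer_iff.1 hm x).1 (mem_zpowers x)
      have ho : orderOf (m * x * m⁻¹) = 4 :=
        ((MulAut.conj m).orderOf_eq x).trans Q.orderOf_quarterG
      have hXS : X ≤ (S : Subgroup G) := zpowers_le.2 (rotG_mem a h)
      rcases Q.order_four_casesG (hXS h1) ho with e | e | ⟨q, hq, e⟩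
      · exact Or.inl e
      · exact Or.inr e
      · exfalso
        obtain ⟨t, ht⟩ := mem_zpowers_iff.1 h1
        refine Q.rotG_ne_refG (h * t) q ?_
        rw [← e, ← ht, hx]
        simp [rotG, zpow_mul]
    have hgy : g' * y * g'⁻¹ = x ∨ g' * y * g'⁻¹ = x * z := by
      rw [hg', show rotG a l * (m * g) * y * (rotG a l * (m * g))⁻¹ =
        rotG a l * (m * (g * y * g⁻¹) * m⁻¹) * (rotG a l)⁻¹ by group, hg]
      rcases hmx with e | e <;> rw [e, rotG_conj_rotG]
      · exact Or.inl rfl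
      · refine Or.inr ?_
        rw [hx, hz, ← rotG_add]
        exact Q.rotG_eq_iff.2 ⟨1, by ring⟩
    refine ⟨⟨g', hg'N⟩⁻¹, fun e => ?_⟩
    have e1 : ((⟨_, hmap y hyP⟩ : P) : P ⧸ center P) = ((⟨x, hxP⟩ : P) : P ⧸ center P) :=
      (hclass _ _).2 hgy
    have e2 : φ ⟨g', hg'N⟩ ⟨_, hyne⟩ = ⟨_, hxne⟩ := Subtype.ext ((hact _ _ hyne).trans e1)
    have e4 : φ ⟨g', hg'N⟩⁻¹ ⟨_, hxne⟩ = ⟨_, hyne⟩ := by
      rw [← e2, map_inv]
      exact (φ ⟨g', hg'N⟩).symm_apply_apply _
    have e3 : ((⟨x, hxP⟩ : P) : P ⧸ center P) = ((⟨y, hyP⟩ : P) : P ⧸ center P) :=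
      congrArg Subtype.val (e.symm.trans e4)
    rcases (hclass _ _).1 e3 with e5 | e5
    · exact Q.rotG_ne_refG h i e5
    · have e6 : rotG a h = refG a b i * rotG a (2 * h) := e5
      rw [Q.commute_center (refG_mem a b i), ← refG_eq] at e6
      exact Q.rotG_ne_refG _ _ e6

end QDFrame

end CfsgLib.Invol
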