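import Mathlib.GroupTheory.PGroup
import Mathlib.Algebra.Group.End
import Mathlib.Tactic

/-!
# Odd automorphisms of abelian 2-groups
-/

set_option autoImplicit false

namespace CfsgLib.Invol

variable {H : Type*} [Group H]

theorem iterate_of_mul_fixed (σ : MulAut H) {x k : H} (hx : σ x = x * k) (hk : σ k = k) :
    ∀ i : ℕ, (σ ^ i) x = x * k ^ i := by
  intro i
  induction i with
  | zero => simp
  | succ i ih =>
    rw [pow_succ', MulAut.mul_apply, ih, map_mul, map_pow, hx, hk, pow_succ' k, mul_assoc]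

/-- If an automorphism of odd order moves `x` by a fixed element of order at most 2, it fixes `x`. -/
theorem fixed_of_mul_fixed_invol (σ : MulAut H) {m : ℕ} (hm : Odd m) (hσ : σ ^ m = 1) {x k : H}
    (hx : σ x = x * k) (hk : σ k = k) (hk2 : k ^ 2 = 1) : σ x = x := by
  have hit := iterate_of_mul_fixed σ hx hk m
  rw [hσ, MulAut.one_apply, left_eq_mul] at hit
  obtain ⟨l, rfl⟩ := hm
  rw [pow_succ, pow_mul, hk2, one_pow, one_mul] at hit
  rw [hx, hit, mul_one]

/-- An odd automorphism of an abelian 2-group fixing its involutions is trivial. -/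
theorem aut_eq_one_of_fix_omega (hH : IsPGroup 2 H) (hc : ∀ x y : H, x * y = y * x) (σ : MulAut H)
    {m : ℕ} (hm : Odd m) (hσ : σ ^ m = 1) (h : ∀ x : H, x ^ 2 = 1 → σ x = x) : σ = 1 := by
  have key : ∀ (j : ℕ) (x : H), x ^ 2 ^ j = 1 → σ x = x := by
    intro j
    induction j with
    | zero => intro x hx; rw [pow_zero, pow_one] at hx; rw [hx, map_one]
    | succ j ih =>
      intro x hx
      have h2 : σ (x ^ 2) = x ^ 2 := ih _ (by rw [← pow_mul, ← pow_succ']; exact hx)
      have hk2 : (x⁻¹ * σ x) ^ 2 = 1 := by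
        rw [(show Commute x⁻¹ (σ x) from hc _ _).mul_pow, ← map_pow, h2, inv_pow, inv_mul_cancel]
      exact fixed_of_mul_fixed_invol σ hm hσ (by rw [mul_inv_cancel_left]) (h _ hk2) hk2
  ext x
  obtain ⟨j, hj⟩ := hH x
  exact key j x hj

end CfsgLib.Invol
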