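import Cfsg.Agent.Lib.Invol.WreathedSubgroups
import Mathlib.GroupTheory.SpecificGroups.KleinFour

/-!
# Small facts on wreathed 2-groups
-/

set_option autoImplicit false

namespace CfsgLib.Invol

open Subgroup

variable {S : Type*} [Group S] {m : ℤ} {x y z : S}

namespace WrFrame

theorem half_cases (W : WrFrame m x y z) {i : ℤ} (h : m ∣ i) :
    2 * m ∣ i ∨ 2 * m ∣ i - m := by
  obtain ⟨k, rfl⟩ := h
  rcases Int.even_or_odd' k with ⟨l, rfl | rfl⟩
  · exact Or.inl ⟨l, by ring⟩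
  · exact Or.inr ⟨l, by ring⟩

theorem not_dvd_half (W : WrFrame m x y z) : ¬ 2 * m ∣ m := fun h => by
  have := W.two_le
  have := Int.le_of_dvd (by omega) h
  omega

theorem orderOf_central_invol (W : WrFrame m x y z) : orderOf (x ^ m * y ^ m) = 2 := by
  rw [orderOf_eq_prime_iff, W.rot_sq_eq_one_iff, Ne, W.eq_one]
  exact ⟨⟨dvd_rfl, dvd_rfl⟩, fun h => W.not_dvd_half h.1⟩

/-- All outer involutions are conjugate. -/
theorem conj_out_invol (W : WrFrame m x y z) {i j i' j' : ℤ} (h : 2 * m ∣ i + j)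
    (h' : 2 * m ∣ i' + j') :
    ∃ k : ℤ, x ^ k * y ^ (0 : ℤ) * (x ^ i * y ^ j * z) * (x ^ k * y ^ (0 : ℤ))⁻¹ =
      x ^ i' * y ^ j' * z := by
  refine ⟨i' - i, ?_⟩
  rw [W.rot_conj_out, W.out_eq_iff]
  refine ⟨⟨0, by ring⟩, ?_⟩
  have := dvd_sub h h'
  ring_nf at this ⊢
  exact this

theorem out_conj_rot (W : WrFrame m x y z) (k l i j : ℤ) :
    x ^ k * y ^ l * z * (x ^ i * y ^ j) * (x ^ k * y ^ l * z)⁻¹ = x ^ j * y ^ i := by
  rw [W.out_mul_rot, W.out_inv, W.out_mul_out, W.rot_eq_iff]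
  constructor <;> exact ⟨0, by ring⟩

end WrFrame

end CfsgLib.Invol
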