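import Cfsg.Agent.Lib.Fusion.Residual
import Cfsg.Agent.Lib.Invol.Basic
import Mathlib.GroupTheory.Transfer
import Mathlib.GroupTheory.Abelianization.Defs

/-!
# Transfer evaluated under control of powers
-/

namespace CfsgLib.Invol

variable {G : Type*} [Group G]

/-- If conjugates in `H` of powers of `g` all have the same image as the power, then the transfer of
`g` is the image of `g` raised to the index. -/
theorem transfer_eq_pow_index {A : Type*} [CommGroup A] {H : Subgroup G} [H.FiniteIndex] (φ : H →* A)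
    (g : G) (hg : g ∈ H)
    (key : ∀ (k : ℕ) (g₀ : G) (hk : g₀⁻¹ * g ^ k * g₀ ∈ H),
      φ ⟨g₀⁻¹ * g ^ k * g₀, hk⟩ = φ ⟨g, hg⟩ ^ k) :
    MonoidHom.transfer φ g = φ ⟨g, hg⟩ ^ H.index := by
  classical
  let := H.fintypeQuotientOfFiniteIndex
  rw [MonoidHom.transfer_eq_prod_quotient_orbitRel_zpowers_quot, Subgroup.index_eq_sum_minimalPeriod H g,
    ← Finset.prod_pow_eq_pow_sum]
  exact Finset.prod_congr rfl fun q _ => key _ _ _

variable [Finite G] {p : ℕ} [Fact p.Prime]

theorem not_mem_commutator_of_controlled_powers (H K : Subgroup G) (hHK : K ≤ H)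
    (hKn : (K.subgroupOf H).Normal) (hab : ∀ x ∈ H, ∀ y ∈ H, x * y * x⁻¹ * y⁻¹ ∈ K)
    (hidx : Nat.Coprime p H.index) (g : G) (hgH : g ∈ H) (hgK : g ∉ K)
    (hgp : ∃ k : ℕ, orderOf g = p ^ k)
    (hctrl : ∀ (m : ℤ) (a : G), a * g ^ m * a⁻¹ ∈ H → (a * g ^ m * a⁻¹) * (g ^ m)⁻¹ ∈ K) :
    g ∉ commutator G := by
  classical
  have := hKn
  let Q := H ⧸ K.subgroupOf H
  letI : CommGroup Q :=
    { QuotientGroup.Quotient.group (K.subgroupOf H) with
      mul_comm := by
        intro a b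
        induction a using QuotientGroup.induction_on with | _ x => ?_
        induction b using QuotientGroup.induction_on with | _ y => ?_
        rw [← QuotientGroup.mk_mul, ← QuotientGroup.mk_mul, QuotientGroup.eq, Subgroup.mem_subgroupOf]
        push_cast
        have h := hab (y : G)⁻¹ (H.inv_mem y.2) (x : G)⁻¹ (H.inv_mem x.2)
        simpa [mul_assoc] using h }
  let φ : H →* Q := QuotientGroup.mk' _
  have hV : MonoidHom.transfer φ g = φ ⟨g, hgH⟩ ^ H.index := by
    refine transfer_eq_pow_index φ g hgH fun k g₀ hk => ?_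
    rw [← map_pow]
    show ((⟨g₀⁻¹ * g ^ k * g₀, hk⟩ : H) : Q) = ((⟨g, hgH⟩ ^ k : H) : Q)
    rw [eq_comm, QuotientGroup.eq, Subgroup.mem_subgroupOf]
    push_cast
    have h1 := hctrl (k : ℤ) g₀⁻¹ (by simpa using hk)
    rw [zpow_natCast, inv_inv] at h1
    have hn := hKn.conj_mem ⟨g₀⁻¹ * g ^ k * g₀ * (g ^ k)⁻¹, hHK h1⟩ (Subgroup.mem_subgroupOf.2 h1)
      (⟨g, hgH⟩ ^ k : H)⁻¹
    rw [Subgroup.mem_subgroupOf] at hn
    push_cast at hn
    simpa [mul_assoc] using hn
  intro hc
  have h1 : MonoidHom.transfer φ g = 1 := Abelianization.commutator_subset_ker _ hc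
  rw [hV] at h1
  have h2 : orderOf (φ ⟨g, hgH⟩) ∣ H.index := orderOf_dvd_of_pow_eq_one h1
  obtain ⟨k, hk⟩ := hgp
  have h3 : orderOf (φ ⟨g, hgH⟩) ∣ p ^ k := by
    refine hk ▸ (orderOf_map_dvd φ _).trans (dvd_of_eq ?_)
    rw [← Subgroup.orderOf_coe]
  have h4 := Nat.eq_one_of_dvd_coprimes (Nat.Coprime.pow_left k hidx) h3 h2
  rw [orderOf_eq_one_iff] at h4
  exact hgK (Subgroup.mem_subgroupOf.1 ((QuotientGroup.eq_one_iff (⟨g, hgH⟩ : H)).1 h4))

/-- Control of fusion of `p`-elements by a subgroup of index prime to `p` gives control of transfer. -/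
theorem residual_inf_eq_of_control (H : Subgroup G) (hidx : Nat.Coprime p H.index)
    (hfus : ∀ g ∈ H, (∃ k : ℕ, orderOf g = p ^ k) → ∀ a : G, a * g * a⁻¹ ∈ H →
      ∃ h ∈ H, h * g * h⁻¹ = a * g * a⁻¹) :
    (Cfsg.pResidual p G ⊔ commutator G) ⊓ H =
      (Cfsg.pResidual p ↥H ⊔ commutator ↥H).map H.subtype := by
  classical
  set K : Subgroup H := Cfsg.pResidual p ↥H ⊔ commutator ↥H with hKdef
  have hn1 := Fusion.pResidual_normal (G := H) (p := p)
  have hKn : K.Normal := Subgroup.sup_normal _ _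
  refine le_antisymm ?_ ?_
  · letI : CommGroup (H ⧸ K) :=
      { QuotientGroup.Quotient.group K with
        mul_comm := by
          intro a b
          induction a using QuotientGroup.induction_on with | _ x => ?_
          induction b using QuotientGroup.induction_on with | _ y => ?_
          rw [← QuotientGroup.mk_mul, ← QuotientGroup.mk_mul, QuotientGroup.eq]
          have : (x * y)⁻¹ * (y * x) = y⁻¹ * x⁻¹ * y * x := by group
          rw [this]
          exact Subgroup.mem_sup_right (Subgroup.commutator_mem_commutator (Subgroup.mem_top y⁻¹)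
            (Subgroup.mem_top x⁻¹) |> fun h => by rw [commutator_def]; simpa [commutatorElement_def] using h) }
    let φ : H →* H ⧸ K := QuotientGroup.mk' K
    let V := MonoidHom.transfer φ
    have hQp : IsPGroup p (H ⧸ K) := Fusion.isPGroup_quotient_pResidual K le_sup_left
    have hker : Cfsg.pResidual p G ⊔ commutator G ≤ V.ker :=
      sup_le (Fusion.pResidual_le_ker V hQp) (Abelianization.commutator_subset_ker V)
    rintro h ⟨hh, hhH⟩
    -- split off the `p`-part of `h`
    set n := orderOf h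
    have hn : n ≠ 0 := (orderOf_pos h).ne'
    set q := p ^ n.factorization p
    set r := n / q
    have hqr : Nat.Coprime r q :=
      ((Nat.coprime_ordCompl Fact.out hn).symm.pow_right _)
    have hb := Nat.gcd_eq_gcd_ab r q
    rw [hqr] at hb
    set u := h ^ ((r : ℤ) * Nat.gcdA r q)
    set v := h ^ ((q : ℤ) * Nat.gcdB r q)
    have huv : h = u * v := by
      show h = h ^ ((r : ℤ) * Nat.gcdA r q) * h ^ ((q : ℤ) * Nat.gcdB r q)
      rw [← zpow_add, ← hb, Nat.cast_one, zpow_one]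
    have huH : u ∈ H := H.zpow_mem hhH _
    have hvH : v ∈ H := H.zpow_mem hhH _
    have hqn : q * r = n := Nat.ordProj_mul_ordCompl_eq_self n p
    have hu : u ^ q = 1 := by
      rw [← zpow_natCast, ← zpow_mul, mul_right_comm, zpow_mul, ← Nat.cast_mul, mul_comm r q, hqn,
        zpow_natCast, pow_orderOf_eq_one, one_zpow]
    have hv : v ^ r = 1 := by
      rw [← zpow_natCast, ← zpow_mul, mul_right_comm, zpow_mul, ← Nat.cast_mul, hqn,
        zpow_natCast, pow_orderOf_eq_one, one_zpow]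
    have hvres : (⟨v, hvH⟩ : H) ∈ K := by
      refine Subgroup.mem_sup_left (Fusion.mem_pResidual ?_)
      rw [← Subgroup.orderOf_coe]
      exact Nat.Coprime.of_dvd_left (orderOf_dvd_of_pow_eq_one hv) (Nat.coprime_ordCompl Fact.out hn).symm
    have hvker : V v = 1 := MonoidHom.mem_ker.1 (hker (Subgroup.mem_sup_left (Fusion.mem_pResidual
      (Nat.Coprime.of_dvd_left (orderOf_dvd_of_pow_eq_one hv) (Nat.coprime_ordCompl Fact.out hn).symm))))
    have hupow : ∃ k : ℕ, orderOf u = p ^ k := by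
      obtain ⟨k, -, hk⟩ := (Nat.dvd_prime_pow Fact.out).1 (orderOf_dvd_of_pow_eq_one hu)
      exact ⟨k, hk⟩
    have hVu : V u = φ ⟨u, huH⟩ ^ H.index := by
      refine transfer_eq_pow_index φ u huH fun k g₀ hk => ?_
      have hp : ∃ j : ℕ, orderOf (u ^ k) = p ^ j := by
        obtain ⟨j, hj⟩ := hupow
        obtain ⟨i, -, hi⟩ := (Nat.dvd_prime_pow Fact.out).1 (hj ▸ orderOf_pow_dvd k)
        exact ⟨i, hi⟩
      obtain ⟨c, hc, e⟩ := hfus (u ^ k) (H.pow_mem huH k) hp g₀⁻¹ (by simpa using hk)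
      rw [inv_inv] at e
      have e' : (⟨g₀⁻¹ * u ^ k * g₀, hk⟩ : H) = ⟨c, hc⟩ * ⟨u, huH⟩ ^ k * (⟨c, hc⟩)⁻¹ :=
        Subtype.ext (by push_cast; exact e.symm)
      rw [e', map_mul, map_mul, map_inv, map_pow, mul_right_comm, mul_inv_cancel, one_mul]
    have hVh : V h = 1 := MonoidHom.mem_ker.1 (hker hh)
    rw [huv, map_mul, hvker, mul_one, hVu] at hVh
    obtain ⟨k, hk⟩ := hQp (φ ⟨u, huH⟩)
    have h4 := Nat.eq_one_of_dvd_coprimes (Nat.Coprime.pow_left k hidx)
      (orderOf_dvd_of_pow_eq_one hk) (orderOf_dvd_of_pow_eq_one hVh)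
    rw [orderOf_eq_one_iff] at h4
    have hu' : (⟨u, huH⟩ : H) ∈ K := (QuotientGroup.eq_one_iff _).1 h4
    exact Subgroup.mem_map.2 ⟨⟨u, huH⟩ * ⟨v, hvH⟩, mul_mem hu' hvres, huv.symm⟩
  · refine le_inf ?_ (Subgroup.map_subtype_le _)
    rw [hKdef, Subgroup.map_sup]
    refine sup_le_sup ?_ ?_
    · rw [Cfsg.pResidual, MonoidHom.map_closure]
      refine (Subgroup.closure_le _).2 ?_
      rintro _ ⟨y, hy, rfl⟩
      refine Fusion.mem_pResidual ?_
      rwa [Subgroup.subtype_apply, Subgroup.orderOf_coe]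
    · rw [commutator_def, commutator_def, Subgroup.map_commutator]
      exact Subgroup.commutator_mono le_top le_top

end CfsgLib.Invol
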