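import Cfsg.Agent.Lib.Invol.InvertedOdd
import Mathlib.GroupTheory.SpecificGroups.Quaternion
import Mathlib.GroupTheory.SemidirectProduct

/-!
# `GL(2, 3)` as the split extension of `Q₈` by `S₃`
-/

set_option autoImplicit false
set_option synthInstance.maxSize 2000

namespace CfsgLib.GLTwoThree

open Subgroup

/-- A split extension of `Q₈`, self centralizing, by a group of order six. -/
structure Frame (Q : Type*) [Group Q] where
  R : Subgroup Q
  normal : R.Normal
  e : R ≃* QuaternionGroup 2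
  self : centralizer (R : Set Q) ≤ R
  L : Subgroup Q
  card_L : Nat.card L = 6
  disj : Disjoint R L
  card_Q : Nat.card Q = 48

theorem card_mulAut_le : Nat.card (MulAut (QuaternionGroup 2)) ≤ 24 := by
  have hcard : Fintype.card {p : QuaternionGroup 2 × QuaternionGroup 2 //
      p.1 * p.1 ≠ 1 ∧ p.2 ≠ 1 ∧ p.2 ≠ p.1 ∧ p.2 ≠ p.1 * p.1 ∧ p.2 ≠ p.1 * p.1 * p.1} = 24 := by
    decide +kernel
  let a : QuaternionGroup 2 := .a 1
  let b : QuaternionGroup 2 := .xa 0
  have hgen : ∀ x : QuaternionGroup 2, ∃ i : Fin 4, ∃ j : Fin 2, x = b ^ j.val * a ^ i.val := by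
    decide +kernel
  have hab : a * a ≠ 1 ∧ b ≠ 1 ∧ b ≠ a ∧ b ≠ a * a ∧ b ≠ a * a * a := by decide +kernel
  rw [← hcard, ← Nat.card_eq_fintype_card]
  refine Nat.card_le_card_of_injective (fun σ : MulAut (QuaternionGroup 2) =>
    ⟨(σ a, σ b), ?_⟩) fun σ τ h => ?_
  · simp only [← map_mul, ne_eq, EmbeddingLike.apply_eq_iff_eq, MulEquiv.map_eq_one_iff]
    exact hab
  · have h' := congrArg Subtype.val h
    simp only [Prod.mk.injEq] at h'
    refine MulEquiv.ext fun x => ?_
    obtain ⟨i, j, rfl⟩ := hgen x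
    simp only [map_mul, map_pow, h'.1, h'.2]

/-- An automorphism of order three does not centralize the inner automorphisms. -/
theorem not_commute_inner {σ : MulAut (QuaternionGroup 2)} (hσ : orderOf σ = 3)
    (h : ∀ q, Commute σ (MulAut.conj q)) : False := by
  have key : ∀ q w : QuaternionGroup 2, σ q * w * (σ q)⁻¹ = q * w * q⁻¹ := fun q w => by
    have h1 := MulEquiv.ext_iff.1 (h q).eq (σ.symm w)
    simpa using h1
  have fac : ∀ q r : QuaternionGroup 2, (∀ w, r * w * r⁻¹ = q * w * q⁻¹) → r = q ∨ r = q * .a 2 := by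
    decide +kernel
  have fa2 : ∀ x : QuaternionGroup 2, x * x = 1 → x ≠ 1 → x = .a 2 := by decide +kernel
  have ha2 : σ (.a 2) = .a 2 := fa2 _ (by rw [← map_mul]; exact (map_eq_one_iff σ σ.injective).2 (by decide +kernel))
    (fun e => absurd ((map_eq_one_iff σ σ.injective).1 e) (by decide +kernel))
  have hh : (QuaternionGroup.a 2 : QuaternionGroup 2) * .a 2 = 1 := by decide +kernel
  have h2 : σ ^ 2 = 1 := MulEquiv.ext fun q => by
    show σ (σ q) = q
    rcases fac q (σ q) (key q) with e | e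
    · rw [e, e]
    · rw [e, map_mul, ha2, e, mul_assoc, hh, mul_one]
  have := orderOf_dvd_of_pow_eq_one h2
  rw [hσ] at this
  exact absurd this (by decide)

variable {Q : Type*} [Group Q] (F : Frame Q)

/-- Conjugation, read in `Q₈`. -/
noncomputable def Frame.act : Q →* MulAut (QuaternionGroup 2) :=
  haveI := F.normal
  (MulAut.congr F.e).toMonoidHom.comp MulAut.conjNormal

theorem Frame.act_apply (g : Q) (q : QuaternionGroup 2) :
    ((F.e.symm (F.act g q) : F.R) : Q) = g * (F.e.symm q : Q) * g⁻¹ := by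
  simp [Frame.act, MulAut.congr]

theorem Frame.ker_act : F.act.ker ≤ F.R := fun g hg => by
  refine F.self (mem_centralizer_iff.2 fun r hr => ?_)
  have h := F.act_apply g (F.e ⟨r, hr⟩)
  rw [MonoidHom.mem_ker.1 hg] at h
  simp only [MulAut.one_apply, MulEquiv.symm_apply_apply] at h
  exact (mul_inv_eq_iff_eq_mul.1 h.symm).symm

theorem Frame.act_inner (r : F.R) : F.act r = MulAut.conj (F.e r) := by
  haveI := F.normal
  refine MulEquiv.ext fun q => F.e.symm.injective (Subtype.ext ?_)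
  rw [F.act_apply]
  simp [MulAut.conj_apply]

theorem Frame.act_injOn : Function.Injective (F.act.comp F.L.subtype) := by
  refine (injective_iff_map_eq_one _).2 fun l hl => Subtype.ext ?_
  have h1 : (l : Q) ∈ F.R ⊓ F.L := ⟨F.ker_act (MonoidHom.mem_ker.2 hl), l.2⟩
  rw [disjoint_iff.1 F.disj] at h1
  exact h1

variable [Finite Q]

/-- Subgroups of order six in `Aut Q₈` are conjugate. -/
theorem conj_of_card_six (F : Frame Q) (L₁ L₂ : Subgroup (MulAut (QuaternionGroup 2)))
    (h1 : Nat.card L₁ = 6) (h2 : Nat.card L₂ = 6) :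
    ∃ α : MulAut (QuaternionGroup 2), L₂ = L₁.map (MulAut.conj α).toMonoidHom := by
  classical
  haveI : Finite (MulAut (QuaternionGroup 2)) :=
    Finite.of_injective (fun σ => ⇑σ) DFunLike.coe_injective
  haveI : Fact (Nat.Prime 3) := ⟨Nat.prime_three⟩
  haveI := F.normal
  have hcard : Nat.card (MulAut (QuaternionGroup 2)) = 24 := by
    refine le_antisymm card_mulAut_le ?_
    have hk : Nat.card F.act.ker ≤ 2 := by
      have hz : F.act.ker ≤ (Subgroup.center F.R).map F.R.subtype := fun g hg => by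
        refine ⟨⟨g, F.ker_act hg⟩, mem_center_iff.2 fun r => Subtype.ext ?_, rfl⟩
        have h := F.act_apply g (F.e r)
        rw [MonoidHom.mem_ker.1 hg] at h
        simp only [MulAut.one_apply, MulEquiv.symm_apply_apply] at h
        have h' := mul_inv_eq_iff_eq_mul.1 h.symm
        exact h'.symm
      refine (Subgroup.card_le_of_le hz).trans ?_
      rw [card_map_of_injective F.R.subtype_injective,
        Nat.card_congr (Subgroup.centerCongr F.e).toEquiv]
      have hc : Fintype.card {x : QuaternionGroup 2 // ∀ y, y * x = x * y} = 2 := by decide +kernel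
      refine le_of_le_of_eq ?_ hc
      rw [← Nat.card_eq_fintype_card]
      exact (Nat.card_congr (Equiv.subtypeEquivRight (p := fun x : QuaternionGroup 2 => x ∈ Subgroup.center (QuaternionGroup 2))
        (q := fun x : QuaternionGroup 2 => ∀ y, y * x = x * y) fun x => mem_center_iff)).le
    have h := F.act.ker.card_mul_index
    rw [index_ker, F.card_Q] at h
    have hle : Nat.card F.act.range ≤ Nat.card (MulAut (QuaternionGroup 2)) := card_le_card_group _
    nlinarith
  have h3 : ∀ L : Subgroup (MulAut (QuaternionGroup 2)), Nat.card L = 6 →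
      ∃ P : Sylow 3 (MulAut (QuaternionGroup 2)),
        L = normalizer ((P : Subgroup (MulAut (QuaternionGroup 2))) : Set (MulAut (QuaternionGroup 2))) := by
    intro L hL
    obtain ⟨a, ha⟩ := exists_prime_orderOf_dvd_card' (G := L) 3 (by rw [hL]; norm_num)
    set b : MulAut (QuaternionGroup 2) := (a : MulAut (QuaternionGroup 2)) with hb
    have hbo : orderOf b = 3 := by rw [hb, Subgroup.orderOf_coe, ha]
    have hP : IsPGroup 3 (zpowers b) := IsPGroup.of_card (n := 1) (by rw [Nat.card_zpowers, hbo, pow_one])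
    have hPle : zpowers b ≤ L := zpowers_le.2 a.2
    let P : Sylow 3 (MulAut (QuaternionGroup 2)) := Sylow.ofCard (zpowers b) (by
      rw [Nat.card_zpowers, hbo, hcard, show 24 = 3 ^ 1 * 8 by norm_num,
        Nat.factorization_mul (by norm_num) (by norm_num), Finsupp.add_apply,
        Nat.Prime.factorization_pow Nat.prime_three, Finsupp.single_eq_same,
        Nat.factorization_eq_zero_of_not_dvd (by norm_num : ¬ 3 ∣ 8)]
      norm_num)
    refine ⟨P, ?_⟩
    show L = normalizer ((zpowers b : Subgroup _) : Set _)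
    set N := normalizer ((zpowers b : Subgroup (MulAut (QuaternionGroup 2))) : Set (MulAut (QuaternionGroup 2)))
    have hLN : L ≤ N := by
      haveI : ((zpowers b).subgroupOf L).Normal := Subgroup.normal_of_index_eq_two (by
        have := ((zpowers b).subgroupOf L).card_mul_index
        rw [Nat.card_congr (subgroupOfEquivOfLe hPle).toEquiv, Nat.card_zpowers, hbo, hL] at this
        omega)
      exact (normal_subgroupOf_iff_le_normalizer hPle).1 inferInstance
    refine eq_of_le_of_card_ge hLN ?_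
    rw [hL]
    obtain ⟨k, hk⟩ : 6 ∣ Nat.card N := hL ▸ card_dvd_of_le hLN
    have hN24 : Nat.card N ∣ 24 := hcard ▸ card_subgroup_dvd_card N
    by_contra hlt
    have hn3 := card_sylow_modEq_one 3 (MulAut (QuaternionGroup 2))
    rw [Sylow.card_eq_index_normalizer P] at hn3
    have hidx : Nat.card N * N.index = 24 := hcard ▸ N.card_mul_index
    have hN : N.index = 1 := by
      rw [Nat.ModEq] at hn3
      have hi : N.index % 3 = 1 := hn3
      have hi0 : 0 < N.index := Nat.pos_of_ne_zero index_ne_zero_of_finite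
      have : 12 ≤ Nat.card N := by omega
      have : N.index ≤ 2 := by nlinarith
      omega
    -- then `b` is central modulo itself and commutes with the inner automorphisms
    rw [index_eq_one] at hN
    haveI hPn : (zpowers b).Normal := normalizer_eq_top_iff.1 hN
    refine not_commute_inner hbo fun q => ?_
    set c := MulAut.conj q with hc
    have hz : c * b * c⁻¹ * b⁻¹ ∈ zpowers b :=
      mul_mem (hPn.conj_mem _ (mem_zpowers b) c) (inv_mem (mem_zpowers b))
    have hin : c * b * c⁻¹ * b⁻¹ = MulAut.conj (q * (b q)⁻¹) := by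
      have e : b * c⁻¹ * b⁻¹ = MulAut.conj (b q⁻¹) := by
        refine MulEquiv.ext fun w => ?_
        simp [hc, MulAut.conj_apply]
      rw [show c * b * c⁻¹ * b⁻¹ = c * (b * c⁻¹ * b⁻¹) by group, e, hc, ← map_mul, map_inv]
    have hd : orderOf (c * b * c⁻¹ * b⁻¹) ∣ 3 := by
      rw [← hbo, ← Nat.card_zpowers b]
      exact Subgroup.orderOf_dvd_natCard _ hz
    have hd4 : orderOf (c * b * c⁻¹ * b⁻¹) ∣ 4 := by
      rw [hin]
      refine (orderOf_map_dvd _ _).trans (orderOf_dvd_of_pow_eq_one ?_)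
      have : ∀ x : QuaternionGroup 2, x ^ 4 = 1 := by decide +kernel
      exact this _
    have h1 : c * b * c⁻¹ * b⁻¹ = 1 :=
      orderOf_eq_one_iff.1 (Nat.eq_one_of_dvd_coprimes (by norm_num) hd hd4)
    exact (mul_inv_eq_iff_eq_mul.1 (mul_inv_eq_one.1 h1)).symm
  obtain ⟨P₁, hP₁⟩ := h3 L₁ h1
  obtain ⟨P₂, hP₂⟩ := h3 L₂ h2
  obtain ⟨α, hα⟩ := MulAction.exists_smul_eq (MulAut (QuaternionGroup 2)) P₁ P₂
  refine ⟨α, ?_⟩
  rw [hP₁, hP₂, ← hα]
  exact (map_equiv_normalizer_eq _ (MulAut.conj α)).symm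

theorem card_range_of_injective {Q₀ M : Type*} [Group Q₀] [Group M] (f : Q₀ →* M)
    (hf : Function.Injective f) : Nat.card f.range = Nat.card Q₀ :=
  (Nat.card_congr (MonoidHom.ofInjective hf).toEquiv).symm

theorem Frame.compl (F : Frame Q) : F.R.IsComplement' F.L := by
  refine Subgroup.isComplement'_of_card_mul_and_disjoint ?_ F.disj
  rw [Nat.card_congr F.e.toEquiv, F.card_L, F.card_Q, Nat.card_eq_fintype_card, QuaternionGroup.card]

/-- Two such groups are isomorphic. -/
theorem nonempty_equiv {Q₁ Q₂ : Type*} [Group Q₁] [Group Q₂] [Finite Q₁] [Finite Q₂]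
    (F₁ : Frame Q₁) (F₂ : Frame Q₂) : Nonempty (Q₁ ≃* Q₂) := by
  haveI := F₁.normal
  haveI := F₂.normal
  let f₁ := F₁.act.comp F₁.L.subtype
  let f₂ := F₂.act.comp F₂.L.subtype
  obtain ⟨α, hα⟩ := conj_of_card_six F₁ f₂.range f₁.range ((card_range_of_injective f₂ F₂.act_injOn).trans F₂.card_L)
    ((card_range_of_injective f₁ F₁.act_injOn).trans F₁.card_L)
  have hmem : ∀ l, α⁻¹ * f₁ l * α ∈ f₂.range := by
    intro l
    obtain ⟨w, hw, hwl⟩ := hα ▸ (MonoidHom.mem_range.2 ⟨l, rfl⟩ : f₁ l ∈ f₁.range)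
    rw [← hwl]
    simpa [MulAut.conj_apply, mul_assoc] using hw
  let g : F₁.L →* F₂.L := (MonoidHom.ofInjective F₂.act_injOn).symm.toMonoidHom.comp
    (((MulAut.conj α⁻¹).toMonoidHom.comp f₁).codRestrict f₂.range (by
      intro l; simpa [MulAut.conj_apply] using hmem l))
  have hg : ∀ l, f₂ (g l) = α⁻¹ * f₁ l * α := fun l => by
    show f₂ ((MonoidHom.ofInjective F₂.act_injOn).symm _) = _
    rw [MonoidHom.apply_ofInjective_symm]
    simp [MulAut.conj_apply]
  have hgb : Function.Bijective g := by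
    refine (Nat.bijective_iff_injective_and_card g).2 ⟨fun l l' h => F₁.act_injOn ?_, F₁.card_L.trans F₂.card_L.symm⟩
    have h1 := hg l
    rw [h, hg l'] at h1
    exact (mul_left_cancel (mul_right_cancel h1)).symm
  let fn : F₁.R ≃* F₂.R := (F₁.e.trans α.symm).trans F₂.e.symm
  refine ⟨(SemidirectProduct.mulEquivSubgroup F₁.compl).symm.trans
    ((SemidirectProduct.congr fn (MulEquiv.ofBijective g hgb) ?_).trans
      (SemidirectProduct.mulEquivSubgroup F₂.compl))⟩
  intro l
  refine MulEquiv.ext fun r => Subtype.ext ?_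
  have h1 : ((fn ((MulAut.conjNormal (l : Q₁)) r) : F₂.R) : Q₂) =
      (g l : Q₂) * (fn r : Q₂) * (g l : Q₂)⁻¹ := by
    have h2 : F₂.act (g l) (α.symm (F₁.e r)) = α.symm (F₁.e (MulAut.conjNormal (l : Q₁) r)) := by
      have h3 : f₁ l (F₁.e r) = F₁.e (MulAut.conjNormal (l : Q₁) r) := by
        refine F₁.e.symm.injective (Subtype.ext ?_)
        show ((F₁.e.symm (F₁.act l (F₁.e r)) : F₁.R) : Q₁) = _
        rw [F₁.act_apply]
        simp
      show f₂ (g l) _ = _
      rw [hg l, ← h3]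
      simp [MulAut.mul_apply]
    have h4 := F₂.act_apply (g l) (α.symm (F₁.e r))
    rw [h2] at h4
    exact h4
  exact h1

/-- The scalar-or-trace-zero matrices of determinant one. -/
def glPred (m : Matrix (Fin 2) (Fin 2) (ZMod 3)) : Prop :=
  m 0 0 * m 1 1 - m 0 1 * m 1 0 = 1 ∧ (m 0 0 + m 1 1 = 0 ∨ (m 0 1 = 0 ∧ m 1 0 = 0 ∧ m 0 0 = m 1 1))

/-- The quaternion elements as matrices. -/
def qMat : QuaternionGroup 2 → Matrix (Fin 2) (Fin 2) (ZMod 3)
  | .a i => if i = 0 then !![1, 0; 0, 1] else if i = 1 then !![0, 2; 1, 0] else if i = 2 then !![2, 0; 0, 2]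
      else !![0, 1; 2, 0]
  | .xa i => if i = 0 then !![1, 1; 1, 2] else if i = 1 then !![1, 2; 2, 2] else if i = 2 then !![2, 2; 2, 1]
      else !![2, 1; 1, 1]

theorem qMat_facts : qMat 1 = 1 ∧ (∀ p q, qMat (p * q) = qMat p * qMat q) ∧
    (∀ p q, qMat p = qMat q → p = q) := by
  refine ⟨?_, ?_, ?_⟩ <;> decide +kernel

theorem qMat_range : ∀ a b c d : ZMod 3,
    (a * d - b * c = 1 ∧ (a + d = 0 ∨ (b = 0 ∧ c = 0 ∧ a = d))) ↔ ∃ q, qMat q = !![a, b; c, d] := by
  decide +kernel

theorem qMat_centralizer : ∀ a b c d : ZMod 3, a * d - b * c ≠ 0 →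
    !![a, b; c, d] * qMat (.a 1) = qMat (.a 1) * !![a, b; c, d] →
    !![a, b; c, d] * qMat (.xa 0) = qMat (.xa 0) * !![a, b; c, d] →
    ∃ q, qMat q = !![a, b; c, d] := by
  decide +kernel

/-- The frame of `GL(2, 3)`. -/
theorem nonempty_frame_gl : Nonempty (Frame (GL (Fin 2) (ZMod 3))) := by
  classical
  let φ : QuaternionGroup 2 →* GL (Fin 2) (ZMod 3) := MonoidHom.toHomUnits
    { toFun := qMat, map_one' := qMat_facts.1, map_mul' := qMat_facts.2.1 }
  have hφv : ∀ q, (↑(φ q) : Matrix (Fin 2) (Fin 2) (ZMod 3)) = qMat q := fun q => rfl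
  have hφ : Function.Injective φ := fun p q h => qMat_facts.2.2 p q (congrArg Units.val h)
  have hmem : ∀ g : GL (Fin 2) (ZMod 3), g ∈ φ.range ↔ glPred g.1 := fun g => by
    rw [glPred, qMat_range, ← Matrix.eta_fin_two g.1]
    exact ⟨fun ⟨q, hq⟩ => ⟨q, by rw [← hq, hφv]⟩, fun ⟨q, hq⟩ => ⟨q, Units.ext hq⟩⟩
  have hN : φ.range.Normal := ⟨fun r hr g => by
    rw [hmem] at hr ⊢
    obtain ⟨hd, ht⟩ := hr
    refine ⟨?_, ?_⟩
    · have := Matrix.det_units_conj g r.1
      rw [Matrix.det_fin_two, Matrix.det_fin_two, hd] at this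
      exact this
    · rcases ht with ht | ⟨h1, h2, h3⟩
      · left
        have := Matrix.trace_units_conj g r.1
        rw [Matrix.trace_fin_two, Matrix.trace_fin_two, ht] at this
        exact this
      · right
        have hr1 : r.1 = Matrix.scalar (Fin 2) (r.1 0 0) := by
          ext i j; fin_cases i <;> fin_cases j <;> simp [h1, h2, ← h3]
        have : (g * r * g⁻¹).1 = r.1 := by
          rw [Units.val_mul, Units.val_mul, hr1, ← (Matrix.scalar_commute _ (fun y => Commute.all _ y) g.1).eq,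
            mul_assoc, Units.mul_inv, mul_one]
        rw [this]
        exact ⟨h1, h2, h3⟩⟩
  let L : Subgroup (GL (Fin 2) (ZMod 3)) :=
    { carrier := {g | (↑g : Matrix (Fin 2) (Fin 2) (ZMod 3)) 0 0 = 1 ∧ (↑g : Matrix (Fin 2) (Fin 2) (ZMod 3)) 1 0 = 0}
      one_mem' := by simp
      mul_mem' := fun {u v} hu hv => by simp_all [Matrix.mul_apply, Fin.sum_univ_two]
      inv_mem' := fun {u} hu => by
        have h : (↑u⁻¹ : Matrix (Fin 2) (Fin 2) (ZMod 3)) * (↑u : Matrix (Fin 2) (Fin 2) (ZMod 3)) = 1 := Units.inv_mul u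
        have h00 := congrFun (congrFun h 0) 0
        have h10 := congrFun (congrFun h 1) 0
        simp [Matrix.mul_apply, Fin.sum_univ_two, hu.1, hu.2, -Matrix.coe_units_inv] at h00 h10
        exact ⟨h00, h10⟩ }
  have hd : Disjoint φ.range L := by
    rw [disjoint_iff, eq_bot_iff]
    rintro g ⟨⟨q, rfl⟩, h1, h2⟩
    rw [hφv] at h1 h2
    have key : ∀ p : QuaternionGroup 2, qMat p 0 0 = 1 → qMat p 1 0 = 0 → p = 1 := by decide +kernel
    simp [key q h1 h2]
  have hL : Nat.card L = 6 := by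
    let ψ : L → {p : ZMod 3 × ZMod 3 // p.2 ≠ 0} := fun g =>
      ⟨((↑g.1 : Matrix (Fin 2) (Fin 2) (ZMod 3)) 0 1, (↑g.1 : Matrix (Fin 2) (Fin 2) (ZMod 3)) 1 1), fun h => by
        have := Matrix.GeneralLinearGroup.det g.1 |>.ne_zero
        apply this
        show (↑g.1 : Matrix (Fin 2) (Fin 2) (ZMod 3)).det = 0
        rw [Matrix.det_fin_two, g.2.1, g.2.2]
        simp only at h
        simp [h]⟩
    have hψ : Function.Bijective ψ := by
      refine ⟨fun u v h => Subtype.ext (Units.ext ?_), fun ⟨⟨b, d⟩, hd⟩ => ?_⟩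
      · have h' := congrArg Subtype.val h
        simp only [ψ, Prod.mk.injEq] at h'
        ext i j
        fin_cases i <;> fin_cases j <;> simp [u.2.1, u.2.2, v.2.1, v.2.2, h'.1, h'.2]
      · refine ⟨⟨Matrix.GeneralLinearGroup.mkOfDetNeZero !![1, b; 0, d] (by simpa [Matrix.det_fin_two] using hd),
          by constructor <;> simp [Matrix.GeneralLinearGroup.mkOfDetNeZero]⟩, ?_⟩
        simp [ψ, Matrix.GeneralLinearGroup.mkOfDetNeZero]
    rw [Nat.card_congr (Equiv.ofBijective ψ hψ), Nat.card_eq_fintype_card]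
    decide +kernel
  refine ⟨⟨φ.range, hN, (MonoidHom.ofInjective hφ).symm, ?_, L, hL, hd, ?_⟩⟩
  · intro g hg
    have hne : g.1 0 0 * g.1 1 1 - g.1 0 1 * g.1 1 0 ≠ 0 := by
      rw [← Matrix.det_fin_two]; exact (Matrix.GeneralLinearGroup.det g).ne_zero
    have h : ∀ q, g.1 * qMat q = qMat q * g.1 := fun q => by
      have := mem_centralizer_iff.1 hg (φ q) ⟨q, rfl⟩
      rw [← hφv, ← Units.val_mul, ← Units.val_mul, this]
    obtain ⟨q, hq⟩ := qMat_centralizer _ _ _ _ hne (by rw [← Matrix.eta_fin_two g.1]; exact h _)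
      (by rw [← Matrix.eta_fin_two g.1]; exact h _)
    exact ⟨q, Units.ext (hq.trans (Matrix.eta_fin_two g.1).symm)⟩
  · rw [Matrix.card_GL_field]
    simp [Fin.prod_univ_two, ZMod.card]

/-- A frame from an involution outside `R`. -/
theorem nonempty_frame (R : Subgroup Q) [hR : R.Normal] (e : R ≃* QuaternionGroup 2)
    (hself : centralizer (R : Set Q) ≤ R) (hQ : Nat.card Q = 48)
    (hO : Cfsg.pCore 2 Q ≤ R) {t : Q} (ht : orderOf t = 2) (htR : t ∉ R) : Nonempty (Frame Q) := by
  classical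
  obtain ⟨x, hx1, hxo, hxi⟩ := Invol.exists_odd_inverted_of_notMem_pCore ht fun h => htR (hO h)
  have hx3 : orderOf x = 3 := by
    have h48 : orderOf x ∣ 2 ^ 4 * 3 := by
      rw [show 2 ^ 4 * 3 = 48 from rfl, ← hQ]; exact orderOf_dvd_natCard x
    have h3 : orderOf x ∣ 3 := (Nat.Coprime.dvd_mul_left
      (Nat.Coprime.pow_right 4 hxo.coprime_two_right)).1 h48
    exact ((Nat.dvd_prime Nat.prime_three).1 h3).resolve_left fun h => hx1 (orderOf_eq_one_iff.1 h)
  have hR8 : Nat.card R = 8 := by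
    rw [Nat.card_congr e.toEquiv, Nat.card_eq_fintype_card, QuaternionGroup.card]
  have hnorm : zpowers t ≤ normalizer ((zpowers x : Subgroup Q) : Set Q) := by
    rw [zpowers_le, mem_normalizer_iff_map_conj_eq, MonoidHom.map_zpowers]
    show zpowers (t * x * t⁻¹) = zpowers x
    rw [hxi, zpowers_inv]
  set L := zpowers t ⊔ zpowers x with hLdef
  have h23 : zpowers t ⊓ zpowers x = ⊥ := inf_eq_bot_of_coprime (by
    rw [Nat.card_zpowers, Nat.card_zpowers, ht, hx3]; decide)
  have hL : Nat.card L = 6 := by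
    have hd := Coprime.card_sup_dvd_of_le_normalizer hnorm
    rw [Nat.card_zpowers, Nat.card_zpowers, ht, hx3] at hd
    have h2 : 2 ∣ Nat.card L := by
      rw [← ht, ← Nat.card_zpowers t]; exact card_dvd_of_le le_sup_left
    have h3 : 3 ∣ Nat.card L := by
      rw [← hx3, ← Nat.card_zpowers x]; exact card_dvd_of_le le_sup_right
    exact Nat.dvd_antisymm hd (Nat.Coprime.mul_dvd_of_dvd_of_dvd (by norm_num) h2 h3)
  refine ⟨⟨R, hR, e, hself, L, hL, ?_, hQ⟩⟩
  rw [disjoint_iff]
  by_contra hne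
  have hcd : Nat.card ↥(R ⊓ L) ∣ 2 := by
    have h8 : Nat.card ↥(R ⊓ L) ∣ 8 := hR8 ▸ card_dvd_of_le inf_le_left
    have h6 : Nat.card ↥(R ⊓ L) ∣ 6 := hL ▸ card_dvd_of_le inf_le_right
    exact Nat.dvd_gcd h8 h6
  have h2 : Nat.card ↥(R ⊓ L) = 2 :=
    ((Nat.dvd_prime Nat.prime_two).1 hcd).resolve_left fun h => hne (Subgroup.card_eq_one.1 h)
  haveI : Fact (Nat.Prime 2) := ⟨Nat.prime_two⟩
  obtain ⟨w, hw⟩ := exists_prime_orderOf_dvd_card' (G := ↥(R ⊓ L)) 2 (by rw [h2])
  set z := (w : Q)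
  have hz : orderOf z = 2 := (Subgroup.orderOf_coe w).trans hw
  have hzR : z ∈ R := (Subgroup.mem_inf.1 w.2).1
  have hzL : z ∈ L := (Subgroup.mem_inf.1 w.2).2
  have huniq : ∀ v : QuaternionGroup 2, orderOf v = 2 → v = .a 2 := by
    have : ∀ v : QuaternionGroup 2, v ^ 2 = 1 → v ≠ 1 → v = .a 2 := by decide +kernel
    exact fun v hv => this v (orderOf_dvd_iff_pow_eq_one.1 hv.dvd) fun e1 => by
      rw [e1, orderOf_one] at hv; exact absurd hv (by decide)
  have hzc : x * z * x⁻¹ = z := by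
    have ho : orderOf (x * z * x⁻¹) = 2 := Invol.invol_conj hz x
    have h1 := huniq (e ⟨_, hR.conj_mem z hzR x⟩) (by rw [MulEquiv.orderOf_eq, Subgroup.orderOf_mk, ho])
    have h2 := huniq (e ⟨z, hzR⟩) (by rw [MulEquiv.orderOf_eq, Subgroup.orderOf_mk, hz])
    exact congrArg Subtype.val (e.injective (h1.trans h2.symm))
  have hLC : L ≤ centralizer {x} := by
    have hx' : zpowers x ≤ centralizer {x} ⊓ L := le_inf (zpowers_le.2 (mem_centralizer_singleton_iff.2 rfl)) le_sup_right
    have hz' : zpowers z ≤ centralizer {x} ⊓ L := le_inf (zpowers_le.2 (mem_centralizer_singleton_iff.2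
      (mul_inv_eq_iff_eq_mul.1 hzc).symm)) (zpowers_le.2 hzL)
    have h6 : 6 ∣ Nat.card ↥(centralizer {x} ⊓ L : Subgroup Q) := Nat.Coprime.mul_dvd_of_dvd_of_dvd (show Nat.Coprime 2 3 by norm_num)
      (by rw [← hz, ← Nat.card_zpowers]; exact card_dvd_of_le hz')
      (by rw [← hx3, ← Nat.card_zpowers]; exact card_dvd_of_le hx')
    exact (eq_of_le_of_card_ge (inf_le_right) (hL.le.trans (Nat.le_of_dvd Nat.card_pos h6))).ge.trans inf_le_left
  have htx := mem_centralizer_singleton_iff.1 (hLC ((le_sup_left : zpowers t ≤ L) (mem_zpowers t)))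
  have : t * x * t⁻¹ = x := by rw [htx, mul_inv_cancel_right]
  rw [hxi] at this
  exact hx1 (Invol.eq_one_of_odd_of_mul_self hxo (by nth_rewrite 1 [← this]; rw [inv_mul_cancel]))

end CfsgLib.GLTwoThree
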