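import Cfsg.Agent.Lib.Invol.FrameSubgroups
import Cfsg.Agent.Lib.Invol.NormalFourExists

/-!
# The structure of quasidihedral groups
-/

set_option autoImplicit false

namespace CfsgLib.Invol

open Subgroup

variable {S : Type*} [Group S]

/-- A frame of a quasidihedral group of order `8h`, `h` even. -/
structure QDFrame (h : ℤ) (a b : S) : Prop where
  frame : ∃ N : ℕ, (N : ℤ) = 4 * h ∧ CyclicFrame N (2 * h - 1) 0 a b
  even : ∃ u : ℤ, h = 2 * u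
  two_le : 2 ≤ h

theorem exists_qdFrame [Finite S] (hS : Cfsg.IsQuasiDihedral S) :
    ∃ (k : ℕ) (a b : S), 3 ≤ k ∧ Nat.card S = 2 ^ (k + 1) ∧ QDFrame (2 ^ (k - 2)) a b := by
  obtain ⟨k, a, b, hk, hc, F⟩ := exists_frame_of_quasiDihedral hS
  have h1 : (2 : ℤ) ^ (k - 1) = 2 * 2 ^ (k - 2) := by rw [← pow_succ']; congr 1; omega
  refine ⟨k, a, b, hk, hc, ⟨2 ^ k, ?_, h1 ▸ F⟩, ⟨2 ^ (k - 3), ?_⟩, ?_⟩
  · push_cast
    rw [show (4 : ℤ) = 2 ^ 2 by norm_num, ← pow_add]; congr 1; omega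
  · rw [← pow_succ']; congr 1; omega
  · calc (2 : ℤ) = 2 ^ 1 := by norm_num
      _ ≤ 2 ^ (k - 2) := pow_le_pow_right₀ (by norm_num) (by omega)

namespace QDFrame

variable {h : ℤ} {a b : S}

theorem zpow_eq_iff (Q : QDFrame h a b) {i j : ℤ} : a ^ i = a ^ j ↔ 4 * h ∣ j - i := by
  obtain ⟨N, hN, F⟩ := Q.frame
  rw [F.zpow_eq_iff, ZMod.intCast_eq_intCast_iff_dvd_sub, hN]

theorem zpow_eq_one_iff (Q : QDFrame h a b) {i : ℤ} : a ^ i = 1 ↔ 4 * h ∣ i := by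
  obtain ⟨N, hN, F⟩ := Q.frame
  rw [F.zpow_eq_one_iff, hN]

theorem exists_eq (Q : QDFrame h a b) (x : S) : ∃ i : ℤ, x = a ^ i ∨ x = a ^ i * b := by
  obtain ⟨N, hN, F⟩ := Q.frame
  exact F.exists_eq x

theorem ne_mul (Q : QDFrame h a b) (i j : ℤ) : a ^ i ≠ a ^ j * b := by
  obtain ⟨N, hN, F⟩ := Q.frame
  exact F.zpow_ne_mul i j

theorem ref_sq (Q : QDFrame h a b) (i : ℤ) : (a ^ i * b) ^ 2 = a ^ (2 * h * i) := by
  obtain ⟨N, hN, F⟩ := Q.frame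
  rw [F.ref_sq]; congr 1; ring

theorem rot_sq (i : ℤ) : (a ^ i) ^ 2 = a ^ (2 * i) := by
  rw [← zpow_natCast, ← zpow_mul]; congr 1; ring

theorem ref_rot (Q : QDFrame h a b) (i j : ℤ) :
    a ^ i * b * a ^ j = a ^ (i + (2 * h - 1) * j) * b := by
  obtain ⟨N, hN, F⟩ := Q.frame
  exact F.ref_mul_rot i j

theorem ref_ref (Q : QDFrame h a b) (i j : ℤ) :
    a ^ i * b * (a ^ j * b) = a ^ (i + (2 * h - 1) * j) := by
  obtain ⟨N, hN, F⟩ := Q.frame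
  rw [F.ref_mul_ref]; congr 1; ring

theorem ref_eq_iff (Q : QDFrame h a b) {i j : ℤ} : a ^ i * b = a ^ j * b ↔ 4 * h ∣ j - i := by
  rw [mul_left_inj, Q.zpow_eq_iff]

theorem coprime (Q : QDFrame h a b) : IsCoprime (2 * h) (h - 1) := by
  obtain ⟨u, rfl⟩ := Q.even
  exact ⟨1 - u, 2 * u - 1, by ring⟩

theorem half_dvd {i : ℤ} (hd : 2 * h ∣ i) (Q : QDFrame h a b) :
    a ^ i = 1 ∨ a ^ i = a ^ (2 * h) := by
  obtain ⟨q, rfl⟩ := hd
  rcases Int.even_or_odd' q with ⟨l, rfl | rfl⟩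
  · exact Or.inl (Q.zpow_eq_one_iff.2 ⟨l, by ring⟩)
  · exact Or.inr (Q.zpow_eq_iff.2 ⟨-l, by ring⟩)

theorem orderOf_center (Q : QDFrame h a b) : orderOf (a ^ (2 * h)) = 2 := by
  rw [orderOf_eq_prime_iff, rot_sq, Q.zpow_eq_one_iff, Ne, Q.zpow_eq_one_iff]
  refine ⟨⟨1, by ring⟩, fun hd => ?_⟩
  have := Q.two_le
  have := Int.le_of_dvd (by omega) hd
  omega

theorem rot_sq_eq_one_iff (Q : QDFrame h a b) {i : ℤ} : (a ^ i) ^ 2 = 1 ↔ 2 * h ∣ i := by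
  rw [rot_sq, Q.zpow_eq_one_iff, show 4 * h = 2 * (2 * h) by ring,
    mul_dvd_mul_iff_left two_ne_zero]

theorem ref_sq_eq_one_iff (Q : QDFrame h a b) {i : ℤ} : (a ^ i * b) ^ 2 = 1 ↔ (2 : ℤ) ∣ i := by
  rw [Q.ref_sq, Q.zpow_eq_one_iff, show 4 * h = 2 * h * 2 by ring]
  have := Q.two_le
  rw [mul_dvd_mul_iff_left (by omega)]

theorem ref_pow_four (Q : QDFrame h a b) (i : ℤ) : (a ^ i * b) ^ 4 = 1 := by
  rw [show 4 = 2 * 2 from rfl, pow_mul, Q.ref_sq, rot_sq, Q.zpow_eq_one_iff]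
  exact ⟨i, by ring⟩

theorem rot_ref_commute_iff (Q : QDFrame h a b) {i j : ℤ} :
    a ^ j * (a ^ i * b) = a ^ i * b * a ^ j ↔ 2 * h ∣ j := by
  rw [CyclicFrame.rot_mul_ref, Q.ref_rot, Q.ref_eq_iff]
  rw [show i + (2 * h - 1) * j - (j + i) = 2 * ((h - 1) * j) by ring,
    show 4 * h = 2 * (2 * h) by ring, mul_dvd_mul_iff_left two_ne_zero]
  exact ⟨fun hd => Q.coprime.dvd_of_dvd_mul_left hd, fun hd => dvd_mul_of_dvd_right hd _⟩

theorem ref_ref_commute_iff (Q : QDFrame h a b) {i j : ℤ} :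
    a ^ i * b * (a ^ j * b) = a ^ j * b * (a ^ i * b) ↔ 2 * h ∣ j - i := by
  rw [Q.ref_ref, Q.ref_ref, Q.zpow_eq_iff,
    show j + (2 * h - 1) * i - (i + (2 * h - 1) * j) = -(2 * ((h - 1) * (j - i))) by ring, dvd_neg,
    show 4 * h = 2 * (2 * h) by ring, mul_dvd_mul_iff_left two_ne_zero]
  exact ⟨fun hd => Q.coprime.dvd_of_dvd_mul_left hd, fun hd => dvd_mul_of_dvd_right hd _⟩

theorem center_commute (Q : QDFrame h a b) (x : S) : x * a ^ (2 * h) = a ^ (2 * h) * x := by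
  obtain ⟨i, rfl | rfl⟩ := Q.exists_eq x
  · exact ((Commute.refl a).zpow_zpow i (2 * h)).eq
  · exact (Q.rot_ref_commute_iff.2 dvd_rfl).symm

theorem center_eq (Q : QDFrame h a b) : Subgroup.center S = Subgroup.zpowers (a ^ (2 * h)) := by
  refine le_antisymm (fun x hx => ?_)
    (Subgroup.zpowers_le.2 (Subgroup.mem_center_iff.2 fun y => (Q.center_commute y)))
  obtain ⟨i, rfl | rfl⟩ := Q.exists_eq x
  · have h1 := Subgroup.mem_center_iff.1 hx (a ^ (0 : ℤ) * b)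
    obtain ⟨q, hq⟩ := Q.rot_ref_commute_iff.1 h1.symm
    exact Subgroup.mem_zpowers_iff.2 ⟨q, by rw [← zpow_mul, hq]⟩
  · exfalso
    have h1 := Subgroup.mem_center_iff.1 hx (a ^ (1 : ℤ))
    have h2 := Q.rot_ref_commute_iff.1 h1
    have := Q.two_le
    have := Int.le_of_dvd one_pos h2
    omega

theorem card_center (Q : QDFrame h a b) : Nat.card (Subgroup.center S) = 2 := by
  rw [Q.center_eq, Nat.card_zpowers, Q.orderOf_center]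

/-- Reflections of the same parity are conjugate. -/
theorem exists_conj_ref (Q : QDFrame h a b) {i j : ℤ} (hij : 2 ∣ j - i) :
    ∃ l : ℤ, a ^ l * (a ^ i * b) * (a ^ l)⁻¹ = a ^ j * b := by
  obtain ⟨N, hN, F⟩ := Q.frame
  obtain ⟨s, hs⟩ := hij
  obtain ⟨u, rfl⟩ := Q.even
  refine ⟨-(2 * u - 1) * s, ?_⟩
  rw [F.rot_conj_ref, Q.ref_eq_iff]
  exact ⟨(1 - u) * s, by linear_combination hs⟩

theorem parity_conj (Q : QDFrame h a b) (g : S) {i j : ℤ} (hg : g * (a ^ i * b) * g⁻¹ = a ^ j * b) :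
    2 ∣ j - i := by
  rw [mul_inv_eq_iff_eq_mul] at hg
  obtain ⟨l, rfl | rfl⟩ := Q.exists_eq g
  · rw [CyclicFrame.rot_mul_ref, Q.ref_rot, Q.ref_eq_iff] at hg
    obtain ⟨q, hq⟩ := hg
    exact ⟨l - h * l + 2 * h * q, by linarith⟩
  · rw [Q.ref_ref, Q.ref_ref, Q.zpow_eq_iff] at hg
    obtain ⟨q, hq⟩ := hg
    exact ⟨2 * h * q + h * i + l - i - h * l, by linarith⟩

theorem invol_cases (Q : QDFrame h a b) {x : S} (hx : x ^ 2 = 1) :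
    x = 1 ∨ x = a ^ (2 * h) ∨ ∃ i : ℤ, 2 ∣ i ∧ x = a ^ i * b := by
  obtain ⟨i, rfl | rfl⟩ := Q.exists_eq x
  · rcases half_dvd (Q.rot_sq_eq_one_iff.1 hx) Q with h' | h'
    · exact Or.inl h'
    · exact Or.inr (Or.inl h')
  · exact Or.inr (Or.inr ⟨i, Q.ref_sq_eq_one_iff.1 hx, rfl⟩)

theorem order_four_cases (Q : QDFrame h a b) {x : S} (hx4 : x ^ 4 = 1) (hx : x ^ 2 ≠ 1) :
    x = a ^ h ∨ x = a ^ (-h) ∨ ∃ i : ℤ, ¬ 2 ∣ i ∧ x = a ^ i * b := by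
  obtain ⟨i, rfl | rfl⟩ := Q.exists_eq x
  · rw [← zpow_natCast, ← zpow_mul, Q.zpow_eq_one_iff] at hx4
    push_cast at hx4
    rw [mul_comm i, mul_dvd_mul_iff_left (by norm_num)] at hx4
    obtain ⟨q, rfl⟩ := hx4
    rw [Ne, Q.rot_sq_eq_one_iff] at hx
    rcases Int.even_or_odd' q with ⟨l, rfl | rfl⟩
    · exact absurd ⟨l, by ring⟩ hx
    rcases Int.even_or_odd' l with ⟨m, rfl | rfl⟩
    · exact Or.inl (Q.zpow_eq_iff.2 ⟨-m, by ring⟩)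
    · exact Or.inr (Or.inl (Q.zpow_eq_iff.2 ⟨-m - 1, by ring⟩))
  · exact Or.inr (Or.inr ⟨i, fun hd => hx (Q.ref_sq_eq_one_iff.2 hd), rfl⟩)

theorem orderOf_ref_odd (Q : QDFrame h a b) {i : ℤ} (hi : ¬ 2 ∣ i) : orderOf (a ^ i * b) = 4 := by
  haveI : Fact (Nat.Prime 2) := ⟨Nat.prime_two⟩
  rw [show 4 = 2 ^ (1 + 1) from rfl]
  exact orderOf_eq_prime_pow (by simpa using fun h' => hi (Q.ref_sq_eq_one_iff.1 h'))
    (by simpa using Q.ref_pow_four i)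

theorem orderOf_ref_even (Q : QDFrame h a b) {i : ℤ} (hi : 2 ∣ i) : orderOf (a ^ i * b) = 2 := by
  rw [orderOf_eq_prime_iff]
  exact ⟨Q.ref_sq_eq_one_iff.2 hi, fun h' => Q.ne_mul 0 i (by rw [zpow_zero, h'])⟩

theorem orderOf_quarter (Q : QDFrame h a b) : orderOf (a ^ h) = 4 := by
  haveI : Fact (Nat.Prime 2) := ⟨Nat.prime_two⟩
  have h1 : ¬ (a ^ h) ^ 2 = 1 := fun h' => by
    have := Q.rot_sq_eq_one_iff.1 h'
    have := Q.two_le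
    have := Int.le_of_dvd (by omega) ‹2 * h ∣ h›
    omega
  rw [show 4 = 2 ^ (1 + 1) from rfl]
  refine orderOf_eq_prime_pow (by simpa using h1) ?_
  rw [← zpow_natCast, ← zpow_mul, Q.zpow_eq_one_iff]
  exact ⟨1, by norm_num; ring⟩

theorem conj_quarter (Q : QDFrame h a b) (g : S) :
    g * a ^ h * g⁻¹ = a ^ h ∨ g * a ^ h * g⁻¹ = a ^ (-h) := by
  obtain ⟨i, rfl | rfl⟩ := Q.exists_eq g
  · exact Or.inl (by rw [((Commute.refl a).zpow_zpow i h).eq, mul_inv_cancel_right])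
  · refine Or.inr ?_
    obtain ⟨u, hu⟩ := Q.even
    rw [mul_inv_eq_iff_eq_mul, Q.ref_rot, CyclicFrame.rot_mul_ref, Q.ref_eq_iff]
    exact ⟨-u, by rw [hu]; ring⟩

/-- The subgroup `⟨a^d, a^i b⟩` of a quasidihedral group. -/
theorem exists_sub (Q : QDFrame h a b) {d i : ℤ} (hd : d ∣ 2 * h) :
    ∃ U : Subgroup S, (∀ j : ℤ, a ^ j ∈ U ↔ d ∣ j) ∧ (∀ j : ℤ, a ^ j * b ∈ U ↔ d ∣ j - i) ∧
      ∀ t : ℕ, 4 * h = d * t → Nat.card U = 2 * t := by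
  obtain ⟨N, hN, F⟩ := Q.frame
  have hdN : d ∣ (N : ℤ) := hN ▸ hd.trans ⟨2, by ring⟩
  have hdi : d ∣ (1 + (2 * h - 1)) * i + 0 := by
    rw [show (1 + (2 * h - 1)) * i + 0 = 2 * h * i by ring]; exact hd.mul_right i
  exact ⟨F.sub d i hdi, fun j => F.rot_mem_sub_iff hdN, fun j => F.ref_mem_sub_iff hdN,
    fun t ht => F.card_sub (hN.trans ht)⟩

end QDFrame

end CfsgLib.Invol
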