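import Mathlib

/-! Elementary facts about the matrices of `SL(2, 5)`, with the coordinates checked by `decide`. -/

namespace CfsgLib.Invol.SL25

open Matrix

abbrev T := SpecialLinearGroup (Fin 2) (ZMod 5)

def U : T := ⟨!![1, 1; 0, 1], by decide⟩
def V : T := ⟨!![1, 0; 1, 1], by decide⟩
def I : T := ⟨!![2, 0; 0, 3], by decide⟩
def J : T := ⟨!![0, 1; 4, 0], by decide⟩

theorem U_pow_five : U ^ 5 = 1 := by decide
theorem U_ne_one : U ≠ 1 := by decide
theorem V_ne : V ≠ U⁻¹ := by decide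
theorem I_mul_self : I * I = -1 := by decide
theorem J_mul_self : J * J = -1 := by decide
theorem I_ne : I ≠ 1 := by decide
theorem J_mul_I : J * I = -1 * (I * J) := by decide
theorem neg_one_ne : (-1 : T) ≠ 1 := by decide
theorem I_U : I * U = U ^ 4 * I := by decide
theorem U_four : U ^ 4 = U⁻¹ := by decide
theorem I_word : I = V * V * U * V * U * U := by decide
theorem J_word : J = U * V * V * V * V * U := by decide
theorem V_word : V = J * U⁻¹ * J⁻¹ := by decide
theorem JU_cube : (J * U) ^ 3 = 1 := by decide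
theorem JU_ne : J * U ≠ 1 := by decide
theorem braid : U * V⁻¹ * U = V⁻¹ * U * V⁻¹ := by decide
theorem IgI : V * I * V = I := by decide
theorem I_negJ : I * (-1 * J) = J * I := by decide
theorem I_negIJ : I * (-1 * (I * J)) = (I * J) * I := by decide
theorem I_IJ : I * (I * J) = -1 * J := by decide

/-- A matrix from its entries. -/
def mk (a b c d : ZMod 5) (h : a * d - b * c = 1) : T :=
  ⟨!![a, b; c, d], by rw [det_fin_two_of]; exact h⟩

theorem mk_mul {a b c d e f g k : ZMod 5} (h h') : mk a b c d h * mk e f g k h' =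
    mk (a * e + b * g) (a * f + b * k) (c * e + d * g) (c * f + d * k)
      (by linear_combination (e * k - f * g) * h + h') := by
  apply Subtype.ext
  show !![a, b; c, d] * !![e, f; g, k] = _
  rw [Matrix.mul_fin_two]
  rfl

theorem mk_neg {a b c d : ZMod 5} (h) :
    -mk a b c d h = mk (-a) (-b) (-c) (-d) (by linear_combination h) := by
  apply Subtype.ext
  show -!![a, b; c, d] = _
  rw [Matrix.neg_of]
  simp [mk]

theorem exists_mk (g : T) : ∃ a b c d h, g = mk a b c d h := by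
  refine ⟨g 0 0, g 0 1, g 1 0, g 1 1, ?_, ?_⟩
  · have := g.2; rwa [det_fin_two] at this
  · ext i j; fin_cases i <;> fin_cases j <;> rfl

theorem mk_eq_mk {a b c d e f g k : ZMod 5} (h h') :
    mk a b c d h = mk e f g k h' ↔ a = e ∧ b = f ∧ c = g ∧ d = k := by
  constructor
  · intro he
    exact ⟨congrArg (fun m : T => m 0 0) he, congrArg (fun m : T => m 0 1) he,
      congrArg (fun m : T => m 1 0) he, congrArg (fun m : T => m 1 1) he⟩
  · rintro ⟨rfl, rfl, rfl, rfl⟩; rfl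

theorem mk_inv {a b c d : ZMod 5} (h) :
    (mk a b c d h)⁻¹ = mk d (-b) (-c) a (by linear_combination h) := by
  apply inv_eq_of_mul_eq_one_right
  rw [mk_mul, show (1 : T) = mk 1 0 0 1 (by decide) by decide, mk_eq_mk]
  exact ⟨by linear_combination h, by ring, by ring, by linear_combination h⟩

theorem one_mk : (1 : T) = mk 1 0 0 1 (by decide) := by decide
theorem neg_one_mk : (-1 : T) = mk 4 0 0 4 (by decide) := by decide
theorem U_mk : U = mk 1 1 0 1 (by decide) := rfl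
theorem V_mk : V = mk 1 0 1 1 (by decide) := rfl
theorem I_mk : I = mk 2 0 0 3 (by decide) := rfl
theorem J_mk : J = mk 0 1 4 0 (by decide) := rfl

theorem neg_one_mul' (g : T) : (-1 : T) * g = -g := by simp

set_option maxRecDepth 100000
set_option synthInstance.maxSize 4000
set_option synthInstance.maxHeartbeats 200000

theorem cent_UV (g : T) (h1 : g * U = U * g) (h2 : g * V = V * g) : g = 1 ∨ g = -1 := by
  obtain ⟨a, b, c, d, h, rfl⟩ := exists_mk g
  rw [U_mk, mk_mul, mk_mul, mk_eq_mk] at h1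
  rw [V_mk, mk_mul, mk_mul, mk_eq_mk] at h2
  rw [neg_one_mk, one_mk, mk_eq_mk, mk_eq_mk]
  revert h h1 h2; revert a b c d; decide

theorem cent_IJ (g : T) (h1 : g * I = I * g) (h2 : g * J = J * g) : g = 1 ∨ g = -1 := by
  obtain ⟨a, b, c, d, h, rfl⟩ := exists_mk g
  rw [I_mk, mk_mul, mk_mul, mk_eq_mk] at h1
  rw [J_mk, mk_mul, mk_mul, mk_eq_mk] at h2
  rw [neg_one_mk, one_mk, mk_eq_mk, mk_eq_mk]
  revert h h1 h2; revert a b c d; decide

/-- Elements inverted by the torus satisfying the braid relation with `U`. -/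
theorem braid_unique (g : T) (h1 : g * I * g = I) (h2 : U * g⁻¹ * U = g⁻¹ * U * g⁻¹) :
    g = V ∨ g = U⁻¹ := by
  obtain ⟨a, b, c, d, h, rfl⟩ := exists_mk g
  rw [I_mk, mk_mul, mk_mul, mk_eq_mk] at h1
  rw [U_mk, mk_inv, mk_mul, mk_mul, mk_mul, mk_mul, mk_eq_mk] at h2
  rw [V_mk, U_mk, mk_inv, mk_eq_mk, mk_eq_mk]
  revert h h1 h2; revert a b c d; decide

/-- Elements conjugating `U` to its inverse as the torus does. -/
theorem normalizes_U (g : T) (h : g * U = U ^ 4 * g) :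
    ∃ k : Fin 5, g * U ^ k.val = U ^ k.val * I ∨ g * U ^ k.val = U ^ k.val * (-1 * I) := by
  have key : ∀ k : Fin 5, ∃ h', U ^ k.val = mk 1 (k.val : ZMod 5) 0 1 h' := by decide
  obtain ⟨h4, hU4⟩ : ∃ h', U ^ 4 = mk 1 4 0 1 h' := ⟨by decide, by decide⟩
  obtain ⟨a, b, c, d, hd, rfl⟩ := exists_mk g
  rw [hU4, U_mk, mk_mul, mk_mul, mk_eq_mk] at h
  have aux : ∀ a b c d : ZMod 5, a * d - b * c = 1 →
      (a * 1 + b * 0 = 1 * a + 4 * c ∧ a * 1 + b * 1 = 1 * b + 4 * d ∧
        c * 1 + d * 0 = 0 * a + 1 * c ∧ c * 1 + d * 1 = 0 * b + 1 * d) →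
      ∃ k : Fin 5, c = 0 ∧ ((a = 2 ∧ d = 3 ∧ a * (k.val : ZMod 5) + b = (k.val : ZMod 5) * 3) ∨
        (a = 3 ∧ d = 2 ∧ a * (k.val : ZMod 5) + b = (k.val : ZMod 5) * 2)) := by decide
  obtain ⟨k, hc, hk⟩ := aux a b c d hd h
  obtain ⟨hk', hUk⟩ := key k
  refine ⟨k, ?_⟩
  rw [hUk, neg_one_mul', I_mk, mk_neg, mk_mul, mk_mul, mk_mul, mk_eq_mk, mk_eq_mk]
  subst hc
  have e3 : (-2 : ZMod 5) = 3 := by decide
  have e2 : (-3 : ZMod 5) = 2 := by decide
  rcases hk with ⟨rfl, rfl, hb⟩ | ⟨rfl, rfl, hb⟩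
  · exact Or.inl ⟨by ring, by linear_combination hb, by ring, by ring⟩
  · exact Or.inr ⟨by rw [e3]; ring, by rw [e2]; linear_combination hb, by ring, by rw [e2]; ring⟩

/-- Elements of order five are conjugate to powers of `U`. -/
theorem conj_U (g : T) (h5 : g ^ 5 = 1) :
    ∃ (σ : T) (m : Fin 5), σ * g = U ^ m.val * σ := by
  have key : ∀ k : Fin 5, ∃ h', U ^ k.val = mk 1 (k.val : ZMod 5) 0 1 h' := by decide
  obtain ⟨a, b, c, d, h, rfl⟩ := exists_mk g
  rw [show mk a b c d h ^ 5 = mk a b c d h * mk a b c d h * mk a b c d h * mk a b c d h * mk a b c d h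
    by simp [pow_succ], mk_mul, mk_mul, mk_mul, mk_mul, one_mk, mk_eq_mk] at h5
  have tr : a + d = 2 := by revert h h5; revert a b c d; decide
  by_cases hc : c = 0
  · have : a = 1 ∧ d = 1 := by subst hc; revert h tr; clear h5; revert a b d; decide
    obtain ⟨rfl, rfl⟩ := this
    subst hc
    refine ⟨1, ⟨b.val, ZMod.val_lt b⟩, ?_⟩
    obtain ⟨h', hU⟩ := key ⟨b.val, ZMod.val_lt b⟩
    rw [hU, one_mul, mul_one, mk_eq_mk]
    exact ⟨rfl, (ZMod.natCast_zmod_val b).symm, rfl, rfl⟩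
  · let e := (d - 1) * c ^ 3
    refine ⟨mk 0 1 (-1) (-e) (by ring), ⟨(-c).val, ZMod.val_lt _⟩, ?_⟩
    obtain ⟨h', hU⟩ := key ⟨(-c).val, ZMod.val_lt _⟩
    rw [hU, mk_mul, mk_mul, mk_eq_mk, ZMod.natCast_zmod_val]
    simp only [e]
    revert h tr hc; clear h5 h' hU key e; revert a b c d; decide

/-- Square roots of `-1` are conjugate to the torus element. -/
theorem conj_I (g : T) (h : g * g = -1) : ∃ σ : T, σ * g = I * σ := by
  obtain ⟨a, b, c, d, hd, rfl⟩ := exists_mk g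
  rw [neg_one_mk, mk_mul, mk_eq_mk] at h
  have aux : ∀ a b c d : ZMod 5, a * d - b * c = 1 →
      (a * a + b * c = 4 ∧ a * b + b * d = 0 ∧ c * a + d * c = 0 ∧ c * b + d * d = 4) →
      ∃ e : Fin 3,
      let s : ZMod 5 × ZMod 5 × ZMod 5 × ZMod 5 := ![(c, 2 - a, 1, (3 - a) * c ^ 3), (1, 4 * b, 0, 1),
        (0, 1, 4, 4 * b)] e
      s.1 * s.2.2.2 - s.2.1 * s.2.2.1 = 1 ∧
        s.1 * a + s.2.1 * c = 2 * s.1 + 0 * s.2.2.1 ∧ s.1 * b + s.2.1 * d = 2 * s.2.1 + 0 * s.2.2.2 ∧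
        s.2.2.1 * a + s.2.2.2 * c = 0 * s.1 + 3 * s.2.2.1 ∧
        s.2.2.1 * b + s.2.2.2 * d = 0 * s.2.1 + 3 * s.2.2.2 := by decide
  obtain ⟨e, hs, he⟩ := aux a b c d hd h
  refine ⟨mk _ _ _ _ hs, ?_⟩
  rw [I_mk, mk_mul, mk_mul, mk_eq_mk]
  exact he

/-- The elements anticommuting with the torus element. -/
theorem anti_I (g : T) (h : g * I = -1 * (I * g)) :
    g = J ∨ g = -1 * J ∨ g = I * J ∨ g = -1 * (I * J) := by
  obtain ⟨a, b, c, d, hd, rfl⟩ := exists_mk g
  rw [neg_one_mul', I_mk, mk_mul, mk_mul, mk_neg, mk_eq_mk] at h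
  simp only [neg_one_mul', I_mk, J_mk, mk_mul, mk_neg, mk_eq_mk]
  revert hd h; revert a b c d; decide

theorem I_U_inv : I * U ^ 4 = U * I := by decide

theorem pow_cases : ∀ m : Fin 5, U ^ m.val = 1 ∨ U ^ m.val = U ∨
    (U ^ m.val = U ^ 2 ∨ U ^ m.val = (U ^ 2)⁻¹) ∨ U ^ m.val = U ^ 4 := by decide

theorem lower_mk : ∀ a : Fin 5, mk 1 0 (a.val : ZMod 5) 1 (by simp) = V ^ a.val := by decide
theorem upper_mk : ∀ a : Fin 5, mk 1 (a.val : ZMod 5) 0 1 (by simp) = U ^ a.val := by decide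

/-- `U` and `V` generate. -/
theorem closure_top (g : T) : g ∈ Subgroup.closure ({U, V} : Set T) := by
  set C := Subgroup.closure ({U, V} : Set T)
  have hU : ∀ x : ZMod 5, ∀ h, mk 1 x 0 1 h ∈ C := by
    intro x h
    have e := upper_mk ⟨x.val, ZMod.val_lt x⟩
    simp only [ZMod.natCast_zmod_val] at e
    rw [e]; exact pow_mem (Subgroup.subset_closure (Set.mem_insert U {V})) _
  have hV : ∀ x : ZMod 5, ∀ h, mk 1 0 x 1 h ∈ C := by
    intro x h
    have e := lower_mk ⟨x.val, ZMod.val_lt x⟩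
    simp only [ZMod.natCast_zmod_val] at e
    rw [e]; exact pow_mem (Subgroup.subset_closure (Set.mem_insert_of_mem U (Set.mem_singleton V))) _
  have hnz : ∀ a b c d h, c ≠ 0 → mk a b c d h ∈ C := by
    intro a b c d h hc
    have e : mk a b c d h = mk 1 ((a - 1) * c ^ 3) 0 1 (by ring) * mk 1 0 c 1 (by ring) *
        mk 1 ((d - 1) * c ^ 3) 0 1 (by ring) := by
      rw [mk_mul, mk_mul, mk_eq_mk]
      revert h hc; clear hU hV; revert a b c d; decide
    rw [e]; exact mul_mem (mul_mem (hU _ _) (hV _ _)) (hU _ _)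
  obtain ⟨a, b, c, d, h, rfl⟩ := exists_mk g
  by_cases hc : c = 0
  · subst hc
    have ha : a ≠ 0 := fun e => by
      rw [e, zero_mul, mul_zero, sub_zero] at h
      exact absurd h (by decide)
    refine (Subgroup.mul_mem_cancel_left C (hV 1 (by ring))).1 ?_
    rw [mk_mul]
    exact hnz _ _ _ _ _ (by simpa using ha)
  · exact hnz a b c d h hc

theorem commute_all {G D : Type*} [Group G] [DivisionRing D] (f : G →* D) (ι : T →* G) (t : D)
    (hU : Commute t (f (ι U))) (hV : Commute t (f (ι V))) (w : T) : Commute t (f (ι w)) := by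
  have hw := closure_top w
  induction hw using Subgroup.closure_induction with
  | mem z hz =>
    rcases hz with rfl | rfl
    exacts [hU, hV]
  | one => rw [map_one, map_one]; exact Commute.one_right t
  | mul a b _ _ ha hb => rw [map_mul, map_mul]; exact ha.mul_right hb
  | inv a _ ha =>
    have h1 : f (ι a) * f (ι a⁻¹) = 1 := by rw [← map_mul, ← map_mul, mul_inv_cancel, map_one, map_one]
    have h2 : f (ι a⁻¹) * f (ι a) = 1 := by rw [← map_mul, ← map_mul, inv_mul_cancel, map_one, map_one]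
    show t * _ = _ * t
    calc t * f (ι a⁻¹) = f (ι a⁻¹) * (f (ι a) * t) * f (ι a⁻¹) := by
          rw [← mul_assoc (f (ι a⁻¹)), h2, one_mul]
      _ = f (ι a⁻¹) * t * (f (ι a) * f (ι a⁻¹)) := by rw [← ha.eq]; simp only [mul_assoc]
      _ = f (ι a⁻¹) * t := by rw [h1, mul_one]

end CfsgLib.Invol.SL25
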