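import Cfsg.Agent.Lib.Invol.IsolatedTransversal
import Cfsg.Agent.Lib.Invol.PrincipalBlock
import Cfsg.Agent.Lib.Coprime.Core
import Cfsg.Prelude.Def_Solvable
import Mathlib.GroupTheory.Transfer

/-!
# Isolated involutions: reductions for the Z*-theorem
-/

set_option autoImplicit false

namespace CfsgLib.Invol

open Subgroup

universe u

/-- `z` is central modulo the largest normal subgroup of odd order. -/
def IsZCentral {G : Type u} [Group G] (z : G) : Prop :=
  ∀ g : G, z * g * z⁻¹ * g⁻¹ ∈ Cfsg.pPrimeCore 2 G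

/-- The statement of the Z*-theorem for groups of order less than `n`. -/
def ZStarBelow (n : ℕ) : Prop :=
  ∀ (H : Type u) [Group H] [Finite H], Nat.card H < n →
    ∀ v : H, Cfsg.IsIsolatedInvolution v → IsZCentral v

variable {G : Type u} [Group G]

theorem isolated_subgroup {z : G} (hz : Cfsg.IsIsolatedInvolution z) (H : Subgroup G) (h : z ∈ H) :
    Cfsg.IsIsolatedInvolution (⟨z, h⟩ : H) := by
  refine ⟨by rw [Subgroup.orderOf_mk]; exact hz.1, fun g hg => Subtype.ext ?_⟩
  exact hz.2 g (hg.map H.subtype)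

theorem isolated_conj {z : G} (hz : Cfsg.IsIsolatedInvolution z) (a : G) :
    Cfsg.IsIsolatedInvolution (a * z * a⁻¹) := by
  refine ⟨invol_conj hz.1 a, fun g hg => ?_⟩
  have e : g * (a * z * a⁻¹) * g⁻¹ = (g * a) * z * (g * a)⁻¹ := by group
  rw [e] at hg ⊢
  exact (eq_of_commute_conj hz a (g * a) hg).symm

theorem not_isConj_of_commute {z v : G} (hz : Cfsg.IsIsolatedInvolution z) (hv : Commute z v)
    (hne : v ≠ z) : ¬ IsConj z v := by
  intro h
  obtain ⟨a, ha⟩ := isConj_iff.1 h
  exact hne (ha ▸ hz.2 a (ha.symm ▸ hv))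

variable [Finite G]

theorem isolated_map {z : G} (hz : Cfsg.IsIsolatedInvolution z) {G' : Type u} [Group G']
    (f : G →* G') (hf : Function.Surjective f) (h1 : f z ≠ 1) :
    Cfsg.IsIsolatedInvolution (f z) := by
  have hzz : f z * f z = 1 := by rw [← map_mul, invol_mul_self hz.1, map_one]
  refine ⟨invol_iff.2 ⟨hzz, h1⟩, fun g' hg' => ?_⟩
  obtain ⟨g, rfl⟩ := hf g'
  rw [← map_inv, ← map_mul, ← map_mul] at hg' ⊢
  set w := g * z * g⁻¹ with hw
  have hww : f w * f w = 1 := by rw [← map_mul, invol_mul_self (invol_conj hz.1 g), map_one]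
  have h2 : f (z * w) * f (z * w) = 1 := by
    rw [map_mul, mul_assoc, ← mul_assoc (f w), ← hg'.eq, mul_assoc (f z) (f w), hww, mul_one, hzz]
  have hodd : Odd (orderOf (f (z * w))) :=
    (odd_mul_conj hz g).of_dvd_nat (orderOf_map_dvd f (z * w))
  have h3 : f (z * w) = 1 := by
    rcases (Nat.dvd_prime Nat.prime_two).1
      (orderOf_dvd_of_pow_eq_one (show f (z * w) ^ 2 = 1 by rw [pow_two]; exact h2)) with h | h
    · exact orderOf_eq_one_iff.1 h
    · rw [h] at hodd; exact absurd hodd (by decide)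
  rw [map_mul] at h3
  calc f w = f z * (f z * f w) := by rw [← mul_assoc, hzz, one_mul]
    _ = f z := by rw [h3, mul_one]

theorem notMem_pPrimeCore {z : G} (hz : orderOf z = 2) : z ∉ Cfsg.pPrimeCore 2 G := fun h => by
  have h2 := Subgroup.orderOf_dvd_natCard _ h
  rw [hz] at h2
  exact Coprime.pPrimeCore_not_dvd Nat.prime_two h2

theorem eq_of_zcentral_bot {z : G} (h : IsZCentral z) (hO : Cfsg.pPrimeCore 2 G = ⊥) :
    z ∈ Subgroup.center G := by
  refine Subgroup.mem_center_iff.2 fun g => ?_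
  have h1 := h g
  rw [hO, Subgroup.mem_bot] at h1
  calc g * z = (z * g * z⁻¹ * g⁻¹) * g * z := by rw [h1, one_mul]
    _ = z * g := by group

/-- Reduction to the case of trivial odd core. -/
theorem zcentral_of_oddCore_ne_bot {z : G} (IH : ZStarBelow.{u} (Nat.card G))
    (hz : Cfsg.IsIsolatedInvolution z) (hO : Cfsg.pPrimeCore 2 G ≠ ⊥) : IsZCentral z := by
  have hzN : z ∉ Cfsg.pPrimeCore 2 G := notMem_pPrimeCore hz.1
  have hiso := isolated_map hz (QuotientGroup.mk' (Cfsg.pPrimeCore 2 G))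
    (QuotientGroup.mk'_surjective _) (fun h => hzN ((QuotientGroup.eq_one_iff z).1 h))
  have hlt : Nat.card (G ⧸ Cfsg.pPrimeCore 2 G) < Nat.card G := by
    rw [← Subgroup.index_eq_card, ← (Cfsg.pPrimeCore 2 G).card_mul_index]
    exact lt_mul_of_one_lt_left (Nat.pos_of_ne_zero Subgroup.index_ne_zero_of_finite)
      (Subgroup.one_lt_card_iff_ne_bot _ |>.2 hO)
  intro g
  have h := IH _ hlt _ hiso (QuotientGroup.mk' _ g)
  rw [Coprime.pPrimeCore_quotient_eq_bot Nat.prime_two, Subgroup.mem_bot, ← map_inv, ← map_inv,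
    ← map_mul, ← map_mul, ← map_mul] at h
  exact (QuotientGroup.eq_one_iff _).1 h

/-- Reduction to the case of trivial centre. -/
theorem zcentral_of_center_ne_bot {z : G} (IH : ZStarBelow.{u} (Nat.card G))
    (hz : Cfsg.IsIsolatedInvolution z) (hO : Cfsg.pPrimeCore 2 G = ⊥)
    (hZ : Subgroup.center G ≠ ⊥) : IsZCentral z := by
  by_cases hzZ : z ∈ Subgroup.center G
  · intro g
    rw [← Subgroup.mem_center_iff.1 hzZ g, mul_inv_cancel_right, mul_inv_cancel]
    exact one_mem _
  set Z := Subgroup.center G with hZdef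
  set q := QuotientGroup.mk' Z with hq
  have hiso := isolated_map hz q (QuotientGroup.mk'_surjective Z)
    (fun h => hzZ ((QuotientGroup.eq_one_iff z).1 h))
  have hlt : Nat.card (G ⧸ Z) < Nat.card G := by
    rw [← Subgroup.index_eq_card, ← Z.card_mul_index]
    exact lt_mul_of_one_lt_left (Nat.pos_of_ne_zero Subgroup.index_ne_zero_of_finite)
      (Subgroup.one_lt_card_iff_ne_bot Z |>.2 hZ)
  set M := (Cfsg.pPrimeCore 2 (G ⧸ Z)).comap q with hMdef
  haveI : (Cfsg.pPrimeCore 2 (G ⧸ Z)).Normal :=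
    haveI := Coprime.pPrimeCore_characteristic (G := G ⧸ Z) 2
    inferInstance
  haveI hMn : M.Normal := Subgroup.Normal.comap inferInstance q
  have hle : Z ≤ M := fun x hx => by
    rw [hMdef, Subgroup.mem_comap, show q x = 1 from (QuotientGroup.eq_one_iff x).2 hx]
    exact one_mem _
  -- the index of the centre of `M` is odd
  have hodd : Odd (Subgroup.center M).index := by
    have h1 : Z.subgroupOf M ≤ Subgroup.center M := fun x hx =>
      Subgroup.mem_center_iff.2 fun y => Subtype.ext (Subgroup.mem_center_iff.1 hx (y : G))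
    refine Odd.of_dvd_nat ?_ (Subgroup.index_dvd_of_le h1)
    have h2 : (Z.subgroupOf M).index = Nat.card (Cfsg.pPrimeCore 2 (G ⧸ Z)) := by
      have h3 := (Z.subgroupOf M).card_mul_index
      rw [Nat.card_congr (Subgroup.subgroupOfEquivOfLe hle).toEquiv,
        Coprime.card_eq_card_mul_card_map_mk' Z hle, hMdef,
        Subgroup.map_comap_eq_self_of_surjective (QuotientGroup.mk'_surjective Z)] at h3
      exact Nat.eq_of_mul_eq_mul_left Nat.card_pos h3
    rw [h2, Nat.odd_iff]
    have := Coprime.pPrimeCore_not_dvd (G := G ⧸ Z) Nat.prime_two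
    omega
  set j := (Subgroup.center M).index with hj
  -- the kernel of the transfer
  set K := (MonoidHom.transferCenterPow M).ker.map M.subtype with hK
  have hmemK : ∀ x : G, x ∈ K ↔ x ∈ M ∧ x ^ j = 1 := by
    intro x
    rw [hK]
    constructor
    · rintro ⟨y, hy, rfl⟩
      refine ⟨y.2, ?_⟩
      have h4 : y ^ j = 1 := by
        rw [← MonoidHom.transferCenterPow_apply y, MonoidHom.mem_ker.1 hy]; rfl
      exact congrArg Subtype.val h4
    · rintro ⟨hx, hxj⟩
      refine ⟨⟨x, hx⟩, MonoidHom.mem_ker.2 (Subtype.ext ?_), rfl⟩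
      rw [MonoidHom.transferCenterPow_apply]
      exact Subtype.ext hxj
  haveI hKn : K.Normal := ⟨fun x hx g => by
    rw [hmemK] at hx ⊢
    exact ⟨hMn.conj_mem x hx.1 g, by rw [conj_pow, hx.2, mul_one, mul_inv_cancel]⟩⟩
  have hKbot : K = ⊥ := by
    rw [← le_bot_iff, ← hO]
    refine Coprime.le_pPrimeCore_of_not_dvd Nat.prime_two fun h2 => ?_
    haveI : Fact (Nat.Prime 2) := ⟨Nat.prime_two⟩
    obtain ⟨x, hx⟩ := exists_prime_orderOf_dvd_card' 2 h2
    have h5 := ((hmemK _).1 x.2).2
    have h6 : 2 ∣ j := by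
      rw [← hx, ← Subgroup.orderOf_coe]; exact orderOf_dvd_of_pow_eq_one h5
    obtain ⟨i, hi⟩ := hodd
    omega
  refine fun g => ?_
  set c := z * g * z⁻¹ * g⁻¹ with hc
  have hcM : c ∈ M := by
    rw [hMdef, Subgroup.mem_comap, hc]
    simp only [map_mul, map_inv]
    exact IH (G ⧸ Z) hlt _ hiso (q g)
  have hce : c = z * (g * z * g⁻¹) := by rw [hc, invol_inv hz.1]; group
  have hcodd : Odd (orderOf c) := hce ▸ odd_mul_conj hz g
  have hcj : c ^ j = 1 := by
    have h7 := (MonoidHom.transferCenterPow M ⟨c, hcM⟩).2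
    rw [MonoidHom.transferCenterPow_apply] at h7
    -- an element of odd order of the centre of `M` lies in an odd normal subgroup
    haveI : ((Subgroup.center M).map M.subtype).Normal :=
      Coprime.map_subtype_normal_of_characteristic M _
    -- the elements of odd order of the centre form a normal subgroup
    let O : Subgroup G :=
      { carrier := {x | x ∈ (Subgroup.center M).map M.subtype ∧ Odd (orderOf x)}
        one_mem' := ⟨one_mem _, by simp⟩
        mul_mem' := by
          rintro a b ⟨ha, ha'⟩ ⟨hb, hb'⟩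
          refine ⟨mul_mem ha hb, ?_⟩
          obtain ⟨a0, ha0, rfl⟩ := ha
          obtain ⟨b0, hb0, rfl⟩ := hb
          have hc0 : Commute (a0 : G) (b0 : G) :=
            (congrArg Subtype.val (Subgroup.mem_center_iff.1 ha0 b0)).symm
          exact (ha'.mul hb').of_dvd_nat hc0.orderOf_mul_dvd_mul_orderOf
        inv_mem' := fun {a} h => ⟨inv_mem h.1, by rw [orderOf_inv]; exact h.2⟩ }
    have hyO : c ^ j ∈ O :=
      ⟨⟨⟨c, hcM⟩ ^ j, h7, rfl⟩, hcodd.of_dvd_nat (orderOf_pow_dvd j)⟩
    haveI : O.Normal := ⟨fun a ha b => ⟨Subgroup.Normal.conj_mem inferInstance a ha.1 b, by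
      rw [← MulAut.conj_apply, MulEquiv.orderOf_eq]; exact ha.2⟩⟩
    have hObot : O ≤ ⊥ := by
      rw [← hO]
      refine Coprime.le_pPrimeCore_of_not_dvd Nat.prime_two fun h2 => ?_
      haveI : Fact (Nat.Prime 2) := ⟨Nat.prime_two⟩
      obtain ⟨x, hx⟩ := exists_prime_orderOf_dvd_card' 2 h2
      have := x.2.2
      rw [Subgroup.orderOf_coe, hx] at this
      exact absurd this (by decide)
    exact Subgroup.mem_bot.1 (hObot hyO)
  have h10 : c ∈ K := (hmemK _).2 ⟨hcM, hcj⟩
  rw [hKbot, Subgroup.mem_bot] at h10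
  rw [h10]
  exact one_mem _

/-- An isolated involution outside the centre lies in no proper normal subgroup. -/
theorem notMem_proper_normal {z : G} (IH : ZStarBelow.{u} (Nat.card G))
    (hz : Cfsg.IsIsolatedInvolution z) (hO : Cfsg.pPrimeCore 2 G = ⊥)
    (hzZ : z ∉ Subgroup.center G) (N : Subgroup G) [hN : N.Normal] (hne : N ≠ ⊤) : z ∉ N := by
  intro hzN
  apply hzZ
  have hlt : Nat.card N < Nat.card G := by
    refine lt_of_le_of_ne (Nat.le_of_dvd Nat.card_pos (Subgroup.card_subgroup_dvd_card N)) fun h => ?_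
    exact hne (Subgroup.eq_top_of_card_eq N h)
  have hbot : Cfsg.pPrimeCore 2 N = ⊥ := by
    rw [← Subgroup.map_eq_bot_iff_of_injective _ N.subtype_injective,
      Coprime.pPrimeCore_map_subtype_eq Nat.prime_two N, hO, bot_inf_eq]
  have hcomm := Subgroup.mem_center_iff.1
    (eq_of_zcentral_bot (IH N hlt _ (isolated_subgroup hz N hzN)) hbot)
  refine Subgroup.mem_center_iff.2 fun g => ?_
  have h1 : Commute z (g * z * g⁻¹) :=
    (congrArg Subtype.val (hcomm ⟨_, hN.conj_mem z hzN g⟩)).symm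
  exact mul_inv_eq_iff_eq_mul.1 (hz.2 g h1)

/-- No nontrivial irreducible character has `z` in its kernel. -/
theorem eq_oneChar_of_apply_eq {z : G} [Fintype G] (IH : ZStarBelow.{u} (Nat.card G))
    (hz : Cfsg.IsIsolatedInvolution z) (hO : Cfsg.pPrimeCore 2 G = ⊥)
    (hzZ : z ∉ Subgroup.center G) (χ : Cfsg.IrrCharacter G)
    (h : (χ : G → ℂ) z = (χ : G → ℂ) 1) : χ = Block.oneChar G := by
  obtain ⟨N, hN, hmem⟩ := exists_charKernel χ
  refine eq_oneChar_of_constant χ fun g => (hmem g).1 ?_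
  by_contra hg
  exact notMem_proper_normal IH hz hO hzZ N (fun e => hg (e ▸ Subgroup.mem_top g)) ((hmem z).2 h)

end CfsgLib.Invol
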