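import Cfsg.Agent.Lib.Invol.QuasiDihedral
import Mathlib.GroupTheory.SpecificGroups.KleinFour

/-!
# Four-subgroups and quaternion subgroups of quasidihedral groups
-/

set_option autoImplicit false

namespace CfsgLib.Invol

open Subgroup

variable {S : Type*} [Group S]

/-- A quaternion group of order 8 has order 8, exponent 4 and only one involution. -/
theorem quaternion_eight_facts {Q : Type*} [Group Q] (e : Q ≃* QuaternionGroup 2) :
    Nat.card Q = 8 ∧ (∀ x : Q, x ^ 4 = 1) ∧ ∀ x y : Q, x ^ 2 = 1 → y ^ 2 = 1 → x ≠ 1 → y ≠ 1 → x = y := by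
  have key : (∀ x : QuaternionGroup 2, x ^ 4 = 1) ∧
      ∀ x y : QuaternionGroup 2, x ^ 2 = 1 → y ^ 2 = 1 → x ≠ 1 → y ≠ 1 → x = y := by decide
  refine ⟨?_, fun x => e.injective (by rw [map_pow, map_one]; exact key.1 _),
    fun x y hx hy hx1 hy1 => e.injective (key.2 _ _ (by rw [← map_pow, hx, map_one])
      (by rw [← map_pow, hy, map_one]) (by rwa [Ne, MulEquiv.map_eq_one_iff])
      (by rwa [Ne, MulEquiv.map_eq_one_iff]))⟩
  rw [Nat.card_congr e.toEquiv, Nat.card_eq_fintype_card, QuaternionGroup.card]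

namespace QDFrame

variable {h : ℤ} {a b : S} [Finite S]

theorem kleinFour_eq (Q : QDFrame h a b) (T : Subgroup S) (hT : IsKleinFour T) :
    ∃ i : ℤ, 2 ∣ i ∧ ∀ U : Subgroup S, (∀ j : ℤ, a ^ j ∈ U ↔ 2 * h ∣ j) →
      (∀ j : ℤ, a ^ j * b ∈ U ↔ 2 * h ∣ j - i) → (∀ t : ℕ, 4 * h = 2 * h * t → Nat.card U = 2 * t) →
      T = U := by
  have h4 : Nat.card T = 4 := hT.card_four
  have hsq : ∀ x ∈ T, x ^ 2 = 1 := fun x hx => by
    have := Monoid.pow_exponent_eq_one (⟨x, hx⟩ : T)
    rw [hT.exponent_two] at this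
    simpa using congrArg Subtype.val this
  obtain ⟨i, hi, hiT⟩ : ∃ i : ℤ, 2 ∣ i ∧ a ^ i * b ∈ T := by
    by_contra hall
    push Not at hall
    have hle : T ≤ Subgroup.zpowers (a ^ (2 * h)) := fun x hx => by
      rcases Q.invol_cases (hsq x hx) with rfl | rfl | ⟨j, hj, rfl⟩
      · exact one_mem _
      · exact Subgroup.mem_zpowers _
      · exact absurd hx (hall j hj)
    have := Subgroup.card_le_of_le hle
    rw [h4, Nat.card_zpowers, Q.orderOf_center] at this
    omega
  refine ⟨i, hi, fun U h1 h2 h3 => ?_⟩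
  refine Subgroup.eq_of_le_of_card_ge (fun x hx => ?_) (by rw [h4, h3 2 (by push_cast; ring)])
  rcases Q.invol_cases (hsq x hx) with rfl | rfl | ⟨j, -, rfl⟩
  · exact one_mem _
  · exact (h1 _).2 dvd_rfl
  · refine (h2 j).2 ?_
    have hm : a ^ i * b * (a ^ j * b) ∈ T := mul_mem hiT hx
    have hc : a ^ i * b * (a ^ j * b) = a ^ j * b * (a ^ i * b) := by
      have e1 : (a ^ i * b * (a ^ j * b))⁻¹ = a ^ i * b * (a ^ j * b) :=
        inv_eq_of_mul_eq_one_left (by rw [← pow_two, hsq _ hm])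
      rw [← e1, mul_inv_rev, inv_eq_of_mul_eq_one_left (show a ^ j * b * (a ^ j * b) = 1 by rw [← pow_two, hsq _ hx]),
        inv_eq_of_mul_eq_one_left (show a ^ i * b * (a ^ i * b) = 1 by rw [← pow_two, hsq _ hiT])]
    exact Q.ref_ref_commute_iff.1 hc

theorem quaternion_eq (Q : QDFrame h a b) (T : Subgroup S) (hT : Nonempty (T ≃* QuaternionGroup 2)) :
    ∃ i : ℤ, ¬ 2 ∣ i ∧ ∀ U : Subgroup S, (∀ j : ℤ, a ^ j ∈ U ↔ h ∣ j) →
      (∀ j : ℤ, a ^ j * b ∈ U ↔ h ∣ j - i) → (∀ t : ℕ, 4 * h = h * t → Nat.card U = 2 * t) →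
      T = U := by
  obtain ⟨h8, h4, huniq⟩ := quaternion_eight_facts hT.some
  have hp4 : ∀ x ∈ T, x ^ 4 = 1 := fun x hx => by simpa using congrArg Subtype.val (h4 ⟨x, hx⟩)
  obtain ⟨N, hN, F⟩ := Q.frame
  -- the centre lies in `T` and is the only involution there
  have hz : a ^ (2 * h) ∈ T := by
    by_contra hz
    have hrot : ∀ j : ℤ, a ^ j ∈ T → a ^ j = 1 := fun j hj => by
      have e := hp4 _ hj
      rw [show 4 = 2 * 2 from rfl, pow_mul] at e
      by_cases h2 : (a ^ j) ^ 2 = 1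
      · rcases half_dvd (Q := Q) (Q.rot_sq_eq_one_iff.1 h2) with h' | h'
        · exact h'
        · exact absurd (h' ▸ hj) hz
      · exfalso
        rcases half_dvd (Q := Q) ((Q.rot_sq_eq_one_iff (i := 2 * j)).1 (by rw [← rot_sq]; exact e)) with h' | h'
        · exact h2 (by rw [rot_sq]; exact h')
        · refine hz ?_
          rw [← h', ← rot_sq]; exact pow_mem hj 2
    have hle : Nat.card T ≤ 2 := by
      have hidx : (Subgroup.zpowers a).relIndex T ∣ (Subgroup.zpowers a).index :=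
        haveI : (Subgroup.zpowers a).Normal := Subgroup.normal_of_index_eq_two F.index_two
        Subgroup.relIndex_dvd_index_of_normal _ T
      rw [F.index_two] at hidx
      have hbot : (Subgroup.zpowers a).subgroupOf T = ⊥ := (Subgroup.eq_bot_iff_forall _).2 fun x hx => by
        obtain ⟨j, hj⟩ := Subgroup.mem_zpowers_iff.1 (show (x : S) ∈ Subgroup.zpowers a from hx)
        exact Subtype.ext (by rw [← hj]; exact hrot j (hj.symm ▸ x.2))
      have := ((Subgroup.zpowers a).subgroupOf T).card_mul_index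
      rw [hbot, Subgroup.card_bot, Subgroup.index_bot, one_mul] at this
      rw [Subgroup.relIndex, hbot, Subgroup.index_bot] at hidx
      exact Nat.le_of_dvd two_pos hidx
    omega
  obtain ⟨i, hiT, hi⟩ : ∃ i : ℤ, a ^ i * b ∈ T ∧ ¬ 2 ∣ i := by
    have heven : ∀ j : ℤ, 2 ∣ j → a ^ j * b ∉ T := fun j hj hm => by
      have := huniq ⟨_, hm⟩ ⟨_, hz⟩ (Subtype.ext (by simpa using Q.ref_sq_eq_one_iff.2 hj))
        (Subtype.ext (by simpa using Q.rot_sq_eq_one_iff.2 dvd_rfl))
        (fun e => Q.ne_mul 0 j (by rw [zpow_zero]; exact (congrArg Subtype.val e).symm))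
        (fun e => by have := Q.orderOf_center; rw [show a ^ (2 * h) = 1 from congrArg Subtype.val e, orderOf_one] at this; omega)
      exact Q.ne_mul (2 * h) j (congrArg Subtype.val this).symm
    by_contra hall
    push Not at hall
    obtain ⟨U, hU1, -, hU3⟩ := Q.exists_sub (i := 0) (d := h) ⟨2, by ring⟩
    have hle : T ≤ U ⊓ Subgroup.zpowers a := fun x hx => by
      obtain ⟨j, rfl | rfl⟩ := F.exists_eq x
      · refine ⟨(hU1 j).2 ?_, Subgroup.zpow_mem_zpowers a j⟩
        have e := hp4 _ hx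
        rw [← zpow_natCast, ← zpow_mul, Q.zpow_eq_one_iff] at e
        push_cast at e
        rwa [mul_comm j, mul_dvd_mul_iff_left (by norm_num)] at e
      · exact absurd hx (heven j (hall j hx))
    have hlt : Nat.card ↥(U ⊓ Subgroup.zpowers a : Subgroup S) < Nat.card U := by
      refine lt_of_le_of_ne (Subgroup.card_le_of_le inf_le_left) fun e => ?_
      have := Subgroup.eq_of_le_of_card_ge inf_le_left e.ge
      obtain ⟨U', -, hU2', -⟩ := Q.exists_sub (i := 0) (d := h) ⟨2, by ring⟩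
      have hb : a ^ (0 : ℤ) * b ∈ U := by
        by_contra hb
        have h16 := hU3 4 (by push_cast; ring)
        have : Nat.card ↥(U ⊓ Subgroup.zpowers a : Subgroup S) ≤ 4 := by
          let g : (U ⊓ Subgroup.zpowers a : Subgroup S) → Subgroup.zpowers (a ^ h) := fun x => ⟨x, by
            obtain ⟨j, hj⟩ := Subgroup.mem_zpowers_iff.1 x.2.2
            obtain ⟨q, hq⟩ := (hU1 j).1 (hj ▸ x.2.1)
            rw [← hj, hq, zpow_mul]; exact Subgroup.zpow_mem_zpowers _ _⟩
          refine (Nat.card_le_card_of_injective g fun x y e =>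
            Subtype.ext (congrArg (fun w : Subgroup.zpowers (a ^ h) => (w : S)) e)).trans ?_
          rw [Nat.card_zpowers, Q.orderOf_quarter]
        omega
      rw [← this] at hb
      exact F.zpowers_mem_iff hb.2
    have := Subgroup.card_le_of_le hle
    rw [hU3 4 (by push_cast; ring)] at hlt
    omega
  refine ⟨i, hi, fun U h1 h2 h3 => ?_⟩
  refine Subgroup.eq_of_le_of_card_ge (fun x hx => ?_) (by rw [h8, h3 4 (by push_cast; ring)])
  have hrot : ∀ j : ℤ, a ^ j ∈ T → h ∣ j := fun j hj => by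
    have e := hp4 _ hj
    rw [← zpow_natCast, ← zpow_mul, Q.zpow_eq_one_iff] at e
    push_cast at e
    rwa [mul_comm j, mul_dvd_mul_iff_left (by norm_num)] at e
  obtain ⟨j, rfl | rfl⟩ := F.exists_eq x
  · exact (h1 j).2 (hrot j hx)
  · refine (h2 j).2 ?_
    have hm := mul_mem hiT hx
    rw [Q.ref_ref] at hm
    have h5 := hrot _ hm
    have h6 : h ∣ 2 * h * j := ⟨2 * j, by ring⟩
    have := dvd_sub h6 h5
    rwa [show 2 * h * j - (i + (2 * h - 1) * j) = j - i by ring] at this

end QDFrame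

end CfsgLib.Invol
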