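import Cfsg.Agent.Lib.Invol.SylowGLTwo
import Cfsg.Prelude.Def_Classical

/-!
# The order of the two-dimensional general unitary group
-/

set_option autoImplicit false
set_option linter.style.haveILetI false

namespace CfsgLib.Invol

open scoped Matrix

variable {F : Type*} [Field F] [Fintype F]

/-- `GU₂(q)` as in the statements. -/
abbrev gu2 (F : Type*) [Field F] (q : ℕ) : Subgroup (GL (Fin 2) F) :=
  Cfsg.preserving (Units.coeHom (Matrix (Fin 2) (Fin 2) F)) (Cfsg.hermForm 2 F q)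

theorem exists_conj_pow {q : ℕ} (hF : Fintype.card F = q ^ 2) :
    ∃ σ : F →+* F, (∀ u, σ u = u ^ q) ∧ ∀ u, σ (σ u) = u := by
  obtain ⟨p, hp⟩ := CharP.exists F
  obtain ⟨f, hpp, hf⟩ := FiniteField.card F p
  haveI := Fact.mk hpp
  obtain ⟨k, -, hk⟩ := (Nat.dvd_prime_pow hpp).1
    (show q ∣ p ^ (f : ℕ) from hf ▸ hF ▸ dvd_pow_self q two_ne_zero)
  haveI : ExpChar F p := ExpChar.prime hpp
  refine ⟨iterateFrobenius F p k, fun u => by rw [iterateFrobenius_def, hk], fun u => ?_⟩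
  rw [iterateFrobenius_def, iterateFrobenius_def, ← hk, ← pow_mul, ← pow_two, ← hF]
  exact FiniteField.pow_card u

theorem one_lt_of_card_sq {q : ℕ} (hF : Fintype.card F = q ^ 2) : 1 < q := by
  have h := Fintype.one_lt_card (α := F)
  rw [hF] at h
  by_contra hq
  interval_cases q <;> simp at h

/-- The norm fibres. -/
theorem card_norm_fibre {q : ℕ} (hF : Fintype.card F = q ^ 2) {s : F} (hs : s ^ q = s)
    (hs0 : s ≠ 0) : Nat.card {x : F // x ^ (q + 1) = s} = q + 1 := by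
  classical
  have hq := one_lt_of_card_sq hF
  have hcard : Nat.card Fˣ = (q + 1) * (q - 1) := by
    rw [Nat.card_units, Nat.card_eq_fintype_card, hF]
    simpa using Nat.sq_sub_sq q 1
  have hker : Nat.card (powMonoidHom (q + 1) : Fˣ →* Fˣ).ker = q + 1 := by
    rw [IsCyclic.card_powMonoidHom_ker, hcard, Nat.gcd_mul_right_left]
  obtain ⟨x₀, hx₀⟩ : ∃ x₀ : F, x₀ ^ (q + 1) = s := by
    obtain ⟨g, hg⟩ := IsCyclic.exists_generator (α := Fˣ)
    obtain ⟨j, hj⟩ := mem_powers_iff_mem_zpowers.2 (hg (Units.mk0 s hs0))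
    have hgo : orderOf g = (q + 1) * (q - 1) := by
      rw [← hcard]; exact orderOf_eq_card_of_forall_mem_zpowers hg
    have h1 : g ^ (j * (q - 1)) = 1 := by
      rw [pow_mul]
      refine Units.ext ?_
      show (((g ^ j : Fˣ) : F)) ^ (q - 1) = 1
      rw [show ((g ^ j : Fˣ) : F) = s from congrArg Units.val hj]
      refine mul_right_cancel₀ hs0 ?_
      rw [← pow_succ, Nat.sub_add_cancel hq.le, hs, one_mul]
    have h2 := orderOf_dvd_of_pow_eq_one h1
    rw [hgo] at h2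
    obtain ⟨i, hi⟩ := Nat.dvd_of_mul_dvd_mul_right (by omega) h2
    exact ⟨((g ^ i : Fˣ) : F), by
      rw [← Units.val_pow_eq_pow_val, ← pow_mul, mul_comm, ← hi]
      exact congrArg Units.val hj⟩
  have hx0 : x₀ ≠ 0 := fun e => hs0 (by rw [← hx₀, e, zero_pow (by omega)])
  have hne : ∀ v : {x : F // x ^ (q + 1) = s}, (v : F) / x₀ ≠ 0 := fun v =>
    div_ne_zero (fun e => hs0 (by rw [← v.2, e, zero_pow (by omega)])) hx0
  refine (Nat.card_congr
    { toFun := fun v => (⟨Units.mk0 _ (hne v), Units.ext (by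
          show ((v : F) / x₀) ^ (q + 1) = 1
          rw [div_pow, v.2, hx₀, div_self hs0])⟩ : (powMonoidHom (q + 1) : Fˣ →* Fˣ).ker)
      invFun := fun u => ⟨(u.1 : F) * x₀, by
        have h : ((u.1 : Fˣ) : F) ^ (q + 1) = 1 := by
          rw [← Units.val_pow_eq_pow_val]; exact congrArg Units.val u.2
        rw [mul_pow, h, hx₀, one_mul]⟩
      left_inv := fun v => Subtype.ext (div_mul_cancel₀ _ hx0)
      right_inv := fun u => Subtype.ext (Units.ext (mul_div_cancel_right₀ _ hx0)) }).trans hker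

/-- The unit sphere of the hermitian plane. -/
theorem card_sphere {q : ℕ} (hF : Fintype.card F = q ^ 2) :
    Nat.card {v : F × F // v.1 ^ (q + 1) + v.2 ^ (q + 1) = 1} = (q + 1) * (q ^ 2 - q) := by
  classical
  obtain ⟨σ, hσ, hσσ⟩ := exists_conj_pow hF
  have hq := one_lt_of_card_sq hF
  let e : {v : F × F // v.1 ^ (q + 1) + v.2 ^ (q + 1) = 1} ≃
      Σ a : F, {b : F // b ^ (q + 1) = 1 - a ^ (q + 1)} :=
    { toFun := fun v => ⟨v.1.1, v.1.2, eq_sub_iff_add_eq'.2 v.2⟩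
      invFun := fun v => ⟨(v.1, v.2.1), eq_sub_iff_add_eq'.1 v.2.2⟩
      left_inv := fun v => rfl
      right_inv := fun v => rfl }
  have hone : ∀ a : F, Nat.card {b : F // b ^ (q + 1) = 1 - a ^ (q + 1)} =
      if a ^ (q + 1) = 1 then 1 else q + 1 := by
    intro a
    split_ifs with h
    · haveI : Unique {b : F // b ^ (q + 1) = 1 - a ^ (q + 1)} :=
        { default := ⟨0, by rw [h, sub_self, zero_pow (by omega)]⟩
          uniq := fun b => Subtype.ext
            ((pow_eq_zero_iff (Nat.succ_ne_zero q)).1 (b.2.trans (by rw [h, sub_self]))) }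
      exact Nat.card_unique
    · refine card_norm_fibre hF ?_ (sub_ne_zero.2 (Ne.symm h))
      rw [← hσ, map_sub, map_one, map_pow, hσ, ← pow_mul]
      congr 1
      rw [mul_add, mul_one, pow_add, ← pow_two, ← hF, FiniteField.pow_card, pow_succ' a q]
  rw [Nat.card_congr e, Nat.card_sigma, Finset.sum_congr rfl (fun a _ => hone a),
    Finset.sum_ite, Finset.sum_const, Finset.sum_const, smul_eq_mul, smul_eq_mul, mul_one]
  have h1 : (Finset.univ.filter fun a : F => a ^ (q + 1) = 1).card = q + 1 := by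
    rw [← Fintype.card_subtype, ← Nat.card_eq_fintype_card]
    exact card_norm_fibre hF (one_pow q) one_ne_zero
  have h2 := Finset.card_filter_add_card_filter_not (s := (Finset.univ : Finset F))
    (fun a : F => a ^ (q + 1) = 1)
  rw [h1, Finset.card_univ, hF] at h2
  rw [h1]
  obtain ⟨r, hr⟩ : ∃ r, q ^ 2 = q + 1 + r := ⟨_, h2.symm⟩
  rw [show (Finset.univ.filter fun a : F => ¬ a ^ (q + 1) = 1).card = r by omega,
    show q ^ 2 - q = r + 1 by omega]
  ring

/-- The order of `GU₂(q)`. -/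
theorem card_gu2 {q : ℕ} (hF : Fintype.card F = q ^ 2) :
    Nat.card (gu2 F q) = (q + 1) * ((q + 1) * (q ^ 2 - q)) := by
  classical
  obtain ⟨σ, hσ, hσσ⟩ := exists_conj_pow hF
  have hform : ∀ u v : Fin 2 → F, Cfsg.hermForm 2 F q u v = u 0 * σ (v 0) + u 1 * σ (v 1) :=
    fun u v => by simp [Cfsg.hermForm, Fin.sum_univ_two, hσ]
  have hN : ∀ a : F, a ^ (q + 1) = a * σ a := fun a => by rw [hσ, pow_succ']
  let M : F × F → F → Matrix (Fin 2) (Fin 2) F := fun v c =>
    !![v.1, -(c * σ v.2); v.2, c * σ v.1]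
  have hdet : ∀ v c, v.1 * σ v.1 + v.2 * σ v.2 = 1 → (M v c).det = c := fun v c h => by
    simp only [M, Matrix.det_fin_two, Matrix.of_apply, Matrix.cons_val', Matrix.cons_val_zero,
      Matrix.cons_val_one, Matrix.cons_val_fin_one]
    linear_combination c * h
  have hpres : ∀ v c, v.1 * σ v.1 + v.2 * σ v.2 = 1 → c * σ c = 1 → ∀ a b : Fin 2 → F,
      Cfsg.hermForm 2 F q (M v c *ᵥ a) (M v c *ᵥ b) = Cfsg.hermForm 2 F q a b := by
    intro v c hv hc a b
    rw [hform, hform]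
    simp only [M, Matrix.mulVec, dotProduct, Fin.sum_univ_two, Matrix.of_apply, Matrix.cons_val',
      Matrix.cons_val_zero, Matrix.cons_val_one, Matrix.cons_val_fin_one, map_add, map_mul, map_neg,
      hσσ]
    linear_combination (a 0 * σ (b 0) + c * σ c * (a 1 * σ (b 1))) * hv + a 1 * σ (b 1) * hc
  have hcol : ∀ g : gu2 F q, ∀ i j : Fin 2,
      (g : GL (Fin 2) F).1 0 i * σ ((g : GL (Fin 2) F).1 0 j) +
        (g : GL (Fin 2) F).1 1 i * σ ((g : GL (Fin 2) F).1 1 j) = if i = j then 1 else 0 := by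
    intro g i j
    have h := g.2 (Pi.single i 1) (Pi.single j 1)
    rw [hform, hform] at h
    simp only [Units.coeHom_apply, Matrix.mulVec_single_one, Matrix.col_apply] at h
    rw [h]
    fin_cases i <;> fin_cases j <;> simp
  let T := {v : F × F // v.1 ^ (q + 1) + v.2 ^ (q + 1) = 1} × {c : F // c ^ (q + 1) = 1}
  have hT : ∀ t : T, t.1.1.1 * σ t.1.1.1 + t.1.1.2 * σ t.1.1.2 = 1 := fun t => by
    rw [← hN, ← hN]; exact t.1.2
  have hc : ∀ t : T, t.2.1 * σ t.2.1 = 1 := fun t => by rw [← hN]; exact t.2.2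
  let g : T → gu2 F q := fun t =>
    ⟨Matrix.GeneralLinearGroup.mkOfDetNeZero (M t.1.1 t.2.1) (by
        rw [hdet _ _ (hT t)]; exact left_ne_zero_of_mul_eq_one (hc t)),
      hpres _ _ (hT t) (hc t)⟩
  have hg : Function.Bijective g := by
    constructor
    · intro t t' e
      have e' : M t.1.1 t.2.1 = M t'.1.1 t'.2.1 :=
        congrArg (fun h : gu2 F q => ((h : GL (Fin 2) F) : Matrix (Fin 2) (Fin 2) F)) e
      refine Prod.ext (Subtype.ext (Prod.ext ?_ ?_)) (Subtype.ext ?_)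
      · simpa [M] using congrFun (congrFun e' 0) 0
      · simpa [M] using congrFun (congrFun e' 1) 0
      · exact (hdet _ _ (hT t)).symm.trans ((congrArg Matrix.det e').trans (hdet _ _ (hT t')))
    · intro h
      have e00 := hcol h 0 0
      have e11 := hcol h 1 1
      have e10 := hcol h 1 0
      rw [if_pos rfl] at e00 e11
      rw [if_neg (by decide)] at e10
      obtain ⟨a, ha⟩ : ∃ a, a = (h : GL (Fin 2) F).1 0 0 := ⟨_, rfl⟩
      obtain ⟨b, hb⟩ : ∃ b, b = (h : GL (Fin 2) F).1 1 0 := ⟨_, rfl⟩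
      obtain ⟨c', hc'⟩ : ∃ c', c' = (h : GL (Fin 2) F).1 0 1 := ⟨_, rfl⟩
      obtain ⟨d, hd⟩ : ∃ d, d = (h : GL (Fin 2) F).1 1 1 := ⟨_, rfl⟩
      rw [← ha, ← hb] at e00
      rw [← hc', ← hd] at e11
      rw [← hc', ← hd, ← ha, ← hb] at e10
      obtain ⟨D, hD⟩ : ∃ D, D = a * d - c' * b := ⟨_, rfl⟩
      have r1 : D * σ a = d := by linear_combination σ a * hD + d * e00 - b * e10
      have r2 : -(D * σ b) = c' := by linear_combination (-(σ b)) * hD + c' * e00 - a * e10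
      have r3 : D * σ D = 1 := by
        have h1 : σ d = σ D * a := by rw [← r1, map_mul, hσσ]
        have h2 : σ c' = -(σ D * b) := by rw [← r2, map_neg, map_mul, hσσ]
        rw [h1, h2, ← r1, ← r2] at e11
        linear_combination e11 - D * σ D * e00
      refine ⟨⟨⟨(a, b), by rw [hN, hN]; exact e00⟩, ⟨D, by rw [hN]; exact r3⟩⟩, ?_⟩
      refine Subtype.ext (Units.ext ?_)
      show M (a, b) D = _
      ext i j
      fin_cases i <;> fin_cases j
      · simpa [M] using ha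
      · simpa [M] using r2.trans hc'
      · simpa [M] using hb
      · simpa [M] using r1.trans hd
  rw [← Nat.card_eq_of_bijective g hg, Nat.card_prod, card_sphere hF,
    card_norm_fibre hF (one_pow q) one_ne_zero]
  ring

theorem card_gu2_eq {q : ℕ} (hF : Fintype.card F = q ^ 2) :
    Nat.card (gu2 F q) = (q + 1) * (q + 1) * (q - 1) * q := by
  rw [card_gu2 hF]
  obtain ⟨r, rfl⟩ : ∃ r, q = r + 1 := ⟨q - 1, by have := one_lt_of_card_sq hF; omega⟩
  rw [Nat.add_sub_cancel, show (r + 1) ^ 2 - (r + 1) = r * (r + 1) by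
    rw [show (r + 1) ^ 2 = r * (r + 1) + (r + 1) by ring, Nat.add_sub_cancel]]
  ring

theorem diagHom_exists : ∃ D : (Fin 2 → Fˣ) →* GL (Fin 2) F, Function.Injective D ∧
    ∀ f, ((D f : GL (Fin 2) F) : Matrix (Fin 2) (Fin 2) F) = Matrix.diagonal fun i => (f i : F) :=
  ⟨{ toFun := fun f => ⟨Matrix.diagonal fun i => (f i : F),
        Matrix.diagonal fun i => ((f i)⁻¹ : Fˣ),
        by rw [Matrix.diagonal_mul_diagonal]; simp, by rw [Matrix.diagonal_mul_diagonal]; simp⟩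
     map_one' := Units.ext (by simp)
     map_mul' := fun f g => Units.ext (by simp [Matrix.diagonal_mul_diagonal]) },
    fun _ _ e => funext fun i =>
      Units.ext (congrFun (Matrix.diagonal_injective (congrArg Units.val e)) i),
    fun _ => rfl⟩

/-- `GU₂(q)` for `q ≡ 3 (mod 4)`: wreathed. -/
theorem isWreathed_gu2 {q : ℕ} (hF : Fintype.card F = q ^ 2) (h3 : q % 4 = 3)
    (P : Sylow 2 (gu2 F q)) : Cfsg.IsWreathed (P : Subgroup (gu2 F q)) := by
  classical
  obtain ⟨σ, hσ, hσσ⟩ := exists_conj_pow hF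
  obtain ⟨n, s, hs, hns⟩ := exists_two_pow_mul_odd (a := q + 1) (by omega)
  have hn : 2 ≤ n := by
    by_contra h
    obtain ⟨s', rfl⟩ := hs
    interval_cases n <;> omega
  obtain ⟨r, hr, hr'⟩ : ∃ r, q - 1 = 2 * r ∧ Odd r :=
    ⟨(q - 1) / 2, by omega, Nat.odd_iff.2 (by omega)⟩
  obtain ⟨ζ, hζ⟩ := exists_unit_orderOf (K := F) (d := 2 ^ n) ⟨s * (q - 1), by
    rw [Nat.card_eq_fintype_card, hF, show q ^ 2 - 1 = (q + 1) * (q - 1) by
      simpa using Nat.sq_sub_sq q 1, hns, mul_assoc]⟩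
  have hnorm : (ζ : F) * σ ζ = 1 := by
    rw [hσ, ← pow_succ', ← Units.val_pow_eq_pow_val, orderOf_dvd_iff_pow_eq_one.1
      (show orderOf ζ ∣ q + 1 from hζ ▸ ⟨s, hns⟩), Units.val_one]
  obtain ⟨D, hD, hDv⟩ := diagHom_exists (F := F)
  have hform : ∀ u v : Fin 2 → F, Cfsg.hermForm 2 F q u v = u 0 * σ (v 0) + u 1 * σ (v 1) :=
    fun u v => by simp [Cfsg.hermForm, Fin.sum_univ_two, hσ]
  have hDmem : ∀ f : Fin 2 → Fˣ, (∀ i, (f i : F) * σ (f i) = 1) → D f ∈ gu2 F q := by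
    intro f hf u v
    simp only [Units.coeHom_apply, hDv, hform, Matrix.mulVec_diagonal, map_mul]
    linear_combination (u 0 * σ (v 0)) * hf 0 + (u 1 * σ (v 1)) * hf 1
  let w : Matrix (Fin 2) (Fin 2) F := !![0, 1; 1, 0]
  have hww : w * w = 1 := by
    ext i j
    fin_cases i <;> fin_cases j <;> simp [w, Matrix.mul_apply, Fin.sum_univ_two]
  let z₀ : GL (Fin 2) F := ⟨w, w, hww, hww⟩
  have hzmem : z₀ ∈ gu2 F q := by
    intro u v
    simp only [Units.coeHom_apply, hform, z₀, w, Matrix.mulVec, dotProduct, Fin.sum_univ_two,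
      Matrix.of_apply, Matrix.cons_val', Matrix.cons_val_zero, Matrix.cons_val_one,
      Matrix.cons_val_fin_one]
    simp only [zero_mul, one_mul, zero_add, add_zero]
    ring
  have hz : orderOf z₀ = 2 := by
    refine orderOf_eq_prime (by rw [pow_two]; exact Units.ext hww) fun e => ?_
    have e' : w = 1 := congrArg (fun v : GL (Fin 2) F => (v : Matrix (Fin 2) (Fin 2) F)) e
    simpa [w] using congrFun (congrFun e' 0) 0
  have hx : D ![ζ, 1] ∈ gu2 F q := hDmem _ fun i => by fin_cases i <;> simp [hnorm]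
  have hy : D ![1, ζ] ∈ gu2 F q := hDmem _ fun i => by fin_cases i <;> simp [hnorm]
  refine isWreathed_sylow P (n := n) (r := s * s * r * q) hn ?_
    (((hs.mul hs).mul hr').mul (Nat.odd_iff.2 (by omega)))
    (x := ⟨_, hx⟩) (y := ⟨_, hy⟩) (z := ⟨_, hzmem⟩) ?_ ?_ ?_
    ((Subgroup.orderOf_mk _ hzmem).trans hz) ?_
  · rw [card_gu2_eq hF, hns, hr]; ring
  · rw [Subgroup.orderOf_mk, orderOf_injective D hD, Pi.orderOf]
    simp [Fin.univ_succ, hζ]
  · refine Subtype.ext ?_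
    show D ![ζ, 1] * D ![1, ζ] = D ![1, ζ] * D ![ζ, 1]
    rw [← map_mul, ← map_mul, mul_comm]
  · rw [eq_bot_iff]
    rintro u ⟨⟨i, hi⟩, ⟨j, hj⟩⟩
    have hi' : D ![ζ, 1] ^ i = (u : GL (Fin 2) F) := by simpa using congrArg Subtype.val hi
    have hj' : D ![1, ζ] ^ j = (u : GL (Fin 2) F) := by simpa using congrArg Subtype.val hj
    have hij : (![ζ, 1] : Fin 2 → Fˣ) ^ i = ![1, ζ] ^ j :=
      hD (by rw [map_zpow, map_zpow, hi', hj'])
    have h0 := congrFun hij 0
    simp at h0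
    refine Subgroup.mem_bot.2 (Subtype.ext ?_)
    rw [OneMemClass.coe_one, ← hi', ← map_zpow,
      show (![ζ, 1] : Fin 2 → Fˣ) ^ i = 1 from funext fun l => ?_, map_one]
    fin_cases l <;> simp [h0]
  · refine mul_inv_eq_iff_eq_mul.2 (Subtype.ext (Units.ext ?_))
    show w * (D ![ζ, 1] : GL (Fin 2) F).1 = (D ![1, ζ] : GL (Fin 2) F).1 * w
    rw [hDv, hDv]
    ext i j
    fin_cases i <;> fin_cases j <;>
      simp [w, Matrix.mul_apply, Matrix.diagonal, Fin.sum_univ_two]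

/-- `GU₂(q)` for `q ≡ 1 (mod 4)`: quasidihedral. -/
theorem isQuasiDihedral_gu2 {q : ℕ} (hF : Fintype.card F = q ^ 2) (h1 : q % 4 = 1)
    (P : Sylow 2 (gu2 F q)) : Cfsg.IsQuasiDihedral (P : Subgroup (gu2 F q)) := by
  classical
  obtain ⟨σ, hσ, hσσ⟩ := exists_conj_pow hF
  have hq := one_lt_of_card_sq hF
  obtain ⟨a, r, hr, har⟩ := exists_two_pow_mul_odd (a := q - 1) (by omega)
  have ha : 2 ≤ a := by
    by_contra h
    obtain ⟨r', rfl⟩ := hr
    interval_cases a <;> omega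
  obtain ⟨s, hs, hs'⟩ : ∃ s, q + 1 = 2 * s ∧ Odd s :=
    ⟨(q + 1) / 2, by omega, Nat.odd_iff.2 (by omega)⟩
  obtain ⟨ζ, hζ⟩ := exists_unit_orderOf (K := F) (d := 2 ^ (a + 1)) ⟨s * r, by
    rw [Nat.card_eq_fintype_card, hF, show q ^ 2 - 1 = (q + 1) * (q - 1) by
      simpa using Nat.sq_sub_sq q 1, har, hs]
    ring⟩
  have hchar : (2 : F) ≠ 0 := fun h => by
    have h2 : ringChar F = 2 :=
      ((Nat.dvd_prime Nat.prime_two).1 (ringChar.dvd h)).resolve_left
        (CharP.ringChar_ne_one)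
    have h3 := FiniteField.even_card_iff_char_two.1 h2
    rw [hF, Nat.pow_mod] at h3
    have : q % 2 = 1 := by omega
    simp [this] at h3
  have hneg : (-1 : F) ^ q = -1 := Odd.neg_one_pow (Nat.odd_iff.2 (by omega))
  obtain ⟨ι, hι⟩ : ∃ ι : F, ι ^ (q + 1) = -1 := by
    have h := card_norm_fibre hF hneg (neg_ne_zero.2 one_ne_zero)
    obtain ⟨⟨ι, hι⟩⟩ : Nonempty {x : F // x ^ (q + 1) = -1} := by
      by_contra hne
      rw [not_nonempty_iff] at hne
      rw [Nat.card_of_isEmpty] at h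
      omega
    exact ⟨ι, hι⟩
  have hι' : ι * σ ι = -1 := by rw [hσ, ← pow_succ', hι]
  have hι0 : ι ≠ 0 := fun e => by
    rw [e, zero_mul] at hι'
    exact neg_ne_zero.2 one_ne_zero hι'.symm
  have hform : ∀ u v : Fin 2 → F, Cfsg.hermForm 2 F q u v = u 0 * σ (v 0) + u 1 * σ (v 1) :=
    fun u v => by simp [Cfsg.hermForm, Fin.sum_univ_two, hσ]
  -- the hyperbolic basis
  let B : GL (Fin 2) F := Matrix.GeneralLinearGroup.mkOfDetNeZero !![1, 1; ι, -ι] (by
    rw [Matrix.det_fin_two]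
    simp only [Matrix.of_apply, Matrix.cons_val', Matrix.cons_val_zero, Matrix.cons_val_one,
      Matrix.cons_val_fin_one]
    rw [show 1 * -ι - 1 * ι = -(2 * ι) by ring]
    exact neg_ne_zero.2 (mul_ne_zero hchar hι0))
  have hB : ∀ c d : Fin 2 → F, Cfsg.hermForm 2 F q (B.1 *ᵥ c) (B.1 *ᵥ d) =
      2 * (c 0 * σ (d 1) + c 1 * σ (d 0)) := by
    intro c d
    rw [hform]
    simp only [B, Matrix.GeneralLinearGroup.mkOfDetNeZero, Matrix.GeneralLinearGroup.mk',
      Matrix.unitOfDetInvertible, unitOfInvertible, Matrix.mulVec, dotProduct, Fin.sum_univ_two,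
      Matrix.of_apply, Matrix.cons_val', Matrix.cons_val_zero, Matrix.cons_val_one,
      Matrix.cons_val_fin_one, map_add, map_mul, map_neg, map_one]
    linear_combination ((c 0 - c 1) * (σ (d 0) - σ (d 1))) * hι'
  obtain ⟨D, hD, hDv⟩ := diagHom_exists (F := F)
  let Φ : (Fin 2 → Fˣ) →* GL (Fin 2) F := (MulAut.conj B).toMonoidHom.comp D
  have hΦ : Function.Injective Φ := (MulAut.conj B).injective.comp hD
  have hinv : ∀ (u : Fin 2 → F), ∃ c, u = B.1 *ᵥ c := fun u =>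
    ⟨(B⁻¹ : GL (Fin 2) F).1 *ᵥ u, by rw [Matrix.mulVec_mulVec, Units.mul_inv, Matrix.one_mulVec]⟩
  have hΦv : ∀ f c, (Φ f).1 *ᵥ (B.1 *ᵥ c) = B.1 *ᵥ (fun i => (f i : F) * c i) := by
    intro f c
    rw [Matrix.mulVec_mulVec, show (Φ f).1 * B.1 = B.1 * (D f).1 by
      rw [← Units.val_mul, ← Units.val_mul]
      refine congrArg Units.val ?_
      show B * D f * B⁻¹ * B = B * D f
      group, ← Matrix.mulVec_mulVec, hDv]
    congr 1
    funext i
    rw [Matrix.mulVec_diagonal]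
  let f₀ : Fin 2 → Fˣ := ![ζ, (ζ ^ q)⁻¹]
  have hζσ : σ (ζ : F) = ((ζ ^ q : Fˣ) : F) := by rw [hσ, Units.val_pow_eq_pow_val]
  have hq2 : (ζ ^ q) ^ q = ζ := Units.ext (by
    push_cast
    rw [← pow_mul, ← pow_two, ← hF, FiniteField.pow_card])
  have hx : Φ f₀ ∈ gu2 F q := by
    intro u v
    obtain ⟨c, rfl⟩ := hinv u
    obtain ⟨d, rfl⟩ := hinv v
    simp only [Units.coeHom_apply, hΦv, hB, f₀, Matrix.cons_val_zero, Matrix.cons_val_one,
      map_mul]
    have e1 : (ζ : F) * σ (((ζ ^ q)⁻¹ : Fˣ) : F) = 1 := by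
      rw [Units.val_inv_eq_inv_val, map_inv₀, ← hζσ, hσσ, mul_inv_cancel₀ ζ.ne_zero]
    have e2 : (((ζ ^ q)⁻¹ : Fˣ) : F) * σ (ζ : F) = 1 := by rw [hζσ, Units.inv_mul]
    linear_combination (2 * (c 0 * σ (d 1))) * e1 + (2 * (c 1 * σ (d 0))) * e2
  let y₀ : GL (Fin 2) F := D ![1, -1]
  have hy : y₀ ∈ gu2 F q := by
    intro u v
    simp only [y₀, Units.coeHom_apply, hDv, hform, Matrix.mulVec_diagonal, Matrix.cons_val_zero,
      Matrix.cons_val_one, map_mul, Units.val_one, Units.val_neg, map_neg, map_one]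
    ring
  have hyo : orderOf y₀ = 2 := by
    rw [orderOf_injective D hD]
    refine orderOf_eq_prime (funext fun i => by fin_cases i <;> simp) fun e => ?_
    have h' : (-1 : F) = 1 := congrArg Units.val (congrFun e 1)
    exact hchar (by linear_combination -h')
  refine isQuasiDihedral_sylow P (n := a + 1) (r := s * s * r * q) (by omega) ?_
    (((hs'.mul hs').mul hr).mul (Nat.odd_iff.2 (by omega)))
    (x := ⟨_, hx⟩) (y := ⟨_, hy⟩) ?_ ((Subgroup.orderOf_mk _ hy).trans hyo) ?_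
  · rw [card_gu2_eq hF, hs, har]; ring
  · rw [Subgroup.orderOf_mk, orderOf_injective Φ hΦ]
    refine Nat.dvd_antisymm (orderOf_dvd_of_pow_eq_one (funext fun i => ?_)) ?_
    · have h2 : ζ ^ 2 ^ (a + 1) = 1 := by rw [← hζ, pow_orderOf_eq_one]
      fin_cases i
      · simpa [f₀] using h2
      · simp only [f₀, Pi.pow_apply, Pi.one_apply]
        show (ζ ^ q)⁻¹ ^ 2 ^ (a + 1) = 1
        rw [inv_pow, ← pow_mul, mul_comm, pow_mul, h2, one_pow, inv_one]
    · rw [← hζ]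
      exact orderOf_dvd_of_pow_eq_one (congrFun (pow_orderOf_eq_one f₀) 0)
  · refine Subtype.ext ?_
    show y₀ * Φ f₀ * y₀⁻¹ = Φ f₀ ^ (2 ^ (a + 1 - 1) - 1)
    rw [Nat.add_sub_cancel, ← map_pow]
    have hyB : ∀ c : Fin 2 → F, y₀.1 *ᵥ (B.1 *ᵥ c) = B.1 *ᵥ ![c 1, c 0] := by
      intro c
      simp only [y₀, hDv]
      funext i
      rw [Matrix.mulVec_diagonal]
      simp only [B, Matrix.GeneralLinearGroup.mkOfDetNeZero, Matrix.GeneralLinearGroup.mk',
        Matrix.unitOfDetInvertible, unitOfInvertible, Matrix.mulVec, dotProduct, Fin.sum_univ_two,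
        Matrix.of_apply, Matrix.cons_val', Matrix.cons_val_zero, Matrix.cons_val_one,
        Matrix.cons_val_fin_one]
      fin_cases i <;> simp <;> ring
    have hm : ζ ^ (2 ^ a - 1) = (ζ ^ q)⁻¹ := by
      rw [eq_inv_iff_mul_eq_one, ← pow_add, ← orderOf_dvd_iff_pow_eq_one, hζ]
      obtain ⟨r', rfl⟩ := hr
      refine ⟨r' + 1, ?_⟩
      have h3 : 1 ≤ 2 ^ a := Nat.one_le_two_pow
      have h4 : 2 ^ a * (2 * r' + 1) + 2 ^ a = 2 ^ (a + 1) * (r' + 1) := by ring
      omega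
    have hm' : (ζ ^ q)⁻¹ ^ (2 ^ a - 1) = ζ := by
      rw [inv_pow, ← pow_mul, mul_comm, pow_mul, hm, inv_pow, inv_inv, hq2]
    refine mul_inv_eq_iff_eq_mul.2 (Units.ext ?_)
    refine Matrix.ext_of_mulVec_single fun l => ?_
    obtain ⟨c, hc⟩ := hinv (Pi.single l 1)
    rw [hc, Units.val_mul, Units.val_mul, ← Matrix.mulVec_mulVec, ← Matrix.mulVec_mulVec, hΦv,
      hyB, hyB, hΦv]
    congr 1
    funext i
    fin_cases i
    · show (((ζ ^ q)⁻¹ : Fˣ) : F) * c 1 = ((ζ ^ (2 ^ a - 1) : Fˣ) : F) * c 1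
      rw [hm]
    · show (ζ : F) * c 0 = (((ζ ^ q)⁻¹ ^ (2 ^ a - 1) : Fˣ) : F) * c 0
      rw [hm']

end CfsgLib.Invol
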