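import Mathlib.GroupTheory.SpecificGroups.Dihedral
import Mathlib.GroupTheory.SpecificGroups.Quaternion
import Mathlib.GroupTheory.Index
import Mathlib.GroupTheory.IndexNormal
import Mathlib.GroupTheory.OrderOfElement
import Mathlib.GroupTheory.Abelianization.Defs
import Mathlib.Data.ZMod.Basic

/-!
# Groups with a cyclic subgroup of index two
-/

set_option autoImplicit false

namespace CfsgLib.Invol

open Subgroup
open scoped commutatorElement

variable {S T : Type*} [Group S] [Group T]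

/-- `S` is generated by `a` of order `N` and `b ∉ ⟨a⟩` with `b a b⁻¹ = a ^ r`, `b² = a ^ e`, and
has order `2N`. -/
structure CyclicFrame (N : ℕ) (r e : ℤ) (a b : S) : Prop where
  ord : orderOf a = N
  card : Nat.card S = 2 * N
  notMem : b ∉ Subgroup.zpowers a
  conj : b * a * b⁻¹ = a ^ r
  sq : b * b = a ^ e
  pos : 0 < N

namespace CyclicFrame

variable {N : ℕ} {r e : ℤ} {a b : S}

theorem zpow_eq_iff (F : CyclicFrame N r e a b) {i j : ℤ} :
    a ^ i = a ^ j ↔ (i : ZMod N) = (j : ZMod N) := by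
  rw [ZMod.intCast_eq_intCast_iff, zpow_eq_zpow_iff_modEq, F.ord]

theorem zpow_eq_one_iff (F : CyclicFrame N r e a b) {i : ℤ} : a ^ i = 1 ↔ (N : ℤ) ∣ i := by
  rw [← orderOf_dvd_iff_zpow_eq_one, F.ord]

theorem finite (F : CyclicFrame N r e a b) : Finite S :=
  Nat.finite_of_card_ne_zero (by rw [F.card]; have := F.pos; omega)

theorem index_two (F : CyclicFrame N r e a b) : (Subgroup.zpowers a).index = 2 := by
  have h := (Subgroup.zpowers a).card_mul_index
  rw [Nat.card_zpowers, F.ord, F.card, mul_comm 2 N] at h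
  exact Nat.eq_of_mul_eq_mul_left F.pos h

theorem b_mul_zpow (F : CyclicFrame N r e a b) (j : ℤ) : b * a ^ j = a ^ (r * j) * b := by
  rw [← mul_inv_eq_iff_eq_mul, ← conj_zpow, F.conj, ← zpow_mul]

theorem exists_eq (F : CyclicFrame N r e a b) (x : S) :
    ∃ i : ℤ, x = a ^ i ∨ x = a ^ i * b := by
  by_cases hx : x ∈ Subgroup.zpowers a
  · obtain ⟨i, rfl⟩ := Subgroup.mem_zpowers_iff.1 hx
    exact ⟨i, Or.inl rfl⟩
  · have h : x * b⁻¹ ∈ Subgroup.zpowers a := by
      rw [Subgroup.mul_mem_iff_of_index_two F.index_two, inv_mem_iff]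
      exact iff_of_false hx F.notMem
    obtain ⟨i, hi⟩ := Subgroup.mem_zpowers_iff.1 h
    exact ⟨i, Or.inr (by rw [hi, inv_mul_cancel_right])⟩

theorem zpow_ne_mul (F : CyclicFrame N r e a b) (i j : ℤ) : a ^ i ≠ a ^ j * b := fun h =>
  F.notMem (by
    rw [show b = (a ^ j)⁻¹ * a ^ i by rw [h, inv_mul_cancel_left]]
    exact mul_mem (inv_mem (zpow_mem (Subgroup.mem_zpowers a) j))
      (zpow_mem (Subgroup.mem_zpowers a) i))

theorem mul_b_eq_iff (F : CyclicFrame N r e a b) {i j : ℤ} :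
    a ^ i * b = a ^ j * b ↔ (i : ZMod N) = (j : ZMod N) := by
  rw [mul_left_inj, F.zpow_eq_iff]

theorem ref_mul_rot (F : CyclicFrame N r e a b) (i j : ℤ) :
    a ^ i * b * a ^ j = a ^ (i + r * j) * b := by
  rw [mul_assoc, F.b_mul_zpow, ← mul_assoc, ← zpow_add]

theorem rot_mul_ref (i j : ℤ) : a ^ i * (a ^ j * b) = a ^ (i + j) * b := by
  rw [← mul_assoc, ← zpow_add]

theorem ref_mul_ref (F : CyclicFrame N r e a b) (i j : ℤ) :
    a ^ i * b * (a ^ j * b) = a ^ (i + r * j + e) := by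
  rw [← mul_assoc, F.ref_mul_rot, mul_assoc, F.sq, ← zpow_add]

theorem ref_sq (F : CyclicFrame N r e a b) (i : ℤ) :
    (a ^ i * b) ^ 2 = a ^ ((1 + r) * i + e) := by
  rw [pow_two, F.ref_mul_ref]; congr 1; ring

/-- Conjugating a reflection by a rotation. -/
theorem rot_conj_ref (F : CyclicFrame N r e a b) (k i : ℤ) :
    a ^ k * (a ^ i * b) * (a ^ k)⁻¹ = a ^ (i + (1 - r) * k) * b := by
  rw [rot_mul_ref, ← zpow_neg, F.ref_mul_rot]; congr 2; ring

/-- Conjugating a rotation by a reflection. -/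
theorem ref_conj_rot (F : CyclicFrame N r e a b) (k i : ℤ) :
    a ^ k * b * a ^ i * (a ^ k * b)⁻¹ = a ^ (r * i) := by
  rw [mul_inv_eq_iff_eq_mul, F.ref_mul_rot, rot_mul_ref, add_comm]

theorem mul_sq_conj (F : CyclicFrame N r e a b) : (r * r : ZMod N) = 1 := by
  have h1 : b * b * a * (b * b)⁻¹ = a ^ (r * r) := by
    rw [show b * b * a * (b * b)⁻¹ = b * (b * a * b⁻¹) * b⁻¹ by group, F.conj, ← conj_zpow,
      F.conj, ← zpow_mul]
  rw [F.sq, ((Commute.refl a).zpow_left e).eq, mul_inv_cancel_right] at h1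
  have h2 : a ^ (1 : ℤ) = a ^ (r * r) := by rw [zpow_one]; exact h1
  simpa using (F.zpow_eq_iff.1 h2).symm

theorem mul_e (F : CyclicFrame N r e a b) : (r * e : ZMod N) = e := by
  have h1 : b * (b * b) * b⁻¹ = b * b := by group
  rw [F.sq, ← conj_zpow, F.conj, ← zpow_mul] at h1
  simpa using F.zpow_eq_iff.1 h1

theorem closure_pair (F : CyclicFrame N r e a b) : Subgroup.closure ({a, b} : Set S) = ⊤ := by
  refine top_le_iff.1 fun x _ => ?_
  have ha : a ∈ Subgroup.closure ({a, b} : Set S) := Subgroup.subset_closure (by simp)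
  have hb : b ∈ Subgroup.closure ({a, b} : Set S) := Subgroup.subset_closure (by simp)
  obtain ⟨i, rfl | rfl⟩ := F.exists_eq x
  · exact zpow_mem ha i
  · exact mul_mem (zpow_mem ha i) hb

/-- Change the generator outside the cyclic subgroup. -/
theorem shift (F : CyclicFrame N r e a b) (i : ℤ) :
    CyclicFrame N r ((1 + r) * i + e) a (a ^ i * b) where
  ord := F.ord
  card := F.card
  notMem h := by
    obtain ⟨j, hj⟩ := Subgroup.mem_zpowers_iff.1 h
    exact F.zpow_ne_mul j i hj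
  conj := by
    have := F.ref_conj_rot i 1
    rwa [zpow_one, mul_one] at this
  sq := by rw [← pow_two, F.ref_sq]
  pos := F.pos

theorem congr (F : CyclicFrame N r e a b) {r' e' : ℤ} (hr : (r' : ZMod N) = r)
    (he : (e' : ZMod N) = e) : CyclicFrame N r' e' a b where
  ord := F.ord
  card := F.card
  notMem := F.notMem
  conj := by rw [F.conj, F.zpow_eq_iff, hr]
  sq := by rw [F.sq, F.zpow_eq_iff, he]
  pos := F.pos

variable {a' b' : T}

/-- Two groups with the same frame are isomorphic. -/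
theorem nonempty_mulEquiv (F : CyclicFrame N r e a b) (F' : CyclicFrame N r e a' b') :
    ∃ f : S ≃* T, f a = a' ∧ f b = b' := by
  classical
  have key : ∀ x : S, ∃ y : T, ∀ i : ℤ, (x = a ^ i → y = a' ^ i) ∧
      (x = a ^ i * b → y = a' ^ i * b') := by
    intro x
    obtain ⟨j, rfl | rfl⟩ := F.exists_eq x
    · exact ⟨a' ^ j, fun i => ⟨fun h => F'.zpow_eq_iff.2 (F.zpow_eq_iff.1 h),
        fun h => absurd h (F.zpow_ne_mul _ _)⟩⟩
    · exact ⟨a' ^ j * b', fun i => ⟨fun h => absurd h.symm (F.zpow_ne_mul _ _),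
        fun h => F'.mul_b_eq_iff.2 (F.mul_b_eq_iff.1 h)⟩⟩
  choose f hf using key
  have f1 : ∀ i : ℤ, f (a ^ i) = a' ^ i := fun i => (hf _ i).1 rfl
  have f2 : ∀ i : ℤ, f (a ^ i * b) = a' ^ i * b' := fun i => (hf _ i).2 rfl
  have hmul : ∀ x y, f (x * y) = f x * f y := by
    intro x y
    obtain ⟨i, rfl | rfl⟩ := F.exists_eq x <;> obtain ⟨j, rfl | rfl⟩ := F.exists_eq y
    · rw [← zpow_add, f1, f1, f1, zpow_add]
    · rw [rot_mul_ref, f2, f1, f2, rot_mul_ref]
    · rw [F.ref_mul_rot, f2, f2, f1, F'.ref_mul_rot]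
    · rw [F.ref_mul_ref, f1, f2, f2, F'.ref_mul_ref]
  have hinj : Function.Injective f := by
    intro x y h
    obtain ⟨i, rfl | rfl⟩ := F.exists_eq x <;> obtain ⟨j, rfl | rfl⟩ := F.exists_eq y
    · rw [f1, f1, F'.zpow_eq_iff] at h; exact F.zpow_eq_iff.2 h
    · rw [f1, f2] at h; exact absurd h (F'.zpow_ne_mul _ _)
    · rw [f1, f2] at h; exact absurd h.symm (F'.zpow_ne_mul _ _)
    · rw [f2, f2, F'.mul_b_eq_iff] at h; exact F.mul_b_eq_iff.2 h
  have hsurj : Function.Surjective f := by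
    intro y
    obtain ⟨i, rfl | rfl⟩ := F'.exists_eq y
    · exact ⟨_, f1 i⟩
    · exact ⟨_, f2 i⟩
  refine ⟨MulEquiv.ofBijective (MonoidHom.mk' f hmul) ⟨hinj, hsurj⟩, ?_, ?_⟩
  · show f a = a'
    simpa using f1 1
  · show f b = b'
    simpa using f2 0

end CyclicFrame

theorem dihedral_frame (n : ℕ) [NeZero n] :
    CyclicFrame n (-1) 0 (DihedralGroup.r (1 : ZMod n)) (DihedralGroup.sr (0 : ZMod n)) where
  ord := DihedralGroup.orderOf_r_one
  card := DihedralGroup.nat_card
  notMem h := by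
    obtain ⟨k, hk⟩ := Subgroup.mem_zpowers_iff.1 h
    simp at hk
  conj := by simp [DihedralGroup.inv_sr, DihedralGroup.sr_mul_r, DihedralGroup.sr_mul_sr]
  sq := by simp
  pos := Nat.pos_of_ne_zero (NeZero.ne n)

theorem quaternion_frame (n : ℕ) [NeZero n] :
    CyclicFrame (2 * n) (-1) (n : ℤ) (QuaternionGroup.a (1 : ZMod (2 * n)))
      (QuaternionGroup.xa (0 : ZMod (2 * n))) where
  ord := QuaternionGroup.orderOf_a_one
  card := by rw [Nat.card_eq_fintype_card, QuaternionGroup.card]; ring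
  notMem h := by
    obtain ⟨k, hk⟩ := (isOfFinOrder_of_finite _).mem_zpowers_iff_mem_range_orderOf.1 h |>
      Finset.mem_image.1
    rw [QuaternionGroup.a_one_pow] at hk
    simp at hk
  conj := by
    rw [zpow_neg_one, mul_inv_eq_iff_eq_mul, QuaternionGroup.xa_mul_a,
      show (QuaternionGroup.a (1 : ZMod (2 * n)))⁻¹ = QuaternionGroup.a (-1) from rfl,
      QuaternionGroup.a_mul_xa]
    simp
  sq := by rw [zpow_natCast, QuaternionGroup.a_one_pow, QuaternionGroup.xa_mul_xa]; simp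
  pos := Nat.pos_of_ne_zero (NeZero.ne _)

theorem CyclicFrame.dihedralEquiv {N : ℕ} {a b : S} (F : CyclicFrame N (-1) 0 a b) :
    Nonempty (S ≃* DihedralGroup N) :=
  haveI : NeZero N := ⟨F.pos.ne'⟩
  let ⟨f, _⟩ := F.nonempty_mulEquiv (dihedral_frame N)
  ⟨f⟩

theorem CyclicFrame.quaternionEquiv {n : ℕ} {a b : S}
    (F : CyclicFrame (2 * n) (-1) (n : ℤ) a b) : Nonempty (S ≃* QuaternionGroup n) :=
  haveI : NeZero n := ⟨fun h => by have := F.pos; omega⟩
  let ⟨f, _⟩ := F.nonempty_mulEquiv (quaternion_frame n)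
  ⟨f⟩

/-- Any element outside a cyclic subgroup of index two gives a frame. -/
theorem exists_frame [Finite S] {a b : S} (hi : (Subgroup.zpowers a).index = 2)
    (hb : b ∉ Subgroup.zpowers a) : ∃ r e : ℤ, CyclicFrame (orderOf a) r e a b := by
  haveI := Subgroup.normal_of_index_eq_two hi
  obtain ⟨r, hr⟩ := Subgroup.mem_zpowers_iff.1
    ((inferInstance : (Subgroup.zpowers a).Normal).conj_mem a (Subgroup.mem_zpowers a) b)
  have h2 : b * b ∈ Subgroup.zpowers a := by
    rw [Subgroup.mul_mem_iff_of_index_two hi]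
  obtain ⟨e, he⟩ := Subgroup.mem_zpowers_iff.1 h2
  refine ⟨r, e, rfl, ?_, hb, hr.symm, he.symm, orderOf_pos a⟩
  rw [← (Subgroup.zpowers a).card_mul_index, hi, Nat.card_zpowers, mul_comm]

/-- The derived subgroup lies in a normal subgroup modulo which generators commute. -/
theorem commutator_le_of_generators {K : Subgroup S} [K.Normal] {X : Set S}
    (hX : Subgroup.closure X = ⊤) (h : ∀ x ∈ X, ∀ y ∈ X, ⁅x, y⁆ ∈ K) : commutator S ≤ K := by
  have hg : ∀ x ∈ X, ∀ y ∈ X,
      (QuotientGroup.mk' K x) * QuotientGroup.mk' K y = QuotientGroup.mk' K y * QuotientGroup.mk' K x := by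
    intro x hx y hy
    rw [← commutatorElement_eq_one_iff_mul_comm, ← map_commutatorElement]
    exact (QuotientGroup.eq_one_iff _).2 (h x hx y hy)
  have h1 : ∀ x ∈ X, ∀ q : S ⧸ K, q * QuotientGroup.mk' K x = QuotientGroup.mk' K x * q := by
    intro x hx q
    obtain ⟨y, rfl⟩ := QuotientGroup.mk'_surjective K q
    have : Subgroup.closure X ≤ (Subgroup.centralizer ({QuotientGroup.mk' K x} : Set (S ⧸ K))).comap
        (QuotientGroup.mk' K) := (Subgroup.closure_le _).2 fun y hy =>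
      Subgroup.mem_centralizer_singleton_iff.2 (hg y hy x hx)
    exact Subgroup.mem_centralizer_singleton_iff.1 (this (hX.ge (Subgroup.mem_top y)))
  rw [_root_.commutator_def, Subgroup.commutator_le]
  intro g _ k _
  have h2 : Subgroup.closure X ≤ (Subgroup.centralizer ({QuotientGroup.mk' K g} : Set (S ⧸ K))).comap
      (QuotientGroup.mk' K) := (Subgroup.closure_le _).2 fun y hy =>
    Subgroup.mem_centralizer_singleton_iff.2 (h1 y hy _).symm
  have h3 := Subgroup.mem_centralizer_singleton_iff.1 (h2 (hX.ge (Subgroup.mem_top k)))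
  rw [← QuotientGroup.eq_one_iff, ← QuotientGroup.mk'_apply, map_commutatorElement,
    commutatorElement_eq_one_iff_mul_comm]
  exact h3.symm

end CfsgLib.Invol
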