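import Cfsg.Agent.Lib.Invol.CyclicIndexTwo
import Cfsg.Agent.Lib.Invol.DihedralSubgroup
import Cfsg.Prelude.Def_CaseTheorems

/-!
# Wreathed 2-groups: normal form and arithmetic
-/

set_option autoImplicit false

namespace CfsgLib.Invol

open Subgroup

variable {S : Type*} [Group S]

/-- A presentation `⟨x⟩ × ⟨y⟩ ⋊ ⟨z⟩` of `Z_N ≀ Z_2`, with `N = 2 m` and `m = 2 q`. -/
structure WrFrame (m : ℤ) (x y z : S) : Prop where
  comm : x * y = y * x
  invol : z * z = 1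
  swap : z * x * z⁻¹ = y
  eq_one : ∀ i j : ℤ, x ^ i * y ^ j = 1 ↔ 2 * m ∣ i ∧ 2 * m ∣ j
  exists_eq : ∀ g : S, ∃ i j : ℤ, g = x ^ i * y ^ j ∨ g = x ^ i * y ^ j * z
  notMem : ∀ i j : ℤ, x ^ i * y ^ j ≠ z
  even : ∃ q : ℤ, m = 2 * q
  two_le : 2 ≤ m

theorem exists_wrFrame [Finite S] (hS : Cfsg.IsWreathed S) :
    ∃ (n : ℕ) (x y z : S), 2 ≤ n ∧ Nat.card S = 2 ^ (2 * n + 1) ∧
      WrFrame ((2 : ℤ) ^ (n - 1)) x y z := by
  obtain ⟨n, hn, hcard, x, y, z, hx, hxy, hdis, hz, hzx⟩ := hS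
  have hy : orderOf y = 2 ^ n := by
    rw [← hzx, show z * x * z⁻¹ = MulAut.conj z x from rfl, MulEquiv.orderOf_eq, hx]
  have hN : (2 : ℤ) * 2 ^ (n - 1) = ((2 ^ n : ℕ) : ℤ) := by
    push_cast; rw [← pow_succ']; congr 1; omega
  have heq : ∀ i j : ℤ, x ^ i * y ^ j = 1 ↔ 2 * (2 : ℤ) ^ (n - 1) ∣ i ∧ 2 * (2 : ℤ) ^ (n - 1) ∣ j := by
    intro i j
    rw [hN]
    constructor
    · intro h
      have h1 : x ^ i ∈ Subgroup.zpowers x ⊓ Subgroup.zpowers y :=
        ⟨Subgroup.zpow_mem_zpowers x i, by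
          rw [mul_eq_one_iff_eq_inv.1 h]; exact (Subgroup.zpowers y).inv_mem (Subgroup.zpow_mem_zpowers y j)⟩
      rw [hdis, Subgroup.mem_bot] at h1
      rw [h1, one_mul] at h
      rw [← hx, orderOf_dvd_iff_zpow_eq_one, hx, ← hy, orderOf_dvd_iff_zpow_eq_one]
      exact ⟨h1, h⟩
    · rintro ⟨h1, h2⟩
      rw [← hx, orderOf_dvd_iff_zpow_eq_one] at h1
      rw [← hy, orderOf_dvd_iff_zpow_eq_one] at h2
      rw [h1, h2, one_mul]
  have hxy' : Commute x y := hxy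
  let f : Multiplicative (ℤ × ℤ) →* S :=
    { toFun := fun p => x ^ p.toAdd.1 * y ^ p.toAdd.2
      map_one' := by simp
      map_mul' := fun p q => by
        show x ^ (p.toAdd.1 + q.toAdd.1) * y ^ (p.toAdd.2 + q.toAdd.2) = _
        rw [zpow_add, zpow_add, (hxy'.zpow_zpow q.toAdd.1 p.toAdd.2).mul_mul_mul_comm] }
  set U := f.range with hU
  have hnot : ∀ i j : ℤ, x ^ i * y ^ j ≠ z := by
    intro i j e
    have h1 : Commute z x := e ▸
      (((Commute.refl x).zpow_left i).mul_left (hxy'.symm.zpow_left j))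
    have h2 : x = y := by rw [← hzx, h1.eq, mul_inv_cancel_right]
    have h3 : x ^ (1 : ℤ) ∈ Subgroup.zpowers x ⊓ Subgroup.zpowers y :=
      ⟨Subgroup.zpow_mem_zpowers x 1, by rw [h2]; exact Subgroup.zpow_mem_zpowers y 1⟩
    rw [hdis, Subgroup.mem_bot, zpow_one] at h3
    rw [h3, orderOf_one] at hx
    have := Nat.lt_two_pow_self (n := n)
    omega
  have hUcard : 2 ^ n * 2 ^ n ≤ Nat.card U := by
    let g : Fin (2 ^ n) × Fin (2 ^ n) → U := fun p => ⟨_, ⟨Multiplicative.ofAdd ((p.1 : ℤ), (p.2 : ℤ)), rfl⟩⟩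
    have hinj : Function.Injective g := by
      rintro ⟨i, j⟩ ⟨k, l⟩ h
      have h' : x ^ (i : ℤ) * y ^ (j : ℤ) = x ^ (k : ℤ) * y ^ (l : ℤ) := congrArg Subtype.val h
      have h1 : x ^ ((i : ℤ) - k) * y ^ ((j : ℤ) - l) = 1 := by
        rw [show (i : ℤ) - k = -(k : ℤ) + i by ring, sub_eq_add_neg, zpow_add, zpow_add, mul_assoc,
          ← mul_assoc (x ^ (i : ℤ)), h']
        group
      rw [heq, hN] at h1
      obtain ⟨h2, h3⟩ := h1
      have e1 := Int.eq_zero_of_abs_lt_dvd h2 (abs_sub_lt_iff.2 ⟨by omega, by omega⟩)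
      have e2 := Int.eq_zero_of_abs_lt_dvd h3 (abs_sub_lt_iff.2 ⟨by omega, by omega⟩)
      refine Prod.ext (Fin.ext ?_) (Fin.ext ?_) <;> (dsimp only; omega)
    simpa using Nat.card_le_card_of_injective g hinj
  have hzU : z ∉ U := by
    rintro ⟨p, hp⟩; exact hnot _ _ hp
  have hidx : U.index = 2 := by
    have h1 := U.card_mul_index
    have hS2 : Nat.card S = 2 * (2 ^ n * 2 ^ n) := by rw [hcard, ← pow_add, ← pow_succ']; congr 1; omega
    have h2 : U.index ≠ 0 := Subgroup.index_ne_zero_of_finite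
    have h3 : U.index ≠ 1 := fun e => hzU ((Subgroup.index_eq_one.1 e).ge (Subgroup.mem_top z))
    have h4 : 0 < 2 ^ n * 2 ^ n := by positivity
    by_contra h5
    have h6 : 3 ≤ U.index := by omega
    nlinarith [Nat.mul_le_mul hUcard h6]
  refine ⟨n, x, y, z, hn, hcard, hxy, by rw [← pow_two, ← hz, pow_orderOf_eq_one], hzx, heq, ?_, hnot,
    ⟨2 ^ (n - 2), by rw [← pow_succ']; congr 1; omega⟩, ?_⟩
  · intro g
    by_cases hg : g ∈ U
    · obtain ⟨p, rfl⟩ := hg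
      exact ⟨p.toAdd.1, p.toAdd.2, Or.inl rfl⟩
    · have h1 : g * z⁻¹ ∈ U := by
        rw [Subgroup.mul_mem_iff_of_index_two hidx, inv_mem_iff]
        exact iff_of_false hg hzU
      obtain ⟨p, hp⟩ := h1
      exact ⟨p.toAdd.1, p.toAdd.2, Or.inr (by
        rw [show x ^ p.toAdd.1 * y ^ p.toAdd.2 = g * z⁻¹ from hp, inv_mul_cancel_right])⟩
  · calc (2 : ℤ) = 2 ^ 1 := by norm_num
      _ ≤ 2 ^ (n - 1) := pow_le_pow_right₀ (by norm_num) (by omega)

namespace WrFrame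

variable {m : ℤ} {x y z : S}

theorem mul_rot (W : WrFrame m x y z) (i j k l : ℤ) :
    x ^ i * y ^ j * (x ^ k * y ^ l) = x ^ (i + k) * y ^ (j + l) := by
  rw [zpow_add, zpow_add, ((show Commute x y from W.comm).zpow_zpow k j).symm.mul_mul_mul_comm]

theorem z_conj_y (W : WrFrame m x y z) : z * y * z⁻¹ = x := by
  have hz : z⁻¹ = z := inv_eq_of_mul_eq_one_left W.invol
  rw [← W.swap, hz, show z * (z * x * z) * z = (z * z) * x * (z * z) by group, W.invol, one_mul,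
    mul_one]

theorem z_mul_rot (W : WrFrame m x y z) (i j : ℤ) :
    z * (x ^ i * y ^ j) = x ^ j * y ^ i * z := by
  rw [← mul_inv_eq_iff_eq_mul, ← conj_mul, ← conj_zpow, ← conj_zpow, W.swap, W.z_conj_y,
    ((show Commute x y from W.comm).zpow_zpow j i).eq]

theorem out_mul_rot (W : WrFrame m x y z) (i j k l : ℤ) :
    x ^ i * y ^ j * z * (x ^ k * y ^ l) = x ^ (i + l) * y ^ (j + k) * z := by
  rw [mul_assoc (x ^ i * y ^ j), W.z_mul_rot, ← mul_assoc, W.mul_rot]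

theorem rot_mul_out (W : WrFrame m x y z) (i j k l : ℤ) :
    x ^ i * y ^ j * (x ^ k * y ^ l * z) = x ^ (i + k) * y ^ (j + l) * z := by
  rw [← mul_assoc, W.mul_rot]

theorem out_mul_out (W : WrFrame m x y z) (i j k l : ℤ) :
    x ^ i * y ^ j * z * (x ^ k * y ^ l * z) = x ^ (i + l) * y ^ (j + k) := by
  rw [← mul_assoc, W.out_mul_rot, mul_assoc, W.invol, mul_one]

theorem rot_eq_iff (W : WrFrame m x y z) {i j k l : ℤ} :
    x ^ i * y ^ j = x ^ k * y ^ l ↔ 2 * m ∣ i - k ∧ 2 * m ∣ j - l := by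
  rw [← W.eq_one, sub_eq_add_neg, sub_eq_add_neg, ← W.mul_rot]
  constructor
  · intro h; rw [h, W.mul_rot]; simp
  · intro h
    have h1 := congrArg (· * (x ^ k * y ^ l)) h
    simp only [one_mul] at h1
    rw [mul_assoc, W.mul_rot] at h1
    simpa using h1

theorem rot_ne_out (W : WrFrame m x y z) (i j k l : ℤ) : x ^ i * y ^ j ≠ x ^ k * y ^ l * z := by
  intro h
  refine W.notMem (-k + i) (-l + j) ?_
  rw [← W.mul_rot, h, ← mul_assoc, W.mul_rot]; simp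

theorem out_eq_iff (W : WrFrame m x y z) {i j k l : ℤ} :
    x ^ i * y ^ j * z = x ^ k * y ^ l * z ↔ 2 * m ∣ i - k ∧ 2 * m ∣ j - l := by
  rw [mul_left_inj, W.rot_eq_iff]

theorem rot_inv (W : WrFrame m x y z) (i j : ℤ) : (x ^ i * y ^ j)⁻¹ = x ^ (-i) * y ^ (-j) :=
  inv_eq_of_mul_eq_one_left (by rw [W.mul_rot]; simp)

theorem out_inv (W : WrFrame m x y z) (i j : ℤ) :
    (x ^ i * y ^ j * z)⁻¹ = x ^ (-j) * y ^ (-i) * z :=
  inv_eq_of_mul_eq_one_left (by rw [W.out_mul_out]; simp)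

theorem rot_pow (W : WrFrame m x y z) (i j : ℤ) (k : ℕ) :
    (x ^ i * y ^ j) ^ k = x ^ (i * k) * y ^ (j * k) := by
  induction k with
  | zero => simp
  | succ k ih => rw [pow_succ, ih, W.mul_rot]; push_cast; ring_nf

theorem rot_zpow (W : WrFrame m x y z) (i j k : ℤ) :
    (x ^ i * y ^ j) ^ k = x ^ (i * k) * y ^ (j * k) := by
  rw [((show Commute x y from W.comm).zpow_zpow i j).mul_zpow, ← zpow_mul, ← zpow_mul]

theorem out_sq (W : WrFrame m x y z) (i j : ℤ) :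
    (x ^ i * y ^ j * z) ^ 2 = x ^ (i + j) * y ^ (i + j) := by
  rw [pow_two, W.out_mul_out, add_comm j i]

theorem rot_sq_eq_one_iff (W : WrFrame m x y z) {i j : ℤ} :
    (x ^ i * y ^ j) ^ 2 = 1 ↔ m ∣ i ∧ m ∣ j := by
  rw [W.rot_pow, W.eq_one, Nat.cast_two, mul_comm i, mul_comm j, mul_dvd_mul_iff_left two_ne_zero,
    mul_dvd_mul_iff_left two_ne_zero]

theorem out_sq_eq_one_iff (W : WrFrame m x y z) {i j : ℤ} :
    (x ^ i * y ^ j * z) ^ 2 = 1 ↔ 2 * m ∣ i + j := by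
  rw [W.out_sq, W.eq_one, and_self_iff]

theorem rot_out_commute_iff (W : WrFrame m x y z) {i j k l : ℤ} :
    x ^ i * y ^ j * (x ^ k * y ^ l * z) = x ^ k * y ^ l * z * (x ^ i * y ^ j) ↔ 2 * m ∣ i - j := by
  rw [W.rot_mul_out, W.out_mul_rot, W.out_eq_iff, show i + k - (k + j) = i - j by ring,
    show j + l - (l + i) = -(i - j) by ring, dvd_neg, and_self_iff]

theorem out_out_commute_iff (W : WrFrame m x y z) {i j k l : ℤ} :
    x ^ i * y ^ j * z * (x ^ k * y ^ l * z) = x ^ k * y ^ l * z * (x ^ i * y ^ j * z) ↔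
      2 * m ∣ (i - j) - (k - l) := by
  rw [W.out_mul_out, W.out_mul_out, W.rot_eq_iff, show i + l - (k + j) = (i - j) - (k - l) by ring,
    show j + k - (l + i) = -((i - j) - (k - l)) by ring, dvd_neg, and_self_iff]

theorem rot_commute (W : WrFrame m x y z) (i j k l : ℤ) :
    Commute (x ^ i * y ^ j) (x ^ k * y ^ l) := by
  show _ = _
  rw [W.mul_rot, W.mul_rot, add_comm i, add_comm j]

/-- Conjugating an outer element by an element of the base. -/
theorem rot_conj_out (W : WrFrame m x y z) (k l i j : ℤ) :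
    x ^ k * y ^ l * (x ^ i * y ^ j * z) * (x ^ k * y ^ l)⁻¹ =
      x ^ (i + k - l) * y ^ (j + l - k) * z := by
  rw [W.rot_mul_out, W.rot_inv, W.out_mul_rot, W.out_eq_iff]
  constructor <;> exact ⟨0, by ring⟩

theorem mem_center_iff (W : WrFrame m x y z) {g : S} :
    g ∈ Subgroup.center S ↔ ∃ i : ℤ, g = x ^ i * y ^ i := by
  constructor
  · intro hg
    obtain ⟨i, j, rfl | rfl⟩ := W.exists_eq g
    · have h := Subgroup.mem_center_iff.1 hg (x ^ (0 : ℤ) * y ^ (0 : ℤ) * z)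
      have h' := W.rot_out_commute_iff.1 h.symm
      refine ⟨i, W.rot_eq_iff.2 ⟨by simp, ?_⟩⟩
      rwa [← dvd_neg, neg_sub]
    · exfalso
      have h := Subgroup.mem_center_iff.1 hg (x ^ (1 : ℤ) * y ^ (0 : ℤ))
      have h' := W.rot_out_commute_iff.1 h
      have := W.two_le
      have := Int.le_of_dvd (by norm_num) h'
      omega
  · rintro ⟨i, rfl⟩
    refine Subgroup.mem_center_iff.2 fun g => ?_
    obtain ⟨k, l, rfl | rfl⟩ := W.exists_eq g
    · exact (W.rot_commute k l i i).eq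
    · exact (W.rot_out_commute_iff.2 (by simp)).symm

theorem center_eq (W : WrFrame m x y z) :
    Subgroup.center S = Subgroup.zpowers (x ^ (1 : ℤ) * y ^ (1 : ℤ)) := by
  ext g
  rw [W.mem_center_iff, Subgroup.mem_zpowers_iff]
  constructor
  · rintro ⟨i, rfl⟩; exact ⟨i, by rw [W.rot_zpow, one_mul]⟩
  · rintro ⟨i, rfl⟩; exact ⟨i, by rw [W.rot_zpow, one_mul]⟩

theorem orderOf_rot (W : WrFrame m x y z) {i j : ℤ} {t : ℕ}
    (h : ∀ k : ℤ, (2 * m ∣ i * k ∧ 2 * m ∣ j * k) ↔ (t : ℤ) ∣ k) :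
    orderOf (x ^ i * y ^ j) = t := by
  have key : ∀ k : ℕ, (x ^ i * y ^ j) ^ k = 1 ↔ t ∣ k := by
    intro k
    rw [W.rot_pow, W.eq_one, h, Int.natCast_dvd_natCast]
  exact Nat.dvd_antisymm (orderOf_dvd_of_pow_eq_one ((key t).2 dvd_rfl))
    ((key _).1 (pow_orderOf_eq_one _))

/-- The subgroup `{x^i y^j : C i j} ∪ {x^i y^j z : D i j}`. -/
theorem mem_base_iff (W : WrFrame m x y z) {P : ℤ → ℤ → Prop}
    (hP : ∀ i j k l, 2 * m ∣ i - k → 2 * m ∣ j - l → (P i j ↔ P k l)) {i j : ℤ} :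
    (∃ k l, P k l ∧ x ^ i * y ^ j = x ^ k * y ^ l) ↔ P i j := by
  constructor
  · rintro ⟨k, l, h, e⟩
    obtain ⟨h1, h2⟩ := W.rot_eq_iff.1 e
    exact (hP i j k l h1 h2).2 h
  · exact fun h => ⟨i, j, h, rfl⟩

end WrFrame

end CfsgLib.Invol
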