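import Cfsg.Prelude.Def_OddOrderLocal
import Cfsg.Agent.Lib.Invol.CharTwo
import Cfsg.Agent.Lib.Invol.QuasiDihedralMaximal
import Cfsg.Agent.Lib.Invol.MaxClassTwo

/-!
2-groups all of whose subgroups have at most two generators in every quotient are metacyclic.
-/
set_option autoImplicit false

namespace CfsgLib.Invol.MetaTwo

open Subgroup
open scoped commutatorElement

universe u

/-- Every section of exponent two has order at most four. -/
def SqBound (G : Type u) [Group G] : Prop :=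
  ∀ H N : Subgroup G, N ≤ H → (∀ h ∈ H, ∀ n ∈ N, h * n * h⁻¹ ∈ N) → (∀ h ∈ H, h * h ∈ N) →
    Nat.card H ≤ 4 * Nat.card N

variable {G : Type u} [Group G] [Finite G]

omit [Finite G] in
/-- Three commuting elements satisfy a relation with an odd exponent. -/
theorem exists_relation [Finite G] (hR : SqBound G) {u v s : G} (huv : Commute u v) (hus : Commute u s)
    (hvs : Commute v s) :
    ∃ i j k : ℤ, u ^ i * v ^ j * s ^ k = 1 ∧ (Odd i ∨ Odd j ∨ Odd k) := by
  let f : Multiplicative (ℤ × ℤ × ℤ) →* G :=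
    { toFun := fun x => u ^ x.toAdd.1 * v ^ x.toAdd.2.1 * s ^ x.toAdd.2.2
      map_one' := by simp
      map_mul' := fun x y => by
        simp only [toAdd_mul, Prod.fst_add, Prod.snd_add, zpow_add]
        have h1 : Commute (u ^ y.toAdd.1) (v ^ x.toAdd.2.1) := huv.zpow_zpow _ _
        have h2 : Commute (u ^ y.toAdd.1) (s ^ x.toAdd.2.2) := hus.zpow_zpow _ _
        have h3 : Commute (v ^ y.toAdd.2.1) (s ^ x.toAdd.2.2) := hvs.zpow_zpow _ _
        calc u ^ x.toAdd.1 * u ^ y.toAdd.1 * (v ^ x.toAdd.2.1 * v ^ y.toAdd.2.1) *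
              (s ^ x.toAdd.2.2 * s ^ y.toAdd.2.2)
            = u ^ x.toAdd.1 * (u ^ y.toAdd.1 * v ^ x.toAdd.2.1) * (v ^ y.toAdd.2.1 * s ^ x.toAdd.2.2) *
              s ^ y.toAdd.2.2 := by group
          _ = u ^ x.toAdd.1 * v ^ x.toAdd.2.1 * (u ^ y.toAdd.1 * s ^ x.toAdd.2.2) * v ^ y.toAdd.2.1 *
              s ^ y.toAdd.2.2 := by rw [h1.eq, h3.eq]; group
          _ = _ := by rw [h2.eq]; group }
  set N := (f.comp (powMonoidHom 2)).range with hN
  have hNH : N ≤ f.range := by
    rintro _ ⟨x, rfl⟩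
    exact ⟨_, rfl⟩
  have hle := hR f.range N hNH (fun h hh n hn => by
      obtain ⟨x, rfl⟩ := hh
      obtain ⟨y, rfl⟩ := hn
      refine ⟨y, ?_⟩
      rw [← map_inv, MonoidHom.comp_apply, ← map_mul, ← map_mul, mul_inv_cancel_comm])
    (fun h hh => by
      obtain ⟨x, rfl⟩ := hh
      exact ⟨x, by rw [MonoidHom.comp_apply, powMonoidHom_apply, map_pow, pow_two]⟩)
  let g : Fin 2 × Fin 2 × Fin 2 → f.range ⧸ N.subgroupOf f.range := fun e =>
    QuotientGroup.mk ⟨f (Multiplicative.ofAdd ((e.1 : ℤ), (e.2.1 : ℤ), (e.2.2 : ℤ))), ⟨_, rfl⟩⟩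
  have hidx : Nat.card (f.range ⧸ N.subgroupOf f.range) ≤ 4 := by
    rw [← index_eq_card, ← relIndex]
    have hm : Nat.card N * N.relIndex f.range = Nat.card f.range := by
      rw [← relIndex_bot_left, relIndex_mul_relIndex _ _ _ bot_le hNH, relIndex_bot_left]
    rw [← hm, mul_comm 4] at hle
    exact Nat.le_of_mul_le_mul_left hle Nat.card_pos
  have hnot : ¬ Function.Injective g := fun hg => by
    have := Nat.card_le_card_of_injective g hg
    simp only [Nat.card_prod, Nat.card_fin] at this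
    omega
  simp only [Function.Injective] at hnot
  push Not at hnot
  obtain ⟨p, q, hpq, hne⟩ := hnot
  obtain ⟨y, hy⟩ := mem_subgroupOf.1 (QuotientGroup.eq.1 hpq)
  refine ⟨-(p.1 : ℤ) + q.1 + 2 * -y.toAdd.1, -(p.2.1 : ℤ) + q.2.1 + 2 * -y.toAdd.2.1,
    -(p.2.2 : ℤ) + q.2.2 + 2 * -y.toAdd.2.2, ?_, ?_⟩
  · have h1 : f ((Multiplicative.ofAdd ((p.1 : ℤ), (p.2.1 : ℤ), (p.2.2 : ℤ)))⁻¹ *
        Multiplicative.ofAdd ((q.1 : ℤ), (q.2.1 : ℤ), (q.2.2 : ℤ)) * (y ^ 2)⁻¹) = 1 := by
      rw [map_mul, map_mul, map_inv, map_inv]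
      rw [MonoidHom.comp_apply, powMonoidHom_apply] at hy
      rw [hy]
      push_cast
      group
    rw [← h1]
    simp [f, toAdd_inv, toAdd_mul, toAdd_pow]
  · by_contra hall
    push Not at hall
    obtain ⟨ha, hb, hc⟩ := hall
    rw [Int.not_odd_iff_even] at ha hb hc
    obtain ⟨p1, p2, p3⟩ := p
    obtain ⟨q1, q2, q3⟩ := q
    refine hne ?_
    obtain ⟨a', ha⟩ := ha
    obtain ⟨b', hb⟩ := hb
    obtain ⟨c', hc⟩ := hc
    simp only [Prod.mk.injEq]
    exact ⟨Fin.ext (by dsimp only at ha; omega), Fin.ext (by dsimp only at hb; omega),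
      Fin.ext (by dsimp only at hc; omega)⟩

/-- A generating pair, the second element normalizing the cyclic group of the first. -/
def GoodPair (g h : G) : Prop := closure ({g, h} : Set G) = ⊤ ∧ h * g * h⁻¹ ∈ zpowers g

theorem metacyclic_of_goodPair {g h : G} (hp : GoodPair g h) : Cfsg.IsMetacyclic G := by
  obtain ⟨hgen, hconj⟩ := hp
  have hnorm : h ∈ normalizer ((zpowers g : Subgroup G) : Set G) := by
    refine mem_normalizer_fintype fun x hx => ?_
    obtain ⟨i, rfl⟩ := mem_zpowers_iff.1 hx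
    show h * g ^ i * h⁻¹ ∈ zpowers g
    rw [← conj_zpow]
    exact zpow_mem hconj i
  haveI hn : (zpowers g).Normal := by
    rw [← normalizer_eq_top_iff, eq_top_iff, ← hgen, closure_le, Set.pair_subset_iff]
    exact ⟨le_normalizer (mem_zpowers g), hnorm⟩
  refine ⟨zpowers g, hn, inferInstance, isCyclic_iff_exists_zpowers_eq_top.2
    ⟨(h : G ⧸ zpowers g), eq_top_iff.2 fun x _ => ?_⟩⟩
  induction x using QuotientGroup.induction_on with
  | _ x =>
    show (QuotientGroup.mk' (zpowers g)) x ∈ zpowers ((QuotientGroup.mk' (zpowers g)) h)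
    have hx : x ∈ closure ({g, h} : Set G) := hgen ▸ mem_top x
    rw [← MonoidHom.map_zpowers]
    have := mem_map_of_mem (QuotientGroup.mk' (zpowers g)) hx
    rw [MonoidHom.map_closure, Set.image_pair] at this
    refine (closure_le _).2 ?_ this
    rw [Set.pair_subset_iff]
    refine ⟨?_, mem_map_of_mem _ (mem_zpowers h)⟩
    rw [SetLike.mem_coe, show (QuotientGroup.mk' (zpowers g)) g = 1 from (QuotientGroup.eq_one_iff g).2 (mem_zpowers g)]
    exact one_mem _

theorem odd_zpow_mem (h2 : IsPGroup 2 G) {a : G} {i : ℤ} (hi : Odd i) : a ∈ zpowers (a ^ i) := by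
  obtain ⟨k, hk⟩ := h2 a
  obtain ⟨c, rfl⟩ := hi
  have hcop : IsCoprime (2 * c + 1 : ℤ) ((2 : ℤ) ^ k) :=
    IsCoprime.pow_right ⟨1, -c, by ring⟩
  obtain ⟨x, y, hxy⟩ := hcop
  refine mem_zpowers_iff.2 ⟨x, ?_⟩
  rw [← zpow_mul, show (2 * c + 1) * x = 1 - (2 : ℤ) ^ k * y by linarith, zpow_sub, zpow_one,
    zpow_mul, show ((2 : ℤ) ^ k) = ((2 ^ k : ℕ) : ℤ) by push_cast; rfl, zpow_natCast, hk,
    one_zpow, inv_one, mul_one]

variable (h2 : IsPGroup 2 G) (hR : SqBound G)

include h2 hR in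
theorem goodPair_of_involution {a w z : G} (hz : z * z = 1) (hzc : ∀ g : G, Commute g z) (hz1 : z ≠ 1)
    (hgen : closure ({a, w} : Set G) = ⊤) (haw : w * a * w⁻¹ = a * z) (hw : w * w = 1) :
    ∃ g h : G, GoodPair g h := by
  have hsq : Commute (a * a) w := by
    show a * a * w = w * (a * a)
    have : w * (a * a) * w⁻¹ = a * a := by
      rw [show w * (a * a) * w⁻¹ = w * a * w⁻¹ * (w * a * w⁻¹) by group, haw,
        show a * z * (a * z) = a * (z * a) * z by group, ← (hzc a).eq,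
        show a * (a * z) * z = a * a * (z * z) by group, hz, mul_one]
    rw [mul_inv_eq_iff_eq_mul] at this
    exact this.symm
  obtain ⟨i, j, k, hrel, hodd⟩ := exists_relation hR hsq (hzc _) (hzc w)
  have hwinv : w⁻¹ = w := inv_eq_of_mul_eq_one_left hw
  obtain ⟨j', hj'⟩ | ⟨j', hj'⟩ := Int.even_or_odd j
  swap
  · -- `w` would be central
    exfalso
    subst hj'
    rw [zpow_add_one, zpow_mul, zpow_two, hw, one_zpow, one_mul] at hrel
    have hcom : Commute a w := by
      have hw' : w = ((a * a) ^ i)⁻¹ * (z ^ k)⁻¹ :=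
        calc w = ((a * a) ^ i)⁻¹ * ((a * a) ^ i * w * z ^ k) * (z ^ k)⁻¹ := by group
          _ = _ := by rw [hrel, mul_one]
      rw [hw']
      exact ((((Commute.refl a).mul_right (Commute.refl a)).zpow_right i).inv_right).mul_right
        ((hzc a).zpow_right k).inv_right
    rw [← hcom.eq, mul_inv_cancel_right] at haw
    exact hz1 (mul_left_cancel (a := a) (by rw [mul_one]; exact haw.symm))
  subst hj'
  rw [← two_mul, zpow_mul, zpow_two, hw, one_zpow, mul_one] at hrel
  have haa : ∀ n : ℤ, (a * a) ^ n = a ^ (2 * n) := fun n => by rw [zpow_mul, zpow_two]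
  have hzk : ∀ n : ℤ, z ^ (2 * n) = 1 := fun n => by rw [zpow_mul, zpow_two, hz, one_zpow]
  rw [haa] at hrel
  obtain ⟨k', hk'⟩ | ⟨k', hk'⟩ := Int.even_or_odd k
  swap
  · -- `z` is a power of `a`
    subst hk'
    rw [zpow_add_one, hzk, one_mul] at hrel
    refine ⟨a, w, hgen, ?_⟩
    rw [haw, eq_inv_of_mul_eq_one_right hrel]
    exact mul_mem (mem_zpowers a) (inv_mem (zpow_mem (mem_zpowers a) _))
  subst hk'
  rw [← two_mul, hzk, mul_one, ← haa] at hrel
  have hiodd : Odd i := by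
    rcases hodd with h | h | h
    · exact h
    · exact absurd h (Int.not_odd_iff_even.2 ⟨j', rfl⟩)
    · exact absurd h (Int.not_odd_iff_even.2 ⟨k', rfl⟩)
  have ha2 : a * a = 1 := by
    have := odd_zpow_mem h2 (a := a * a) hiodd
    rwa [hrel, zpowers_one_eq_bot, mem_bot] at this
  have hgz : (a * w) * (a * w) = z := by
    have h1 : w * a = a * z * w := by rw [← haw, inv_mul_cancel_right]
    rw [show a * w * (a * w) = a * (w * a) * w by group, h1,
      show a * (a * z * w) * w = a * a * z * (w * w) by group, ha2, hw, one_mul, mul_one]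
  refine ⟨a * w, a, eq_top_iff.2 (hgen ▸ (closure_le _).2 ?_), ?_⟩
  · rw [Set.pair_subset_iff]
    refine ⟨subset_closure (by simp), ?_⟩
    have h := mul_mem (inv_mem (subset_closure (show a ∈ ({a * w, a} : Set G) by simp)))
      (subset_closure (show a * w ∈ ({a * w, a} : Set G) by simp))
    rwa [inv_mul_cancel_left] at h
  · have h1 : a * (a * w) * a⁻¹ = z * (a * w) := by
      rw [show a * (a * w) * a⁻¹ = a * a * (w * a⁻¹) by group, ha2, one_mul,
        inv_eq_of_mul_eq_one_left ha2,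
        show w * a = a * z * w by rw [← haw, inv_mul_cancel_right], (hzc a).eq, mul_assoc]
    rw [h1, ← hgz]
    exact mul_mem (mul_mem (mem_zpowers _) (mem_zpowers _)) (mem_zpowers _)

include h2 hR in
theorem goodPair_of_class_two {a b z : G} (hz : z * z = 1) (hzc : ∀ g : G, Commute g z) (hz1 : z ≠ 1)
    (hgen : closure ({a, b} : Set G) = ⊤) (hab : b * a * b⁻¹ = a * z) :
    ∃ g h : G, GoodPair g h := by
  have hzi : z⁻¹ = z := inv_eq_of_mul_eq_one_left hz
  have hconj : ∀ i : ℤ, b * a ^ i * b⁻¹ = a ^ i * z ^ i := fun i => by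
    rw [← conj_zpow, hab, (hzc a).mul_zpow]
  have hzk : ∀ n : ℤ, z ^ (2 * n) = 1 := fun n => by rw [zpow_mul, zpow_two, hz, one_zpow]
  -- products in normal form
  have hba : ∀ (i j : ℤ), b ^ j * a ^ i * (b ^ j)⁻¹ = a ^ i * z ^ (i * j) := by
    intro i j
    have hstep : ∀ x : G, ∀ m : ℤ, MulAut.conj b (x * z ^ m) = MulAut.conj b x * z ^ m := fun x m => by
      rw [map_mul]
      congr 1
      rw [MulAut.conj_apply, ((hzc b).zpow_right m).eq, mul_inv_cancel_right]
    induction j using Int.induction_on with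
    | zero => simp
    | succ n ih =>
      rw [zpow_add_one, ← (Commute.self_zpow b n).eq,
        show b * b ^ (n : ℤ) * a ^ i * (b * b ^ (n : ℤ))⁻¹ =
          MulAut.conj b (b ^ (n : ℤ) * a ^ i * (b ^ (n : ℤ))⁻¹) by rw [MulAut.conj_apply]; group,
        ih, hstep, MulAut.conj_apply, hconj, mul_assoc, ← zpow_add]
      congr 2; ring
    | pred n ih =>
      apply (MulAut.conj b).injective
      rw [show MulAut.conj b (b ^ (-(n : ℤ) - 1) * a ^ i * (b ^ (-(n : ℤ) - 1))⁻¹) =
          b ^ (-(n : ℤ)) * a ^ i * (b ^ (-(n : ℤ)))⁻¹ by rw [MulAut.conj_apply]; group,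
        ih, hstep, MulAut.conj_apply, hconj, mul_assoc, ← zpow_add]
      congr 2; ring
  have hsq : ∀ i j : ℤ, (a ^ i * b ^ j) * (a ^ i * b ^ j) = a ^ (2 * i) * b ^ (2 * j) * z ^ (i * j) := by
    intro i j
    have h := hba i j
    rw [mul_inv_eq_iff_eq_mul] at h
    rw [show a ^ i * b ^ j * (a ^ i * b ^ j) = a ^ i * (b ^ j * a ^ i) * b ^ j by group, h,
      show a ^ i * (a ^ i * z ^ (i * j) * b ^ j) * b ^ j =
        a ^ i * a ^ i * (z ^ (i * j) * (b ^ j * b ^ j)) by group,
      ← ((hzc (b ^ j * b ^ j)).zpow_right _).eq, ← zpow_add, ← zpow_add, mul_assoc]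
    congr 3 <;> ring
  have hca : Commute a (b ^ (2 : ℤ)) := by
    have h := hba 1 2
    rw [zpow_one, one_mul, show z ^ (2 : ℤ) = 1 by rw [zpow_two, hz], mul_one,
      mul_inv_eq_iff_eq_mul] at h
    exact h.symm
  have hgenb : ∀ {g : G} {i j : ℤ}, g = a ^ i * b ^ j → Odd j → closure ({a, g} : Set G) = ⊤ := by
    intro g i j hg hj
    refine eq_top_iff.2 (hgen ▸ (closure_le _).2 ?_)
    rw [Set.pair_subset_iff]
    refine ⟨subset_closure (by simp), ?_⟩
    have h : b ^ j ∈ closure ({a, g} : Set G) := by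
      rw [show b ^ j = (a ^ i)⁻¹ * g by rw [hg]; group]
      exact mul_mem (inv_mem (zpow_mem (subset_closure (by simp)) i)) (subset_closure (by simp))
    exact (zpowers_le.2 h) (odd_zpow_mem h2 hj)
  have hinv : ∀ {i j : ℤ}, Odd j → (a ^ i * b ^ j) * (a ^ i * b ^ j) = 1 →
      ∃ g h : G, GoodPair g h := by
    intro i j hj hw
    obtain ⟨m, hm⟩ := hj
    refine goodPair_of_involution h2 hR hz hzc hz1 (hgenb rfl ⟨m, hm⟩) ?_ hw
    have h := hba 1 j
    rw [zpow_one, one_mul] at h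
    rw [show a ^ i * b ^ j * a * (a ^ i * b ^ j)⁻¹ = a ^ i * (b ^ j * a * (b ^ j)⁻¹) * (a ^ i)⁻¹ by group,
      h, hm, zpow_add_one, hzk, one_mul, ← mul_assoc,
      ((Commute.refl a).zpow_left i).eq, mul_assoc a, ((hzc _)).eq,
      show a * (z * a ^ i) * (a ^ i)⁻¹ = a * z by group]
  have hconjw : ∀ (i j : ℤ), a * (a ^ i * b ^ j) * a⁻¹ = a ^ i * b ^ j * z ^ j ∧
      b * (a ^ i * b ^ j) * b⁻¹ = a ^ i * b ^ j * z ^ i := by
    intro i j
    constructor
    · have h := hba 1 j
      rw [zpow_one, one_mul] at h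
      have hzz : z ^ j * z ^ j = 1 := by rw [← zpow_add, ← two_mul, hzk]
      have h' : a * b ^ j * a⁻¹ = b ^ j * z ^ j := by
        rw [mul_inv_eq_iff_eq_mul] at h ⊢
        rw [mul_assoc (b ^ j) (z ^ j) a, ← ((hzc a).zpow_right j).eq, ← mul_assoc, h, mul_assoc,
          ((hzc (b ^ j)).zpow_right j).eq, ← mul_assoc (a * z ^ j), mul_assoc a, hzz, mul_one]
      rw [show a * (a ^ i * b ^ j) * a⁻¹ = a * a ^ i * (b ^ j * a⁻¹) by group,
        ((Commute.refl a).zpow_right i).eq,
        show a ^ i * a * (b ^ j * a⁻¹) = a ^ i * (a * b ^ j * a⁻¹) by group, h', mul_assoc]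
    · have h := hba i 1
      rw [zpow_one, mul_one] at h
      rw [show b * (a ^ i * b ^ j) * b⁻¹ = b * a ^ i * b⁻¹ * b ^ j by group, h, mul_assoc,
        ← ((hzc (b ^ j)).zpow_right i).eq, mul_assoc]
  have hgood : ∀ i j : ℤ, (Odd i ∨ Odd j) → z ∈ zpowers (a ^ i * b ^ j) →
      ∃ g h : G, GoodPair g h := by
    intro i j hij hmem
    by_cases hj : Odd j
    · refine ⟨a ^ i * b ^ j, a, by rw [Set.pair_comm]; exact hgenb rfl hj, ?_⟩
      rw [(hconjw i j).1]
      exact mul_mem (mem_zpowers _) (zpow_mem hmem j)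
    · have hi := hij.resolve_right hj
      refine ⟨a ^ i * b ^ j, b, eq_top_iff.2 (hgen ▸ (closure_le _).2 ?_), ?_⟩
      · rw [Set.pair_subset_iff]
        refine ⟨?_, subset_closure (by simp)⟩
        have h : a ^ i ∈ closure ({a ^ i * b ^ j, b} : Set G) := by
          have h := mul_mem (subset_closure (show a ^ i * b ^ j ∈ ({a ^ i * b ^ j, b} : Set G) by simp))
            (inv_mem (zpow_mem (subset_closure (show b ∈ ({a ^ i * b ^ j, b} : Set G) by simp)) j))
          rwa [mul_inv_cancel_right] at h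
        exact (zpowers_le.2 h) (odd_zpow_mem h2 hi)
      · rw [(hconjw i j).2]
        exact mul_mem (mem_zpowers _) (zpow_mem hmem i)
  have hdesc : ∀ (n : ℕ) (i j : ℤ), i.natAbs + j.natAbs = n →
      z ∈ zpowers (a ^ (2 * i) * b ^ (2 * j)) → ∃ g h : G, GoodPair g h := by
    intro n
    induction n using Nat.strong_induction_on with
    | _ n ih =>
    intro i j hn hmem
    by_cases hij : Odd i ∨ Odd j
    · by_cases hw : z ∈ zpowers (a ^ i * b ^ j)
      · exact hgood i j hij hw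
      have hw2 := hsq i j
      obtain ⟨m, hm⟩ | ⟨m, hm⟩ := Int.even_or_odd (i * j)
      · rw [hm, ← two_mul, hzk, mul_one] at hw2
        rw [← hw2] at hmem
        exact absurd ((zpowers_le.2 (mul_mem (mem_zpowers _) (mem_zpowers _))) hmem) hw
      · have hjodd : Odd j := (Int.odd_mul.1 ⟨m, hm⟩).2
        rw [hm, zpow_add_one, hzk, one_mul] at hw2
        set w := a ^ i * b ^ j with hwdef
        have hc : a ^ (2 * i) * b ^ (2 * j) = w * w * z := by
          rw [hw2, mul_assoc _ z z, hz, mul_one]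
        obtain ⟨l, hl⟩ := mem_zpowers_iff.1 hmem
        rw [hc, (hzc (w * w)).mul_zpow] at hl
        obtain ⟨l', rfl⟩ | ⟨l', rfl⟩ := Int.even_or_odd l
        · rw [← two_mul, hzk, mul_one] at hl
          exact absurd (hl ▸ zpow_mem (mul_mem (mem_zpowers w) (mem_zpowers w)) _) hw
        · rw [zpow_add_one z, hzk, one_mul] at hl
          have h1 : (w * w) ^ (2 * l' + 1) = 1 :=
            mul_right_cancel (b := z) (by rw [one_mul]; exact hl)
          have := odd_zpow_mem h2 (a := w * w) (i := 2 * l' + 1) ⟨l', rfl⟩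
          rw [h1, zpowers_one_eq_bot, mem_bot] at this
          exact hinv hjodd this
    · push Not at hij
      rw [Int.not_odd_iff_even, Int.not_odd_iff_even] at hij
      obtain ⟨⟨i', rfl⟩, ⟨j', rfl⟩⟩ := hij
      have h0 : i' ≠ 0 ∨ j' ≠ 0 := by
        by_contra h
        push Not at h
        obtain ⟨rfl, rfl⟩ := h
        simp at hmem
        exact hz1 hmem
      refine ih (i'.natAbs + j'.natAbs) (by omega) i' j' rfl ?_
      refine (zpowers_le.2 ?_) hmem
      refine mem_zpowers_iff.2 ⟨2, ?_⟩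
      have hcc : Commute (a ^ (2 * i')) (b ^ (2 * j')) := by
        have := hca.zpow_zpow (2 * i') j'
        rwa [← zpow_mul] at this
      rw [hcc.mul_zpow, ← zpow_mul, ← zpow_mul]
      congr 2 <;> ring
  obtain ⟨i, j, k, hrel, hodd⟩ := exists_relation hR hca (hzc a) (hzc (b ^ (2 : ℤ)))
  rw [← zpow_mul] at hrel
  rcases Int.even_or_odd i with ⟨i', rfl⟩ | hi
  swap
  · -- `a` would be central
    exfalso
    have hai : a ^ i = (b ^ (2 * j) * z ^ k)⁻¹ := eq_inv_of_mul_eq_one_left (by rw [← mul_assoc]; exact hrel)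
    have hc1 : Commute b (a ^ i) := by
      rw [hai]; exact (((Commute.refl b).zpow_right _).mul_right ((hzc b).zpow_right _)).inv_right
    obtain ⟨x, hx⟩ := mem_zpowers_iff.1 (odd_zpow_mem h2 hi (a := a))
    have hc2 : Commute b a := by rw [← hx]; exact hc1.zpow_right x
    rw [hc2.eq, mul_inv_cancel_right] at hab
    exact hz1 (mul_left_cancel (a := a) (by rw [mul_one]; exact hab.symm))
  rw [← two_mul] at hrel
  rcases Int.even_or_odd k with ⟨k', rfl⟩ | ⟨k', rfl⟩
  · -- `b ^ 2` is an even power of `a`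
    rw [← two_mul, hzk, mul_one] at hrel
    have hj : Odd j := by
      rcases hodd with h | h | h
      · exact absurd h (Int.not_odd_iff_even.2 ⟨i', rfl⟩)
      · exact h
      · exact absurd h (Int.not_odd_iff_even.2 ⟨k', rfl⟩)
    have hw := hsq i' j
    rw [hrel, one_mul] at hw
    rcases Int.even_or_odd (i' * j) with ⟨m, hm⟩ | ⟨m, hm⟩
    · rw [hm, ← two_mul, hzk] at hw
      exact hinv hj hw
    · rw [hm, zpow_add_one, hzk, one_mul] at hw
      exact hgood i' j (Or.inr hj) (hw ▸ mul_mem (mem_zpowers _) (mem_zpowers _))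
  · -- `z` is a square of a product
    rw [zpow_add_one, hzk, one_mul] at hrel
    refine hdesc _ i' j rfl ?_
    rw [eq_inv_of_mul_eq_one_right hrel]
    exact inv_mem (mem_zpowers _)

omit h2 hR in
theorem sqBound_quotient (hR : SqBound G) (Z : Subgroup G) [Z.Normal] : SqBound (G ⧸ Z) := by
  intro H N hNH hn hsq
  set π := QuotientGroup.mk' Z
  have hcard : ∀ K : Subgroup (G ⧸ Z), Nat.card (K.comap π) = Nat.card K * Nat.card Z := by
    intro K
    have hZK : Z ≤ K.comap π := fun x hx => by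
      show π x ∈ K
      rw [show π x = 1 from (QuotientGroup.eq_one_iff x).2 hx]
      exact one_mem K
    have h1 := (K.comap π).card_mul_index
    rw [index_comap_of_surjective _ (QuotientGroup.mk'_surjective Z)] at h1
    have h2 := K.card_mul_index
    rw [← index_eq_card] at h2
    have h3 := Z.card_mul_index
    rw [← h3, ← h2] at h1
    have hpos : 0 < K.index := Nat.pos_of_ne_zero index_ne_zero_of_finite
    exact Nat.eq_of_mul_eq_mul_right hpos (by rw [h1]; ring)
  have := hR (H.comap π) (N.comap π) (comap_mono hNH)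
    (fun h hh n hn' => by
      show π (h * n * h⁻¹) ∈ N
      rw [map_mul, map_mul, map_inv]
      exact hn _ hh _ hn')
    (fun h hh => by
      show π (h * h) ∈ N
      rw [map_mul]
      exact hsq _ hh)
  rw [hcard, hcard, ← mul_assoc] at this
  exact Nat.le_of_mul_le_mul_right this Nat.card_pos

omit h2 hR in
theorem metacyclic_of_sqBound : ∀ (n : ℕ) (G : Type u) [Group G] [Finite G], Nat.card G = n →
    IsPGroup 2 G → SqBound G → Cfsg.IsMetacyclic G := by
  intro n
  induction n using Nat.strong_induction_on with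
  | _ n ih =>
  intro G _ _ hn h2 hR
  haveI : Fact (Nat.Prime 2) := ⟨Nat.prime_two⟩
  suffices h : ∃ g k : G, GoodPair g k by
    obtain ⟨g, k, h⟩ := h
    exact metacyclic_of_goodPair h
  by_cases htriv : (⊤ : Subgroup G) = ⊥
  · exact ⟨1, 1, eq_top_iff.2 (htriv ▸ bot_le), by simp⟩
  obtain ⟨T, hTn, hTne, hTcomm⟩ : ∃ T : Subgroup G, T.Normal ∧ T ≠ ⊥ ∧
      (IsMulCommutative G ∨ T ≤ commutator G) := by
    by_cases h : commutator G = ⊥
    · refine ⟨⊤, inferInstance, htriv, Or.inl (isMulCommutative_iff.2 fun x y =>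
        commutatorElement_eq_one_iff_mul_comm.1 (mem_bot.1 ?_))⟩
      rw [← h]; exact commutator_mem_commutator (mem_top x) (mem_top y)
    · exact ⟨commutator G, inferInstance, h, Or.inr le_rfl⟩
  haveI := hTn
  obtain ⟨z, hzT, hzo, hzC⟩ := exists_fixed_of_normalized (p := 2) (P := (⊤ : Subgroup G))
    (h2.to_subgroup ⊤) (h2.to_subgroup T) hTne
    (le_of_le_of_eq le_top (normalizer_eq_top_iff.2 hTn).symm)
  have hzc : ∀ g : G, Commute g z := fun g => mem_centralizer_singleton_iff.1 (hzC (mem_top g))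
  have hz1 : z ≠ 1 := fun h => by rw [h, orderOf_one] at hzo; omega
  have hz : z * z = 1 := by rw [← pow_two, ← hzo, pow_orderOf_eq_one]
  have hzk : ∀ m : ℤ, z ^ (2 * m) = 1 := fun m => by rw [zpow_mul, zpow_two, hz, one_zpow]
  set Z := zpowers z with hZ
  haveI hZn : Z.Normal := ⟨fun w hw g => by
    obtain ⟨i, rfl⟩ := mem_zpowers_iff.1 hw
    rw [((hzc g).zpow_right i).eq, mul_inv_cancel_right]
    exact zpow_mem (mem_zpowers z) i⟩
  set π := QuotientGroup.mk' Z with hπ
  have hlt : Nat.card (G ⧸ Z) < n := by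
    have h1 := Z.card_mul_index
    rw [index_eq_card, hZ, Nat.card_zpowers, hzo, hn] at h1
    have hpos : 0 < Nat.card (G ⧸ Z) := Nat.card_pos
    rw [← hZ] at h1
    omega
  obtain ⟨M, hMn, hMc, hQc⟩ := ih _ hlt (G ⧸ Z) rfl (h2.to_quotient Z) (sqBound_quotient hR Z)
  haveI := hMn
  obtain ⟨⟨ā, hā⟩, hā'⟩ := isCyclic_iff_exists_zpowers_eq_top.1 hMc
  obtain ⟨q, hq⟩ := isCyclic_iff_exists_zpowers_eq_top.1 hQc
  obtain ⟨a, rfl⟩ := QuotientGroup.mk'_surjective Z ā
  obtain ⟨bb, rfl⟩ := QuotientGroup.mk'_surjective M q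
  obtain ⟨b, rfl⟩ := QuotientGroup.mk'_surjective Z bb
  have hMgen : ∀ m ∈ M, ∃ i : ℤ, π a ^ i = m := fun m hm => by
    obtain ⟨i, hi⟩ := mem_zpowers_iff.1 (hā' ▸ mem_top (⟨m, hm⟩ : M))
    exact ⟨i, congrArg Subtype.val hi⟩
  have hnf : ∀ x : G, ∃ i j k : ℤ, x = b ^ j * a ^ i * z ^ k := by
    intro x
    obtain ⟨j, hj⟩ := mem_zpowers_iff.1 (hq ▸ mem_top (QuotientGroup.mk' M (π x)))
    rw [← map_zpow, QuotientGroup.mk'_eq_mk'] at hj
    obtain ⟨m, hm, hm'⟩ := hj
    obtain ⟨i, rfl⟩ := hMgen m hm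
    rw [← map_zpow, ← map_zpow, ← map_mul, hπ, QuotientGroup.mk'_eq_mk'] at hm'
    obtain ⟨w, hw, hw'⟩ := hm'
    obtain ⟨k, rfl⟩ := mem_zpowers_iff.1 hw
    exact ⟨i, j, k, hw'.symm⟩
  obtain ⟨t, e, hte⟩ : ∃ t e : ℤ, b * a * b⁻¹ = a ^ t * z ^ e := by
    obtain ⟨i, hi⟩ := hMgen _ (hMn.conj_mem _ hā (π b))
    rw [← map_inv, ← map_mul, ← map_mul, ← map_zpow, hπ, QuotientGroup.mk'_eq_mk'] at hi
    obtain ⟨w, hw, hw'⟩ := hi
    obtain ⟨k, rfl⟩ := mem_zpowers_iff.1 hw
    exact ⟨i, k, hw'.symm⟩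
  -- two of the three generators suffice
  set F := closure (Set.range fun x : G => x * x) with hF
  haveI hFn : F.Normal := ⟨fun f hf g => by
    have : F ≤ F.comap (MulAut.conj g).toMonoidHom := by
      rw [hF, closure_le]
      rintro _ ⟨x, rfl⟩
      show g * (x * x) * g⁻¹ ∈ F
      exact subset_closure ⟨g * x * g⁻¹, by group⟩
    exact this hf⟩
  have hFrat : ∀ K : Subgroup G, K ⊔ F = ⊤ → K = ⊤ := by
    intro K hK
    by_contra hne
    obtain ⟨L, hL, hKL⟩ := (IsCoatomic.eq_top_or_exists_le_coatom K).resolve_left hne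
    refine hL.1 (eq_top_iff.2 (hK ▸ sup_le hKL ?_))
    rw [hF, closure_le]
    rintro _ ⟨x, rfl⟩
    exact mul_self_mem_of_index_two (index_coatom_two h2 hL) x
  have hcover : ∀ K : Subgroup G, a ∈ K ⊔ F → b ∈ K ⊔ F → z ∈ K ⊔ F → K = ⊤ := by
    intro K ha hb hzK
    refine hFrat K (eq_top_iff.2 fun x _ => ?_)
    obtain ⟨i, j, k, rfl⟩ := hnf x
    exact mul_mem (mul_mem (zpow_mem hb j) (zpow_mem ha i)) (zpow_mem hzK k)
  by_cases hab : closure ({a, b} : Set G) = ⊤
  · by_cases hza : z ∈ zpowers a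
    · exact ⟨a, b, hab, by rw [hte]; exact mul_mem (zpow_mem (mem_zpowers a) t) (zpow_mem hza e)⟩
    obtain ⟨e', rfl⟩ | ⟨e', rfl⟩ := Int.even_or_odd e
    · rw [← two_mul, hzk, mul_one] at hte
      exact ⟨a, b, hab, by rw [hte]; exact zpow_mem (mem_zpowers a) t⟩
    rw [zpow_add_one, hzk, one_mul] at hte
    have hTc : T ≤ commutator G := by
      refine hTcomm.resolve_left fun h => hza ?_
      haveI := h
      rw [mul_comm' b a, mul_inv_cancel_right] at hte
      rw [show z = (a ^ t)⁻¹ * a by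
        calc z = (a ^ t)⁻¹ * (a ^ t * z) := by group
          _ = _ := by rw [← hte]]
      exact mul_mem (inv_mem (zpow_mem (mem_zpowers a) t)) (mem_zpowers a)
    set u := a ^ (t - 1) * z with hu
    have hua : a * u * a⁻¹ = u := by
      rw [hu, ← mul_assoc, ((Commute.refl a).zpow_right (t - 1)).eq, mul_assoc _ a, (hzc a).eq]
      group
    have hub : b * u * b⁻¹ = u ^ t := by
      rw [hu, show b * (a ^ (t - 1) * z) * b⁻¹ = b * a ^ (t - 1) * b⁻¹ * (b * z * b⁻¹) by group,
        ← conj_zpow, hte, (hzc b).eq, mul_inv_cancel_right, (hzc _).mul_zpow, (hzc _).mul_zpow,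
        mul_assoc, ← zpow_add_one, ← zpow_mul, ← zpow_mul]
      congr 2 <;> ring
    haveI hun : (zpowers u).Normal := by
      rw [← normalizer_eq_top_iff, eq_top_iff, ← hab, closure_le, Set.pair_subset_iff]
      constructor
      · refine mem_normalizer_fintype fun x hx => ?_
        obtain ⟨i, rfl⟩ := mem_zpowers_iff.1 hx
        show a * u ^ i * a⁻¹ ∈ zpowers u
        rw [← conj_zpow, hua]
        exact zpow_mem (mem_zpowers u) i
      · refine mem_normalizer_fintype fun x hx => ?_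
        obtain ⟨i, rfl⟩ := mem_zpowers_iff.1 hx
        show b * u ^ i * b⁻¹ ∈ zpowers u
        rw [← conj_zpow, hub]
        exact zpow_mem (zpow_mem (mem_zpowers u) t) i
    have hGu : commutator G ≤ zpowers u := by
      refine commutator_le_of_generators hab ?_
      have hba : ⁅b, a⁆ = u := by
        rw [commutatorElement_def, hte, hu, zpow_sub_one, mul_assoc, mul_assoc, (hzc a⁻¹).eq]
      intro x hx y hy
      rcases hx with rfl | rfl <;> rcases hy with rfl | rfl <;>
        first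
        | (rw [commutatorElement_self]; exact one_mem _)
        | (rw [hba]; exact mem_zpowers _)
        | (rw [← commutatorElement_inv, hba]; exact inv_mem (mem_zpowers _))
    obtain ⟨i, hi⟩ := mem_zpowers_iff.1 (hGu (hTc hzT))
    rw [hu, (hzc _).mul_zpow] at hi
    obtain ⟨i', rfl⟩ | ⟨i', rfl⟩ := Int.even_or_odd i
    · rw [← two_mul, hzk, mul_one] at hi
      exact absurd (hi ▸ zpow_mem (zpow_mem (mem_zpowers a) _) _) hza
    · rw [zpow_add_one z, hzk, one_mul] at hi
      have h1 : (a ^ (t - 1)) ^ (2 * i' + 1) = 1 :=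
        mul_right_cancel (b := z) (by rw [one_mul]; exact hi)
      have h3 := odd_zpow_mem h2 (a := a ^ (t - 1)) (i := 2 * i' + 1) ⟨i', rfl⟩
      rw [h1, zpowers_one_eq_bot, mem_bot, zpow_sub_one, mul_inv_eq_one] at h3
      rw [h3] at hte
      exact goodPair_of_class_two h2 hR hz hzc hz1 hab hte
  · let f : Fin 2 × Fin 2 × Fin 2 → G ⧸ F := fun p =>
      ((a ^ (p.1 : ℕ) * b ^ (p.2.1 : ℕ) * z ^ (p.2.2 : ℕ) : G) : G ⧸ F)
    have hidx : Nat.card (G ⧸ F) ≤ 4 := by
      rw [← index_eq_card]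
      have := hR ⊤ F le_top (fun g _ f hf => hFn.conj_mem f hf g)
        (fun g _ => subset_closure ⟨g, rfl⟩)
      rw [card_top, ← F.card_mul_index, mul_comm 4] at this
      exact Nat.le_of_mul_le_mul_left this Nat.card_pos
    have hnot : ¬ Function.Injective f := fun hf => by
      have := Nat.card_le_card_of_injective f hf
      simp only [Nat.card_prod, Nat.card_fin] at this
      omega
    simp only [Function.Injective] at hnot
    push Not at hnot
    obtain ⟨⟨p1, p2, p3⟩, ⟨q1, q2, q3⟩, hpq, hne⟩ := hnot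
    set φ := QuotientGroup.mk' F with hφ
    have hmem : ∀ (K : Subgroup G) (x : G), φ x ∈ K.map φ → x ∈ K ⊔ F := fun K x hx => by
      have hx' : x ∈ (K.map φ).comap φ := hx
      rwa [comap_map_eq, hφ, QuotientGroup.ker_mk'] at hx'
    change φ _ = φ _ at hpq
    simp only [map_mul, map_pow] at hpq
    have h01 : ∀ {u : G ⧸ F} {i j : Fin 2} (S : Subgroup (G ⧸ F)), i ≠ j →
        (u ^ (i : ℕ))⁻¹ * u ^ (j : ℕ) ∈ S → u ∈ S := by
      intro u i j S hij h
      fin_cases i <;> fin_cases j <;> first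
        | exact absurd rfl hij
        | simpa using h
    have hcomm : ∀ x y : G ⧸ F, x * y = y * x := by
      have h1 : ∀ x : G ⧸ F, x⁻¹ = x := fun x => by
        induction x using QuotientGroup.induction_on with
        | _ x => exact inv_eq_of_mul_eq_one_left ((QuotientGroup.eq_one_iff _).2 (subset_closure ⟨x, rfl⟩))
      intro x y
      rw [← h1 (x * y), mul_inv_rev, h1, h1]
    by_cases h3 : p3 = q3
    · subst h3
      rw [mul_left_inj] at hpq
      by_cases h2' : p2 = q2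
      · subst h2'
        rw [mul_left_inj] at hpq
        have h1' : p1 ≠ q1 := fun h => hne (by subst h; rfl)
        have ha : a ∈ (⊥ : Subgroup G) ⊔ F := hmem _ a (by
          rw [Subgroup.map_bot]
          exact h01 _ h1' (by rw [hpq, inv_mul_cancel]; exact one_mem _))
        refine ⟨z, b, hcover _ ((sup_le_sup_right bot_le F) ha) (mem_sup_left (subset_closure (by simp)))
          (mem_sup_left (subset_closure (by simp))), ?_⟩
        rw [(hzc b).eq, mul_inv_cancel_right]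
        exact mem_zpowers z
      · have hbm : b ∈ closure ({z, a} : Set G) ⊔ F := hmem _ b (h01 _ h2' (by
          rw [show (φ b ^ (p2 : ℕ))⁻¹ * φ b ^ (q2 : ℕ) =
              (φ b ^ (p2 : ℕ))⁻¹ * ((φ a ^ (q1 : ℕ))⁻¹ * (φ a ^ (q1 : ℕ) * φ b ^ (q2 : ℕ))) by group,
            ← hpq, show (φ b ^ (p2 : ℕ))⁻¹ * ((φ a ^ (q1 : ℕ))⁻¹ * (φ a ^ (p1 : ℕ) * φ b ^ (p2 : ℕ))) =
              (φ b ^ (p2 : ℕ))⁻¹ * ((φ a ^ (q1 : ℕ))⁻¹ * φ a ^ (p1 : ℕ)) * φ b ^ (p2 : ℕ) by group]
          rw [hcomm _ ((φ a ^ (q1 : ℕ))⁻¹ * φ a ^ (p1 : ℕ)), inv_mul_cancel_right]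
          exact mul_mem (inv_mem (pow_mem (mem_map_of_mem _ (subset_closure (by simp))) _))
            (pow_mem (mem_map_of_mem _ (subset_closure (by simp))) _)))
        refine ⟨z, a, hcover _ (mem_sup_left (subset_closure (by simp))) hbm
          (mem_sup_left (subset_closure (by simp))), ?_⟩
        rw [(hzc a).eq, mul_inv_cancel_right]
        exact mem_zpowers z
    · exfalso
      refine hab (hcover _ (mem_sup_left (subset_closure (by simp)))
        (mem_sup_left (subset_closure (by simp))) (hmem _ z (h01 _ h3 ?_)))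
      have hm : ∀ i j : ℕ, φ a ^ i * φ b ^ j ∈ (closure ({a, b} : Set G)).map φ := fun i j =>
        mul_mem (pow_mem (mem_map_of_mem _ (subset_closure (by simp))) _)
          (pow_mem (mem_map_of_mem _ (subset_closure (by simp))) _)
      have h4 : φ z ^ (q3 : ℕ) * (φ z ^ (p3 : ℕ))⁻¹ =
          (φ a ^ (q1 : ℕ) * φ b ^ (q2 : ℕ))⁻¹ * (φ a ^ (p1 : ℕ) * φ b ^ (p2 : ℕ)) := by
        rw [eq_inv_mul_iff_mul_eq, ← mul_assoc, ← hpq, mul_inv_cancel_right]
      rw [hcomm, h4]
      exact mul_mem (inv_mem (hm _ _)) (hm _ _)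

end CfsgLib.Invol.MetaTwo
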