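import Cfsg.Agent.Lib.Fusion.ZStarCenter
import Cfsg.Agent.Lib.Fusion.ThompsonComplement
import Cfsg.Agent.Lib.Coprime.Core
import Cfsg.Prelude.Def_CaseTheorems

/-!
# A closed subgroup of a Sylow 2-subgroup: `G = O(G) C(Z)`
-/

set_option autoImplicit false

namespace CfsgLib.Invol

open Subgroup

universe u

variable {G : Type u} [Group G] [Finite G]

/-- If the elements of `Z` are closed in `S` then `G` is the odd core times the centralizer of `Z`. -/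
theorem exists_core_mul_centralizer (S : Sylow 2 G) {Z : Subgroup G} (hZS : Z ≤ (S : Subgroup G))
    (hcl : ∀ ζ ∈ Z, ∀ g : G, g * ζ * g⁻¹ ∈ (S : Subgroup G) → g * ζ * g⁻¹ = ζ) (h : G) :
    ∃ o ∈ Cfsg.oddCore G, ∃ c ∈ centralizer (Z : Set G), h = o * c := by
  haveI : Fact (Nat.Prime 2) := ⟨Nat.prime_two⟩
  set O := Cfsg.pPrimeCore 2 G with hO
  have hd : ¬ 2 ∣ Nat.card O := CfsgLib.Coprime.pPrimeCore_not_dvd Nat.prime_two
  have hy : QuotientGroup.mk' O h ∈ centralizer (Z.map (QuotientGroup.mk' O) : Set (G ⧸ O)) := by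
    refine mem_centralizer_iff.2 ?_
    rintro _ ⟨ζ, hζ, rfl⟩
    rw [← map_mul, ← map_mul]
    refine QuotientGroup.eq.2 ?_
    have h1 := CfsgLib.Fusion.zcentral_of_closed_subgroup G S Z hZS hcl ζ hζ h
    have h2 := (inferInstance : O.Normal).conj_mem _ h1 (ζ * h)⁻¹
    rwa [show (ζ * h)⁻¹ * (h * ζ * h⁻¹ * ζ⁻¹) * (ζ * h)⁻¹⁻¹ = (ζ * h)⁻¹ * (h * ζ) by group] at h2
  obtain ⟨c, hc, he⟩ := CfsgLib.Fusion.centralizer_map_le O hd (S.2.to_le hZS) hy
  exact ⟨h * c⁻¹, by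
    rw [← QuotientGroup.eq_one_iff, ← QuotientGroup.mk'_apply, map_mul, map_inv, he,
      mul_inv_cancel], c, hc, by group⟩

/-- The odd core times a closed subgroup is normal. -/
theorem normal_core_sup (S : Sylow 2 G) {Z : Subgroup G} (hZS : Z ≤ (S : Subgroup G))
    (hcl : ∀ ζ ∈ Z, ∀ g : G, g * ζ * g⁻¹ ∈ (S : Subgroup G) → g * ζ * g⁻¹ = ζ) :
    (Cfsg.oddCore G ⊔ Z).Normal := by
  refine ⟨fun u hu g => ?_⟩
  suffices key : Cfsg.oddCore G ⊔ Z ≤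
      (Cfsg.oddCore G ⊔ Z).comap (MulAut.conj g).toMonoidHom from key hu
  refine sup_le (fun o ho => Subgroup.mem_sup_left
    ((inferInstance : (Cfsg.pPrimeCore 2 G).Normal).conj_mem o ho g)) fun ζ hζ => ?_
  show g * ζ * g⁻¹ ∈ Cfsg.oddCore G ⊔ Z
  rw [show g * ζ * g⁻¹ = g * ζ * g⁻¹ * ζ⁻¹ * ζ by group]
  exact mul_mem (Subgroup.mem_sup_left
      (CfsgLib.Fusion.zcentral_of_closed_subgroup G S Z hZS hcl ζ hζ g))
    (Subgroup.mem_sup_right hζ)

end CfsgLib.Invol
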