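import Cfsg.Agent.Lib.Invol.WreathedCenter
import Cfsg.Agent.Lib.Invol.QDFusion
import Cfsg.Agent.Lib.Invol.CentralCore
import Cfsg.Prelude.Def_TwoFusion

/-!
# The centre of a quasidihedral or wreathed Sylow 2-subgroup modulo the odd core
-/

set_option autoImplicit false

namespace CfsgLib.Invol

open Subgroup CfsgLib.Fusion

variable {G : Type*} [Group G] [Finite G]

namespace QDFrame

variable {S : Sylow 2 G} {h : ℤ} {a b : (S : Subgroup G)}

theorem centerImg_cases (Q : QDFrame h a b) {ζ : G} (hζ : ζ ∈ centerG S) :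
    ζ = 1 ∨ ζ = rotG a (2 * h) := by
  rw [centerG, Q.center_eq, MonoidHom.map_zpowers] at hζ
  obtain ⟨k, rfl⟩ := mem_zpowers_iff.1 hζ
  have h2 := invol_mul_self Q.orderOf_centerG
  change rotG a (2 * h) ^ k = 1 ∨ rotG a (2 * h) ^ k = rotG a (2 * h)
  rcases Int.even_or_odd' k with ⟨l, rfl | rfl⟩
  · left; rw [zpow_mul, zpow_two, h2, one_zpow]
  · right; rw [zpow_add, zpow_mul, zpow_two, h2, one_zpow, one_mul, zpow_one]

theorem rotG_mem_centerImg (Q : QDFrame h a b) : rotG a (2 * h) ∈ centerG S := by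
  rw [centerG, Q.center_eq, MonoidHom.map_zpowers]
  exact mem_zpowers _

/-- An isolated involution of a quasidihedral `S` is central. -/
theorem isolated_eq (Q : QDFrame h a b) {t : G} (htS : t ∈ (S : Subgroup G))
    (ht : Cfsg.IsIsolatedInvolution t) : t = rotG a (2 * h) := by
  rcases Q.invol_casesG htS ht.1 with e | ⟨i, hi, rfl⟩
  · exact e
  exfalso
  obtain ⟨u, hu⟩ := Q.even
  have e1 : rotG a h * refG a b i * (rotG a h)⁻¹ = refG a b (i + 2 * h) := by
    rw [Q.rotG_conj_refG]
    exact Q.refG_eq_iff.2 ⟨u, by rw [hu]; ring⟩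
  have hc : Commute (refG a b i) (refG a b (i + 2 * h)) := by
    rw [add_comm, refG_eq]
    exact Commute.mul_right (Q.commute_center (refG_mem a b i)) (Commute.refl _)
  have h2 := Q.refG_eq_iff.1 (e1.symm.trans (ht.2 (rotG a h) (by rw [e1]; exact hc)))
  rw [show i - (i + 2 * h) = -(2 * h) by ring, dvd_neg] at h2
  have := Q.two_le
  have := Int.le_of_dvd (by omega) h2
  omega

end QDFrame

/-- With weakly closed subgroups of the centre, the centre is closed. -/
theorem center_closed_of_weaklyClosed (S : Sylow 2 G)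
    (hS : Cfsg.IsQuasiDihedral (S : Subgroup G) ∨ Cfsg.IsWreathed (S : Subgroup G))
    (hw : ∀ Z₀ : Subgroup G, Z₀ ≤ centerG S → Cfsg.IsWeaklyClosed Z₀ (S : Subgroup G)) :
    ∀ ζ ∈ centerG S, ∀ g : G, g * ζ * g⁻¹ ∈ (S : Subgroup G) → g * ζ * g⁻¹ = ζ := by
  rcases hS with hS | hS
  · obtain ⟨k, a, b, -, -, Q⟩ := exists_qdFrame hS
    intro ζ hζ g hg
    rcases Q.centerImg_cases hζ with rfl | rfl
    · group
    have h1 := (hw _ le_rfl).2 g (by
      rintro _ ⟨u, hu, rfl⟩
      rcases Q.centerImg_cases hu with rfl | rfl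
      · simp
      · exact hg)
    have h2 : g * rotG a (2 * 2 ^ (k - 2)) * g⁻¹ ∈ centerG S := by
      rw [← h1]; exact conj_mem_conjBy Q.rotG_mem_centerImg
    rcases Q.centerImg_cases h2 with e | e
    · exact absurd (conj_eq_one_iff.1 e) (invol_ne_one Q.orderOf_centerG)
    · exact e
  · obtain ⟨m, x, y, z, N, W⟩ := exists_wrSylow hS
    intro ζ hζ g hg
    exact W.center_closed (W.not_fusedA_of_weaklyClosed
      (hw _ (zpowers_le.2 W.tW_mem_centerG))) hζ hg

/-- An isolated involution makes the centre closed. -/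
theorem center_closed_of_isolated (S : Sylow 2 G)
    (hS : Cfsg.IsQuasiDihedral (S : Subgroup G) ∨ Cfsg.IsWreathed (S : Subgroup G)) {t : G}
    (htS : t ∈ (S : Subgroup G)) (ht : Cfsg.IsIsolatedInvolution t) :
    ∀ ζ ∈ centerG S, ∀ g : G, g * ζ * g⁻¹ ∈ (S : Subgroup G) → g * ζ * g⁻¹ = ζ := by
  rcases hS with hS | hS
  · obtain ⟨k, a, b, -, -, Q⟩ := exists_qdFrame hS
    intro ζ hζ g hg
    rcases Q.centerImg_cases hζ with rfl | rfl
    · group
    · rw [← Q.isolated_eq htS ht] at hg ⊢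
      exact ht.2 g (by
        have := Q.commute_center hg
        rw [← Q.isolated_eq htS ht] at this
        exact Commute.symm this)
  · obtain ⟨m, x, y, z, N, W⟩ := exists_wrSylow hS
    have F := W.frame
    have hnc : ∀ g : G, Commute t (g * t * g⁻¹) → g * t * g⁻¹ ≠ t → False := fun g h1 h2 =>
      h2 (ht.2 g h1)
    have htt : t = rotW x y m m := by
      rcases F.invol_casesW htS ht.1 with e | e | e | ⟨i, j, hij, e⟩
      · exact e
      · exfalso
        refine hnc (outW x y z 0 0) ?_ ?_ <;> rw [e, F.outW_conj_rotW]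
        · exact F.baseG_comm W.eW_mem (F.mem_baseG.2 ⟨0, m, rfl⟩)
        · exact F.eW_ne_eW'.symm
      · exfalso
        refine hnc (outW x y z 0 0) ?_ ?_ <;> rw [e, F.outW_conj_rotW]
        · exact F.baseG_comm (F.mem_baseG.2 ⟨0, m, rfl⟩) W.eW_mem
        · exact F.eW_ne_eW'
      · exfalso
        refine hnc (rotW x y m 0) ?_ ?_ <;> rw [e, F.rotW_conj_outW]
        · exact F.outW_commute_outW_iff.2 ⟨-1, by ring⟩
        · intro e'
          refine F.not_dvd_half ?_
          have := (F.outW_eq_iff.1 e').1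
          rwa [show i + m - 0 - i = m by ring] at this
    intro ζ hζ g hg
    refine W.center_closed (fun hf => ?_) hζ hg
    obtain ⟨c, hc⟩ := isConj_iff.1 hf.symm
    rw [← htt] at hc
    refine hnc c ?_ ?_ <;> rw [hc]
    · rw [htt]; exact F.baseG_comm W.tW_mem W.eW_mem
    · rw [htt]; exact F.eW_ne_tW

end CfsgLib.Invol
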