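import Cfsg.Agent.Lib.Invol.WreathedTransfer
import Cfsg.Agent.Lib.Invol.CentralRows

/-!
# Involution centralisers in groups with quasidihedral or wreathed Sylow 2-subgroups
-/

set_option autoImplicit false
set_option linter.style.haveILetI false

namespace CfsgLib.Invol

open Subgroup CfsgLib.Fusion

/-- A normal subgroup of 2-power index above one gives a subgroup of index two. -/
theorem exists_index_two_of_two_pow_index {G : Type*} [Group G] [Finite G] (K : Subgroup G)
    [K.Normal] {k : ℕ} (hK : K.index = 2 ^ (k + 1)) : ∃ H : Subgroup G, H.index = 2 := by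
  haveI : Fact (Nat.Prime 2) := ⟨Nat.prime_two⟩
  have hc : Nat.card (G ⧸ K) = 2 ^ (k + 1) := by rw [← Subgroup.index_eq_card, hK]
  obtain ⟨L, hL⟩ := Sylow.exists_subgroup_card_pow_prime 2 (n := k) (G := G ⧸ K)
    (hc ▸ pow_dvd_pow 2 k.le_succ)
  refine ⟨L.comap (QuotientGroup.mk' K), ?_⟩
  rw [Subgroup.index_comap_of_surjective L (QuotientGroup.mk'_surjective K)]
  have h1 := L.card_mul_index
  rw [hL, hc, pow_succ] at h1
  exact Nat.eq_of_mul_eq_mul_left (Nat.two_pow_pos k) h1

theorem isWreathed_congr {A B : Type*} [Group A] [Group B] (e : A ≃* B) (h : Cfsg.IsWreathed A) :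
    Cfsg.IsWreathed B := by
  obtain ⟨n, hn, hc, x, y, z, hx, hxy, hd, hz, hzx⟩ := h
  refine ⟨n, hn, (Nat.card_congr e.symm.toEquiv).trans hc, e x, e y, e z,
    (e.orderOf_eq x).trans hx, by rw [← map_mul, hxy, map_mul], ?_, (e.orderOf_eq z).trans hz,
    by rw [← hzx, map_mul, map_mul, map_inv]⟩
  show zpowers (e.toMonoidHom x) ⊓ zpowers (e.toMonoidHom y) = ⊥
  rw [← MonoidHom.map_zpowers, ← MonoidHom.map_zpowers, ← Subgroup.map_inf _ _ _ e.injective, hd,
    Subgroup.map_bot]

theorem isQuasiDihedral_congr {A B : Type*} [Group A] [Group B] (e : A ≃* B)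
    (h : Cfsg.IsQuasiDihedral A) : Cfsg.IsQuasiDihedral B := by
  obtain ⟨n, hn, hc, x, y, hx, hy, hxy⟩ := h
  exact ⟨n, hn, (Nat.card_congr e.symm.toEquiv).trans hc, e x, e y, (e.orderOf_eq x).trans hx,
    (e.orderOf_eq y).trans hy, by rw [← map_inv, ← map_mul, ← map_mul, hxy, map_pow]⟩

theorem WrFrame.map_equiv {A B : Type*} [Group A] [Group B] (e : A ≃* B) {m : ℤ} {x y z : A}
    (W : WrFrame m x y z) : WrFrame m (e x) (e y) (e z) where
  comm := by rw [← map_mul, W.comm, map_mul]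
  invol := by rw [← map_mul, W.invol, map_one]
  swap := by rw [← map_inv, ← map_mul, ← map_mul, W.swap]
  eq_one i j := by rw [← map_zpow, ← map_zpow, ← map_mul, EmbeddingLike.map_eq_one_iff, W.eq_one]
  exists_eq g := by
    obtain ⟨i, j, h | h⟩ := W.exists_eq (e.symm g)
    · exact ⟨i, j, Or.inl (by
        rw [← map_zpow, ← map_zpow, ← map_mul, ← h, MulEquiv.apply_symm_apply])⟩
    · exact ⟨i, j, Or.inr (by
        rw [← map_zpow, ← map_zpow, ← map_mul, ← map_mul, ← h, MulEquiv.apply_symm_apply])⟩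
  notMem i j := by
    rw [← map_zpow, ← map_zpow, ← map_mul]
    exact fun h => W.notMem i j (e.injective h)
  even := W.even
  two_le := W.two_le

variable {G : Type*} [Group G] [Finite G]

/-- Without subgroups of index two there is fusion in the base and outside it. -/
theorem WrSylow.fused_of_no_index_two {S : Sylow 2 G} {m : ℤ} {x y z : (S : Subgroup G)} {N : ℕ}
    (W : WrSylow S m x y z N) (hG : ∀ H : Subgroup G, H.index ≠ 2) : W.FusedA ∧ W.FusedW := by
  obtain ⟨n, hn, hN⟩ := W.two_pow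
  have hA : W.FusedA := by
    by_contra hA
    by_cases hW : W.FusedW
    · obtain ⟨K, hK1, hK2, -⟩ := W.quaternion_case hA hW
      haveI := hK1
      obtain ⟨H, hH⟩ := exists_index_two_of_two_pow_index K (k := n - 1)
        (by rw [hK2, hN, Nat.sub_add_cancel (by omega)])
      exact hG H hH
    · obtain ⟨P, K, hK1, hc⟩ := W.nilpotent_case hA hW
      haveI := hK1
      obtain ⟨H, hH⟩ := exists_index_two_of_two_pow_index K (k := 2 * n) (by
        rw [hc.symm.index_eq_card, Nat.card_congr (Sylow.equiv P S).toEquiv, W.card_eq, hN,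
          ← pow_add, ← pow_succ', two_mul])
      exact hG H hH
  refine ⟨hA, ?_⟩
  by_contra hW
  obtain ⟨K, -, hK, -⟩ := W.abelian_case hA hW
  exact hG K hK

/-- A Sylow 2-subgroup centralised by a given involution, when all involutions are conjugate. -/
theorem exists_sylow_central (S : Sylow 2 G) {t x : G}
    (ht : ∀ s ∈ (S : Subgroup G), Commute s t) (htS : t ∈ (S : Subgroup G)) (h : IsConj t x) :
    ∃ g : G, g * t * g⁻¹ = x ∧ x ∈ ((g • S : Sylow 2 G) : Subgroup G) ∧
      ((g • S : Sylow 2 G) : Subgroup G) ≤ centralizer ({x} : Set G) := by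
  obtain ⟨g, hg⟩ := isConj_iff.1 h
  refine ⟨g, hg, ?_, ?_⟩
  · rw [Sylow.coe_subgroup_smul, ← hg]
    exact ⟨t, htS, rfl⟩
  · rw [Sylow.coe_subgroup_smul]
    rintro _ ⟨s, hs, rfl⟩
    refine mem_centralizer_singleton_iff.2 ?_
    rw [← hg]
    exact (commute_conj (ht s hs) g).eq

/-- The centraliser of an involution is a Q-group. -/
theorem qGroup_centralizer (S : Sylow 2 G)
    (hS : Cfsg.IsQuasiDihedral (S : Subgroup G) ∨ Cfsg.IsWreathed (S : Subgroup G))
    (hG : ∀ H : Subgroup G, H.index ≠ 2) (x : G) (hx : orderOf x = 2) :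
    ∃ R : Sylow 2 ↥(centralizer ({x} : Set G)), Nat.card R = Nat.card S ∧
      (∃ K : Subgroup ↥(centralizer ({x} : Set G)), K.Normal ∧ (∃ a : ℕ, K.index = 2 ^ a) ∧
        (∀ H : Subgroup ↥K, H.index ≠ 2) ∧
        ∀ P : Sylow 2 ↥K, ∃ m : ℕ, 1 ≤ m ∧ Nonempty ((P : Subgroup ↥K) ≃* QuaternionGroup (2 ^ m))) ∧
      ∀ Z₀ : Subgroup ↥(centralizer ({x} : Set G)), Z₀ ≤ centerG R →
        Cfsg.IsWeaklyClosed Z₀ (R : Subgroup ↥(centralizer ({x} : Set G))) := by
  haveI : Fact (Nat.Prime 2) := ⟨Nat.prime_two⟩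
  rcases hS with hS | hS
  · obtain ⟨k, a, b, -, -, Q⟩ := exists_qdFrame hS
    have h2 : FusedTwo a b ((2 : ℤ) ^ (k - 2)) := by
      by_contra h
      obtain ⟨H, hH, -⟩ := Q.exists_index_two_two h
      exact hG H hH
    have h4 : FusedFour a b ((2 : ℤ) ^ (k - 2)) := by
      by_contra h
      obtain ⟨H, hH, -⟩ := Q.exists_index_two_four h
      exact hG H hH
    have hcl : IsConj (rotG a (2 * 2 ^ (k - 2))) x := by
      rcases Q.invol_conj_cases hx with h | h
      · exact h.symm
      · exact (h.trans (Q.fusedTwo_iff.1 h2)).symm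
    obtain ⟨g, -, hxS', hS'C⟩ :=
      exists_sylow_central S (fun s hs => Q.commute_center hs) (rotG_mem a _) hcl
    set S' : Sylow 2 G := g • S
    set R := S'.subtype hS'C with hR
    have eR : (R : Subgroup ↥(centralizer ({x} : Set G))) ≃* (S : Subgroup G) :=
      (subgroupOfEquivOfLe hS'C).trans (Sylow.equiv S' S)
    obtain ⟨k', a', b', -, -, Q'⟩ := exists_qdFrame (isQuasiDihedral_congr eR.symm hS)
    set h' := (2 : ℤ) ^ (k' - 2)
    have hxR : (⟨x, mem_centralizer_singleton_iff.2 rfl⟩ : centralizer ({x} : Set G)) ∈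
        centerG R :=
      ⟨⟨⟨x, mem_centralizer_singleton_iff.2 rfl⟩, mem_subgroupOf.2 hxS'⟩,
        mem_center_iff.2 fun s => Subtype.ext (Subtype.ext
          (mem_centralizer_singleton_iff.1 (hS'C (mem_subgroupOf.1 s.2)))), rfl⟩
    have hxz : ((rotG a' (2 * h') : centralizer ({x} : Set G)) : G) = x := by
      rcases Q'.centerImg_cases hxR with e | e
      · exact absurd (congrArg Subtype.val e) (invol_ne_one hx)
      · exact (congrArg Subtype.val e).symm
    have h2' : ¬ FusedTwo a' b' h' := fun hf => by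
      obtain ⟨c, hc⟩ := isConj_iff.1 (Q'.fusedTwo_iff.1 hf)
      refine Q'.rotG_ne_refG (2 * h') 0 (Subtype.ext ?_)
      have h1 := congrArg Subtype.val hc
      push_cast at h1
      rw [hxz] at h1 ⊢
      have h3 := mem_centralizer_singleton_iff.1 (inv_mem c.2)
      calc x = (c : G)⁻¹ * x * (c : G)⁻¹⁻¹ := (mul_inv_eq_iff_eq_mul.2 h3).symm
        _ = (c : G)⁻¹ * ((c : G) * _ * (c : G)⁻¹) * (c : G)⁻¹⁻¹ := by rw [h1]
        _ = _ := by group
    have h4' : FusedFour a' b' h' := by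
      have ho1 : orderOf ((rotG a' h' : centralizer ({x} : Set G)) : G) = 4 := by
        rw [Subgroup.orderOf_coe]; exact Q'.orderOf_quarterG
      have ho2 : orderOf ((refG a' b' 1 : centralizer ({x} : Set G)) : G) = 4 := by
        rw [Subgroup.orderOf_coe]; exact Q'.orderOf_refG_odd (by norm_num)
      have hone : ∀ t : G, orderOf t = 4 → IsConj t (rotG a ((2 : ℤ) ^ (k - 2))) := fun t ht =>
        (Q.four_conj_cases ht).elim id fun e => e.trans (Q.fusedFour_iff.1 h4)
      obtain ⟨c, hc⟩ := isConj_iff.1 ((hone _ ho2).trans (hone _ ho1).symm)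
      have e1 : ((rotG a' h' : centralizer ({x} : Set G)) : G) * (rotG a' h' : centralizer ({x} : Set G)) = x := by
        exact (congrArg Subtype.val (QDFrame.sq_quarter (a := a') (h := h'))).trans hxz
      have e2 : ((refG a' b' 1 : centralizer ({x} : Set G)) : G) * (refG a' b' 1 : centralizer ({x} : Set G)) = x := by
        exact (congrArg Subtype.val (Q'.sq_refG_odd (by norm_num))).trans hxz
      have hcx : c * x * c⁻¹ = x := by
        refine ((congrArg (fun t => c * t * c⁻¹) e2.symm).trans ?_).trans e1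
        show c * (_ * _) * c⁻¹ = _
        rw [← hc]; group
      exact Q'.fusedFour_iff.2 (isConj_iff.2
        ⟨⟨c, mem_centralizer_singleton_iff.2 (mul_inv_eq_iff_eq_mul.1 hcx)⟩, Subtype.ext hc⟩)
    obtain ⟨K, hK1, hK2, hK3, hK4⟩ := Q'.quaternion_case h2' h4'
    refine ⟨R, Nat.card_congr eR.toEquiv, ⟨K, hK1, ⟨1, hK2⟩, hK4, hK3⟩, fun Z₀ hZ => ?_⟩
    refine ⟨hZ.trans (map_subtype_le _), fun c hc => ?_⟩
    have key : ∀ ζ ∈ Z₀, c * ζ * c⁻¹ = ζ := fun ζ hζ => by
      rcases Q'.centerImg_cases (hZ hζ) with rfl | rfl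
      · group
      · refine mul_inv_eq_iff_eq_mul.2 (Subtype.ext ?_)
        push_cast
        rw [hxz]
        exact mem_centralizer_singleton_iff.1 c.2
    ext u
    constructor
    · rintro ⟨v, hv, rfl⟩
      show c * v * c⁻¹ ∈ Z₀
      rw [key v hv]; exact hv
    · intro hu
      exact ⟨u, hu, key u hu⟩
  · obtain ⟨m, x₀, y₀, z₀, N, W₀⟩ := exists_wrSylow hS
    obtain ⟨hA₀, hW₀⟩ := W₀.fused_of_no_index_two hG
    have hcl : IsConj (rotW x₀ y₀ m m) x := by
      rcases W₀.invol_conj_cases hx with h | h | h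
      exacts [h.symm, (h.trans hA₀).symm, ((h.trans hW₀).trans hA₀).symm]
    obtain ⟨g, -, hxS', hS'C⟩ :=
      exists_sylow_central S (fun s hs => W₀.frame.commute_diag (by simp) hs) (rotW_mem x₀ y₀ m m) hcl
    set S' : Sylow 2 G := g • S
    obtain ⟨m', x', y', z', N', W⟩ := exists_wrSylow (S := S') (isWreathed_congr (Sylow.equiv S S') hS)
    obtain ⟨hA, hW⟩ := W.fused_of_no_index_two hG
    set R := S'.subtype hS'C with hR
    set e : (R : Subgroup ↥(centralizer ({x} : Set G))) ≃* (S' : Subgroup G) :=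
      subgroupOfEquivOfLe hS'C
    have hW' : WrSylow R m' (e.symm x') (e.symm y') (e.symm z') N' :=
      ⟨W.frame.map_equiv e.symm, W.hN, (Nat.card_congr e.toEquiv).trans W.card_eq, W.two_pow⟩
    have hcast : ∀ i j : ℤ, ((rotW (e.symm x') (e.symm y') i j : centralizer ({x} : Set G)) : G) =
        rotW x' y' i j := fun i j => by
      unfold rotW; rw [← map_zpow, ← map_zpow, ← map_mul]; rfl
    have hcastw : ((outW (e.symm x') (e.symm y') (e.symm z') 0 0 : centralizer ({x} : Set G)) : G) =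
        outW x' y' z' 0 0 := by
      unfold outW; rw [← map_zpow, ← map_zpow, ← map_mul, ← map_mul]; rfl
    have hxt : x = rotW x' y' m' m' := by
      have hxZ : x ∈ centerG S' := ⟨⟨x, hxS'⟩, mem_center_iff.2 fun s => Subtype.ext
        (mem_centralizer_singleton_iff.1 (hS'C s.2)), rfl⟩
      obtain ⟨r, hr⟩ := W.frame.mem_centerMap_iff.1 hxZ
      rcases W.eW_conj_cases (W.frame.mem_baseG.2 ⟨r, r, hr⟩) hx with h | h | h
      · exact h
      · have h1 := W.mem_centerG.1 (show rotW x' y' m' 0 ∈ centerG S' from h ▸ hxZ)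
        rw [sub_zero] at h1
        exact absurd h1 W.frame.not_dvd_half
      · have h1 := W.mem_centerG.1 (show rotW x' y' 0 m' ∈ centerG S' from h ▸ hxZ)
        rw [zero_sub, dvd_neg] at h1
        exact absurd h1 W.frame.not_dvd_half
    have hA' : ¬ hW'.FusedA := fun hf => by
      obtain ⟨c, hc⟩ := isConj_iff.1 hf
      have h1 := congrArg Subtype.val hc
      push_cast at h1
      rw [hcast, hcast, ← hxt] at h1
      refine W.frame.eW_ne_tW (Eq.trans ?_ hxt)
      have h3 := mem_centralizer_singleton_iff.1 (inv_mem c.2)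
      calc rotW x' y' m' 0 = (c : G)⁻¹ * ((c : G) * rotW x' y' m' 0 * (c : G)⁻¹) * (c : G)⁻¹⁻¹ := by group
        _ = (c : G)⁻¹ * x * (c : G)⁻¹⁻¹ := by rw [h1]
        _ = x := mul_inv_eq_iff_eq_mul.2 h3
    have hW'' : hW'.FusedW := by
      obtain ⟨c, hc, he⟩ := W.exists_central_conj W.eW_mem hW
      have hcx : c * x = x * c :=
        (mem_centralizer_iff.1 hc x (hxt ▸ W.tW_mem_centerG)).symm
      exact isConj_iff.2 ⟨⟨c, mem_centralizer_singleton_iff.2 hcx⟩,
        Subtype.ext (by push_cast; rw [hcastw, hcast]; exact he)⟩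
    obtain ⟨K, hK1, hK2, hK3, hK4⟩ := hW'.quaternion_case hA' hW''
    obtain ⟨n, -, hn⟩ := W.two_pow
    exact ⟨R, (Nat.card_congr e.toEquiv).trans (Nat.card_congr (Sylow.equiv S' S).toEquiv),
      ⟨K, hK1, ⟨n, hK2.trans hn⟩, hK4, hK3⟩, fun Z₀ hZ => hW'.weaklyClosed_of_le_center hA' hZ⟩

end CfsgLib.Invol
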