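import Cfsg.Agent.Lib.Invol.Basic
import Mathlib.GroupTheory.Perm.Cycle.Type

/-!
# 2-power automorphisms of abelian 2-groups
-/

namespace CfsgLib.Invol

theorem aut_eq_one_of_fixed_sq {A : Type*} [CommGroup A] [Finite A]
    (hA : IsPGroup 2 A) (t : MulAut A) (ht : ∃ k : ℕ, orderOf t = 2 ^ k)
    (hC : ∀ a : A, t (t a) = a → t a = a) : ∀ a : A, t a = a := by
  classical
  have hK2 : ∀ (j : ℕ) (a : A), t (t a / a) = t a / a → (t a / a) ^ 2 ^ j = 1 → t a = a := by
    intro j
    induction j with
    | zero =>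
      intro a _ h
      exact div_eq_one.1 (by simpa using h)
    | succ j ih =>
      intro a hfix h
      have hsq : (t (a ^ 2 ^ j) / a ^ 2 ^ j) = (t a / a) ^ 2 ^ j := by rw [map_pow, div_pow]
      have h2 : t (t (a ^ 2 ^ j)) = a ^ 2 ^ j := by
        set c := a ^ 2 ^ j with hc
        have hb : t (t c / c) = t c / c := by rw [hsq, map_pow, hfix]
        have hb2 : (t c / c) * (t c / c) = 1 := by rw [hsq, ← pow_add, ← mul_two, ← pow_succ]; exact h
        have e : t c = t c / c * c := (div_mul_cancel _ _).symm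
        calc t (t c) = t (t c / c) * t c := by rw [← map_mul, ← e]
          _ = (t c / c) * ((t c / c) * c) := by rw [hb, ← e]
          _ = c := by rw [← mul_assoc, hb2, one_mul]
      have h3 := hC _ h2
      refine ih a hfix ?_
      rw [← hsq, h3, div_self']
  have hK : ∀ a : A, t (t a / a) = t a / a → t a / a = 1 := by
    intro a ha
    obtain ⟨j, hj⟩ := hA (t a / a)
    rw [hK2 j a ha hj, div_self']
  let f : A →* A :=
    { toFun := fun a => t a / a
      map_one' := by simp
      map_mul' := fun a b => by rw [map_mul, mul_div_mul_comm] }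
  set I := f.range with hI
  have htI : ∀ x : A, x ∈ I → t x ∈ I := by
    rintro _ ⟨a, rfl⟩
    exact ⟨t a, by show t (t a) / t a = t (t a / a); rw [map_div]⟩
  suffices hbot : I = ⊥ by
    intro a
    have : f a ∈ I := ⟨a, rfl⟩
    rw [hbot, Subgroup.mem_bot] at this
    exact div_eq_one.1 this
  by_contra hne
  have := Fintype.ofFinite I
  have hdvd : 2 ∣ Fintype.card I := by
    rw [← Nat.card_eq_fintype_card]
    obtain ⟨k, hk⟩ := (hA.to_subgroup I).exists_card_eq
    rcases k with _ | k
    · exact absurd (Subgroup.eq_bot_of_card_eq I (by simpa using hk)) hne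
    · exact hk ▸ dvd_pow_self 2 (Nat.succ_ne_zero k)
  let g : I → I := fun x => ⟨t x, htI _ x.2⟩
  have hg : Function.Bijective g := Finite.injective_iff_bijective.1 fun x y h =>
    Subtype.ext (t.injective (congrArg Subtype.val h))
  let σ : Equiv.Perm I := Equiv.ofBijective g hg
  obtain ⟨k, hk⟩ := ht
  have hσ : σ ^ 2 ^ k = 1 := by
    ext x
    have hit : ∀ n : ℕ, ((σ ^ n) x : A) = (t ^ n) (x : A) := by
      intro n
      induction n with
      | zero => simp
      | succ n ih => rw [pow_succ', pow_succ', Equiv.Perm.mul_apply, MulAut.mul_apply, ← ih]; rfl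
    simp only [Equiv.Perm.one_apply]
    rw [hit, ← hk, pow_orderOf_eq_one]
    rfl
  obtain ⟨⟨b, a, ha⟩, hb1, hb2⟩ := Equiv.Perm.exists_fixed_point_of_prime' (p := 2) hdvd hσ
    (a := 1) (Subtype.ext (map_one t))
  have hb : t b = b := congrArg Subtype.val hb1
  subst ha
  exact hb2 (Subtype.ext (hK a hb))

end CfsgLib.Invol
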