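import Cfsg.Agent.Lib.Invol.TI
import Cfsg.Agent.Lib.Invol.AutTwoGroup

/-!
# Abelian TI 2-subgroups
-/

namespace CfsgLib.Invol

variable {G : Type*} [Group G] [Finite G]

theorem commutator_conj_eq_bot {A : Subgroup G} (hA2 : IsPGroup 2 A) (hAa : IsMulCommutative A)
    (hti : IsTI A) {g : G} (hg : A.map (MulAut.conj g).toMonoidHom ≠ A) {x : G} (hxA : x ∈ A)
    (hxN : x ∈ Subgroup.normalizer ((A.map (MulAut.conj g).toMonoidHom : Subgroup G) : Set G))
    (hx2 : x ^ 2 ≠ 1) : ⁅A, A.map (MulAut.conj g).toMonoidHom⁆ = ⊥ := by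
  classical
  have hBA : A.map (MulAut.conj g).toMonoidHom ⊓ A = ⊥ := (hti g).resolve_left hg
  generalize hB : A.map (MulAut.conj g).toMonoidHom = B at hBA hxN
  have hB2 : IsPGroup 2 B := hB ▸ hA2.map _
  have hBc : ∀ u ∈ B, ∀ v ∈ B, u * v = v * u := by
    intro u hu v hv
    rw [← hB] at hu hv
    obtain ⟨a, ha, rfl⟩ := hu
    obtain ⟨b, hb, rfl⟩ := hv
    rw [← map_mul, ← map_mul]
    exact congrArg _ (congrArg Subtype.val (hAa.is_comm.comm (⟨a, ha⟩ : A) ⟨b, hb⟩))
  letI : CommGroup B :=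
    { B.toGroup with mul_comm := fun u v => Subtype.ext (hBc u.1 u.2 v.1 v.2) }
  -- conjugation by `x` on `B`
  let φ : Subgroup.zpowers x →* MulAut B :=
    { toFun := fun y =>
        { toFun := fun b => ⟨y.1 * b.1 * y.1⁻¹,
            (Subgroup.mem_normalizer_iff.1 (Subgroup.zpowers_le.2 hxN y.2) b.1).1 b.2⟩
          invFun := fun b => ⟨y.1⁻¹ * b.1 * y.1, by
            have := (Subgroup.mem_normalizer_iff.1
              (Subgroup.inv_mem _ (Subgroup.zpowers_le.2 hxN y.2)) b.1).1 b.2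
            simpa using this⟩
          left_inv := fun b => Subtype.ext (by simp [mul_assoc])
          right_inv := fun b => Subtype.ext (by simp [mul_assoc])
          map_mul' := fun b c => Subtype.ext (by simp [mul_assoc]) }
      map_one' := by ext b; simp
      map_mul' := fun y z => by ext b; simp [mul_assoc] }
  have hxone : x ≠ 1 := fun h => hx2 (by rw [h, one_pow])
  set t := φ ⟨x, Subgroup.mem_zpowers x⟩ with ht
  have htord : ∃ k, orderOf t = 2 ^ k := by
    obtain ⟨k, hk⟩ := hA2 ⟨x, hxA⟩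
    have hk' : x ^ 2 ^ k = 1 := by simpa [Subtype.ext_iff] using hk
    obtain ⟨s, -, hs⟩ := (Nat.dvd_prime_pow Nat.prime_two).1
      (orderOf_dvd_of_pow_eq_one (x := t) (n := 2 ^ k) (by
        rw [ht, ← map_pow]
        convert map_one φ using 2
        exact Subtype.ext hk'))
    exact ⟨s, hs⟩
  have hC : ∀ b : B, t (t b) = b → t b = b := by
    intro b hb
    have h1 : x * (x * b.1 * x⁻¹) * x⁻¹ = b.1 := congrArg Subtype.val hb
    have hcomm : Commute b.1 (x ^ 2) := by
      show b.1 * x ^ 2 = x ^ 2 * b.1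
      nth_rewrite 1 [← h1]
      rw [pow_two]; group
    have hbN : b.1 ∈ Subgroup.normalizer (A : Set G) :=
      hti.of_commute (pow_mem hxA 2) hx2 hcomm
    have h2 : x * b.1 * x⁻¹ * b.1⁻¹ ∈ B ⊓ A := by
      refine ⟨mul_mem ((Subgroup.mem_normalizer_iff.1 hxN b.1).1 b.2) (B.inv_mem b.2), ?_⟩
      rw [show x * b.1 * x⁻¹ * b.1⁻¹ = x * (b.1 * x⁻¹ * b.1⁻¹) by group]
      exact mul_mem hxA ((Subgroup.mem_normalizer_iff.1 hbN x⁻¹).1 (inv_mem hxA))
    rw [hBA, Subgroup.mem_bot, mul_inv_eq_one] at h2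
    exact Subtype.ext h2
  have htriv := aut_eq_one_of_fixed_sq hB2 t htord hC
  have hNA : B ≤ Subgroup.normalizer (A : Set G) := fun b hb =>
    hti.of_commute hxA hxone (by
      have h1 : x * b * x⁻¹ = b := congrArg Subtype.val (htriv ⟨b, hb⟩)
      exact (mul_inv_eq_iff_eq_mul.1 h1).symm)
  subst hB
  rw [Subgroup.commutator_eq_bot_iff_le_centralizer]
  intro a ha
  rw [Subgroup.mem_centralizer_iff]
  intro b hb
  exact ((hti.conj g).commutator_eq_bot (le_of_eq (card_conj_map A g).symm)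
    (by rw [inf_comm]; exact hBA) hNA a ha b hb).symm.eq

end CfsgLib.Invol
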