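import Cfsg.Agent.Lib.Invol.TwoClasses
import Mathlib.GroupTheory.SpecificGroups.Alternating
import Mathlib.GroupTheory.PGroup

/-!
# Counting for the involution pattern of the Hall–Janko group
-/

set_option autoImplicit false

namespace CfsgLib.Invol.HallJanko

open Subgroup

theorem alt_five_invol :
    Fintype.card {x : alternatingGroup (Fin 5) // x * x = 1 ∧ x ≠ 1} = 15 := by decide +kernel

theorem alt_five_invol_commute : ∀ a : alternatingGroup (Fin 5), a * a = 1 → a ≠ 1 →
    Fintype.card {x : alternatingGroup (Fin 5) // x * x = 1 ∧ x ≠ 1 ∧ x * a = a * x} = 3 := by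
  decide +kernel

theorem alt_five_odd_pairs :
    Fintype.card {p : alternatingGroup (Fin 5) × alternatingGroup (Fin 5) //
      p.1 * p.1 = 1 ∧ p.1 ≠ 1 ∧ p.2 * p.2 = 1 ∧ (p.1 * p.2) ^ 15 = 1} = 195 := by decide +kernel

theorem alt_five_exponent : ∀ x : alternatingGroup (Fin 5), x ^ 30 = 1 := by decide +kernel

theorem alt_five_odd : ∀ x : alternatingGroup (Fin 5), x * x = 1 → x ^ 15 = 1 → x = 1 := by
  decide +kernel

theorem five_inverse : ∀ k < (5 : ℕ), 0 < k → ∃ i < (5 : ℕ), k * i % 5 = 1 := by decide

theorem card_alt_five : Nat.card (alternatingGroup (Fin 5)) = 60 := by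
  rw [Nat.card_eq_fintype_card]; decide +kernel

variable {G : Type*} [Group G] [Finite G]

/-- Pairs with an invariant relation, counted through the first coordinate. -/
theorem card_pairs_rel (z : G) (R : G → G → Prop)
    (hR : ∀ g a b, R a b ↔ R (g * a * g⁻¹) (g * b * g⁻¹)) :
    Nat.card {p : G × G // IsConj z p.1 ∧ R p.1 p.2} =
      Nat.card {x : G // IsConj z x} * Nat.card {y : G // R z y} := by
  classical
  rw [← Nat.card_prod]
  have hg : ∀ x : {x : G // IsConj z x}, ∃ g : G, g * z * g⁻¹ = x.1 := fun x => isConj_iff.1 x.2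
  choose g hg using hg
  refine Nat.card_congr
    { toFun := fun p => (⟨p.1.1, p.2.1⟩,
        ⟨(g ⟨p.1.1, p.2.1⟩)⁻¹ * p.1.2 * (g ⟨p.1.1, p.2.1⟩)⁻¹⁻¹, ?_⟩)
      invFun := fun q => ⟨(q.1.1, g q.1 * q.2.1 * (g q.1)⁻¹), q.1.2, ?_⟩
      left_inv := fun p => Subtype.ext (Prod.ext rfl ?_)
      right_inv := fun q => Prod.ext rfl (Subtype.ext ?_) }
  · have h := (hR (g ⟨p.1.1, p.2.1⟩)⁻¹ _ _).1 p.2.2
    have h2 : (g ⟨p.1.1, p.2.1⟩)⁻¹ * p.1.1 * (g ⟨p.1.1, p.2.1⟩)⁻¹⁻¹ = z := by
      have h3 := hg ⟨p.1.1, p.2.1⟩
      calc (g ⟨p.1.1, p.2.1⟩)⁻¹ * p.1.1 * (g ⟨p.1.1, p.2.1⟩)⁻¹⁻¹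
          = (g ⟨p.1.1, p.2.1⟩)⁻¹ * (g ⟨p.1.1, p.2.1⟩ * z * (g ⟨p.1.1, p.2.1⟩)⁻¹) *
              (g ⟨p.1.1, p.2.1⟩)⁻¹⁻¹ := by rw [h3]
        _ = z := by group
    rwa [h2] at h
  · have h := (hR (g q.1) _ _).1 q.2.2
    rwa [hg] at h
  · simp [mul_assoc]
  · simp [mul_assoc]

omit [Finite G] in
theorem comm_square {u v : G} (hu : u * u = 1) (hv : v * v = 1) :
    (u * v) ^ 2 = u * (v * u * v⁻¹) := by
  rw [inv_eq_of_mul_eq_one_right hv, pow_two]; group

section extraspecial

variable {Q : Subgroup G} {z : G} (hQ : Nat.card Q = 32) (hzQ : z ∈ Q) (hz1 : z ≠ 1) (hzz : z * z = 1)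
  (hle : ∀ a ∈ Q, a * z = z * a)
  (hcomm : ∀ a ∈ Q, ∀ b ∈ Q, a * b = b * a ∨ a * b = z * (b * a))
  (hsq : ∀ a ∈ Q, a * a = 1 ∨ a * a = z)
  (hcen : ∀ a ∈ Q, (∀ b ∈ Q, a * b = b * a) → a = 1 ∨ a = z)
include hQ hzQ hz1 hzz hle hcomm hsq hcen

open Classical in
/-- An extraspecial group of order 32 has 11 or 19 involutions. -/
theorem card_invol_or :
    Nat.card {a : G // a ∈ Q ∧ a * a = 1 ∧ a ≠ 1} = 11 ∨
      Nat.card {a : G // a ∈ Q ∧ a * a = 1 ∧ a ≠ 1} = 19 := by
  letI := Fintype.ofFinite Q
  let ε : Q → ℤ := fun a => if (a : G) * a = 1 then 1 else -1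
  let χ : Q → Q → ℤ := fun a b => if (a : G) * b = b * a then 1 else -1
  have hsqc : ∀ a b : Q, ε a * ε (a * b) = ε b * χ a b := by
    intro a b
    have hne : ∀ c : Q, ¬ (c : G) * c = 1 → (c : G) * c = z := fun c h => (hsq c c.2).resolve_left h
    have hzc : ∀ w : G, z * w = w ↔ False := fun w => ⟨fun h => hz1 (mul_eq_right.1 h), False.elim⟩
    have hab : ((a * b : Q) : G) * (a * b : Q) =
        (if (a : G) * b = b * a then 1 else z) * ((a : G) * a * ((b : G) * b)) := by
      split_ifs with h
      · show (a : G) * b * (a * b) = _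
        rw [one_mul, mul_assoc, ← mul_assoc (b : G) a b, ← h]; group
      · have h' : (b : G) * a = z * (a * b) :=
          ((hcomm b b.2 a a.2).resolve_left fun e => h e.symm)
        show (a : G) * b * (a * b) = _
        calc (a : G) * b * (a * b) = a * (b * a) * b := by group
          _ = a * (z * (a * b)) * b := by rw [h']
          _ = (a * z) * ((a : G) * b * b) := by group
          _ = _ := by rw [hle a a.2]; group
    simp only [ε, χ]
    rw [hab]
    by_cases ha : (a : G) * a = 1 <;> by_cases hb : (b : G) * b = 1 <;>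
      by_cases hc : (a : G) * b = b * a <;>
      simp [ha, hb, hc, hne, hzz, hz1]
  have hsum : (∑ a : Q, ε a) * (∑ b : Q, ε b) = 64 := by
    rw [Finset.sum_mul_sum]
    have h1 : ∀ a : Q, ∑ b : Q, ε a * ε b = ∑ b : Q, ε b * χ a b := fun a => by
      rw [← Finset.sum_congr rfl fun b _ => hsqc a b]
      exact (Equiv.sum_comp (Equiv.mulLeft a) fun b => ε a * ε b).symm
    rw [Finset.sum_congr rfl fun a _ => h1 a, Finset.sum_comm]
    simp_rw [← Finset.mul_sum]
    -- character sums
    have hχ : ∀ b : Q, (∑ a : Q, χ a b) = if (b : G) = 1 ∨ (b : G) = z then 32 else 0 := by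
      intro b
      split_ifs with hb
      · have : ∀ a : Q, χ a b = 1 := fun a => by
          rcases hb with hb | hb <;> simp [χ, hb, hle a a.2]
        rw [Finset.sum_congr rfl fun a _ => this a, Finset.sum_const, Finset.card_univ,
          ← Nat.card_eq_fintype_card, hQ]
        rfl
      · obtain ⟨c, hc, hcb⟩ : ∃ c ∈ Q, (b : G) * c ≠ c * b := by
          by_contra hno
          push Not at hno
          exact hb (hcen b b.2 hno)
        have hflip : ∀ a : Q, χ (⟨c, hc⟩ * a) b = -χ a b := by
          intro a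
          have hcb' : (b : G) * c = z * (c * b) := (hcomm b b.2 c hc).resolve_left hcb
          have key : ((⟨c, hc⟩ * a : Q) : G) * b = b * (⟨c, hc⟩ * a : Q) ↔ ¬ (a : G) * b = b * a := by
            show c * (a : G) * b = b * (c * a) ↔ _
            rw [← mul_assoc (b : G) c a, hcb']
            rcases hcomm a a.2 b b.2 with h | h
            · simp only [h, not_true_eq_false, iff_false]
              intro e
              refine hz1 ?_
              have e' : c * ((b : G) * a) = z * (c * ((b : G) * a)) := by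
                calc c * ((b : G) * a) = c * (a : G) * b := by rw [mul_assoc, h]
                  _ = z * (c * b) * a := e
                  _ = _ := by group
              exact mul_eq_right.1 e'.symm
            · have hne : ¬ (a : G) * b = b * a := fun h' => hz1 (by
                rw [h'] at h; exact mul_eq_right.1 h.symm)
              simp only [hne, not_false_iff, iff_true]
              rw [mul_assoc, h, ← mul_assoc c, hle c hc]; group
          simp only [χ, key]
          by_cases ha : (a : G) * b = b * a <;> simp [ha]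
        have h2 : (∑ a : Q, χ (⟨c, hc⟩ * a) b) = ∑ a : Q, χ a b :=
          Equiv.sum_comp (Equiv.mulLeft (⟨c, hc⟩ : Q)) fun a => χ a b
        rw [Finset.sum_congr rfl fun a _ => hflip a, Finset.sum_neg_distrib] at h2
        omega
    simp_rw [hχ, mul_ite, mul_zero]
    rw [Finset.sum_ite, Finset.sum_const_zero, add_zero]
    have hset : (Finset.univ.filter fun b : Q => (b : G) = 1 ∨ (b : G) = z) = {1, ⟨z, hzQ⟩} := by
      ext b
      simp only [Finset.mem_filter, Finset.mem_univ, true_and, Finset.mem_insert, Finset.mem_singleton,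
        Subtype.ext_iff, OneMemClass.coe_one]
    rw [hset, Finset.sum_pair (fun h => hz1 (congrArg Subtype.val h).symm)]
    simp [ε, hzz]
  have hval : (∑ a : Q, ε a) = 2 * ((Finset.univ.filter fun a : Q => (a : G) * a = 1).card : ℤ) - 32 := by
    simp only [ε]
    rw [Finset.sum_ite, Finset.sum_const, Finset.sum_const]
    have := Finset.card_filter_add_card_filter_not (s := (Finset.univ : Finset Q)) (fun a : Q => (a : G) * a = 1)
    rw [Finset.card_univ, ← Nat.card_eq_fintype_card, hQ] at this
    simp only [nsmul_eq_mul, mul_one, mul_neg]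
    omega
  have hcount : (Finset.univ.filter fun a : Q => (a : G) * a = 1).card =
      Nat.card {a : G // a ∈ Q ∧ a * a = 1 ∧ a ≠ 1} + 1 := by
    have e : Nat.card {a : G // a ∈ Q ∧ a * a = 1 ∧ a ≠ 1} =
        ((Finset.univ.filter fun a : Q => (a : G) * a = 1).erase 1).card := by
      rw [← Nat.card_eq_finsetCard]
      exact Nat.card_congr
        { toFun := fun a => ⟨⟨a.1, a.2.1⟩, by simp [Subtype.ext_iff, a.2.2.1, a.2.2.2]⟩
          invFun := fun a => ⟨(a.1 : G), a.1.2, by
            have := a.2
            simp only [Finset.mem_erase, Finset.mem_filter, Finset.mem_univ, true_and] at this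
            exact ⟨this.2, fun h => this.1 (Subtype.ext h)⟩⟩
          left_inv := fun a => rfl
          right_inv := fun a => rfl }
    rw [e, Finset.card_erase_add_one]
    simp
  rw [hval, hcount] at hsum
  generalize Nat.card {a : G // a ∈ Q ∧ a * a = 1 ∧ a ≠ 1} = k at hsum ⊢
  have hk : k ≤ 32 ∨ 32 < k := le_or_gt k 32
  have hsq' : (2 * ((k + 1 : ℕ) : ℤ) - 32 - 8) * (2 * ((k + 1 : ℕ) : ℤ) - 32 + 8) = 0 := by linarith
  rcases mul_eq_zero.1 hsq' with h | h <;> omega

open Classical in
/-- An automorphism of order five fixing only the centre leaves 11 involutions, no two noncentral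
ones commuting unless they differ by the central involution. -/
theorem invol_data (f : G) (hf5 : f ^ 5 = 1) (hfQ : ∀ a ∈ Q, f * a * f⁻¹ ∈ Q)
    (hfz : f * z = z * f) (hfix : ∀ a ∈ Q, f * a = a * f → a = 1 ∨ a = z) :
    Nat.card {a : G // a ∈ Q ∧ a * a = 1 ∧ a ≠ 1} = 11 ∧
      ∀ u ∈ Q, ∀ w ∈ Q, u * u = 1 → w * w = 1 → u ≠ 1 → w ≠ 1 → u ≠ z → w ≠ z →
        u * w = w * u → w = u ∨ w = u * z := by
  letI := Fintype.ofFinite G
  haveI : Fact (Nat.Prime 5) := ⟨Nat.prime_five⟩
  let S : Finset G := Finset.univ.filter fun a => a ∈ Q ∧ a * a = 1 ∧ a ≠ 1 ∧ a ≠ z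
  have hScard : S.card + 1 = Nat.card {a : G // a ∈ Q ∧ a * a = 1 ∧ a ≠ 1} := by
    have e : Nat.card {a : G // a ∈ Q ∧ a * a = 1 ∧ a ≠ 1} =
        (Finset.univ.filter fun a => a ∈ Q ∧ a * a = 1 ∧ a ≠ 1).card := by
      rw [Nat.card_eq_fintype_card, Fintype.card_subtype]
    rw [e, ← Finset.card_erase_add_one (a := z)
      (s := Finset.univ.filter fun a => a ∈ Q ∧ a * a = 1 ∧ a ≠ 1) (by simp [hzQ, hzz, hz1])]
    congr 2
    ext a; simp [S]; tauto
  have hconj : ∀ a ∈ S, f * a * f⁻¹ ∈ S := by
    intro a ha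
    simp only [S, Finset.mem_filter, Finset.mem_univ, true_and] at ha ⊢
    refine ⟨hfQ a ha.1, ?_, fun h => ha.2.2.1 (conj_eq_one_iff.1 h), fun h => ha.2.2.2 ?_⟩
    · calc f * a * f⁻¹ * (f * a * f⁻¹) = f * (a * a) * f⁻¹ := by group
        _ = 1 := by rw [ha.2.1]; group
    · calc a = f⁻¹ * (f * a * f⁻¹) * f := by group
        _ = z := by rw [h, mul_assoc, ← hfz, inv_mul_cancel_left]
  let σ : Equiv.Perm S :=
    { toFun := fun a => ⟨f * a.1 * f⁻¹, hconj a a.2⟩
      invFun := fun a => ⟨f⁻¹ * a.1 * f, by
        have h := hconj _ (hconj _ (hconj _ (hconj _ a.2)))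
        have h4 : f⁻¹ = f * f * f * f := by
          refine inv_eq_of_mul_eq_one_right ?_
          rw [← hf5]; simp only [pow_succ, pow_zero, one_mul, mul_assoc]
        have e : f * (f * (f * (f * a.1 * f⁻¹) * f⁻¹) * f⁻¹) * f⁻¹ = f⁻¹ * a.1 * f := by
          calc _ = (f * f * f * f) * a.1 * (f * f * f * f)⁻¹ := by group
            _ = _ := by rw [← h4, inv_inv]
        rwa [e] at h⟩
      left_inv := fun a => Subtype.ext (by simp [mul_assoc])
      right_inv := fun a => Subtype.ext (by simp [mul_assoc]) }
  have hσpow : ∀ (n : ℕ) (a : S), ((σ ^ n) a).1 = f ^ n * a.1 * (f ^ n)⁻¹ := by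
    intro n
    induction n with
    | zero => simp
    | succ n ih =>
      intro a
      rw [pow_succ', Equiv.Perm.mul_apply]
      show f * ((σ ^ n) a).1 * f⁻¹ = _
      rw [ih, pow_succ']; group
  have hσ5 : σ ^ 5 = 1 := Equiv.ext fun a => Subtype.ext (by rw [hσpow, hf5]; simp)
  have hnofix : Finset.univ.filter (fun a : S => σ a = a) = ∅ := by
    refine Finset.filter_eq_empty_iff.2 fun a _ h => ?_
    have h' : f * a.1 * f⁻¹ = a.1 := congrArg Subtype.val h
    have ha := a.2
    simp only [S, Finset.mem_filter, Finset.mem_univ, true_and] at ha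
    rcases hfix _ ha.1 (mul_inv_eq_iff_eq_mul.1 h') with e | e
    · exact ha.2.2.1 e
    · exact ha.2.2.2 e
  have h5 : 5 ∣ S.card := by
    have h := Equiv.Perm.card_compl_support_modEq (p := 5) (n := 1) (σ := σ) (by rw [pow_one]; exact hσ5)
    rw [show σ.supportᶜ = ∅ by rw [← hnofix]; ext; simp, Finset.card_empty, Fintype.card_coe] at h
    exact Nat.modEq_zero_iff_dvd.1 h.symm
  have h11 : Nat.card {a : G // a ∈ Q ∧ a * a = 1 ∧ a ≠ 1} = 11 := by
    rcases card_invol_or hQ hzQ hz1 hzz hle hcomm hsq hcen with h | h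
    · exact h
    · exfalso; rw [← hScard] at h; omega
  refine ⟨h11, fun u hu w hw huu hww hu1 hw1 huz hwz huw => ?_⟩
  by_contra hne
  push Not at hne
  -- an elementary abelian eight-group and its images
  let T : ℕ → Finset G := fun n => ({u, u * z, w, w * z, u * w, u * w * z} : Finset G).image
    fun a => f ^ n * a * (f ^ n)⁻¹
  have hmemS : ∀ a ∈ ({u, u * z, w, w * z, u * w, u * w * z} : Finset G), a ∈ S := by
    have key : ∀ a ∈ Q, a * a = 1 → a ≠ 1 → a ≠ z → a ∈ S ∧ a * z ∈ S := by
      intro a ha h1 h2 h3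
      simp only [S, Finset.mem_filter, Finset.mem_univ, true_and]
      refine ⟨⟨ha, h1, h2, h3⟩, Q.mul_mem ha hzQ, ?_, fun e => h3 ?_, fun e => h2 (mul_eq_right.1 e)⟩
      · calc a * z * (a * z) = a * (z * a) * z := by group
          _ = a * a * (z * z) := by rw [← hle a ha]; group
          _ = 1 := by rw [h1, hzz, one_mul]
      · calc a = a * z * z := by rw [mul_assoc, hzz, mul_one]
          _ = z := by rw [e, one_mul]
    have huw1 : u * w ≠ 1 := fun e => hne.1 (by rw [← inv_eq_of_mul_eq_one_right e, inv_eq_of_mul_eq_one_right huu])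
    have huwz : u * w ≠ z := fun e => hne.2 (by rw [← e, ← mul_assoc, huu, one_mul])
    have huw2 : u * w * (u * w) = 1 := by
      calc u * w * (u * w) = u * (w * u) * w := by group
        _ = u * u * (w * w) := by rw [← huw]; group
        _ = 1 := by rw [huu, hww, one_mul]
    intro a ha
    simp only [Finset.mem_insert, Finset.mem_singleton] at ha
    rcases ha with h | h | h | h | h | h <;> rw [h]
    exacts [(key u hu huu hu1 huz).1, (key u hu huu hu1 huz).2, (key _ hw hww hw1 hwz).1,
      (key w hw hww hw1 hwz).2, (key _ (Q.mul_mem hu hw) huw2 huw1 huwz).1,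
      (key _ (Q.mul_mem hu hw) huw2 huw1 huwz).2]
  have hT6 : ∀ n, (T n).card = 6 := by
    intro n
    rw [Finset.card_image_of_injective _ (fun a b h => mul_left_cancel (mul_right_cancel h))]
    have h1 : u * z ≠ u := fun e => hz1 (mul_eq_left.1 e)
    have h2 : w * z ≠ w := fun e => hz1 (mul_eq_left.1 e)
    have h3 : u ≠ w := fun e => hne.1 e.symm
    have h4 : u ≠ w * z := fun e => hne.2 (by rw [e, mul_assoc, hzz, mul_one])
    have h5 : u * z ≠ w := fun e => hne.2 e.symm
    have h6 : u * z ≠ w * z := fun e => h3 (mul_right_cancel e)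
    have h7 : u * w ≠ u := fun e => hw1 (mul_eq_left.1 e)
    have h8 : u * w ≠ w := fun e => hu1 (mul_eq_right.1 e)
    have h9 : u * w ≠ u * z := fun e => hwz (mul_left_cancel e)
    have h10 : u * w ≠ w * z := fun e => huz (by rw [huw] at e; exact mul_left_cancel e)
    have h11 : u * w * z ≠ u * w := fun e => hz1 (mul_eq_left.1 e)
    have h12 : u * w * z ≠ u * z := fun e => h7 (mul_right_cancel e)
    have h13 : u * w * z ≠ w * z := fun e => h8 (mul_right_cancel e)
    have h14 : u * w * z ≠ u := fun e => hwz (by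
      rw [mul_assoc] at e
      calc w = w * z * z := by rw [mul_assoc, hzz, mul_one]
        _ = z := by rw [mul_eq_left.1 e, one_mul])
    have h15 : u * w * z ≠ w := fun e => huz (by
      rw [huw, mul_assoc] at e
      calc u = u * z * z := by rw [mul_assoc, hzz, mul_one]
        _ = z := by rw [mul_eq_left.1 e, one_mul])
    simp [Finset.card_insert_of_notMem, h1.symm, h2.symm, h3, h4, h5, h6, h7.symm, h8.symm, h9.symm,
      h10.symm, h11.symm, h12.symm, h13.symm, h14.symm, h15.symm]
  have hTS : ∀ n, T n ⊆ S := by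
    intro n a ha
    obtain ⟨b, hb, rfl⟩ := Finset.mem_image.1 ha
    induction n with
    | zero => simpa using hmemS b hb
    | succ n ih =>
      have h1 := hconj _ (ih (Finset.mem_image.2 ⟨b, hb, rfl⟩))
      rwa [show f * (f ^ n * b * (f ^ n)⁻¹) * f⁻¹ = f ^ (n + 1) * b * (f ^ (n + 1))⁻¹ by
        rw [pow_succ']; group] at h1
  -- the eight-group is recovered from any two independent members
  have hW : ∀ n m, 2 < (T n ∩ T m).card → T n = T m := by
    intro n m h
    let E : ℕ → Finset G := fun n => insert 1 (insert z (T n))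
    have hmul : ∀ n, ∀ a ∈ E n, ∀ b ∈ E n, a * b ∈ E n := by
      intro n
      have hE0 : ∀ a ∈ ({1, z, u, u * z, w, w * z, u * w, u * w * z} : Finset G),
          ∃ i j k : Bool, a = (if i then u else 1) * (if j then w else 1) * (if k then z else 1) := by
        intro a ha
        simp only [Finset.mem_insert, Finset.mem_singleton] at ha
        rcases ha with rfl | rfl | rfl | rfl | rfl | rfl | rfl | rfl
        exacts [⟨false, false, false, by simp⟩, ⟨false, false, true, by simp⟩, ⟨true, false, false, by simp⟩,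
          ⟨true, false, true, by simp⟩, ⟨false, true, false, by simp⟩, ⟨false, true, true, by simp⟩,
          ⟨true, true, false, by simp⟩, ⟨true, true, true, by simp⟩]
      have hE1 : ∀ i j k : Bool, (if i then u else 1) * (if j then w else 1) * (if k then z else 1) ∈
          ({1, z, u, u * z, w, w * z, u * w, u * w * z} : Finset G) := by
        intro i j k; cases i <;> cases j <;> cases k <;> simp
      have hEn : E n = ({1, z, u, u * z, w, w * z, u * w, u * w * z} : Finset G).image
          fun a => f ^ n * a * (f ^ n)⁻¹ := by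
        have hfn : f ^ n * z * (f ^ n)⁻¹ = z := by
          rw [((show Commute f z from hfz).pow_left n).eq, mul_inv_cancel_right]
        simp [E, T, Finset.image_insert, hfn]
      intro a ha b hb
      rw [hEn] at ha hb ⊢
      obtain ⟨a, ha', rfl⟩ := Finset.mem_image.1 ha
      obtain ⟨b, hb', rfl⟩ := Finset.mem_image.1 hb
      refine Finset.mem_image.2 ⟨a * b, ?_, by group⟩
      obtain ⟨i, j, k, rfl⟩ := hE0 a ha'
      obtain ⟨i', j', k', rfl⟩ := hE0 b hb'
      have hzu := hle u hu
      have hzw := hle w hw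
      have e : (if i then u else 1) * (if j then w else 1) * (if k then z else 1) *
          ((if i' then u else 1) * (if j' then w else 1) * (if k' then z else 1)) =
          (if xor i i' then u else 1) * (if xor j j' then w else 1) * (if xor k k' then z else 1) := by
        have c1 : Commute (if k then z else 1) ((if i' then u else 1) * (if j' then w else 1)) := by
          cases k <;> cases i' <;> cases j' <;>
            simp [Commute, SemiconjBy, hzu, hzw, ← mul_assoc, mul_assoc u w]
        have c2 : Commute (if j then w else 1) (if i' then u else 1) := by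
          cases j <;> cases i' <;> simp [Commute, SemiconjBy, huw]
        have q : ∀ (x : G), x * x = 1 → ∀ p r : Bool, (if p then x else 1) * (if r then x else 1) =
            if xor p r then x else 1 := by
          intro x hx p r; cases p <;> cases r <;> simp [hx]
        rw [← q u huu, ← q w hww, ← q z hzz]
        generalize (if i then u else 1) = A at *
        generalize (if j then w else 1) = B at *
        generalize (if k then z else 1) = C at *
        generalize (if i' then u else 1) = A' at *
        generalize (if j' then w else 1) = B' at *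
        generalize (if k' then z else 1) = C' at *
        calc A * B * C * (A' * B' * C') = A * B * (C * (A' * B')) * C' := by group
          _ = A * (B * A') * B' * C * C' := by rw [c1.eq]; group
          _ = A * A' * (B * B') * (C * C') := by rw [c2.eq]; group
      rw [e]
      exact hE1 _ _ _
    -- two members of the intersection not differing by `z`
    obtain ⟨a, ha, b, hb, hab, habz⟩ : ∃ a ∈ T n ∩ T m, ∃ b ∈ T n ∩ T m, b ≠ a ∧ b ≠ a * z := by
      obtain ⟨a, ha⟩ := Finset.card_pos.1 (show 0 < (T n ∩ T m).card by omega)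
      by_contra hno
      push Not at hno
      have hsub : T n ∩ T m ⊆ {a, a * z} := fun b hb => by
        by_cases e : b = a
        · simp [e]
        · simp [hno a ha b hb e]
      have := (Finset.card_le_card hsub).trans Finset.card_le_two
      omega
    rw [Finset.mem_inter] at ha hb
    have haS := hTS n ha.1
    have hbS := hTS n hb.1
    simp only [S, Finset.mem_filter, Finset.mem_univ, true_and] at haS hbS
    let U : Finset G := {a, a * z, b, b * z, a * b, a * b * z}
    have hU : ∀ k, a ∈ T k → b ∈ T k → U ⊆ T k := by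
      intro k hak hbk c hc
      have hz' : z ∈ E k := by simp [E]
      have haE : a ∈ E k := by simp [E, hak]
      have hbE : b ∈ E k := by simp [E, hbk]
      have hcE : c ∈ E k := by
        simp only [U, Finset.mem_insert, Finset.mem_singleton] at hc
        rcases hc with rfl | rfl | rfl | rfl | rfl | rfl
        exacts [haE, hmul k _ haE _ hz', hbE, hmul k _ hbE _ hz', hmul k _ haE _ hbE,
          hmul k _ (hmul k _ haE _ hbE) _ hz']
      simp only [E, Finset.mem_insert] at hcE
      rcases hcE with rfl | rfl | h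
      · exfalso
        simp only [U, Finset.mem_insert, Finset.mem_singleton] at hc
        rcases hc with e | e | e | e | e | e
        · exact haS.2.2.1 e.symm
        · exact haS.2.2.2 (by rw [eq_inv_of_mul_eq_one_left e.symm, inv_eq_of_mul_eq_one_right hzz])
        · exact hbS.2.2.1 e.symm
        · exact hbS.2.2.2 (by rw [eq_inv_of_mul_eq_one_left e.symm, inv_eq_of_mul_eq_one_right hzz])
        · exact hab (by rw [← inv_eq_of_mul_eq_one_right e.symm, inv_eq_of_mul_eq_one_right haS.2.1])
        · refine habz ?_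
          calc b = a * (a * b * z) * z := by
                rw [← mul_assoc a, ← mul_assoc a, haS.2.1, one_mul, mul_assoc, hzz, mul_one]
            _ = a * z := by rw [← e, mul_one]
      · exfalso
        simp only [U, Finset.mem_insert, Finset.mem_singleton] at hc
        rcases hc with e | e | e | e | e | e
        · exact haS.2.2.2 e.symm
        · exact haS.2.2.1 (mul_eq_right.1 e.symm)
        · exact hbS.2.2.2 e.symm
        · exact hbS.2.2.1 (mul_eq_right.1 e.symm)
        · refine habz ?_
          conv_rhs => rw [e]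
          rw [← mul_assoc, haS.2.1, one_mul]
        · refine hab ?_
          have e' : a * b = 1 := mul_eq_right.1 e.symm
          rw [← inv_eq_of_mul_eq_one_right e', inv_eq_of_mul_eq_one_right haS.2.1]
      · exact h
    have hUc : U.card = 6 := by
      have h1 : a * z ≠ a := fun e => hz1 (mul_eq_left.1 e)
      have h2 : b * z ≠ b := fun e => hz1 (mul_eq_left.1 e)
      have h4 : a ≠ b * z := fun e => habz (by rw [e, mul_assoc, hzz, mul_one])
      have h6 : a * z ≠ b * z := fun e => hab (mul_right_cancel e).symm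
      have h7 : a * b ≠ a := fun e => hbS.2.2.1 (mul_eq_left.1 e)
      have h8 : a * b ≠ b := fun e => haS.2.2.1 (mul_eq_right.1 e)
      have h9 : a * b ≠ a * z := fun e => hbS.2.2.2 (mul_left_cancel e)
      have h10 : a * b ≠ b * z := fun e => haS.2.2.2 (by
        rw [hle b hbS.1] at e; exact mul_right_cancel e)
      have h11 : a * b * z ≠ a * b := fun e => hz1 (mul_eq_left.1 e)
      have h12 : a * b * z ≠ a * z := fun e => h7 (mul_right_cancel e)
      have h13 : a * b * z ≠ b * z := fun e => h8 (mul_right_cancel e)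
      have h14 : a * b * z ≠ a := fun e => hbS.2.2.2 (by
        rw [mul_assoc] at e
        calc b = b * z * z := by rw [mul_assoc, hzz, mul_one]
          _ = z := by rw [mul_eq_left.1 e, one_mul])
      have h15 : a * b * z ≠ b := fun e => haS.2.2.2 (by
        rw [mul_assoc, hle b hbS.1, ← mul_assoc] at e
        calc a = a * z * z := by rw [mul_assoc, hzz, mul_one]
          _ = z := by rw [mul_eq_right.1 e, one_mul])
      simp [U, Finset.card_insert_of_notMem, h1.symm, h2.symm, Ne.symm hab, h4, Ne.symm habz, h6,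
        h7.symm, h8.symm, h9.symm, h10.symm, h11.symm, h12.symm, h13.symm, h14.symm, h15.symm]
    rw [← Finset.eq_of_subset_of_card_le (hU n ha.1 hb.1) (by rw [hUc, hT6]),
      ← Finset.eq_of_subset_of_card_le (hU m ha.2 hb.2) (by rw [hUc, hT6])]
  -- distinct images
  have hdist : ∀ n k, 0 < k → k < 5 → T n ≠ T (n + k) := by
    intro n k hk hk5 he
    have hinv : ∀ a ∈ T n, f ^ k * a * (f ^ k)⁻¹ ∈ T n := by
      intro a ha
      obtain ⟨b, hb, rfl⟩ := Finset.mem_image.1 ha
      rw [he, show f ^ k * (f ^ n * b * (f ^ n)⁻¹) * (f ^ k)⁻¹ = f ^ (n + k) * b * (f ^ (n + k))⁻¹ by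
        rw [add_comm n k, pow_add]; group]
      exact Finset.mem_image.2 ⟨b, hb, rfl⟩
    let τ : Equiv.Perm (T n) := Equiv.ofBijective (fun a => ⟨f ^ k * a.1 * (f ^ k)⁻¹, hinv a a.2⟩)
      (Finite.injective_iff_bijective.1 fun a b h => Subtype.ext
        (mul_left_cancel (mul_right_cancel (congrArg Subtype.val h))))
    have hτpow : ∀ (i : ℕ) (a : T n), ((τ ^ i) a).1 = f ^ (k * i) * a.1 * (f ^ (k * i))⁻¹ := by
      intro i
      induction i with
      | zero => simp
      | succ i ih =>
        intro a
        rw [pow_succ', Equiv.Perm.mul_apply]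
        show f ^ k * ((τ ^ i) a).1 * (f ^ k)⁻¹ = _
        rw [ih, mul_add, mul_one, add_comm (k * i), pow_add]; group
    have hτ5 : τ ^ 5 = 1 := Equiv.ext fun a => Subtype.ext (by
      rw [hτpow, mul_comm k 5, pow_mul, hf5]; simp)
    have h := Equiv.Perm.card_compl_support_modEq (p := 5) (n := 1) (σ := τ) (by rw [pow_one]; exact hτ5)
    rw [Fintype.card_coe, hT6] at h
    have hne' : τ.supportᶜ.Nonempty := Finset.card_pos.1 (by
      rcases Nat.eq_zero_or_pos τ.supportᶜ.card with h0 | h0
      · rw [h0] at h; exact absurd h (by decide)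
      · exact h0)
    obtain ⟨a, ha⟩ := hne'
    rw [Finset.mem_compl, Equiv.Perm.notMem_support] at ha
    have ha' : f ^ k * a.1 * (f ^ k)⁻¹ = a.1 := congrArg Subtype.val ha
    obtain ⟨i, -, hi⟩ := five_inverse k hk5 hk
    have hfk : Commute (f ^ k) a.1 := mul_inv_eq_iff_eq_mul.1 ha'
    have hf1 : f ^ (k * i) = f := by
      conv_lhs => rw [← Nat.mod_add_div (k * i) 5, hi, pow_add, pow_mul, hf5, one_pow, mul_one, pow_one]
    have hcomm' : f * a.1 = a.1 * f := by
      have := (hfk.pow_left i).eq
      rw [← pow_mul, hf1] at this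
      exact this
    have haS := hTS n a.2
    simp only [S, Finset.mem_filter, Finset.mem_univ, true_and] at haS
    rcases hfix _ haS.1 hcomm' with e | e
    · exact haS.2.2.1 e
    · exact haS.2.2.2 e
  have hS10 : S.card = 10 := by omega
  have i1 : (T 0 ∩ T 1).card ≤ 2 := by
    by_contra h; exact hdist 0 1 (by norm_num) (by norm_num) (hW 0 1 (by omega))
  have i2 : (T 0 ∩ T 2).card ≤ 2 := by
    by_contra h; exact hdist 0 2 (by norm_num) (by norm_num) (hW 0 2 (by omega))
  have i3 : (T 1 ∩ T 2).card ≤ 2 := by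
    by_contra h; exact hdist 1 1 (by norm_num) (by norm_num) (hW 1 2 (by omega))
  have u1 := Finset.card_union_add_card_inter (T 0) (T 1)
  have u2 := Finset.card_union_add_card_inter (T 0 ∪ T 1) (T 2)
  have u3 : ((T 0 ∪ T 1) ∩ T 2).card ≤ (T 0 ∩ T 2).card + (T 1 ∩ T 2).card := by
    rw [Finset.union_inter_distrib_right]; exact Finset.card_union_le _ _
  have u4 := Finset.card_le_card (Finset.union_subset (Finset.union_subset (hTS 0) (hTS 1)) (hTS 2))
  rw [hT6, hT6] at u1
  rw [hT6] at u2
  omega

end extraspecial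

end CfsgLib.Invol.HallJanko
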