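import Cfsg.Agent.Lib.Invol.BGroup
import Cfsg.Agent.Lib.Invol.OddCore
import Cfsg.Agent.Lib.Coprime.SchurZassenhaus
import Mathlib.GroupTheory.SpecificGroups.Quaternion

/-!
# Equal-order subgroups of solvable groups with cyclic or quaternion Sylow subgroups
-/

set_option autoImplicit false
set_option linter.style.haveILetI false
set_option linter.unusedSectionVars false

namespace CfsgLib.Invol

open Subgroup CfsgLib.Coprime

universe u

theorem quaternion_two_involution : ∀ x y : QuaternionGroup 2,
    x ^ 2 = 1 → y ^ 2 = 1 → x ≠ 1 → y ≠ 1 → x = y := by decide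

theorem quaternion_two_pow_four : ∀ x : QuaternionGroup 2, x ^ 4 = 1 := by decide

section

variable {G : Type u} [Group G] [Finite G]

/-- An isomorphism with the quaternion group of order `8` gives a unique involution. -/
theorem eq_of_involution {P : Subgroup G} (f : P ≃* QuaternionGroup 2) {x y : G} (hx : x ∈ P) (hy : y ∈ P)
    (hx2 : x ^ 2 = 1) (hy2 : y ^ 2 = 1) (hx1 : x ≠ 1) (hy1 : y ≠ 1) : x = y := by
  have h := quaternion_two_involution (f ⟨x, hx⟩) (f ⟨y, hy⟩)
    (by rw [← map_pow]; exact (map_eq_one_iff f f.injective).2 (Subtype.ext hx2))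
    (by rw [← map_pow]; exact (map_eq_one_iff f f.injective).2 (Subtype.ext hy2))
    (fun e => hx1 (congrArg Subtype.val ((map_eq_one_iff f f.injective).1 e)))
    (fun e => hy1 (congrArg Subtype.val ((map_eq_one_iff f f.injective).1 e)))
  exact congrArg Subtype.val (f.injective h)

theorem pow_four_of_quaternion {P : Subgroup G} (f : P ≃* QuaternionGroup 2) {x : G} (hx : x ∈ P) :
    x ^ 4 = 1 := by
  have h := quaternion_two_pow_four (f ⟨x, hx⟩)
  rw [← map_pow, map_eq_one_iff f f.injective] at h
  exact congrArg Subtype.val h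

theorem card_quaternion {P : Subgroup G} (f : P ≃* QuaternionGroup 2) : Nat.card P = 8 := by
  rw [Nat.card_congr f.toEquiv, Nat.card_eq_fintype_card, QuaternionGroup.card]

/-- A subgroup of order `4` of a quaternion group is cyclic. -/
theorem isCyclic_of_card_four {P W : Subgroup G} (f : P ≃* QuaternionGroup 2) (hW : W ≤ P)
    (h4 : Nat.card W = 4) : IsCyclic W := by
  by_contra hnc
  have h2 : ∀ x ∈ W, x ^ 2 = 1 := by
    intro x hx
    have hd : orderOf x ∣ 2 ^ 2 := by simpa [h4] using Subgroup.orderOf_dvd_natCard W hx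
    obtain ⟨i, hi, ho⟩ := (Nat.dvd_prime_pow Nat.prime_two).1 hd
    refine orderOf_dvd_iff_pow_eq_one.1 ?_
    interval_cases i <;> simp only [ho] <;> norm_num
    exact hnc (isCyclic_of_orderOf_eq_card ⟨x, hx⟩ (by rw [Subgroup.orderOf_mk, ho, h4]; norm_num))
  classical
  haveI := Fintype.ofFinite W
  have hcard : Fintype.card W ≤ 2 := by
    by_contra hlt
    obtain ⟨a, b, c, hab, hac, hbc⟩ := Fintype.two_lt_card_iff.1 (not_le.1 hlt)
    have key : ∀ u v : W, u ≠ 1 → v ≠ 1 → u = v := fun u v hu hv => Subtype.ext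
      (eq_of_involution f (hW u.2) (hW v.2) (h2 u u.2) (h2 v v.2) (by simpa using hu) (by simpa using hv))
    by_cases ha : a = 1
    · exact hbc (key b c (fun e => hab (ha.trans e.symm)) (fun e => hac (ha.trans e.symm)))
    by_cases hb : b = 1
    · exact hac (key a c ha (fun e => hbc (hb.trans e.symm)))
    exact hab (key a b ha hb)
  rw [← Nat.card_eq_fintype_card, h4] at hcard
  omega

/-- Subgroups of equal order of a cyclic or quaternion group are equal, with one exception. -/
theorem eq_or_four {P : Subgroup G} (hP : IsCyclic P ∨ Nonempty (P ≃* QuaternionGroup 2))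
    {U V : Subgroup G} (hU : U ≤ P) (hV : V ≤ P) (h : Nat.card U = Nat.card V) :
    U = V ∨ (Nat.card U = 4 ∧ IsCyclic U ∧ IsCyclic V) := by
  rcases hP with hP | ⟨⟨f⟩⟩
  · left
    haveI := hP
    have hle : ∀ {X Y : Subgroup G}, X ≤ P → Y ≤ P → Nat.card X = Nat.card Y → X ≤ Y := by
      intro X Y hX hY hXY x hx
      exact le_of_card_dvd_of_cyclic (Z := P) (H := X.subgroupOf P) (K := Y.subgroupOf P) (by
        rw [Nat.card_congr (subgroupOfEquivOfLe hX).toEquiv,
          Nat.card_congr (subgroupOfEquivOfLe hY).toEquiv, hXY]) (show (⟨x, hX hx⟩ : P) ∈ X.subgroupOf P from hx)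
    exact le_antisymm (hle hU hV h) (hle hV hU h.symm)
  obtain ⟨i, hi, hc⟩ := (Nat.dvd_prime_pow Nat.prime_two).1
    (show Nat.card U ∣ 2 ^ 3 by simpa [card_quaternion f] using card_dvd_of_le hU)
  interval_cases i
  · left
    rw [Subgroup.card_eq_one.1 (hc.trans (pow_zero 2)), Subgroup.card_eq_one.1 ((h.symm.trans hc).trans (pow_zero 2))]
  · left
    have key : ∀ {X Y : Subgroup G}, X ≤ P → Y ≤ P → Nat.card X = 2 → Nat.card Y = 2 → X ≤ Y := by
      intro X Y hX hY hX2 hY2 x hx
      by_cases hx1 : x = 1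
      · exact hx1 ▸ one_mem Y
      haveI : Fact (Nat.Prime 2) := ⟨Nat.prime_two⟩
      obtain ⟨⟨y, hy⟩, hy2⟩ := exists_prime_orderOf_dvd_card' (G := Y) 2 (by rw [hY2])
      rw [Subgroup.orderOf_mk] at hy2
      have : x = y := eq_of_involution f (hX hx) (hY hy)
        (orderOf_dvd_iff_pow_eq_one.1 (hX2 ▸ Subgroup.orderOf_dvd_natCard X hx))
        (hy2 ▸ pow_orderOf_eq_one y) hx1 (fun e => by rw [e, orderOf_one] at hy2; omega)
      exact this ▸ hy
    exact le_antisymm (key hU hV (by simpa using hc) (by rw [← h]; simpa using hc))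
      (key hV hU (by rw [← h]; simpa using hc) (by simpa using hc))
  · exact Or.inr ⟨by simpa using hc, isCyclic_of_card_four f hU (by simpa using hc),
      isCyclic_of_card_four f hV (by rw [← h]; simpa using hc)⟩
  · left
    have h8 : Nat.card P = 8 := card_quaternion f
    rw [eq_of_le_of_card_ge hU (by rw [h8, hc]; norm_num),
      eq_of_le_of_card_ge hV (by rw [h8, ← h, hc]; norm_num)]

/-- Subgroups with conjugate images and order prime to the kernel are conjugate. -/
theorem conj_of_conj_map [Group.IsSolvable G] {N H K : Subgroup G} [N.Normal]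
    (hcop : (Nat.card N).Coprime (Nat.card H)) (hcard : Nat.card H = Nat.card K) (g : G)
    (h : K.map (QuotientGroup.mk' N) = (H.map (QuotientGroup.mk' N)).map
      (MulAut.conj (QuotientGroup.mk' N g)).toMonoidHom) :
    ∃ x : G, K = H.map (MulAut.conj x).toMonoidHom := by
  have hKle : K ≤ conjBy g H ⊔ N := by
    have h1 : (H.map (QuotientGroup.mk' N)).map (MulAut.conj (QuotientGroup.mk' N g)).toMonoidHom =
        (conjBy g H).map (QuotientGroup.mk' N) := (conjBy_map (QuotientGroup.mk' N) g H).symm
    have h2 := le_comap_map (QuotientGroup.mk' N) K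
    rwa [h, h1, comap_map_eq, QuotientGroup.ker_mk'] at h2
  obtain ⟨x, -, hx⟩ := sz_conj_in (A := conjBy g H) (B := K) (N := N)
    (fun y _ => by rw [Subgroup.normalizer_eq_top_iff.2 inferInstance]; trivial)
    (by rwa [card_conjBy]) hKle (by rw [card_conjBy, hcard]) (Or.inr inferInstance)
  refine ⟨x⁻¹ * g, ?_⟩
  have h2 := congrArg (conjBy x⁻¹) hx
  rw [conjBy_conjBy, inv_mul_cancel, conjBy_one, conjBy_conjBy] at h2
  exact h2

/-- Sylow subgroups are cyclic, or quaternion of order `8` for `p = 2`. -/
def CyclicSylows (G : Type*) [Group G] : Prop :=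
  (∀ p : ℕ, p.Prime → p ≠ 2 → ∀ P : Sylow p G, IsCyclic (P : Subgroup G)) ∧
    ∀ P : Sylow 2 G, IsCyclic (P : Subgroup G) ∨ Nonempty ((P : Subgroup G) ≃* QuaternionGroup 2)

/-- The cyclic subgroups of order `4` are conjugate. -/
def FourConj (G : Type*) [Group G] : Prop :=
  ∀ A B : Subgroup G, IsCyclic A → IsCyclic B → Nat.card A = 4 → Nat.card B = 4 →
    ∃ g : G, B = A.map (MulAut.conj g).toMonoidHom

theorem exists_lift_order_four {N : Subgroup G} [N.Normal] (hN : (Nat.card N).Coprime 2)
    {a : G ⧸ N} (ha : orderOf a = 4) :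
    ∃ x : G, orderOf x = 4 ∧ QuotientGroup.mk' N x = a := by
  obtain ⟨x, hx⟩ := QuotientGroup.mk'_surjective N a
  set n := Nat.card N with hn
  have hodd : n % 2 = 1 := Nat.odd_iff.1 (Nat.coprime_two_right.1 hN)
  refine ⟨x ^ (n * n), ?_, ?_⟩
  · have h4 : (x ^ (n * n)) ^ 4 = 1 := by
      have h1 : x ^ 4 ∈ N := by
        rw [← QuotientGroup.eq_one_iff]
        show (QuotientGroup.mk' N) (x ^ 4) = 1
        rw [map_pow, hx, ← ha, pow_orderOf_eq_one]
      have h2 : (x ^ 4) ^ n = 1 := orderOf_dvd_iff_pow_eq_one.1 (Subgroup.orderOf_dvd_natCard N h1)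
      rw [← pow_mul, show n * n * 4 = 4 * n * n by ring, pow_mul, pow_mul, h2, one_pow]
    refine Nat.dvd_antisymm (orderOf_dvd_of_pow_eq_one h4) ?_
    have h3 := orderOf_map_dvd (QuotientGroup.mk' N) (x ^ (n * n))
    rw [map_pow, hx, Nat.Coprime.orderOf_pow, ha] at h3
    · exact h3
    · rw [ha, show (4 : ℕ) = 2 ^ 2 by norm_num]
      exact (Nat.Coprime.mul_right hN.symm hN.symm).pow_left 2
  · rw [map_pow, hx]
    have h4 : n * n % 4 = 1 := by
      have : n % 4 = 1 ∨ n % 4 = 3 := by omega
      rcases this with h | h <;> simp [Nat.mul_mod, h]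
    rw [← pow_mod_orderOf, ha, h4, pow_one]

theorem FourConj.quotient (h : FourConj G) (N : Subgroup G) [N.Normal] (hN : (Nat.card N).Coprime 2) :
    FourConj (G ⧸ N) := by
  intro A B hA hB h4A h4B
  obtain ⟨a, ha⟩ := hA.exists_generator
  obtain ⟨b, hb⟩ := hB.exists_generator
  have key : ∀ {C : Subgroup (G ⧸ N)} (c : C), (∀ x, x ∈ zpowers c) → Nat.card C = 4 →
      ∃ X : Subgroup G, IsCyclic X ∧ Nat.card X = 4 ∧ X.map (QuotientGroup.mk' N) = C := by
    intro C c hc hC4
    have hco : orderOf (c : G ⧸ N) = 4 := by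
      rw [Subgroup.orderOf_coe, orderOf_eq_card_of_forall_mem_zpowers hc, hC4]
    obtain ⟨x, hx, hxc⟩ := exists_lift_order_four hN hco
    refine ⟨zpowers x, inferInstance, by rw [Nat.card_zpowers, hx], ?_⟩
    rw [MonoidHom.map_zpowers, hxc]
    exact eq_of_le_of_card_ge (zpowers_le.2 c.2) (by rw [Nat.card_zpowers, hco, hC4])
  obtain ⟨X, hXc, hX4, hX⟩ := key a ha h4A
  obtain ⟨Y, hYc, hY4, hY⟩ := key b hb h4B
  obtain ⟨g, hg⟩ := h X Y hXc hYc hX4 hY4
  refine ⟨QuotientGroup.mk' N g, ?_⟩
  rw [← hY, ← hX, hg]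
  exact conjBy_map (QuotientGroup.mk' N) g X

theorem CyclicSylows.quotient (h : CyclicSylows G) (N : Subgroup G) [N.Normal]
    (hN : (Nat.card N).Coprime 2) : CyclicSylows (G ⧸ N) := by
  have hsur := QuotientGroup.mk'_surjective N
  have himg : ∀ {p : ℕ} [Fact p.Prime] (T : Sylow p (G ⧸ N)),
      (∀ P : Sylow p G, IsCyclic (P : Subgroup G)) → IsCyclic (T : Subgroup (G ⧸ N)) := by
    intro p _ T hc
    obtain ⟨P⟩ : Nonempty (Sylow p G) := inferInstance
    haveI := hc P
    haveI : IsCyclic (P.mapSurjective hsur : Subgroup (G ⧸ N)) := by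
      rw [Sylow.coe_mapSurjective]
      exact isCyclic_of_surjective _ ((QuotientGroup.mk' N).subgroupMap_surjective (P : Subgroup G))
    exact ((P.mapSurjective hsur).equiv T).isCyclic.1 this
  refine ⟨fun p hp hp2 T => haveI := Fact.mk hp; himg T (h.1 p hp hp2), fun T => ?_⟩
  haveI : Fact (Nat.Prime 2) := ⟨Nat.prime_two⟩
  obtain ⟨P⟩ : Nonempty (Sylow 2 G) := inferInstance
  obtain ⟨T', ⟨e⟩⟩ := exists_sylow_quotient_equiv N hN P
  have e' := e.trans (T'.equiv T)
  rcases h.2 P with hc | ⟨⟨f⟩⟩
  · exact Or.inl (e'.isCyclic.1 hc)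
  · exact Or.inr ⟨e'.symm.trans f⟩

theorem exists_minimal_normal_cyclicSylow [Group.IsSolvable G] (h : CyclicSylows G)
    (hO : Cfsg.pPrimeCore 2 G ≠ ⊥) :
    ∃ (N : Subgroup G) (q : ℕ), N.Normal ∧ q.Prime ∧ q ≠ 2 ∧ Nat.card N = q ∧
      ∀ x : G, x ^ q = 1 → x ∈ N := by
  haveI := pPrimeCore_characteristic (G := G) 2
  obtain ⟨N, hNn, hN, hNle, hNmin⟩ := exists_minimal_normal_le hO
  haveI := hNn
  obtain ⟨-, q, hq, hNexp⟩ := minimal_normal_solvable hN hNmin
  haveI := Fact.mk hq
  have hNq : IsPGroup q N := fun x => ⟨1, Subtype.ext (by simpa using hNexp x x.2)⟩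
  obtain ⟨k, hk⟩ := hNq.exists_card_eq
  have hk0 : k ≠ 0 := fun e => hN (Subgroup.card_eq_one.1 (by rw [hk, e, pow_zero]))
  have hq2 : q ≠ 2 := by
    rintro rfl
    exact pPrimeCore_not_dvd Nat.prime_two ((hk ▸ dvd_pow_self 2 hk0).trans (card_dvd_of_le hNle))
  obtain ⟨R, hR⟩ := hNq.exists_le_sylow
  haveI := h.1 q hq hq2 R
  have hNc : Nat.card N = q := by
    have : IsCyclic N := isCyclic_of_le hR
    obtain ⟨c, hc⟩ := this.exists_generator
    rw [← orderOf_eq_card_of_forall_mem_zpowers hc]
    refine orderOf_eq_prime (Subtype.ext (by simpa using hNexp c c.2)) fun e => ?_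
    have h1 := orderOf_eq_card_of_forall_mem_zpowers hc
    rw [e, orderOf_one] at h1
    exact hN (Subgroup.card_eq_one.1 h1.symm)
  refine ⟨N, q, hNn, hq, hq2, hNc, fun x hx => ?_⟩
  by_cases hx1 : x = 1
  · exact hx1 ▸ one_mem N
  have hxp : IsPGroup q (zpowers x) := IsPGroup.of_card (n := 1) (by
    rw [Nat.card_zpowers, orderOf_eq_prime hx hx1, pow_one])
  obtain ⟨T, hT⟩ := hxp.exists_le_sylow
  obtain ⟨c, rfl⟩ := MulAction.exists_smul_eq G R T
  haveI := h.1 q hq hq2 (c • R)
  have hNT : N ≤ ((c • R : Sylow q G) : Subgroup G) := fun y hy => by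
    rw [Sylow.coe_subgroup_smul, ← conjBy_eq_smul, mem_conjBy]
    exact hR (by simpa using hNn.conj_mem y hy c⁻¹)
  rcases eq_or_four (Or.inl inferInstance) hT hNT (by rw [Nat.card_zpowers, orderOf_eq_prime hx hx1, hNc]) with e | ⟨h4, -⟩
  · exact e ▸ mem_zpowers x
  · rw [Nat.card_zpowers, orderOf_eq_prime hx hx1] at h4
    exact absurd h4 (fun e => by rw [e] at hq; norm_num at hq)

end

/-- In a solvable group whose Sylow subgroups are cyclic or quaternion of order `8`, with conjugate
cyclic subgroups of order `4`, subgroups of equal order are conjugate. -/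
theorem conj_of_cyclicSylows : ∀ (n : ℕ) {G : Type u} [Group G] [Finite G], Nat.card G = n →
    Group.IsSolvable G → CyclicSylows G → FourConj G → ∀ H K : Subgroup G, Nat.card H = Nat.card K →
      ∃ g : G, K = H.map (MulAut.conj g).toMonoidHom := by
  intro n
  induction n using Nat.strong_induction_on with
  | _ n ih =>
    intro G _ _ hn hsol hcy h4 H K hHK
    subst hn
    haveI : Fact (Nat.Prime 2) := ⟨Nat.prime_two⟩
    have hlt : ∀ N : Subgroup G, N ≠ ⊥ → Nat.card (G ⧸ N) < Nat.card G := by
      intro N hN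
      rw [Subgroup.card_eq_card_quotient_mul_card_subgroup N]
      exact lt_mul_of_one_lt_right Nat.card_pos ((Subgroup.one_lt_card_iff_ne_bot _).2 hN)
    by_cases hO : Cfsg.pPrimeCore 2 G = ⊥
    swap
    · obtain ⟨N, q, hNn, hq, hq2, hNc, hNu⟩ := exists_minimal_normal_cyclicSylow hcy hO
      haveI := hNn
      haveI := Fact.mk hq
      have hN2 : (Nat.card N).Coprime 2 := hNc ▸ (Nat.coprime_primes hq Nat.prime_two).2 hq2
      have hNb : N ≠ ⊥ := fun e => hq.ne_one (by rw [← hNc, e, Subgroup.card_bot])
      have hle : ∀ L : Subgroup G, q ∣ Nat.card L → N ≤ L := by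
        intro L hL
        obtain ⟨x, hx⟩ := exists_prime_orderOf_dvd_card' (G := L) q hL
        have hxo : orderOf (x : G) = q := by rw [Subgroup.orderOf_coe, hx]
        have he : zpowers (x : G) = N := eq_of_le_of_card_ge
          (zpowers_le.2 (hNu _ (hxo ▸ pow_orderOf_eq_one _))) (by rw [Nat.card_zpowers, hxo, hNc])
        exact he ▸ zpowers_le.2 x.2
      have hmap : ∀ L : Subgroup G, Nat.card (L.map (QuotientGroup.mk' N)) =
          if q ∣ Nat.card L then Nat.card L / q else Nat.card L := by
        intro L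
        have h1 := card_eq_card_quotient_mul_card_subgroup ((QuotientGroup.mk' N).comp L.subtype).ker
        rw [Nat.card_congr (QuotientGroup.quotientKerEquivRange _).toEquiv, MonoidHom.range_comp,
          Subgroup.range_subtype, ← MonoidHom.comap_ker, QuotientGroup.ker_mk',
          ← Subgroup.card_map_of_injective (K := N.comap L.subtype) L.subtype_injective,
          Subgroup.map_comap_eq, Subgroup.range_subtype] at h1
        split_ifs with hd
        · rw [inf_eq_right.2 (hle L hd), hNc] at h1
          rw [h1, Nat.mul_div_cancel _ hq.pos]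
        · have : L ⊓ N = ⊥ := by
            rcases (Nat.dvd_prime hq).1 (hNc ▸ card_dvd_of_le (inf_le_right : L ⊓ N ≤ N)) with e | e
            · exact Subgroup.card_eq_one.1 e
            · exact absurd (e ▸ card_dvd_of_le (inf_le_left : L ⊓ N ≤ L)) hd
          rw [this, Subgroup.card_bot, mul_one] at h1
          exact h1.symm
      obtain ⟨g, hg⟩ := ih _ (hlt N hNb) rfl inferInstance (hcy.quotient N hN2) (h4.quotient N hN2)
        (H.map (QuotientGroup.mk' N)) (K.map (QuotientGroup.mk' N)) (by rw [hmap, hmap, hHK])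
      obtain ⟨g, rfl⟩ := QuotientGroup.mk'_surjective N g
      by_cases hd : q ∣ Nat.card H
      · refine ⟨g, ?_⟩
        have h2 := congrArg (Subgroup.comap (QuotientGroup.mk' N)) hg
        have h3 : (H.map (QuotientGroup.mk' N)).map (MulAut.conj (QuotientGroup.mk' N g)).toMonoidHom =
            (conjBy g H).map (QuotientGroup.mk' N) := (conjBy_map (QuotientGroup.mk' N) g H).symm
        rw [h3, comap_map_eq, comap_map_eq, QuotientGroup.ker_mk', sup_eq_left.2 (hle K (hHK ▸ hd)),
          sup_eq_left.2 (hle _ (by rwa [card_conjBy]))] at h2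
        exact h2
      · exact conj_of_conj_map (by rw [hNc]; exact hq.coprime_iff_not_dvd.2 hd) hHK g hg
    -- the Sylow 2-subgroup is normal
    obtain ⟨Q⟩ : Nonempty (Sylow 2 G) := inferInstance
    have hQle : (Q : Subgroup G) ≤ Cfsg.pCore 2 G := by
      have hC := centralizer_pCore_le (G := G) (p := 2) hO
      have hUQ := pCore_le_sylow (p := 2) Q
      rcases hcy.2 Q with hc | ⟨⟨f⟩⟩
      · haveI := hc
        haveI : IsMulCommutative (Q : Subgroup G) := IsCyclic.commutative
        exact fun x hx => hC (mem_centralizer_iff.2 fun u hu =>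
          congrArg Subtype.val (mul_comm' (⟨u, hUQ hu⟩ : (Q : Subgroup G)) ⟨x, hx⟩))
      haveI := pCore_normal' (G := G) 2
      obtain ⟨y, hy, hy4⟩ : ∃ y ∈ Cfsg.pCore 2 G, orderOf y = 4 := by
        by_contra hno
        push_neg at hno
        have hinv : ∀ y ∈ Cfsg.pCore 2 G, y ^ 2 = 1 := by
          intro y hy
          obtain ⟨i, hi, ho⟩ := (Nat.dvd_prime_pow Nat.prime_two).1
            (show orderOf y ∣ 2 ^ 2 from orderOf_dvd_of_pow_eq_one (pow_four_of_quaternion f (hUQ hy)))
          refine orderOf_dvd_iff_pow_eq_one.1 ?_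
          interval_cases i
          · simp [ho]
          · simp [ho]
          · exact absurd (by simpa using ho) (hno y hy)
        have hcen : ∀ y ∈ Cfsg.pCore 2 G, ∀ g : G, g * y = y * g := by
          intro y hy g
          by_cases hy1 : y = 1
          · simp [hy1]
          have hg := (pCore_normal' (G := G) 2).conj_mem y hy g
          exact mul_inv_eq_iff_eq_mul.1 (eq_of_involution f (hUQ hg) (hUQ hy) (hinv _ hg) (hinv y hy)
            (fun e => hy1 (conj_eq_one_iff.1 e)) hy1)
        have hcard : Nat.card (Q : Subgroup G) ≤ 2 := by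
          haveI := Fintype.ofFinite (Q : Subgroup G)
          rw [Nat.card_eq_fintype_card]
          by_contra hlt2
          obtain ⟨a, b, c, hab, hac, hbc⟩ := Fintype.two_lt_card_iff.1 (not_le.1 hlt2)
          have hin : ∀ u : (Q : Subgroup G), (u : G) ∈ Cfsg.pCore 2 G := fun u =>
            hC (mem_centralizer_iff.2 fun v hv => (hcen v hv u).symm)
          have key : ∀ u v : (Q : Subgroup G), u ≠ 1 → v ≠ 1 → u = v := fun u v hu hv => Subtype.ext
            (eq_of_involution f u.2 v.2 (hinv _ (hin u)) (hinv _ (hin v))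
              (by simpa using hu) (by simpa using hv))
          by_cases ha : a = 1
          · exact hbc (key b c (fun e => hab (ha.trans e.symm)) (fun e => hac (ha.trans e.symm)))
          by_cases hb : b = 1
          · exact hac (key a c ha (fun e => hbc (hb.trans e.symm)))
          exact hab (key a b ha hb)
        rw [card_quaternion f] at hcard
        omega
      intro x hx
      obtain ⟨i, hi, ho⟩ := (Nat.dvd_prime_pow Nat.prime_two).1
        (show orderOf x ∣ 2 ^ 2 from orderOf_dvd_of_pow_eq_one (pow_four_of_quaternion f hx))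
      have key : ∀ z : G, orderOf z = 4 → z ∈ Cfsg.pCore 2 G := by
        intro z hz
        obtain ⟨g, hg⟩ := h4 (zpowers y) (zpowers z) inferInstance inferInstance
          (by rw [Nat.card_zpowers, hy4]) (by rw [Nat.card_zpowers, hz])
        obtain ⟨w, hw, rfl⟩ := hg ▸ mem_zpowers z
        exact (pCore_normal' (G := G) 2).conj_mem w (zpowers_le.2 hy hw) g
      interval_cases i
      · rw [pow_zero, orderOf_eq_one_iff] at ho
        exact ho ▸ one_mem _
      · by_cases hx1 : x = 1
        · exact hx1 ▸ one_mem _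
        have : x = y ^ 2 := eq_of_involution f hx (hUQ (pow_mem hy 2))
          (orderOf_dvd_iff_pow_eq_one.1 (by simp [ho]))
          (by rw [← pow_mul, show 2 * 2 = orderOf y by rw [hy4]]; exact pow_orderOf_eq_one y) hx1
          (fun e => by
            have := orderOf_dvd_of_pow_eq_one e
            rw [hy4] at this; norm_num at this)
        exact this ▸ pow_mem hy 2
      · exact key x (by simpa using ho)
    haveI hUn := pCore_normal' (G := G) 2
    have hQU : Cfsg.pCore 2 G = (Q : Subgroup G) := le_antisymm (pCore_le_sylow Q) hQle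
    haveI hQn : (Q : Subgroup G).Normal := hQU ▸ hUn
    have hCQ : centralizer ((Q : Subgroup G) : Set G) ≤ (Q : Subgroup G) := by
      rw [← hQU]; exact centralizer_pCore_le hO
    by_cases hQ : (Q : Subgroup G) = ⊥
    · have : (⊤ : Subgroup G) ≤ ⊥ := by
        refine le_trans ?_ (hQ ▸ hCQ)
        intro g _
        exact mem_centralizer_iff.2 fun u hu => by
          rw [SetLike.mem_coe, mem_bot] at hu; simp [hu]
      have htop : ∀ L : Subgroup G, L = ⊥ := fun L => le_bot_iff.1 (le_top.trans this)
      exact ⟨1, by rw [htop H, htop K, Subgroup.map_bot]⟩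
    have hidx : ¬ 2 ∣ (Q : Subgroup G).index := Q.not_dvd_index
    obtain ⟨qn, hqn⟩ := Q.2.exists_card_eq
    have hcardinf : ∀ L : Subgroup G, Nat.card (L ⊓ Q : Subgroup G) = 2 ^ (Nat.card L).factorization 2 := by
      intro L
      obtain ⟨T⟩ : Nonempty (Sylow 2 L) := inferInstance
      have hT : IsPGroup 2 ((T : Subgroup L).map L.subtype) := T.2.map _
      obtain ⟨R, hR⟩ := hT.exists_le_sylow
      haveI := Sylow.unique_of_normal Q inferInstance
      rw [Subsingleton.elim R Q] at hR
      have hle : (T : Subgroup L).map L.subtype ≤ L ⊓ Q := le_inf (map_subtype_le _) hR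
      obtain ⟨m, hm⟩ := (Q.2.to_le (inf_le_right : L ⊓ Q ≤ Q)).exists_card_eq
      refine Nat.dvd_antisymm ?_ ?_
      · rw [hm]
        exact pow_dvd_pow 2
          ((Nat.prime_two.pow_dvd_iff_le_factorization Nat.card_pos.ne').1 (hm ▸ card_dvd_of_le inf_le_left))
      · rw [← T.card_eq_multiplicity, ← Subgroup.card_map_of_injective (K := (T : Subgroup L)) L.subtype_injective]
        exact card_dvd_of_le hle
    -- a subgroup meeting `Q` in a cyclic group of order `4` lies in `Q`
    have hfour : ∀ L : Subgroup G, Nat.card (L ⊓ Q : Subgroup G) = 4 → IsCyclic (L ⊓ Q : Subgroup G) →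
        Nat.card (Q : Subgroup G) = 8 → L ≤ Q := by
      intro L hL hLc hQ8 x hx
      obtain ⟨⟨a, haW⟩, ha⟩ := hLc.exists_generator
      have hao : orderOf a = 4 := by
        have h1 := orderOf_eq_card_of_forall_mem_zpowers ha
        rw [Subgroup.orderOf_mk] at h1
        rw [h1, hL]
      set m := (Q : Subgroup G).index with hm
      set t := x ^ 8 with ht
      have htL : t ∈ L := pow_mem hx 8
      have htm : t ^ m = 1 := by
        have h1 : x ^ (8 * m) = 1 := by
          rw [← orderOf_dvd_iff_pow_eq_one, hm, ← hQ8, Subgroup.card_mul_index]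
          exact orderOf_dvd_natCard x
        rwa [pow_mul] at h1
      have hmodd : m % 2 = 1 := by omega
      have hta : t * a * t⁻¹ ∈ L ⊓ (Q : Subgroup G) :=
        ⟨mul_mem (mul_mem htL (mem_inf.1 haW).1) (L.inv_mem htL), hQn.conj_mem a (mem_inf.1 haW).2 t⟩
      obtain ⟨j, hj⟩ := ha ⟨_, hta⟩
      have hj' : a ^ j = t * a * t⁻¹ := congrArg Subtype.val hj
      have hcomm : Commute t a := by
        have hiter : ∀ k : ℕ, t ^ k * a * (t ^ k)⁻¹ = a ^ (j ^ k) := by
          intro k
          induction k with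
          | zero => simp
          | succ k ihk =>
            rw [pow_succ' t, mul_inv_rev, show t * t ^ k * a * ((t ^ k)⁻¹ * t⁻¹) =
              t * (t ^ k * a * (t ^ k)⁻¹) * t⁻¹ by group, ihk, ← conj_zpow, ← hj', ← zpow_mul]
            congr 1; ring
        have h1 : (4 : ℤ) ∣ j ^ m - 1 := by
          have h2 := hiter m
          rw [htm] at h2
          have : a ^ (j ^ m - 1) = 1 := by rw [zpow_sub_one, ← h2]; group
          rw [← orderOf_dvd_iff_zpow_eq_one, hao] at this
          exact_mod_cast this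
        have h3 : (4 : ℤ) ∣ j - 1 := by
          have hj2 : ∀ k : ℕ, (4 : ℤ) ∣ j ^ (2 * k + 1) - j ∨ Even j := by
            intro k
            rcases Int.even_or_odd j with he | ⟨c, hc⟩
            · exact Or.inr he
            · left
              induction k with
              | zero => simp
              | succ k ihk =>
                have : j ^ (2 * (k + 1) + 1) - j = (j ^ (2 * k + 1) - j) * j ^ 2 + j * (j ^ 2 - 1) := by ring
                rw [this]
                exact dvd_add (ihk.mul_right _) (Dvd.dvd.mul_left ⟨c * c + c, by rw [hc]; ring⟩ _)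
          rcases hj2 (m / 2) with h | h
          · rw [show 2 * (m / 2) + 1 = m by omega] at h
            have := dvd_sub h1 h
            simpa using this
          · exfalso
            have he : Even (j ^ m) := h.pow_of_ne_zero (by omega)
            obtain ⟨c, hc⟩ := he
            omega
        have : a ^ (j - 1) = 1 := by
          rw [← orderOf_dvd_iff_zpow_eq_one, hao]; exact_mod_cast h3
        rw [zpow_sub_one, mul_inv_eq_one, hj'] at this
        exact mul_inv_eq_iff_eq_mul.1 this
      have hidx2 : ((zpowers a).subgroupOf (Q : Subgroup G)).index = 2 := by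
        have h1 := card_mul_index ((zpowers a).subgroupOf (Q : Subgroup G))
        rw [Nat.card_congr (subgroupOfEquivOfLe (zpowers_le.2 haW.2)).toEquiv, Nat.card_zpowers, hao, hQ8] at h1
        omega
      have htC : t ∈ centralizer ((Q : Subgroup G) : Set G) := by
        refine mem_centralizer_iff.2 fun y hy => ?_
        set d := y⁻¹ * (t * y * t⁻¹) with hd
        have hdW : d ∈ zpowers a := by
          by_cases hya : y ∈ zpowers a
          · obtain ⟨i, rfl⟩ := hya
            have hti : t * a ^ i * t⁻¹ = a ^ i := mul_inv_eq_iff_eq_mul.2 (hcomm.zpow_right i).eq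
            rw [hd]; beta_reduce; rw [hti, inv_mul_cancel]; exact one_mem _
          · have hty : t * y * t⁻¹ ∈ (Q : Subgroup G) := hQn.conj_mem y hy t
            have hnot : t * y * t⁻¹ ∉ zpowers a := by
              rintro ⟨i, hi⟩
              refine hya ⟨i, ?_⟩
              beta_reduce at hi ⊢
              calc a ^ i = t⁻¹ * (t * a ^ i) := by group
                _ = t⁻¹ * (a ^ i * t) := by rw [(hcomm.zpow_right i).eq]
                _ = y := by rw [hi]; group
            have := (Subgroup.mul_mem_iff_of_index_two hidx2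
              (a := (⟨y, hy⟩ : (Q : Subgroup G))⁻¹) (b := ⟨_, hty⟩)).2
            refine this ⟨fun h => absurd (inv_mem_iff.1 h) hya, fun h => absurd h hnot⟩
        have hdt : Commute t d := by
          obtain ⟨i, hi⟩ := hdW
          rw [← hi]; exact hcomm.zpow_right i
        have hiter : ∀ k : ℕ, t ^ k * y * (t ^ k)⁻¹ = y * d ^ k := by
          intro k
          induction k with
          | zero => simp
          | succ k ihk =>
            rw [pow_succ' t, mul_inv_rev, show t * t ^ k * y * ((t ^ k)⁻¹ * t⁻¹) =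
              t * (t ^ k * y * (t ^ k)⁻¹) * t⁻¹ by group, ihk,
              show t * (y * d ^ k) * t⁻¹ = (t * y * t⁻¹) * (t * d ^ k * t⁻¹) by group,
              (hdt.pow_right k).eq, mul_inv_cancel_right, pow_succ', ← mul_assoc y, hd, mul_inv_cancel_left]
        have h1 := hiter m
        rw [htm] at h1
        have hdm : d ^ m = 1 := by
          have : y * d ^ m = y * 1 := by rw [← h1]; group
          exact mul_left_cancel this
        have hd4 : orderOf d ∣ 2 ^ 2 := by
          have := Subgroup.orderOf_dvd_natCard _ hdW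
          rwa [Nat.card_zpowers, hao] at this
        have hd1 : d = 1 := orderOf_eq_one_iff.1 (Nat.eq_one_of_dvd_coprimes
          ((Nat.prime_two.coprime_iff_not_dvd.2 (by omega : ¬ 2 ∣ m)).pow_left 2) hd4
          (orderOf_dvd_of_pow_eq_one hdm))
        rw [hd, inv_mul_eq_one] at hd1
        exact (eq_mul_inv_iff_mul_eq.1 hd1)
      have ht1 : t = 1 := by
        have h2 : orderOf t ∣ 2 ^ 3 := by simpa [hQ8] using Subgroup.orderOf_dvd_natCard _ (hCQ htC)
        exact orderOf_eq_one_iff.1 (Nat.eq_one_of_dvd_coprimes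
          ((Nat.prime_two.coprime_iff_not_dvd.2 (by omega : ¬ 2 ∣ m)).pow_left 3) h2
          (orderOf_dvd_of_pow_eq_one htm))
      have hxp : IsPGroup 2 (zpowers x) := by
        obtain ⟨i, hi, ho⟩ := (Nat.dvd_prime_pow Nat.prime_two).1
          (show orderOf x ∣ 2 ^ 3 from orderOf_dvd_of_pow_eq_one ht1)
        exact IsPGroup.of_card (n := i) (by rw [Nat.card_zpowers, ho])
      obtain ⟨R, hR⟩ := hxp.exists_le_sylow
      haveI := Sylow.unique_of_normal Q inferInstance
      rw [Subsingleton.elim R Q] at hR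
      exact hR (mem_zpowers x)
    have hWcard : Nat.card (H ⊓ Q : Subgroup G) = Nat.card (K ⊓ Q : Subgroup G) := by
      rw [hcardinf, hcardinf, hHK]
    have hexc : ∀ L : Subgroup G, L ≤ (Q : Subgroup G) → Nat.card L = 4 →
        Nat.card (Q : Subgroup G) = 8 ∨ IsCyclic (Q : Subgroup G) := by
      intro L _ _
      rcases hcy.2 Q with hc | ⟨⟨f⟩⟩
      · exact Or.inr hc
      · exact Or.inl (card_quaternion f)
    have heq : ∀ {U V : Subgroup G}, IsCyclic (Q : Subgroup G) → U ≤ (Q : Subgroup G) → V ≤ (Q : Subgroup G) →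
        Nat.card U = Nat.card V → U = V := by
      intro U V hc hU hV h
      haveI := hc
      have key : ∀ {X Y : Subgroup G}, X ≤ (Q : Subgroup G) → Y ≤ (Q : Subgroup G) → Nat.card X = Nat.card Y →
          X ≤ Y := fun {X Y} hX hY hXY x hx =>
        le_of_card_dvd_of_cyclic (Z := (Q : Subgroup G)) (H := X.subgroupOf Q) (K := Y.subgroupOf Q) (by
          rw [Nat.card_congr (subgroupOfEquivOfLe hX).toEquiv,
            Nat.card_congr (subgroupOfEquivOfLe hY).toEquiv, hXY])
          (show (⟨x, hX hx⟩ : (Q : Subgroup G)) ∈ X.subgroupOf Q from hx)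
      exact le_antisymm (key hU hV h) (key hV hU h.symm)
    -- reduce to a common normal intersection with `Q`
    obtain ⟨hW, hWn⟩ | hdone : (H ⊓ Q = K ⊓ Q ∧ (H ⊓ Q : Subgroup G).Normal) ∨
        ∃ g : G, K = H.map (MulAut.conj g).toMonoidHom := by
      rcases eq_or_four (hcy.2 Q) (inf_le_right : H ⊓ Q ≤ Q) (inf_le_right : K ⊓ Q ≤ Q) hWcard with
        hW | ⟨hc4, hcH, hcK⟩
      · by_cases hn : (H ⊓ Q : Subgroup G).Normal
        · exact Or.inl ⟨hW, hn⟩
        · right
          obtain ⟨g, hg⟩ : ∃ g : G, conjBy g (H ⊓ Q) ≠ H ⊓ Q := by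
            by_contra hall
            push_neg at hall
            exact hn ⟨fun x hx g => hall g ▸ conj_mem_conjBy hx⟩
          have hgQ : conjBy g (H ⊓ Q) ≤ (Q : Subgroup G) := by
            rintro _ ⟨x, hx, rfl⟩
            exact hQn.conj_mem x hx.2 g
          obtain ⟨h4', -, hcH⟩ := (eq_or_four (hcy.2 Q) hgQ inf_le_right (card_conjBy g _)).resolve_left hg
          rw [card_conjBy] at h4'
          have hQ8 := (hexc _ inf_le_right h4').resolve_right fun hc =>
            hg (heq hc hgQ inf_le_right (card_conjBy g _))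
          have eH := inf_eq_left.2 (hfour H h4' hcH hQ8)
          have eK := inf_eq_left.2 (hfour K (hW ▸ h4') (hW ▸ hcH) hQ8)
          refine ⟨1, ?_⟩
          rw [← eK, ← hW, eH]
          exact (conjBy_one H).symm
      · rcases hexc _ inf_le_right hc4 with hQ8 | hc
        · right
          have eH := inf_eq_left.2 (hfour H hc4 hcH hQ8)
          have eK := inf_eq_left.2 (hfour K (hWcard ▸ hc4) hcK hQ8)
          rw [eH] at hcH hc4
          rw [eK] at hcK
          exact h4 H K hcH hcK hc4 (hHK ▸ hc4)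
        · left
          refine ⟨heq hc inf_le_right inf_le_right hWcard, ⟨fun x hx g => ?_⟩⟩
          have hgQ : conjBy g (H ⊓ Q) ≤ (Q : Subgroup G) := by
            rintro _ ⟨x, hx, rfl⟩
            exact hQn.conj_mem x hx.2 g
          exact heq hc hgQ inf_le_right (card_conjBy g _) ▸ conj_mem_conjBy hx
    swap
    · exact hdone
    set W := H ⊓ (Q : Subgroup G) with hWdef
    haveI := hWn
    have hWH : W ≤ H := inf_le_left
    have hWK : W ≤ K := hW.le.trans inf_le_left
    -- conjugate images modulo `Q`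
    have hodd : ¬ 2 ∣ Nat.card (G ⧸ (Q : Subgroup G)) := by rwa [← Subgroup.index_eq_card]
    have hcyQ : CyclicSylows (G ⧸ (Q : Subgroup G)) := by
      refine ⟨fun p hp hp2 T => ?_, fun T => ?_⟩
      · haveI := Fact.mk hp
        obtain ⟨P⟩ : Nonempty (Sylow p G) := inferInstance
        have hsur := QuotientGroup.mk'_surjective (Q : Subgroup G)
        haveI := hcy.1 p hp hp2 P
        haveI : IsCyclic (P.mapSurjective hsur : Subgroup (G ⧸ (Q : Subgroup G))) := by
          rw [Sylow.coe_mapSurjective]
          exact isCyclic_of_surjective _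
            ((QuotientGroup.mk' (Q : Subgroup G)).subgroupMap_surjective (P : Subgroup G))
        exact ((P.mapSurjective hsur).equiv T).isCyclic.1 this
      · left
        have h1 := T.card_eq_multiplicity
        rw [Nat.factorization_eq_zero_of_not_dvd hodd, pow_zero] at h1
        haveI : Subsingleton (T : Subgroup (G ⧸ (Q : Subgroup G))) := (Nat.card_eq_one_iff_unique.1 h1).1
        infer_instance
    have hmapQ : ∀ L : Subgroup G,
        Nat.card L = Nat.card (L.map (QuotientGroup.mk' (Q : Subgroup G))) * Nat.card (L ⊓ Q : Subgroup G) := by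
      intro L
      have h1 := card_eq_card_quotient_mul_card_subgroup ((QuotientGroup.mk' (Q : Subgroup G)).comp L.subtype).ker
      rwa [Nat.card_congr (QuotientGroup.quotientKerEquivRange _).toEquiv, MonoidHom.range_comp,
        Subgroup.range_subtype, ← MonoidHom.comap_ker, QuotientGroup.ker_mk',
        ← Subgroup.card_map_of_injective (K := (Q : Subgroup G).comap L.subtype) L.subtype_injective,
        Subgroup.map_comap_eq, Subgroup.range_subtype] at h1
    obtain ⟨g, hg⟩ := ih _ (hlt _ hQ) rfl inferInstance hcyQ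
      (fun A B _ _ hA4 _ => absurd ((show 2 ∣ 4 by norm_num).trans (hA4 ▸ card_subgroup_dvd_card A)) hodd)
      (H.map (QuotientGroup.mk' (Q : Subgroup G))) (K.map (QuotientGroup.mk' (Q : Subgroup G))) (by
        have h1 := hmapQ H
        have h2 := hmapQ K
        rw [← hW, ← hHK] at h2
        exact Nat.eq_of_mul_eq_mul_right Nat.card_pos (h1.symm.trans h2))
    obtain ⟨g, rfl⟩ := QuotientGroup.mk'_surjective _ g
    have hKle : K ≤ conjBy g H ⊔ Q := by
      have h1 : (H.map (QuotientGroup.mk' (Q : Subgroup G))).map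
          (MulAut.conj (QuotientGroup.mk' (Q : Subgroup G) g)).toMonoidHom =
          (conjBy g H).map (QuotientGroup.mk' (Q : Subgroup G)) := (conjBy_map _ g H).symm
      have h2 := le_comap_map (QuotientGroup.mk' (Q : Subgroup G)) K
      rwa [hg, h1, comap_map_eq, QuotientGroup.ker_mk'] at h2
    have hWg : W ≤ conjBy g H := fun x hx => mem_conjBy.2 (hWH (by simpa using hWn.conj_mem x hx g⁻¹))
    set φ := QuotientGroup.mk' W with hφ
    have hmapW : ∀ L : Subgroup G, W ≤ L → Nat.card L = Nat.card (L.map φ) * Nat.card W := by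
      intro L hL
      have h1 := card_eq_card_quotient_mul_card_subgroup (φ.comp L.subtype).ker
      rwa [Nat.card_congr (QuotientGroup.quotientKerEquivRange _).toEquiv, MonoidHom.range_comp,
        Subgroup.range_subtype, ← MonoidHom.comap_ker, hφ, QuotientGroup.ker_mk',
        ← Subgroup.card_map_of_injective (K := W.comap L.subtype) L.subtype_injective,
        Subgroup.map_comap_eq, Subgroup.range_subtype, inf_eq_right.2 hL] at h1
    have hcop : (Nat.card ((Q : Subgroup G).map φ)).Coprime (Nat.card ((conjBy g H).map φ)) := by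
      have h1 : Nat.card (H.map (QuotientGroup.mk' (Q : Subgroup G))) ∣ Nat.card (G ⧸ (Q : Subgroup G)) :=
        card_subgroup_dvd_card _
      have h2 : Nat.card ((conjBy g H).map φ) = Nat.card (H.map (QuotientGroup.mk' (Q : Subgroup G))) :=
        Nat.eq_of_mul_eq_mul_right Nat.card_pos
          ((hmapW _ hWg).symm.trans ((card_conjBy g H).trans (hmapQ H)))
      rw [h2]
      refine Nat.Coprime.coprime_dvd_right h1 (Nat.Coprime.coprime_dvd_left ?_
        ((Nat.prime_two.coprime_iff_not_dvd.2 hodd).pow_left qn))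
      rw [← hqn]
      exact Subgroup.card_map_dvd _ φ
    obtain ⟨y, -, hy⟩ := sz_conj_in (A := (conjBy g H).map φ) (B := K.map φ) (N := (Q : Subgroup G).map φ)
      (fun z _ => by
        haveI := hQn.map φ (QuotientGroup.mk'_surjective W)
        rw [Subgroup.normalizer_eq_top_iff.2 inferInstance]; trivial) hcop
      (by rw [← Subgroup.map_sup]; exact map_mono hKle)
      (Nat.eq_of_mul_eq_mul_right Nat.card_pos
        ((hmapW K hWK).symm.trans (hHK.symm.trans ((card_conjBy g H).symm.trans (hmapW _ hWg)))))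
      (Or.inl inferInstance)
    obtain ⟨y, rfl⟩ := QuotientGroup.mk'_surjective W y
    have hWy : W ≤ conjBy y K := fun x hx => mem_conjBy.2 (hWK (by simpa using hWn.conj_mem x hx y⁻¹))
    have h3 := congrArg (Subgroup.comap φ) hy
    rw [← conjBy_map φ y K, comap_map_eq, comap_map_eq, hφ, QuotientGroup.ker_mk', sup_eq_left.2 hWy,
      sup_eq_left.2 hWg] at h3
    refine ⟨y⁻¹ * g, ?_⟩
    have h4' := congrArg (conjBy y⁻¹) h3
    rw [conjBy_conjBy, inv_mul_cancel, conjBy_one, conjBy_conjBy] at h4'
    exact h4'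

end CfsgLib.Invol
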