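import Cfsg.Agent.Lib.Invol.BGroupSylow
import Cfsg.Agent.Lib.Invol.CyclicSylowConj

/-!
# Solvable groups in which equal-order abelian subgroups are conjugate
-/

set_option autoImplicit false
set_option linter.style.haveILetI false
set_option linter.unusedSectionVars false

namespace CfsgLib.Invol

open Subgroup CfsgLib.Coprime

universe u

variable {G : Type u} [Group G] [Finite G]

theorem orderOf_conj' (g x : G) : orderOf (g * x * g⁻¹) = orderOf x :=
  (MulAut.conj g).orderOf_eq x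

/-- An automorphism of a cyclic group of odd prime power order that fixes by its square fixes or
inverts the generator. -/
theorem fix_or_inv {p n : ℕ} (hp : p.Prime) (hp2 : p ≠ 2) {c v : G} (hv : orderOf v = p ^ n)
    (hn : c * v * c⁻¹ ∈ zpowers v) (h2 : c * (c * v * c⁻¹) * c⁻¹ = v) :
    c * v * c⁻¹ = v ∨ c * v * c⁻¹ = v⁻¹ := by
  obtain ⟨k, hk⟩ := hn
  simp only at hk
  have h1 : v ^ (k * k) = v := by
    rw [zpow_mul]
    conv_rhs => rw [← h2]
    rw [← hk, ← conj_zpow, hk]
  have hd : ((p : ℤ) ^ n) ∣ (k - 1) * (k + 1) := by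
    have : v ^ ((k - 1) * (k + 1)) = 1 := by
      rw [show (k - 1) * (k + 1) = k * k - 1 by ring, zpow_sub_one, h1, mul_inv_cancel]
    rw [← orderOf_dvd_iff_zpow_eq_one, hv] at this
    exact_mod_cast this
  have hpZ : Prime (p : ℤ) := Nat.prime_iff_prime_int.1 hp
  by_cases hd1 : (p : ℤ) ∣ k - 1
  · left
    have hnd : ¬ (p : ℤ) ∣ k + 1 := fun h => hp2 (by
      have h2' : (p : ℤ) ∣ 2 := by simpa using dvd_sub h hd1
      exact (Nat.prime_dvd_prime_iff_eq hp Nat.prime_two).1 (Int.natCast_dvd_natCast.1 (by exact_mod_cast h2')))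
    have := hpZ.pow_dvd_of_dvd_mul_right n hnd hd
    have h3 : v ^ (k - 1) = 1 := by
      rw [← orderOf_dvd_iff_zpow_eq_one, hv]; exact_mod_cast this
    rw [zpow_sub_one, mul_inv_eq_one] at h3
    rw [← hk]; exact h3
  · right
    have := hpZ.pow_dvd_of_dvd_mul_left n hd1 hd
    have h3 : v ^ (k + 1) = 1 := by
      rw [← orderOf_dvd_iff_zpow_eq_one, hv]; exact_mod_cast this
    rw [zpow_add_one, mul_eq_one_iff_eq_inv] at h3
    rw [← hk]; exact h3

/-- Two elements with `a ^ 2 = b ^ 2 = [a, b]` acting on a cyclic group of odd prime power order: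
one of `a`, `b`, `a * b` centralizes it. -/
theorem exists_fix {p n : ℕ} (hp : p.Prime) (hp2 : p ≠ 2) {a b v : G} (hv : orderOf v = p ^ n)
    (ha : ∀ w ∈ zpowers v, a * w * a⁻¹ ∈ zpowers v) (hb : ∀ w ∈ zpowers v, b * w * b⁻¹ ∈ zpowers v)
    (haa : a * a = a * b * a⁻¹ * b⁻¹) (hbb : b * b = a * b * a⁻¹ * b⁻¹) :
    a * v * a⁻¹ = v ∨ b * v * b⁻¹ = v ∨ (a * b) * v * (a * b)⁻¹ = v := by
  obtain ⟨i, hi⟩ := ha v (mem_zpowers v)
  obtain ⟨j, hj⟩ := hb v (mem_zpowers v)
  simp only at hi hj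
  have hai : ∀ m : ℤ, a * v ^ m * a⁻¹ = v ^ (i * m) := fun m => by rw [← conj_zpow, ← hi, ← zpow_mul]
  have hbj : ∀ m : ℤ, b * v ^ m * b⁻¹ = v ^ (j * m) := fun m => by rw [← conj_zpow, ← hj, ← zpow_mul]
  have hcomm : (a * b) * v * (a * b)⁻¹ = (b * a) * v * (b * a)⁻¹ := by
    calc (a * b) * v * (a * b)⁻¹ = a * (b * v * b⁻¹) * a⁻¹ := by group
      _ = v ^ (i * j) := by rw [← hj, hai]
      _ = b * (a * v * a⁻¹) * b⁻¹ := by rw [← hi, hbj, mul_comm i j]
      _ = _ := by group
  have hz : (a * b * a⁻¹ * b⁻¹) * v * (a * b * a⁻¹ * b⁻¹)⁻¹ = v := by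
    set w := (b * a)⁻¹ * v * (b * a) with hw
    have hwz : w ∈ zpowers v ∨ True := Or.inr trivial
    have hcomm' : ∀ m : ℤ, (a * b) * v ^ m * (a * b)⁻¹ = (b * a) * v ^ m * (b * a)⁻¹ := fun m => by
      rw [← conj_zpow, ← conj_zpow, hcomm]
    obtain ⟨m, hm⟩ : ∃ m : ℤ, v ^ m = w := by
      have hinj : Function.Injective (fun x : zpowers v =>
          (⟨(b * a) * x * (b * a)⁻¹, by
            rw [show (b * a) * (x : G) * (b * a)⁻¹ = b * (a * x * a⁻¹) * b⁻¹ by group]
            exact hb _ (ha _ x.2)⟩ : zpowers v)) := fun x y h => Subtype.ext (by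
              simpa using congrArg Subtype.val h)
      obtain ⟨⟨x, m, hm⟩, hx⟩ := (Finite.injective_iff_surjective.1 hinj) ⟨v, mem_zpowers v⟩
      refine ⟨m, ?_⟩
      have hx' := congrArg Subtype.val hx
      simp only at hx' hm
      rw [hw, hm, ← hx']; group
    calc (a * b * a⁻¹ * b⁻¹) * v * (a * b * a⁻¹ * b⁻¹)⁻¹
        = (a * b) * w * (a * b)⁻¹ := by rw [hw]; group
      _ = (b * a) * w * (b * a)⁻¹ := by rw [← hm, hcomm']
      _ = v := by rw [hw]; group
  rcases fix_or_inv hp hp2 hv ⟨i, hi⟩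
      (by rw [show a * (a * v * a⁻¹) * a⁻¹ = (a * a) * v * (a * a)⁻¹ by group, haa]; exact hz) with h1 | h1
  · exact Or.inl h1
  rcases fix_or_inv hp hp2 hv ⟨j, hj⟩
      (by rw [show b * (b * v * b⁻¹) * b⁻¹ = (b * b) * v * (b * b)⁻¹ by group, hbb]; exact hz) with h3 | h3
  · exact Or.inr (Or.inl h3)
  refine Or.inr (Or.inr ?_)
  calc (a * b) * v * (a * b)⁻¹ = a * (b * v * b⁻¹) * a⁻¹ := by group
    _ = (a * v * a⁻¹)⁻¹ := by rw [h3]; group
    _ = v := by rw [h1, inv_inv]

theorem quaternion_two_generators : ∃ a b : QuaternionGroup 2,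
    a * a = a * b * a⁻¹ * b⁻¹ ∧ b * b = a * b * a⁻¹ * b⁻¹ ∧
      a ^ 2 ≠ 1 ∧ b ^ 2 ≠ 1 ∧ (a * b) ^ 2 ≠ 1 ∧ a ≠ 1 ∧ b ≠ 1 :=
  ⟨.a 1, .xa 0, by decide, by decide, by decide, by decide, by decide, by decide, by decide⟩

theorem exists_generators {P : Subgroup G} (f : P ≃* QuaternionGroup 2) :
    ∃ a ∈ P, ∃ b ∈ P, a * a = a * b * a⁻¹ * b⁻¹ ∧ b * b = a * b * a⁻¹ * b⁻¹ ∧
      orderOf a = 4 ∧ orderOf b = 4 ∧ orderOf (a * b) = 4 := by
  obtain ⟨a, b, h1, h2, h3, h4, h5, -, -⟩ := quaternion_two_generators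
  haveI : Fact (Nat.Prime 2) := ⟨Nat.prime_two⟩
  have ho : ∀ q : QuaternionGroup 2, q ^ 2 ≠ 1 → orderOf ((f.symm q : P) : G) = 4 := fun q hq => by
    rw [Subgroup.orderOf_coe, f.symm.orderOf_eq]
    exact orderOf_eq_prime_pow (p := 2) (n := 1) (by simpa using hq) (quaternion_two_pow_four q)
  refine ⟨_, (f.symm a).2, _, (f.symm b).2, ?_, ?_, ho a h3, ho b h4, ?_⟩
  · simpa using congrArg (fun q => ((f.symm q : P) : G)) h1
  · simpa using congrArg (fun q => ((f.symm q : P) : G)) h2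
  · simpa using ho (a * b) h5

/-- In a `B`-group an element of order `4` centralizing a normal subgroup forces all to do so. -/
theorem AbelianConjugate.centralize_all (hB : AbelianConjugate G) (M : Subgroup G) [M.Normal]
    {x y : G} (hx : x ∈ centralizer (M : Set G)) (h : orderOf x = orderOf y) :
    y ∈ centralizer (M : Set G) :=
  hB.mem_of_normal (centralizer (M : Set G)) hx h

/-- The quaternion Sylow subgroup is normal when the odd Sylow subgroups are cyclic. -/
theorem sylow_two_normal (hB : AbelianConjugate G) [Group.IsSolvable G]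
    (hodd : ∀ p : ℕ, p.Prime → p ≠ 2 → ∀ P : Sylow p G, IsCyclic (P : Subgroup G))
    (Q : Sylow 2 G) (f : (Q : Subgroup G) ≃* QuaternionGroup 2) : (Q : Subgroup G).Normal := by
  haveI : Fact (Nat.Prime 2) := ⟨Nat.prime_two⟩
  haveI hU := pCore_normal' (G := G) 2
  obtain ⟨a, ha, b, hb, haa, hbb, hao, hbo, habo⟩ := exists_generators f
  have hUQ : Cfsg.pCore 2 G ≤ (Q : Subgroup G) := pCore_le_sylow Q
  have hx4 : ∀ x ∈ (Q : Subgroup G), x ^ 4 = 1 := fun x hx => pow_four_of_quaternion f hx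
  by_cases hex : ∃ y ∈ Cfsg.pCore 2 G, orderOf y = 4
  · obtain ⟨y, hy, hyo⟩ := hex
    have h2 : Cfsg.pCore 2 G = (Q : Subgroup G) := by
      refine le_antisymm hUQ fun x hx => ?_
      obtain ⟨i, hi, ho⟩ := (Nat.dvd_prime_pow Nat.prime_two).1
        (show orderOf x ∣ 2 ^ 2 from orderOf_dvd_of_pow_eq_one (hx4 x hx))
      interval_cases i
      · rw [pow_zero, orderOf_eq_one_iff] at ho
        exact ho ▸ one_mem _
      · have hy2 : orderOf (y ^ 2) = orderOf x := by
          rw [ho, orderOf_pow_of_dvd (by norm_num) (by rw [hyo]; norm_num), hyo]; norm_num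
        exact hB.mem_of_normal _ (pow_mem hy 2) hy2
      · exact hB.mem_of_normal _ hy (hyo.trans (by simpa using ho.symm))
    exact h2 ▸ hU
  exfalso
  have hodd' : ∀ q : ℕ, q.Prime → q ≠ 2 → a ∈ centralizer (Cfsg.pCore q G : Set G) := by
    intro q hq hq2
    haveI := Fact.mk hq
    haveI := pCore_normal' (G := G) q
    obtain ⟨R⟩ : Nonempty (Sylow q G) := inferInstance
    haveI := hodd q hq hq2 R
    haveI : IsCyclic (Cfsg.pCore q G) := isCyclic_of_le (pCore_le_sylow R)
    obtain ⟨⟨v, hv⟩, hgen⟩ := ‹IsCyclic (Cfsg.pCore q G)›.exists_generator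
    obtain ⟨n, hn⟩ := (pCore_isPGroup (G := G) q).exists_card_eq
    have hvo : orderOf v = q ^ n := by
      rw [← hn, ← Subgroup.orderOf_mk v hv]
      exact orderOf_eq_card_of_forall_mem_zpowers hgen
    have hz : zpowers v = Cfsg.pCore q G :=
      eq_of_le_of_card_ge (zpowers_le.2 hv) (by rw [Nat.card_zpowers, hvo, hn])
    have hconj : ∀ c : G, ∀ w ∈ zpowers v, c * w * c⁻¹ ∈ zpowers v := fun c w hw => by
      rw [hz] at hw ⊢
      exact (pCore_normal' (G := G) q).conj_mem w hw c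
    have hcent : ∀ c : G, c * v * c⁻¹ = v → c ∈ centralizer (Cfsg.pCore q G : Set G) := fun c hc => by
      refine mem_centralizer_iff.2 fun w hw => ?_
      rw [← hz, SetLike.mem_coe] at hw
      obtain ⟨m, rfl⟩ := hw
      exact ((show Commute c v from mul_inv_eq_iff_eq_mul.1 hc).zpow_right m).symm.eq
    rcases exists_fix hq hq2 hvo (hconj a) (hconj b) haa hbb with h | h | h
    · exact hcent a h
    · exact hB.centralize_all _ (hcent b h) (hbo.trans hao.symm)
    · exact hB.centralize_all _ (hcent _ h) (habo.trans hao.symm)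
  push_neg at hex
  have htwo : a ∈ centralizer (Cfsg.pCore 2 G : Set G) := by
    refine mem_centralizer_iff.2 fun y hy => ?_
    by_cases hy1 : y = 1
    · simp [hy1]
    have hy2 : ∀ z ∈ Cfsg.pCore 2 G, z ^ 2 = 1 := by
      intro z hz
      obtain ⟨i, hi, ho⟩ := (Nat.dvd_prime_pow Nat.prime_two).1
        (show orderOf z ∣ 2 ^ 2 from orderOf_dvd_of_pow_eq_one (hx4 z (hUQ hz)))
      refine orderOf_dvd_iff_pow_eq_one.1 ?_
      interval_cases i
      · simp [ho]
      · simp [ho]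
      · exact absurd (by simpa using ho) (hex z hz)
    have h1 := hU.conj_mem y hy a
    exact (mul_inv_eq_iff_eq_mul.1 (eq_of_involution f (hUQ h1) (hUQ hy) (hy2 _ h1) (hy2 y hy)
      (fun e => hy1 (conj_eq_one_iff.1 e)) hy1)).symm
  set F := Cfsg.fittingSubgroup G with hF
  have hall : ∀ q : Nat.Primes, Cfsg.pCore (q : ℕ) G ≤ centralizer ({a} : Set G) := by
    intro q w hw
    refine mem_centralizer_singleton_iff.2 ?_
    by_cases hq : (q : ℕ) = 2
    · rw [hq] at hw
      exact mem_centralizer_iff.1 htwo w hw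
    · exact mem_centralizer_iff.1 (hodd' q q.2 hq) w hw
  have hFa : F ≤ centralizer ({a} : Set G) := by
    rw [hF, fitting_eq_iSup_pCore]; exact iSup_le hall
  set D := centralizer (F : Set G) with hD
  haveI : F.Normal := by
    rw [hF, fitting_eq_iSup_pCore]
    haveI : ∀ q : Nat.Primes, (Cfsg.pCore (q : ℕ) G).Normal := fun q => pCore_normal' (G := G) _
    exact Subgroup.iSup_normal _
  have hDF : D ≤ F := centralizer_fitting_le
  have haD : a ∈ D := mem_centralizer_iff.2 fun w hw => mem_centralizer_singleton_iff.1 (hFa hw)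
  set M := normalClosure ({a} : Set G) with hM
  have hMD : M ≤ D := by
    haveI : D.Normal := inferInstance
    exact normalClosure_le_normal (Set.singleton_subset_iff.2 haD)
  have hcommD : ∀ x ∈ D, ∀ y ∈ D, Commute x y := fun x hx y hy =>
    mem_centralizer_iff.1 hy x (hDF hx)
  have hM4 : ∀ x ∈ M, x ^ 4 = 1 ∧ x ∈ D := by
    intro x hx
    rw [hM, normalClosure] at hx
    induction hx using Subgroup.closure_induction with
    | mem y hy =>
      obtain ⟨z, hz, hzy⟩ := Group.mem_conjugatesOfSet_iff.1 hy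
      rw [Set.mem_singleton_iff] at hz
      subst hz
      obtain ⟨c, rfl⟩ := isConj_iff.1 hzy
      exact ⟨by rw [conj_pow, ← hao, pow_orderOf_eq_one]; group,
        (inferInstance : D.Normal).conj_mem _ haD c⟩
    | one => exact ⟨one_pow 4, one_mem D⟩
    | mul y z _ _ hy hz => exact ⟨by rw [(hcommD y hy.2 z hz.2).mul_pow, hy.1, hz.1, one_mul], mul_mem hy.2 hz.2⟩
    | inv y _ hy => exact ⟨by rw [inv_pow, hy.1, inv_one], inv_mem hy.2⟩
  haveI : M.Normal := normalClosure_normal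
  have hMp : IsPGroup 2 M := fun x => ⟨2, Subtype.ext (by simpa using (hM4 x x.2).1)⟩
  exact hex a (le_pCore hMp (subset_normalClosure (Set.mem_singleton a))) hao

/-- Subgroups of an exponent-`p` abelian group separate points. -/
theorem exists_card_avoiding {p : ℕ} (hp : p.Prime) {P : Subgroup G} [IsMulCommutative P]
    (hexp : ∀ x ∈ P, x ^ p = 1) {n : ℕ} (hn : Nat.card P = p ^ n) {v u : G} (hv : v ∈ P) (hu : u ∈ P)
    (huv : u ∉ zpowers v) {w : ℕ} (hw : 1 ≤ w) (hwn : w < n) (hv1 : v ≠ 1) :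
    ∃ U : Subgroup G, U ≤ P ∧ Nat.card U = p ^ w ∧ v ∈ U ∧ u ∉ U := by
  induction w, hw using Nat.le_induction with
  | base =>
    exact ⟨zpowers v, zpowers_le.2 hv, by rw [Nat.card_zpowers, orderOf_eq_prime (hp := ⟨hp⟩) (hexp v hv) hv1, pow_one],
      mem_zpowers v, huv⟩
  | succ w hw ih =>
    obtain ⟨U, hUP, hUc, hvU, huU⟩ := ih (by omega)
    have hcard : ∀ y ∈ P, y ∉ U → Nat.card (U ⊔ zpowers y : Subgroup G) = p ^ (w + 1) := by
      intro y hy hyU
      haveI : Fact p.Prime := ⟨hp⟩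
      have hyo : orderOf y = p := orderOf_eq_prime (hexp y hy) fun e => hyU (e ▸ one_mem U)
      have hdisj : (zpowers y).subgroupOf P ⊓ U.subgroupOf P = ⊥ := by
        refine (eq_bot_iff_forall _).2 fun x hx => ?_
        by_contra hx1
        have hxo : orderOf (x : G) = p := orderOf_eq_prime (hexp _ x.2) (by simpa using hx1)
        have : zpowers (x : G) = zpowers y := eq_of_le_of_card_ge (zpowers_le.2 (mem_inf.1 hx).1)
          (by rw [Nat.card_zpowers, Nat.card_zpowers, hxo, hyo])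
        exact hyU (zpowers_le.2 (show (x : G) ∈ U from (mem_inf.1 hx).2) (this ▸ mem_zpowers y))
      haveI : (U.subgroupOf P).Normal := Subgroup.normal_of_comm _
      have h1 := card_sup_of_normal (U.subgroupOf P) ((zpowers y).subgroupOf P) (by rwa [inf_comm])
      rw [← subgroupOf_sup hUP (zpowers_le.2 hy),
        Nat.card_congr (subgroupOfEquivOfLe (sup_le hUP (zpowers_le.2 hy))).toEquiv,
        Nat.card_congr (subgroupOfEquivOfLe hUP).toEquiv,
        Nat.card_congr (subgroupOfEquivOfLe (zpowers_le.2 hy)).toEquiv, Nat.card_zpowers, hyo, hUc] at h1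
      rw [h1, pow_succ]
    obtain ⟨y, hy, hyn⟩ : ∃ y ∈ P, y ∉ U ⊔ zpowers u := by
      by_contra hno
      push_neg at hno
      have h1 := Subgroup.card_le_of_le (show P ≤ U ⊔ zpowers u from hno)
      rw [hcard u hu huU, hn] at h1
      exact absurd h1 (not_le.2 (Nat.pow_lt_pow_right hp.one_lt hwn))
    have hyU : y ∉ U := fun h => hyn (le_sup_left (b := zpowers u) h)
    refine ⟨U ⊔ zpowers y, sup_le hUP (zpowers_le.2 hy), hcard y hy hyU, le_sup_left (b := zpowers y) hvU, fun h => hyn ?_⟩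
    have h2 : U ⊔ zpowers u = U ⊔ zpowers y := eq_of_le_of_card_ge (sup_le le_sup_left (zpowers_le.2 h))
      (by rw [hcard u hu huU, hcard y hy hyU])
    rw [h2]
    exact le_sup_right (a := U) (mem_zpowers y)

/-- An abelian normal Hall subgroup of squarefree exponent. -/
structure IsBKernel (F : Subgroup G) : Prop where
  normal : F.Normal
  comm : IsMulCommutative F
  hall : (Nat.card F).Coprime F.index
  sqfree : ∀ p : ℕ, p.Prime → ∀ x ∈ F, ∀ k : ℕ, x ^ p ^ k = 1 → x ^ p = 1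

theorem IsBKernel.exists_maximal (hB : AbelianConjugate G) [Group.IsSolvable G] :
    ∃ F : Subgroup G, IsBKernel F ∧ (∀ p : ℕ, p.Prime → ∀ P : Sylow p G, ¬ p ∣ Nat.card F →
      IsCyclic (P : Subgroup G) ∨ (p = 2 ∧ Nonempty ((P : Subgroup G) ≃* QuaternionGroup 2))) := by
  have h0 : IsBKernel (⊥ : Subgroup G) :=
    ⟨inferInstance, ⟨⟨fun a b => Subsingleton.elim _ _⟩⟩, by simp, fun p _ x hx k _ => by
      rw [mem_bot] at hx; simp [hx]⟩
  obtain ⟨F, -, hF⟩ := exists_maximal_ge_of_wellFoundedGT (α := Subgroup G) IsBKernel ⊥ h0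
  refine ⟨F, hF.prop, fun p hp P hpF => ?_⟩
  haveI := Fact.mk hp
  rcases hB.unique_or_exponent P with hu | hexp
  · rcases cyclic_or_quaternion_of_unique P.2 hu with hc | ⟨rfl, k, ⟨f⟩⟩
    · exact Or.inl hc
    haveI : NeZero (2 ^ k) := ⟨by positivity⟩
    haveI : (Cfsg.pPrimeCore 2 G).Characteristic := pPrimeCore_characteristic 2
    set O := Cfsg.pPrimeCore 2 G with hO
    have hcop : (Nat.card O).Coprime 2 := pPrimeCore_coprime Nat.prime_two
    obtain ⟨T, ⟨e⟩⟩ := exists_sylow_quotient_equiv O hcop P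
    have h1 := Cfsg.Agent.S3912.quaternion_small (Cfsg.Agent.S3911.result hB O (Nat.coprime_two_right.1 hcop))
      (pPrimeCore_quotient_eq_bot Nat.prime_two) T (e.symm.trans f)
    interval_cases k
    · left
      exact (f.isCyclic).2 QuaternionGroup.quaternionGroup_one_isCyclic
    · exact Or.inr ⟨rfl, ⟨f⟩⟩
  · left
    by_contra hnc
    obtain ⟨hPn, hPc⟩ := hB.normal_of_noncyclic P hexp hnc
    haveI := hPn
    haveI := hF.prop.normal
    haveI := hF.prop.comm
    obtain ⟨n, hn⟩ := P.2.exists_card_eq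
    have hcop : (Nat.card F).Coprime (Nat.card (P : Subgroup G)) := by
      rw [hn]; exact (hp.coprime_iff_not_dvd.2 hpF).symm.pow_right n
    have hdisj : F ⊓ (P : Subgroup G) = ⊥ := disjoint_of_coprime_card hcop
    have hcomm : ∀ x ∈ F, ∀ y ∈ (P : Subgroup G), Commute x y := fun x hx y hy =>
      Subgroup.commute_of_normal_of_disjoint F P inferInstance inferInstance (disjoint_iff.2 hdisj) x y hx hy
    have hnew : IsBKernel (F ⊔ (P : Subgroup G)) := by
      have hmem : ∀ z ∈ F ⊔ (P : Subgroup G), ∃ x ∈ F, ∃ y ∈ (P : Subgroup G), x * y = z := fun z hz =>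
        (mem_sup_of_normal_right (s := F) (t := (P : Subgroup G))).1 hz
      refine ⟨inferInstance, ⟨⟨fun s t => Subtype.ext ?_⟩⟩, ?_, ?_⟩
      · obtain ⟨x, hx, y, hy, hs⟩ := hmem s s.2
        obtain ⟨x', hx', y', hy', ht⟩ := hmem t t.2
        simp only [Subgroup.coe_mul, ← hs, ← ht]
        have hxx : Commute x x' := congrArg Subtype.val (mul_comm' (⟨x, hx⟩ : F) ⟨x', hx'⟩)
        have hyy : Commute y y' :=
          congrArg Subtype.val (@mul_comm' _ _ hPc (⟨y, hy⟩ : (P : Subgroup G)) ⟨y', hy'⟩)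
        exact ((hxx.mul_right (hcomm x hx y' hy')).mul_left
          ((hcomm x' hx' y hy).symm.mul_right hyy)).eq
      · have hc := card_sup_of_normal F (P : Subgroup G) hdisj
        rw [hc]
        refine Nat.Coprime.mul_left ?_ ?_
        · exact hF.prop.hall.coprime_dvd_right (index_dvd_of_le le_sup_left)
        · rw [hn]
          exact ((hp.coprime_iff_not_dvd.2 P.not_dvd_index).coprime_dvd_right
            (index_dvd_of_le le_sup_right)).pow_left n
      · intro q hq z hz k hk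
        obtain ⟨x, hx, y, hy, rfl⟩ := hmem z hz
        rw [(hcomm x hx y hy).mul_pow] at hk
        have hxk : x ^ q ^ k = 1 ∧ y ^ q ^ k = 1 := by
          have h1 : x ^ q ^ k ∈ F ⊓ (P : Subgroup G) :=
            ⟨pow_mem hx _, by rw [eq_inv_of_mul_eq_one_left hk]; exact (P : Subgroup G).inv_mem (pow_mem hy _)⟩
          rw [hdisj, mem_bot] at h1
          rw [h1, one_mul] at hk
          exact ⟨h1, hk⟩
        rw [(hcomm x hx y hy).mul_pow, hF.prop.sqfree q hq x hx k hxk.1, one_mul]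
        by_cases hqp : q = p
        · exact hqp ▸ hexp y hy
        · have h1 : orderOf y = 1 := Nat.eq_one_of_dvd_coprimes
            (((Nat.coprime_primes hp hq).2 (Ne.symm hqp)).pow n k)
            (hn ▸ Subgroup.orderOf_dvd_natCard _ hy) (orderOf_dvd_of_pow_eq_one hxk.2)
          rw [orderOf_eq_one_iff.1 h1, one_pow]
    have hle : F ⊔ (P : Subgroup G) ≤ F := hF.le_of_ge hnew le_sup_left
    refine hpF ((dvd_pow_self p fun h0 => hnc ?_).trans (hn ▸ card_dvd_of_le (le_sup_right.trans hle)))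
    haveI : Subsingleton (P : Subgroup G) := (Nat.card_eq_one_iff_unique.1 (by rw [hn, h0, pow_zero])).1
    infer_instance

end CfsgLib.Invol
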