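import Cfsg.Agent.Lib.Invol.Counting

/-!
# The Brauer–Fowler inequality
-/

namespace CfsgLib.Invol

variable {G : Type*} [Group G]

/-- The elements mapping `x` to itself or to its inverse under conjugation. -/
def extCentralizer (x : G) : Subgroup G where
  carrier := {g | g * x * g⁻¹ = x ∨ g * x * g⁻¹ = x⁻¹}
  one_mem' := Or.inl (by simp)
  mul_mem' := by
    intro a b ha hb
    have e : a * b * x * (a * b)⁻¹ = a * (b * x * b⁻¹) * a⁻¹ := by group
    rcases hb with hb | hb <;> rcases ha with ha | ha
    · exact Or.inl (by rw [e, hb, ha])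
    · exact Or.inr (by rw [e, hb, ha])
    · exact Or.inr (by rw [e, hb, ← conj_inv, ha])
    · exact Or.inl (by rw [e, hb, ← conj_inv, ha, inv_inv])
  inv_mem' := by
    intro a ha
    rcases ha with ha | ha
    · refine Or.inl ?_
      nth_rewrite 1 [← ha]; group
    · refine Or.inr ?_
      have h1 := congrArg (fun u => (a⁻¹ * u * a)⁻¹) ha
      simp only [mul_inv_rev, inv_inv] at h1
      calc a⁻¹ * x * a⁻¹⁻¹ = a⁻¹ * (x * a) := by group
        _ = x⁻¹ := by rw [← h1]; group

theorem mem_extCentralizer {x g : G} :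
    g ∈ extCentralizer x ↔ g * x * g⁻¹ = x ∨ g * x * g⁻¹ = x⁻¹ := Iff.rfl

variable [Finite G]

theorem card_extCentralizer {x : G} (hx : x ≠ x⁻¹) (hreal : IsConj x x⁻¹) :
    Nat.card (extCentralizer x) = 2 * Nat.card (Subgroup.centralizer ({x} : Set G)) := by
  classical
  obtain ⟨g₀, hg₀⟩ := isConj_iff.1 hreal
  have := Fintype.ofFinite G
  have h1 : Nat.card (extCentralizer x) =
      Nat.card {g : G // g * x * g⁻¹ = x ∨ g * x * g⁻¹ = x⁻¹} := rfl
  have h2 : Nat.card (Subgroup.centralizer ({x} : Set G)) = Nat.card {g : G // g * x * g⁻¹ = x} :=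
    Nat.card_congr (Equiv.subtypeEquivRight fun g => by
      rw [Subgroup.mem_centralizer_singleton_iff, mul_inv_eq_iff_eq_mul])
  rw [h1, two_mul]
  nth_rewrite 1 [h2]
  rw [← card_inverting hg₀]
  simp only [Nat.card_eq_fintype_card]
  rw [Fintype.card_subtype_or_disjoint]
  intro q h1 h2 g hg
  exact hx ((h1 g hg).symm.trans (h2 g hg))

/-- `∑ₓ` of the number of involution pairs with product `x` is the square of the number of
involutions. -/
theorem sum_pairs [Fintype G] :
    ∑ x : G, Nat.card {p : G × G // orderOf p.1 = 2 ∧ orderOf p.2 = 2 ∧ p.1 * p.2 = x} =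
      Nat.card {t : G // orderOf t = 2} ^ 2 := by
  classical
  have h : Nat.card {t : G // orderOf t = 2} ^ 2 =
      Nat.card {p : G × G // orderOf p.1 = 2 ∧ orderOf p.2 = 2} := by
    rw [pow_two, ← Nat.card_prod]
    exact Nat.card_congr Equiv.subtypeProdEquivProd.symm
  rw [h, ← Nat.card_congr (Equiv.sigmaFiberEquiv
    (fun p : {p : G × G // orderOf p.1 = 2 ∧ orderOf p.2 = 2} => p.1.1 * p.1.2)), Nat.card_sigma]
  refine Finset.sum_congr rfl fun x _ => Nat.card_congr ?_
  exact
    { toFun := fun p => ⟨⟨p.1, p.2.1, p.2.2.1⟩, p.2.2.2⟩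
      invFun := fun p => ⟨p.1.1, p.1.2.1, p.1.2.2, p.2⟩
      left_inv := fun _ => rfl
      right_inv := fun _ => rfl }

theorem card_pairs_one :
    Nat.card {p : G × G // orderOf p.1 = 2 ∧ orderOf p.2 = 2 ∧ p.1 * p.2 = 1} =
      Nat.card {t : G // orderOf t = 2} := by
  refine Nat.card_congr
    { toFun := fun p => ⟨p.1.1, p.2.1⟩
      invFun := fun t => ⟨(t.1, t.1), t.2, t.2, invol_mul_self t.2⟩
      left_inv := ?_
      right_inv := fun _ => rfl }
  rintro ⟨⟨a, b⟩, ha, hb, hab⟩
  have hba : b = a := (inv_eq_of_mul_eq_one_right hab).symm.trans (invol_inv ha)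
  subst hba
  rfl

/-- **Brauer–Fowler**: a group of even order without central involution has a subgroup of index 2
or a proper subgroup of small index. -/
theorem brauer_fowler (heven : Even (Nat.card G))
    (hZ : ∀ z : G, orderOf z = 2 → z ∉ Subgroup.center G) :
    ∃ H : Subgroup G, H ≠ ⊤ ∧ (H.index = 2 ∨
      2 * H.index * (Nat.card {t : G // orderOf t = 2}) ^ 2 <
        Nat.card G * (Nat.card G + Nat.card {t : G // orderOf t = 2})) := by
  classical
  have := Fintype.ofFinite G
  set I := Nat.card {t : G // orderOf t = 2} with hI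
  set n := Nat.card G with hn
  by_contra hcon
  push Not at hcon
  set a : G → ℕ := fun x =>
    Nat.card {p : G × G // orderOf p.1 = 2 ∧ orderOf p.2 = 2 ∧ p.1 * p.2 = x} with ha
  -- centralizers of involutions
  have hinv : ∀ x : G, orderOf x = 2 → (a x + 2) * (n + I) ≤ 2 * I ^ 2 := by
    intro x hx
    have hne : Subgroup.centralizer ({x} : Set G) ≠ ⊤ := by
      intro htop
      apply hZ x hx
      rw [Subgroup.mem_center_iff]
      intro g
      exact Subgroup.mem_centralizer_singleton_iff.1 (htop ▸ Subgroup.mem_top g)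
    obtain ⟨-, hle⟩ := hcon _ hne
    have h1 := card_pairs_add_one hx
    have h2 := card_commuting_invol_lt x
    have h3 := (Subgroup.centralizer ({x} : Set G)).card_mul_index
    set c := Nat.card (Subgroup.centralizer ({x} : Set G))
    set m := (Subgroup.centralizer ({x} : Set G)).index
    have hm : 0 < m := Nat.pos_of_ne_zero Subgroup.index_ne_zero_of_finite
    refine Nat.le_of_mul_le_mul_right ?_ hm
    calc (a x + 2) * (n + I) * m ≤ c * (n + I) * m :=
          Nat.mul_le_mul_right _ (Nat.mul_le_mul_right _ (by simp only [ha]; omega))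
      _ = n * (n + I) := by rw [mul_right_comm, h3]
      _ ≤ 2 * m * I ^ 2 := hle
      _ = 2 * I ^ 2 * m := by ring
  -- extended centralizers of the other elements
  have hother : ∀ x : G, x ≠ 1 → orderOf x ≠ 2 → a x * (n + I) ≤ I ^ 2 := by
    intro x hx1 hx
    rcases Nat.eq_zero_or_pos (a x) with h0 | hpos
    · rw [h0, zero_mul]; exact Nat.zero_le _
    have hxne : x ≠ x⁻¹ := by
      intro e
      exact hx (invol_iff.2 ⟨by nth_rewrite 2 [e]; exact mul_inv_cancel x, hx1⟩)
    obtain ⟨⟨⟨u, v⟩, hu, hv, huv⟩⟩ := (Nat.card_pos_iff.1 hpos).1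
    have hreal : IsConj x x⁻¹ := isConj_iff.2 ⟨u, huv ▸ invol_conj_mul hu hv⟩
    have hcard := card_extCentralizer hxne hreal
    have hE : extCentralizer x ≠ ⊤ := by
      intro htop
      rw [htop, Subgroup.card_top] at hcard
      have h3 := (Subgroup.centralizer ({x} : Set G)).card_mul_index
      have hidx : (Subgroup.centralizer ({x} : Set G)).index = 2 :=
        Nat.eq_of_mul_eq_mul_left Nat.card_pos (h3.trans (hcard.trans (mul_comm _ _)))
      have hne : Subgroup.centralizer ({x} : Set G) ≠ ⊤ := by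
        intro h; rw [h, Subgroup.index_top] at hidx; omega
      exact (hcon _ hne).1 hidx
    obtain ⟨-, hle⟩ := hcon _ hE
    have h1 := card_pairs_le x
    have h3 := (extCentralizer x).card_mul_index
    rw [hcard] at h3
    set c := Nat.card (Subgroup.centralizer ({x} : Set G))
    set m := (extCentralizer x).index
    have hm : 0 < 2 * m := by
      have : m ≠ 0 := Subgroup.index_ne_zero_of_finite
      omega
    refine Nat.le_of_mul_le_mul_right ?_ hm
    calc a x * (n + I) * (2 * m) ≤ c * (n + I) * (2 * m) :=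
          Nat.mul_le_mul_right _ (Nat.mul_le_mul_right _ h1)
      _ = n * (n + I) := by rw [show c * (n + I) * (2 * m) = 2 * c * m * (n + I) by ring, h3]
      _ ≤ 2 * m * I ^ 2 := hle
      _ = I ^ 2 * (2 * m) := by ring
  -- sum over all elements
  set F := fun x : G => a x * (n + I) with hF
  have hsum : ∑ x : G, F x = I ^ 2 * (n + I) := by
    simp only [hF, ← Finset.sum_mul, ha]
    rw [sum_pairs]
  set S := Finset.univ.filter (fun x : G => orderOf x = 2) with hS
  have hScard : S.card = I := by
    rw [hI, Nat.card_eq_fintype_card, Fintype.card_subtype]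
  set R := Finset.univ.filter (fun x : G => x ≠ 1 ∧ orderOf x ≠ 2) with hR
  have hsplit : (Finset.univ : Finset G) = insert 1 (S ∪ R) := by
    ext x
    simp only [Finset.mem_univ, Finset.mem_insert, Finset.mem_union, Finset.mem_filter, true_and,
      hS, hR, true_iff]
    tauto
  have hdisj : Disjoint S R := by
    simp only [hS, hR, Finset.disjoint_filter]; intro x _ h1 h2; exact h2.2 h1
  have h1not : (1 : G) ∉ S ∪ R := by simp [hS, hR]
  have hRcard : R.card + I + 1 = n := by
    rw [← hScard, hn, Nat.card_eq_fintype_card, ← Finset.card_univ, hsplit,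
      Finset.card_insert_of_notMem h1not, Finset.card_union_of_disjoint hdisj]
    omega
  rw [hsplit, Finset.sum_insert h1not, Finset.sum_union hdisj] at hsum
  have hb1 : F 1 = I * (n + I) := by
    simp only [hF, ha]; rw [card_pairs_one]
  have hbS : ∑ x ∈ S, F x + 2 * I * (n + I) ≤ I * (2 * I ^ 2) := by
    have h1 : ∑ x ∈ S, (F x + 2 * (n + I)) ≤ ∑ _x ∈ S, 2 * I ^ 2 := Finset.sum_le_sum fun x hx => by
      have := hinv x (Finset.mem_filter.1 hx).2
      simp only [hF]; linarith
    rw [Finset.sum_add_distrib, Finset.sum_const, Finset.sum_const, smul_eq_mul, smul_eq_mul,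
      hScard] at h1
    linarith
  have hbR : ∑ x ∈ R, F x ≤ R.card * I ^ 2 := by
    have h1 : ∑ x ∈ R, F x ≤ ∑ _x ∈ R, I ^ 2 := Finset.sum_le_sum fun x hx =>
      hother x (Finset.mem_filter.1 hx).2.1 (Finset.mem_filter.1 hx).2.2
    rwa [Finset.sum_const, smul_eq_mul] at h1
  have hIpos : 0 < I := by
    obtain ⟨t, ht⟩ := exists_prime_orderOf_dvd_card' (G := G) 2 heven.two_dvd
    exact Nat.card_pos_iff.2 ⟨⟨⟨t, ht⟩⟩, inferInstance⟩
  rw [hb1] at hsum
  nlinarith

end CfsgLib.Invol
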