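import Cfsg.Agent.Lib.Invol.BrauerFowler
import Cfsg.Agent.Lib.Invol.SimpleSixty
import Cfsg.Agent.Lib.Invol.TwoClasses
import Cfsg.Agent.Lib.Invol.CyclicCentralizer

/-!
# Consequences of the Brauer–Fowler inequality
-/

namespace CfsgLib.Invol

variable {G : Type*} [Group G] [Finite G]

theorem card_centralizer_mul_invol_ge (t : G) (ht : orderOf t = 2) :
    Nat.card G ≤ Nat.card (Subgroup.centralizer ({t} : Set G)) * Nat.card {u : G // orderOf u = 2} := by
  rw [← card_isConj_mul t, mul_comm]
  refine Nat.mul_le_mul_left _ (Nat.card_le_card_of_injective (fun y => ⟨y.1, ?_⟩) fun a b h => Subtype.ext (congrArg (fun z => z.1) h :))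
  obtain ⟨g, hg⟩ := isConj_iff.1 y.2
  exact hg ▸ invol_conj ht g

theorem exists_large_subgroup (heven : Even (Nat.card G)) (hgt : 2 < Nat.card G) :
    ∃ H : Subgroup G, H ≠ ⊤ ∧ Nat.card G < (Nat.card H) ^ 3 := by
  induction hn : Nat.card G using Nat.strong_induction_on generalizing G with
  | _ n ih =>
  subst hn
  have hidx2 : ∀ H : Subgroup G, H.index = 2 → ∃ H : Subgroup G, H ≠ ⊤ ∧ Nat.card G < (Nat.card H) ^ 3 := by
    intro H hH
    refine ⟨H, fun h => by rw [h, Subgroup.index_top] at hH; omega, ?_⟩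
    have h1 := H.card_mul_index
    rw [hH] at h1
    have h2 : 2 ≤ Nat.card H := by omega
    have h3 : 4 ≤ Nat.card H ^ 2 := by nlinarith
    nlinarith [pow_succ (Nat.card H) 2]
  by_cases hZ : ∀ z : G, orderOf z = 2 → z ∉ Subgroup.center G
  · obtain ⟨H, hH, hH2 | hHlt⟩ := brauer_fowler heven hZ
    · exact hidx2 H hH2
    obtain ⟨t, ht⟩ := exists_prime_orderOf_dvd_card' (G := G) 2 heven.two_dvd
    set I := Nat.card {u : G // orderOf u = 2} with hI
    set C := Subgroup.centralizer ({t} : Set G)
    have hC : C ≠ ⊤ := fun h => hZ t ht (Subgroup.mem_center_iff.2 fun g =>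
      Subgroup.mem_centralizer_singleton_iff.1 (h ▸ Subgroup.mem_top g : g ∈ C))
    have hgC := card_centralizer_mul_invol_ge t ht
    by_cases hcmp : Nat.card C ≤ Nat.card H
    · refine ⟨H, hH, ?_⟩
      have h1 := H.card_mul_index
      set h := Nat.card H
      set m := H.index
      set g := Nat.card G
      -- `2 I² < h (g + I)` and `g ≤ h I`
      have hgI : g ≤ h * I := le_trans hgC (Nat.mul_le_mul_right _ hcmp)
      by_contra hcon
      push Not at hcon
      have hm : 0 < m := Nat.pos_of_ne_zero Subgroup.index_ne_zero_of_finite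
      have h2 : 2 * I ^ 2 < h * (g + I) := by
        by_contra hc
        push Not at hc
        have : g * (g + I) ≤ 2 * m * I ^ 2 := by
          calc g * (g + I) = m * (h * (g + I)) := by rw [← h1]; ring
            _ ≤ m * (2 * I ^ 2) := Nat.mul_le_mul_left _ hc
            _ = 2 * m * I ^ 2 := by ring
        omega
      have hh2 : 2 ≤ h := le_trans (by
        obtain ⟨j, hj⟩ : 2 ∣ Nat.card C := by
          rw [← ht]; exact Subgroup.orderOf_dvd_natCard C (Subgroup.mem_centralizer_singleton_iff.2 rfl)
        have := Nat.card_pos (α := C); omega) hcmp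
      have hI1 : 1 ≤ I := Nat.card_pos_iff.2 ⟨⟨⟨t, ht⟩⟩, inferInstance⟩
      -- `2 I² < h g + h I ≤ h² I + h I`
      have h3 : 2 * I ^ 2 < (h ^ 2 + h) * I := by nlinarith
      have h4 : 2 * I < h ^ 2 + h := by nlinarith
      have h5 : 2 * g < h * (h ^ 2 + h) := lt_of_le_of_lt (by nlinarith) (Nat.mul_lt_mul_of_pos_left h4 (by omega))
      nlinarith [pow_succ h 2]
    · refine ⟨C, hC, ?_⟩
      have h1 := H.card_mul_index
      set h := Nat.card H
      set c := Nat.card C
      set m := H.index
      set g := Nat.card G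
      by_contra hcon
      push Not at hcon
      have hhc : h ≤ c := by omega
      have hm : 0 < m := Nat.pos_of_ne_zero Subgroup.index_ne_zero_of_finite
      have h2 : 2 * I ^ 2 < h * (g + I) := by
        by_contra hc
        push Not at hc
        have : g * (g + I) ≤ 2 * m * I ^ 2 := by
          calc g * (g + I) = m * (h * (g + I)) := by rw [← h1]; ring
            _ ≤ m * (2 * I ^ 2) := Nat.mul_le_mul_left _ hc
            _ = 2 * m * I ^ 2 := by ring
        omega
      have hc2 : 2 ≤ c := by
        obtain ⟨j, hj⟩ : 2 ∣ Nat.card C := by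
          rw [← ht]; exact Subgroup.orderOf_dvd_natCard C (Subgroup.mem_centralizer_singleton_iff.2 rfl)
        have := Nat.card_pos (α := C); omega
      have hI1 : 1 ≤ I := Nat.card_pos_iff.2 ⟨⟨⟨t, ht⟩⟩, inferInstance⟩
      have h3 : 2 * I ^ 2 < c * (g + I) := lt_of_lt_of_le h2 (Nat.mul_le_mul_right _ hhc)
      have h3' : 2 * I ^ 2 < (c ^ 2 + c) * I := by nlinarith
      have h4 : 2 * I < c ^ 2 + c := by nlinarith
      have h5 : 2 * g < c * (c ^ 2 + c) := lt_of_le_of_lt (by nlinarith) (Nat.mul_lt_mul_of_pos_left h4 (by omega))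
      nlinarith [pow_succ c 2]
  · push Not at hZ
    obtain ⟨z, hzo, hzc⟩ := hZ
    set Z := Subgroup.zpowers z with hZdef
    have hn : Z.Normal := ⟨fun u hu g => by
      have : g * u = u * g := Subgroup.mem_center_iff.1 (Subgroup.zpowers_le.2 hzc hu) g
      rwa [this, mul_inv_cancel_right]⟩
    have hZc : Nat.card Z = 2 := by rw [hZdef, Nat.card_zpowers, hzo]
    have hmul := Z.card_mul_index
    rw [hZc] at hmul
    rcases Nat.even_or_odd Z.index with hev | hodd
    · by_cases h2 : Z.index = 2
      · exact hidx2 Z h2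
      have hpos : Z.index ≠ 0 := Subgroup.index_ne_zero_of_finite
      have hq : Z.index = Nat.card (G ⧸ Z) := Subgroup.index_eq_card _
      obtain ⟨m, hm⟩ := hev
      obtain ⟨K, hK, hKlt⟩ := ih (Nat.card (G ⧸ Z)) (by omega) (G := G ⧸ Z)
        ⟨m, by omega⟩ (by omega) rfl
      refine ⟨K.comap (QuotientGroup.mk' Z), fun htop => hK ?_, ?_⟩
      · rw [← Subgroup.map_comap_eq_self_of_surjective (QuotientGroup.mk'_surjective Z) K, htop,
          Subgroup.map_top_of_surjective _ (QuotientGroup.mk'_surjective Z)]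
      · have h1 := (K.comap (QuotientGroup.mk' Z)).card_mul_index
        rw [Subgroup.index_comap_of_surjective _ (QuotientGroup.mk'_surjective Z), ← hmul, hq,
          ← K.card_mul_index, ← mul_assoc] at h1
        have h2 := Nat.eq_of_mul_eq_mul_right (Nat.pos_of_ne_zero Subgroup.index_ne_zero_of_finite) h1
        rw [h2, mul_pow, ← hmul, hq]
        nlinarith
    · obtain ⟨T⟩ := (inferInstance : Nonempty (Sylow 2 G))
      have hTc : Nat.card (T : Subgroup G) = 2 := by
        obtain ⟨k, hk⟩ := T.2.exists_card_eq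
        have h1 := Subgroup.card_subgroup_dvd_card (T : Subgroup G)
        have h2 : 2 ∣ Nat.card (T : Subgroup G) := T.dvd_card_of_dvd_card heven.two_dvd
        rw [hk] at h1 h2
        rcases k with _ | _ | k
        · norm_num at h2
        · simpa using hk
        · have h4 : 4 ∣ Nat.card G := (pow_dvd_pow 2 (by omega : 2 ≤ k + 1 + 1)).trans h1
          obtain ⟨j, hj⟩ := hodd; omega
      have : Fact (Nat.Prime 2) := ⟨Nat.prime_two⟩
      obtain ⟨H, hH⟩ := exists_index_two_of_cyclic heven T (isCyclic_of_prime_card hTc)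
      exact hidx2 H hH

section Simple

variable [IsSimpleGroup G]

theorem center_no_invol (hG : ¬ IsMulCommutative G) (z : G) (hz : orderOf z = 2) :
    z ∉ Subgroup.center G := by
  intro hc
  rcases IsSimpleGroup.eq_bot_or_eq_top_of_normal (Subgroup.center G) inferInstance with hb | hb
  · rw [hb, Subgroup.mem_bot] at hc; exact invol_ne_one hz hc
  · exact hG ⟨⟨fun a b => (Subgroup.mem_center_iff.1 (hb ▸ Subgroup.mem_top b) a)⟩⟩

theorem exists_action_dvd (hG : ¬ IsMulCommutative G) {H : Subgroup G} (hH : H ≠ ⊤) :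
    2 * Nat.card G ∣ H.index.factorial := by
  rw [Subgroup.index_eq_card]
  refine two_mul_card_dvd_factorial hG ?_
  by_contra hc
  push Not at hc
  apply hH
  rw [eq_top_iff]
  intro g _
  have h1 := hc g ((1 : G) : G ⧸ H)
  rw [MulAction.Quotient.smul_mk, QuotientGroup.eq, smul_eq_mul, mul_one, mul_one] at h1
  simpa using inv_mem h1

theorem brauer_fowler_order {t : G} (ht : orderOf t = 2) :
    Nat.card G ≤ Nat.factorial (2 * (Nat.card (Subgroup.centralizer ({t} : Set G))) ^ 2) := by
  set c := Nat.card (Subgroup.centralizer ({t} : Set G)) with hc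
  have hc1 : 2 ≤ c := by
    have h1 : 2 ∣ c := by
      rw [← ht]
      exact Subgroup.orderOf_dvd_natCard _ (Subgroup.mem_centralizer_singleton_iff.2 rfl)
    have := Nat.card_pos (α := Subgroup.centralizer ({t} : Set G))
    obtain ⟨j, hj⟩ := h1
    omega
  by_cases hG : IsMulCommutative G
  · -- the group is then the centralizer itself
    have : Nat.card G = c := by
      rw [hc, show Subgroup.centralizer ({t} : Set G) = ⊤ from eq_top_iff.2 fun g _ =>
        Subgroup.mem_centralizer_singleton_iff.2 (hG.is_comm.comm g t), Subgroup.card_top]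
    rw [this]
    exact le_trans (by nlinarith) (Nat.self_le_factorial _)
  have heven : Even (Nat.card G) := even_iff_two_dvd.2 (ht ▸ orderOf_dvd_natCard t)
  obtain ⟨H, hH, hH2 | hlt⟩ := brauer_fowler heven (center_no_invol hG)
  · exact absurd hH2 (not_isMulCommutative_index_ne_two hG H)
  have hd := exists_action_dvd hG hH
  have h2 : Nat.card G ≤ H.index.factorial :=
    le_trans (by omega) (Nat.le_of_dvd (Nat.factorial_pos _) hd)
  refine h2.trans (Nat.factorial_le ?_)
  have hgC := card_centralizer_mul_invol_ge t ht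
  set g := Nat.card G
  set I := Nat.card {u : G // orderOf u = 2}
  set m := H.index
  by_contra hcon
  push Not at hcon
  have h3 : g * g ≤ c ^ 2 * I ^ 2 := by nlinarith
  have h4 : g * I ≤ c * I ^ 2 := by nlinarith
  have h5 : 2 * m * I ^ 2 < (c ^ 2 + c) * I ^ 2 := by nlinarith
  have h6 : 2 * m < c ^ 2 + c := Nat.lt_of_mul_lt_mul_right h5
  nlinarith

theorem three_mul_invol_lt (heven : Even (Nat.card G)) (hgt : 2 < Nat.card G) :
    3 * Nat.card {t : G // orderOf t = 2} < Nat.card G := by
  have hG : ¬ IsMulCommutative G := by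
    intro hc
    obtain ⟨x, hx⟩ := exists_prime_orderOf_dvd_card' (G := G) 2 heven.two_dvd
    have hn : (Subgroup.zpowers x).Normal :=
      ⟨fun n hn g => by rwa [hc.is_comm.comm g n, mul_inv_cancel_right]⟩
    have h2 : Nat.card (Subgroup.zpowers x) = 2 := by rw [Nat.card_zpowers, hx]
    rcases IsSimpleGroup.eq_bot_or_eq_top_of_normal _ hn with h1 | h1
    · rw [h1, Subgroup.card_bot] at h2; omega
    · rw [h1, Subgroup.card_top] at h2; omega
  obtain ⟨H, hH, hH2 | hlt⟩ := brauer_fowler heven (center_no_invol hG)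
  · exact absurd hH2 (not_isMulCommutative_index_ne_two hG H)
  by_contra hcon
  push Not at hcon
  set g := Nat.card G with hgdef
  set I := Nat.card {u : G // orderOf u = 2} with hIdef
  have hm : H.index ≤ 5 := by nlinarith
  have hd := exists_action_dvd hG hH
  have h2 : 2 * g ∣ Nat.factorial 5 := hd.trans (Nat.factorial_dvd_factorial hm)
  rw [show Nat.factorial 5 = 120 from rfl] at h2
  have hle := Nat.le_of_dvd (by norm_num) h2
  have h60 : g = 60 := card_eq_sixty_of_le_hundred hG (by omega)
  obtain ⟨e⟩ := mulEquiv_alternating_five h60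
  have hI : I = 15 := by
    rw [hIdef, Nat.card_congr (e.toEquiv.subtypeEquiv (q := fun s => s * s = 1 ∧ s ≠ 1) fun u => by
      rw [← invol_iff]; exact (MulEquiv.orderOf_eq e u).symm ▸ Iff.rfl), Nat.card_eq_fintype_card]
    decide +kernel
  omega

end Simple

end CfsgLib.Invol
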