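import Cfsg.Agent.Lib.Invol.ThreeConstituents
import Cfsg.Agent.Lib.Char.TI
import Cfsg.Agent.Lib.Char.IndMap
import Mathlib.GroupTheory.SpecificGroups.Quaternion

/-!
# An isolated involution over a generalized quaternion Sylow subgroup of order at least 16
-/

open scoped ComplexConjugate
open Subgroup

set_option autoImplicit false

namespace CfsgLib.Invol

open Cfsg CfsgLib.Block

universe u

variable {G : Type u} [Group G] [Fintype G]

/-- The rotation and a reflection of a quaternion group. -/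
theorem quaternion_elements {S : Subgroup G} {n : ℕ} [NeZero n] (e : S ≃* QuaternionGroup n) :
    ∃ a y : G, a ∈ S ∧ y ∈ S ∧ orderOf a = 2 * n ∧ orderOf y = 4 ∧ y * a * y⁻¹ = a⁻¹ := by
  refine ⟨(e.symm (.a 1) : S), (e.symm (.xa 0) : S), SetLike.coe_mem _, SetLike.coe_mem _,
    by rw [Subgroup.orderOf_coe, MulEquiv.orderOf_eq, QuaternionGroup.orderOf_a_one],
    by rw [Subgroup.orderOf_coe, MulEquiv.orderOf_eq, QuaternionGroup.orderOf_xa], ?_⟩
  have h1 : (QuaternionGroup.a (1 : ZMod (2 * n)))⁻¹ = .a (-1) :=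
    inv_eq_of_mul_eq_one_right (by rw [QuaternionGroup.a_mul_a, add_neg_cancel]; rfl)
  have h2 : (QuaternionGroup.xa (0 : ZMod (2 * n))) * .a 1 * (.xa 0)⁻¹ = (.a 1)⁻¹ := by
    rw [h1, mul_inv_eq_iff_eq_mul, QuaternionGroup.xa_mul_a, QuaternionGroup.a_mul_xa]
    simp
  have h3 := congrArg (fun x => ((e.symm x : S) : G)) h2
  simp only [map_mul, map_inv, Subgroup.coe_mul, InvMemClass.coe_inv] at h3
  exact h3

/-- The Sylow 2-subgroup is generalized quaternion of order at least 16. -/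
theorem false_of_quaternion_large {z : G} (IH : ZStarBelow.{u} (Nat.card G))
    (hz : IsIsolatedInvolution z) (hO : pPrimeCore 2 G = ⊥) (hZ : Subgroup.center G = ⊥)
    (huniq : ∀ v : G, orderOf v = 2 → Commute z v → v = z) (S : Sylow 2 G)
    (hS : (S : Subgroup G) ≤ Subgroup.centralizer ({z} : Set G)) (k : ℕ) (hk : 2 ≤ k)
    (e : (S : Subgroup G) ≃* QuaternionGroup (2 ^ k)) : False := by
  classical
  haveI : Fact (Nat.Prime 2) := ⟨Nat.prime_two⟩
  have hzZ : z ∉ Subgroup.center G := fun h =>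
    invol_ne_one hz.1 (Subgroup.mem_bot.1 (hZ ▸ h))
  obtain ⟨n', hn'⟩ : ∃ n', 2 ^ k = 2 * n' := ⟨2 ^ (k - 1), by rw [← pow_succ']; congr 1; omega⟩
  set n := 2 ^ k with hn
  haveI : NeZero n := ⟨by rw [hn]; exact (Nat.two_pow_pos k).ne'⟩
  have hn4 : 4 ∣ n := ⟨2 ^ (k - 2), by
    rw [hn, show (4 : ℕ) = 2 ^ 2 from rfl, ← pow_add]; congr 1; omega⟩
  obtain ⟨a, y, haS, hyS, hao, hyo, hinv⟩ := quaternion_elements e
  have hcz : ∀ x ∈ (S : Subgroup G), Commute z x := fun x hx =>
    (Subgroup.mem_centralizer_singleton_iff.1 (hS hx)).symm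
  set c := a ^ n' with hc
  have hco : orderOf c = 4 := by
    rw [hc, orderOf_pow, hao, hn', Nat.gcd_eq_right ⟨4, by ring⟩,
      show 2 * (2 * n') = 4 * n' by ring, Nat.mul_div_cancel _ (by
        have := NeZero.ne n; omega)]
  have hzc : c ^ 2 = z := by
    refine huniq _ ?_ (hcz c (pow_mem haS _) |>.pow_right 2)
    rw [orderOf_pow, hco]; rfl
  have hyc : y * c * y⁻¹ = c⁻¹ := by rw [hc, ← conj_pow, hinv, inv_pow]
  have hcne : c⁻¹ ≠ c := fun h => by
    have : c * c = 1 := by nth_rw 1 [← h]; exact inv_mul_cancel c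
    have := orderOf_dvd_of_pow_eq_one (show c ^ 2 = 1 by rw [pow_two]; exact this)
    rw [hco] at this; norm_num at this
  have hn4' : 4 ≤ n := Nat.le_of_dvd (Nat.pos_of_ne_zero (NeZero.ne n)) hn4
  set L := Subgroup.centralizer ({c} : Set G) with hL
  have hmemL : ∀ g : G, g ∈ L ↔ Commute g c := fun g => Subgroup.mem_centralizer_singleton_iff
  have haL : a ∈ L := (hmemL a).2 ((Commute.refl a).pow_right n')
  have hLz : ∀ g ∈ L, Commute z g := fun g hg => hzc ▸ ((hmemL g).1 hg).symm.pow_left 2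
  have hLuniq : ∀ g ∈ L, orderOf g = 2 → g = z := fun g hg ho => huniq g ho (hLz g hg)
  -- the set and its normalizer
  set T : Set G := {g | g ∈ L ∧ 4 ∣ orderOf g} with hT
  set N := Subgroup.normalizer T with hN
  have hA : ∀ g ∈ Subgroup.zpowers a, Commute g c := fun g hg => by
    obtain ⟨i, rfl⟩ := Subgroup.mem_zpowers_iff.1 hg
    exact ((Commute.refl a).zpow_left i).pow_right n'
  have hAL : Subgroup.zpowers a ≤ L := fun g hg => (hmemL g).2 (hA g hg)
  -- the Sylow subgroup of `L`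
  have hcardS : Nat.card (S : Subgroup G) = 4 * n := by
    rw [Nat.card_congr e.toEquiv, Nat.card_eq_fintype_card, QuaternionGroup.card]
  have hindA : (Subgroup.zpowers a).index = 2 * (S : Subgroup G).index := by
    have h1 := (Subgroup.zpowers a).card_mul_index
    rw [← (S : Subgroup G).card_mul_index, hcardS, Nat.card_zpowers, hao,
      show 4 * n * (S : Subgroup G).index = 2 * n * (2 * (S : Subgroup G).index) by ring] at h1
    exact Nat.eq_of_mul_eq_mul_left (by have := NeZero.ne n; omega) h1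
  have hconjL : ∀ g : G, (g * c * g⁻¹ = c ∨ g * c * g⁻¹ = c⁻¹) →
      ∀ x : G, x ∈ L → g * x * g⁻¹ ∈ L := by
    intro g hg x hx
    have h1 := ((hmemL x).1 hx).map (MulAut.conj g).toMonoidHom
    simp only [MulEquiv.toMonoidHom_eq_coe, MonoidHom.coe_coe, MulAut.conj_apply] at h1
    rcases hg with hg | hg <;> rw [hg] at h1
    · exact (hmemL _).2 h1
    · exact (hmemL _).2 (Commute.inv_right_iff.1 h1)
  have hfour : ∀ g ∈ L, orderOf g = 4 → g = c ∨ g = c⁻¹ := by
    intro g hg ho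
    have hg2 : g ^ 2 = z := hLuniq _ (pow_mem hg 2) (by rw [orderOf_pow, ho]; rfl)
    by_contra hne
    push Not at hne
    have hgc := (hmemL g).1 hg
    have h2 : orderOf (g * c⁻¹) = 2 := invol_iff.2 ⟨by
      rw [← pow_two, hgc.inv_right.mul_pow, inv_pow, hg2, hzc, invol_inv hz.1,
        invol_mul_self hz.1], fun h => hne.1 (mul_inv_eq_one.1 h)⟩
    have h3 := hLuniq _ (mul_mem hg (inv_mem ((hmemL c).2 (Commute.refl c)))) h2
    apply hne.2
    calc g = g * c⁻¹ * c := (inv_mul_cancel_right g c).symm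
      _ = c ^ 2 * c := by rw [h3, hzc]
      _ = c⁻¹ := by
        rw [← pow_succ, eq_inv_iff_mul_eq_one, ← pow_succ]
        have := pow_orderOf_eq_one c
        rw [hco] at this
        exact this
  have hmemN : ∀ g : G, g ∈ N ↔ (g * c * g⁻¹ = c ∨ g * c * g⁻¹ = c⁻¹) := by
    intro g
    constructor
    · intro hg
      have hcT : c ∈ T := ⟨(hmemL c).2 (Commute.refl c), by rw [hco]⟩
      have h1 := (Subgroup.mem_set_normalizer_iff.1 hg c).1 hcT
      exact hfour _ h1.1 (by rw [← MulAut.conj_apply, MulEquiv.orderOf_eq, hco])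
    · intro hg
      refine Subgroup.mem_set_normalizer_iff.2 fun x => ⟨fun hx => ⟨hconjL g hg x hx.1, by
        rw [← MulAut.conj_apply, MulEquiv.orderOf_eq]; exact hx.2⟩, fun hx => ?_⟩
      have hg' : g⁻¹ * c * g⁻¹⁻¹ = c ∨ g⁻¹ * c * g⁻¹⁻¹ = c⁻¹ := by
        rcases hg with hg | hg
        · left; nth_rw 1 [← hg]; group
        · right
          have : g⁻¹ * (g * c * g⁻¹)⁻¹ * g = c⁻¹ := by group
          rw [hg, inv_inv] at this
          rwa [inv_inv]
      refine ⟨?_, ?_⟩
      · have := hconjL g⁻¹ hg' _ hx.1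
        rwa [show g⁻¹ * (g * x * g⁻¹) * g⁻¹⁻¹ = x by group] at this
      · have := hx.2
        rwa [← MulAut.conj_apply, MulEquiv.orderOf_eq] at this
  have hLN : L ≤ N := fun g hg => (hmemN g).2 (Or.inl (by
    rw [((hmemL g).1 hg).eq, mul_inv_cancel_right]))
  have hyN : y ∈ N := (hmemN y).2 (Or.inr hyc)
  have hTI : ∀ g : G, g ∉ N → ∀ t ∈ T, g * t * g⁻¹ ∈ T → t = 1 := by
    intro g hg t ht hgt
    exfalso
    apply hg
    obtain ⟨j, hj⟩ := ht.2
    have ho : orderOf (t ^ j) = 4 := by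
      have hj0 : j ≠ 0 := fun h => by rw [h, mul_zero] at hj; exact (orderOf_pos t).ne' hj
      rw [orderOf_pow, hj, Nat.gcd_eq_right (Dvd.intro_left 4 rfl),
        Nat.mul_div_cancel _ (Nat.pos_of_ne_zero hj0)]
    have h1 := hfour _ (pow_mem ht.1 j) ho
    have h2 := hfour _ (pow_mem hgt.1 j)
      (by rw [conj_pow, ← MulAut.conj_apply, MulEquiv.orderOf_eq, ho])
    rw [conj_pow] at h2
    refine (hmemN g).2 ?_
    rcases h1 with h1 | h1 <;> rw [h1] at h2
    · exact h2
    · have e1 : g * c⁻¹ * g⁻¹ = (g * c * g⁻¹)⁻¹ := by group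
      rw [e1, inv_inj, inv_eq_iff_eq_inv] at h2
      exact h2.symm
  -- `L` has index two in `N`
  set L' := L.subgroupOf N with hL'
  have hL'i : L'.index = 2 := by
    rw [Subgroup.index_eq_two_iff]
    refine ⟨⟨y, hyN⟩, fun b => ?_⟩
    simp only [hL', Subgroup.mem_subgroupOf, Subgroup.coe_mul, hmemL]
    have hby : (b : G) * y * c * ((b : G) * y)⁻¹ = ((b : G) * c * (b : G)⁻¹)⁻¹ := by
      calc (b : G) * y * c * ((b : G) * y)⁻¹ = (b : G) * (y * c * y⁻¹) * (b : G)⁻¹ := by group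
        _ = ((b : G) * c * (b : G)⁻¹)⁻¹ := by rw [hyc]; group
    have hiff : ∀ g : G, Commute g c ↔ g * c * g⁻¹ = c := fun g =>
      mul_inv_eq_iff_eq_mul.symm
    rw [hiff, hiff, hby]
    rcases (hmemN b).1 b.2 with h | h
    · exact Or.inr ⟨h, fun h' => hcne (by rwa [h] at h')⟩
    · exact Or.inl ⟨by rw [h, inv_inv], fun h' => hcne (h ▸ h')⟩
  haveI hL'n : L'.Normal := Subgroup.normal_of_index_eq_two hL'i
  -- a linear character of `L`
  have hLindex : ¬ 2 ∣ (Subgroup.zpowers a).relIndex L := by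
    intro h
    apply S.not_dvd_index
    have h1 := Subgroup.relIndex_mul_index hAL
    have h2 := Subgroup.relIndex_mul_index hLN
    rw [show L.relIndex N = 2 from hL'i] at h2
    rw [← h2, hindA] at h1
    have h3 : (Subgroup.zpowers a).relIndex L * N.index = (S : Subgroup G).index :=
      Nat.eq_of_mul_eq_mul_left two_pos (by linarith)
    exact h.trans (Dvd.intro _ h3)
  have hPA : IsPGroup 2 ((Subgroup.zpowers a).subgroupOf L) :=
    (IsPGroup.of_card (n := k + 1) (by rw [Nat.card_zpowers, hao, hn, pow_succ'])).of_injective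
      (Subgroup.subgroupOfEquivOfLe hAL).toMonoidHom (MulEquiv.injective _)
  set P : Sylow 2 L := hPA.toSylow hLindex with hP
  haveI hPc : IsCyclic P := isCyclic_of_surjective
    ((Subgroup.subgroupOfEquivOfLe hAL).symm.toMonoidHom) (MulEquiv.surjective _)
  have hmf : (Nat.card L).minFac = 2 := by
    rw [Nat.minFac_eq_two_iff]
    have := Subgroup.orderOf_dvd_natCard L ((hmemL c).2 (Commute.refl c))
    rw [hco] at this; omega
  set τ := MonoidHom.transferSylow P (IsCyclic.normalizer_le_centralizer hmf hPc) with hτ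
  set aP : P := ⟨⟨a, haL⟩, Subgroup.mem_zpowers a⟩ with haP
  have hgenP : ∀ x : P, x ∈ Subgroup.zpowers aP := by
    rintro ⟨⟨x, hxL⟩, hx⟩
    obtain ⟨i, hi⟩ := Subgroup.mem_zpowers_iff.1 (show x ∈ Subgroup.zpowers a from hx)
    refine Subgroup.mem_zpowers_iff.2 ⟨i, Subtype.ext (Subtype.ext ?_)⟩
    simpa [haP] using hi
  obtain ⟨ζ, hζ⟩ : ∃ ζ : ℂ, IsPrimitiveRoot ζ n :=
    ⟨_, Complex.isPrimitiveRoot_exp n (NeZero.ne n)⟩
  have hζu : IsPrimitiveRoot (hζ.isUnit (NeZero.ne n)).unit n := hζ.isUnit_unit (NeZero.ne n)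
  set ν := monoidHomOfForallMemZpowers hgenP (g' := (hζ.isUnit (NeZero.ne n)).unit) (by
    rw [← hζu.eq_orderOf, ← Subgroup.orderOf_coe, ← Subgroup.orderOf_coe,
      show (((aP : L)) : G) = a from rfl, hao]
    exact Dvd.intro_left 2 rfl) with hν
  set φ : L →* ℂˣ := ν.comp τ with hφ
  have hν_a : ν aP = (hζ.isUnit (NeZero.ne n)).unit := monoidHomOfForallMemZpowers_apply_gen _ _
  have hφpow : ∀ l : L, φ l ^ n = 1 := fun l => by
    obtain ⟨i, hi⟩ := Subgroup.mem_zpowers_iff.1 (hgenP (τ l))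
    rw [hφ, MonoidHom.comp_apply, ← hi, map_zpow, hν_a, ← zpow_natCast, ← zpow_mul, mul_comm,
      zpow_mul, zpow_natCast, hζu.pow_eq_one, one_zpow]
  have hφa : IsPrimitiveRoot (φ ⟨a, haL⟩) n := by
    have hidx : (P : Subgroup L).index.Coprime n := by
      rw [hn]
      exact Nat.Coprime.pow_right k ((Nat.prime_two.coprime_iff_not_dvd).2 P.not_dvd_index).symm
    have h1 : φ ⟨a, haL⟩ = (hζ.isUnit (NeZero.ne n)).unit ^ (P : Subgroup L).index := by
      rw [hφ, MonoidHom.comp_apply, hτ, MonoidHom.transferSylow_eq_pow _ _ _ aP.2, ← hν_a,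
        ← map_pow]
      rfl
    rw [h1]
    exact hζu.pow_of_coprime _ hidx
  have hφa1 : φ ⟨a, haL⟩ ≠ 1 := fun h => by
    have := hφa.eq_orderOf
    rw [h, orderOf_one] at this
    omega
  have hφa2 : φ ⟨a, haL⟩ ^ 2 ≠ 1 := fun h => by
    have := Nat.le_of_dvd two_pos ((hφa.pow_eq_one_iff_dvd 2).1 h)
    omega
  have hvan : ∀ l : L, ¬ 4 ∣ orderOf (l : G) → φ l = 1 := by
    intro l hl
    have h0 := (orderOf_pos (l : G)).ne'
    obtain ⟨m, hmodd, hm⟩ : ∃ m, Odd m ∧ (orderOf (l : G) = m ∨ orderOf (l : G) = 2 * m) := by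
      rcases Nat.even_or_odd (orderOf (l : G)) with ⟨m, hm⟩ | h
      · refine ⟨m, ?_, Or.inr (by omega)⟩
        rw [Nat.odd_iff]; omega
      · exact ⟨_, h, Or.inl rfl⟩
    have h1 : φ l ^ m = 1 := by
      rcases hm with hm | hm
      · rw [← map_pow, show l ^ m = 1 from Subtype.ext (by
          rw [Subgroup.coe_pow, ← hm, pow_orderOf_eq_one]; rfl), map_one]
      · have h2 : orderOf ((l : G) ^ m) = 2 := by
          rw [orderOf_pow, hm, Nat.gcd_eq_right (Dvd.intro_left 2 rfl),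
            Nat.mul_div_cancel _ (by omega)]
        have h3 : l ^ m = ⟨a, haL⟩ ^ n := Subtype.ext (by
          rw [Subgroup.coe_pow, Subgroup.coe_pow, hLuniq _ (pow_mem l.2 m) h2]
          refine (hLuniq _ (pow_mem haL n) ?_).symm
          rw [orderOf_pow, hao, Nat.gcd_eq_right (Dvd.intro_left 2 rfl),
            Nat.mul_div_cancel _ (Nat.pos_of_ne_zero (NeZero.ne n))])
        rw [← map_pow, h3, map_pow, hφa.pow_eq_one]
    have h4 := orderOf_dvd_of_pow_eq_one h1
    have h5 := orderOf_dvd_of_pow_eq_one (hφpow l)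
    exact orderOf_eq_one_iff.1 (Nat.eq_one_of_dvd_coprimes
      (Nat.Coprime.pow_right k hmodd.coprime_two_right) h4 h5)
  have hflip : ∀ (l : L) (h : y * (l : G) * y⁻¹ ∈ L), φ ⟨_, h⟩ = (φ l)⁻¹ := by
    intro l h
    let cy : L →* L :=
      { toFun := fun x => ⟨y * (x : G) * y⁻¹, hconjL y (Or.inr hyc) x x.2⟩
        map_one' := Subtype.ext (by simp)
        map_mul' := fun x x' => Subtype.ext (by simp [mul_assoc]) }
    let χ : L →* ℂˣ := φ.comp cy * φ
    suffices h0 : χ = 1 by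
      have := DFunLike.congr_fun h0 l
      exact eq_inv_of_mul_eq_one_left this
    have hPker : (P : Subgroup L) ≤ χ.ker := fun x hx => by
      obtain ⟨i, hi⟩ := Subgroup.mem_zpowers_iff.1 (hgenP ⟨x, hx⟩)
      have hxa : x = ⟨a, haL⟩ ^ i := (congrArg Subtype.val hi).symm
      rw [MonoidHom.mem_ker, hxa, map_zpow]
      show (φ (cy ⟨a, haL⟩) * φ ⟨a, haL⟩) ^ i = 1
      rw [show cy ⟨a, haL⟩ = (⟨a, haL⟩ : L)⁻¹ from Subtype.ext hinv, map_inv, inv_mul_cancel,
        one_zpow]
    have hKker : τ.ker ≤ χ.ker := fun x hx => by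
      have hodd : Odd (orderOf (x : G)) := by
        rw [Subgroup.orderOf_coe]
        refine Odd.of_dvd_nat ?_ (Subgroup.orderOf_dvd_natCard _ hx)
        rw [Nat.odd_iff]
        have := MonoidHom.not_dvd_card_ker_transferSylow P
          (IsCyclic.normalizer_le_centralizer hmf hPc)
        rw [← hτ] at this
        omega
      have h4 : ¬ 4 ∣ orderOf (x : G) := fun h4 => by
        obtain ⟨i, hi⟩ := hodd; omega
      rw [MonoidHom.mem_ker]
      show φ (cy x) * φ x = 1
      rw [hvan x h4, hvan (cy x) (by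
        show ¬ 4 ∣ orderOf (y * (x : G) * y⁻¹)
        rwa [← MulAut.conj_apply, MulEquiv.orderOf_eq]), one_mul]
    refine MonoidHom.ker_eq_top_iff.1 (top_le_iff.1 fun x _ => ?_)
    obtain ⟨⟨p, q⟩, hpq⟩ := (MonoidHom.ker_transferSylow_isComplement' P
      (IsCyclic.normalizer_le_centralizer hmf hPc)).2 x
    rw [← hpq]
    exact mul_mem (hKker p.2) (hPker q.2)
  -- the virtual character of `N`
  haveI : Fintype N := Fintype.ofFinite _
  haveI : Fintype L' := Fintype.ofFinite _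
  let φN : L' →* ℂˣ := φ.comp (Subgroup.subgroupOfEquivOfLe hLN).toMonoidHom
  set f : L' → ℂ := fun l => 1 - (φN l : ℂ) with hf
  have hfgen : IsGeneralizedCharacter L' f :=
    Char.isGeneralizedCharacter_sub
      (Char.isGeneralizedCharacter_of_isCharacter
        (Char.isCharacter_of_isIrr Char.isIrrCharacter_one))
      (Char.isGeneralizedCharacter_of_isCharacter
        (Char.isCharacter_of_isIrr (Char.isIrrCharacter_lin φN)))
  set ψ : N → ℂ := indFun L' f with hψ
  have hψgen : IsGeneralizedCharacter N ψ := Char.isGeneralizedCharacter_indFun L' hfgen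
  have hψcf : IsClassFunction N ψ := Char.isClassFunction_indFun L' f
  have hψmem : ∀ l : L', ψ l = 2 - (φN l : ℂ) - ((φN l)⁻¹ : ℂˣ) := by
    intro l
    have hconj : ∀ x : N, f ⟨x * l * x⁻¹, hL'n.conj_mem l l.2 x⟩ =
        if x ∈ L' then 1 - (φN l : ℂ) else 1 - ((φN l)⁻¹ : ℂˣ) := by
      intro x
      split_ifs with hx
      · have e1 : (⟨x * l * x⁻¹, hL'n.conj_mem l l.2 x⟩ : L') = ⟨x, hx⟩ * l * (⟨x, hx⟩ : L')⁻¹ :=
          rfl
        simp only [hf, e1, map_mul, map_inv]
        rw [mul_comm (φN ⟨x, hx⟩), mul_inv_cancel_right]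
      · have hxy : x * (⟨y, hyN⟩ : N) ∈ L' := by
          have h1 := Subgroup.mul_mem_iff_of_index_two hL'i (a := x) (b := ⟨y, hyN⟩)
          refine h1.2 ⟨fun h => absurd h hx, fun h => absurd ?_ hcne⟩
          have : y * c * y⁻¹ = c := mul_inv_eq_iff_eq_mul.2 ((hmemL y).1 h)
          rw [hyc] at this; exact this
        have hyl : y * ((Subgroup.subgroupOfEquivOfLe hLN l : L) : G) * y⁻¹ ∈ L :=
          hconjL y (Or.inr hyc) _ (SetLike.coe_mem _)
        set w : L' := ⟨(⟨y, hyN⟩ : N) * l * (⟨y, hyN⟩ : N)⁻¹, hL'n.conj_mem l l.2 _⟩ with hw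
        have hwv : φN w = (φN l)⁻¹ := hflip (Subgroup.subgroupOfEquivOfLe hLN l) hyl
        have hyy : (⟨y, hyN⟩ : N) * ⟨y, hyN⟩ ∈ L' := by
          simp only [hL', Subgroup.mem_subgroupOf, Subgroup.coe_mul, hmemL]
          refine mul_inv_eq_iff_eq_mul.1 ?_
          calc y * y * c * (y * y)⁻¹ = y * (y * c * y⁻¹) * y⁻¹ := by group
            _ = y * c⁻¹ * y⁻¹ := by rw [hyc]
            _ = (y * c * y⁻¹)⁻¹ := by group
            _ = c := by rw [hyc, inv_inv]
        set d : L' := ⟨x * ⟨y, hyN⟩, hxy⟩ * (⟨⟨y, hyN⟩ * ⟨y, hyN⟩, hyy⟩ : L')⁻¹ with hd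
        have e1 : (⟨x * l * x⁻¹, hL'n.conj_mem l l.2 x⟩ : L') = d * w * d⁻¹ := by
          apply Subtype.ext
          simp only [hd, hw, Subgroup.coe_mul, InvMemClass.coe_inv]
          group
        simp only [hf, e1, map_mul, map_inv]
        rw [mul_comm (φN d), mul_inv_cancel_right, hwv]
    rw [hψ, Char.indFun_normal_mem, Finset.sum_congr rfl fun x _ => hconj x, Finset.sum_ite]
    simp only [Finset.sum_const, nsmul_eq_mul]
    have hc1 : (Finset.univ.filter (fun x : N => x ∈ L')).card = Nat.card L' := by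
      rw [Nat.card_eq_fintype_card, ← Fintype.card_subtype]
    have hc2 : (Finset.univ.filter (fun x : N => x ∉ L')).card = Nat.card L' := by
      have h1 := Finset.card_filter_add_card_filter_not (s := Finset.univ) (fun x : N => x ∈ L')
      rw [hc1, Finset.card_univ, ← Nat.card_eq_fintype_card, ← L'.card_mul_index, hL'i] at h1
      omega
    rw [hc1, hc2]
    have : (Nat.card L' : ℂ) ≠ 0 := Nat.cast_ne_zero.mpr Nat.card_pos.ne'
    field_simp
    ring
  have hψT : ∀ x : N, (x : G) ∉ T → ψ x = 0 := by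
    intro x hx
    by_cases hxL : x ∈ L'
    · have h1 : φN ⟨x, hxL⟩ = 1 := hvan (Subgroup.subgroupOfEquivOfLe hLN ⟨x, hxL⟩)
        fun h4 => hx ⟨hxL, h4⟩
      rw [show x = ((⟨x, hxL⟩ : L') : N) from rfl, hψmem, h1]
      norm_num
    · exact Char.indFun_normal_not_mem L' f hxL
  have hψ1 : ψ 1 = 0 := hψT 1 fun h => by
    have := h.2; simp at this
  -- inner products in `N`
  set one' : L' → ℂ := fun _ => 1 with hone'
  set φc : L' → ℂ := fun l => (φN l : ℂ) with hφc
  set φi : L' → ℂ := fun l => ((φN⁻¹ l : ℂˣ) : ℂ) with hφi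
  have hr : (fun l : L' => ψ l) = (2 : ℂ) • one' - φc - φi := funext fun l => by
    simp [hψmem, hone', hφc, hφi]
  have hne1 : ∀ g : L' →* ℂˣ, g ≠ 1 → classInner (fun l => (g l : ℂ)) one' = 0 := by
    intro g hg
    refine Char.classInner_irr_ne (χ := ⟨_, Char.isIrrCharacter_lin g⟩)
      (ψ := ⟨_, Char.isIrrCharacter_one⟩) fun h => hg (MonoidHom.ext fun l => Units.ext ?_)
    exact congrFun (congrArg Subtype.val h) l
  set aL : L' := ⟨⟨a, hLN haL⟩, haL⟩ with haL'
  have haLv : φN aL = φ ⟨a, haL⟩ := rfl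
  have hne : φN ≠ 1 := fun h => hφa1 (by rw [← haLv, h]; rfl)
  have hnei : φN⁻¹ ≠ 1 := fun h =>
    hne (MonoidHom.ext fun l => inv_eq_one.1 (DFunLike.congr_fun h l))
  have hcross : classInner φc φi = 0 := by
    refine Char.classInner_irr_ne (χ := ⟨_, Char.isIrrCharacter_lin φN⟩)
      (ψ := ⟨_, Char.isIrrCharacter_lin φN⁻¹⟩) fun h => hφa2 ?_
    have h1 : φN aL = (φN aL)⁻¹ := Units.ext (congrFun (congrArg Subtype.val h) aL)
    rw [← haLv, pow_two]
    nth_rw 2 [h1]
    exact mul_inv_cancel _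
  have hsc : classInner φc φc = 1 :=
    Char.classInner_irr_self ⟨_, Char.isIrrCharacter_lin φN⟩
  have hs1 : classInner one' one' = 1 := Char.classInner_irr_self ⟨_, Char.isIrrCharacter_one⟩
  have hc1 : classInner φc one' = 0 := hne1 φN hne
  have hi1 : classInner φi one' = 0 := hne1 φN⁻¹ hnei
  have h1c : classInner one' φc = 0 := by rw [← Char.classInner_conj, hc1, map_zero]
  have h1i : classInner one' φi = 0 := by rw [← Char.classInner_conj, hi1, map_zero]
  have hfe : f = one' - φc := rfl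
  have hψψ : classInner ψ ψ = 3 := by
    rw [hψ, Char.classInner_indFun L' f _ hψcf, hr, hfe]
    simp only [Char.classInner_sub_left, Char.classInner_sub_right, Char.classInner_smul_right,
      hs1, h1c, h1i, hc1, hsc, hcross, map_ofNat]
    norm_num
  have hψone : classInner ψ (fun _ => 1) = 1 := by
    rw [hψ, Char.classInner_indFun L' f _ (fun _ _ => rfl)]
    show classInner f one' = 1
    rw [hfe, Char.classInner_sub_left, hs1, hc1, sub_zero]
  -- induce to `G`
  set Θ := indFun N ψ with hΘ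
  have hzero : ∀ g : G, ¬ 4 ∣ orderOf g → Θ g = 0 := by
    intro g hg
    rw [hΘ, indFun, Finset.sum_eq_zero, mul_zero]
    intro x _
    by_cases hm : x⁻¹ * g * x ∈ N
    · rw [Char.extendByZero_mem N ψ hm]
      refine hψT _ fun h => hg ?_
      have h2 : 4 ∣ orderOf (x⁻¹ * g * x) := h.2
      rwa [show x⁻¹ * g * x = MulAut.conj x⁻¹ g by simp, MulEquiv.orderOf_eq] at h2
    · exact Char.extendByZero_not_mem N ψ hm
  refine false_of_virtual_three IH hz hO hzZ (Θ := Θ)
    (Char.isGeneralizedCharacter_indFun N hψgen) ?_ ?_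
    (hzero 1 (by simp)) (hzero z (by rw [hz.1]; norm_num)) fun g => hzero _ ?_
  · rw [hΘ, Char.classInner_indFun_TI T hTI ψ ψ hψcf hψT hψT hψ1, hψψ]
  · rw [hΘ, Char.classInner_indFun N ψ _ (fun _ _ => rfl)]
    exact hψone
  · intro h4
    obtain ⟨i, hi⟩ := odd_mul_conj hz g
    omega

end CfsgLib.Invol
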