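import Mathlib.GroupTheory.Perm.Cycle.Type
import Mathlib.GroupTheory.Perm.Sign
import Mathlib.GroupTheory.Index
import Mathlib.GroupTheory.GroupAction.Quotient
import Mathlib.Algebra.Group.Subgroup.Finite
import Mathlib.SetTheory.Cardinal.Finite
import Mathlib.Data.Fintype.Units
import Mathlib.GroupTheory.GroupAction.ConjAct

/-!
# The sign of an involution on a finite set acted on by a group with no subgroup of index two
-/

set_option autoImplicit false

namespace CfsgLib.Invol.ClassSign

open Subgroup MulAction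

variable {G : Type*} [Group G]

theorem sign_eq_one_of_noIndexTwo (h : ∀ H : Subgroup G, H.index ≠ 2)
    (φ : G →* ℤˣ) (g : G) : φ g = 1 := by
  by_contra hg
  refine h φ.ker ?_
  rw [index_ker]
  have hmem : (-1 : ℤˣ) ∈ φ.range := ⟨g, (Int.units_eq_one_or _).resolve_left hg⟩
  have htop : φ.range = ⊤ := by
    refine eq_top_iff.2 fun u _ => ?_
    rcases Int.units_eq_one_or u with rfl | rfl
    exacts [one_mem _, hmem]
  rw [htop, card_top, Nat.card_eq_fintype_card, Fintype.card_units_int]

/-- An involutive permutation with sign one moves a multiple of four points. -/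
theorem four_dvd_moved {X : Type*} [Fintype X] [DecidableEq X] (σ : Equiv.Perm X) (h : σ * σ = 1)
    (hs : Equiv.Perm.sign σ = 1) : 4 ∣ σ.support.card := by
  have h2 : ∀ n ∈ σ.cycleType, n = 2 := fun n hn => by
    have hd : n ∣ 2 := (Equiv.Perm.dvd_of_mem_cycleType hn).trans
      (orderOf_dvd_of_pow_eq_one (by rw [pow_two, h]))
    have h1 := Equiv.Perm.two_le_of_mem_cycleType hn
    have h3 := Nat.le_of_dvd two_pos hd
    omega
  have hc : σ.cycleType = Multiset.replicate σ.cycleType.card 2 := Multiset.eq_replicate_card.2 h2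
  have hsupp := σ.sum_cycleType
  rw [hc, Multiset.sum_replicate, smul_eq_mul] at hsupp
  rw [Equiv.Perm.sign_of_cycleType, hc, Multiset.sum_replicate, Multiset.card_replicate,
    smul_eq_mul] at hs
  have he : Even (σ.cycleType.card * 2 + σ.cycleType.card) := by
    by_contra ho
    rw [Odd.neg_one_pow (Nat.not_even_iff_odd.1 ho)] at hs
    exact absurd hs (by decide)
  obtain ⟨k, hk⟩ := he
  exact ⟨σ.cycleType.card / 2, by omega⟩

/-- An involution fixes a number of points congruent to the size of the set modulo four. -/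
theorem card_mod_four (h : ∀ H : Subgroup G, H.index ≠ 2) {X : Type*} [MulAction G X] [Finite X]
    {t : G} (ht : t * t = 1) : Nat.card X % 4 = Nat.card {x : X // t • x = x} % 4 := by
  classical
  haveI := Fintype.ofFinite X
  set σ : Equiv.Perm X := MulAction.toPermHom G X t with hσ
  have h1 : σ * σ = 1 := by rw [hσ, ← map_mul, ht, map_one]
  have h4 := four_dvd_moved σ h1
    (sign_eq_one_of_noIndexTwo h (Equiv.Perm.sign.comp (MulAction.toPermHom G X)) t)
  have hsum : Nat.card {x : X // t • x = x} + σ.support.card = Nat.card X := by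
    rw [Nat.card_eq_fintype_card, Nat.card_eq_fintype_card, Fintype.card_subtype,
      ← Finset.card_univ, ← Finset.card_filter_add_card_filter_not (s := Finset.univ)
        (fun x : X => t • x = x)]
    congr 2
  omega

variable [Finite G]

/-- The conjugacy class version. -/
theorem class_mod_four (h : ∀ H : Subgroup G, H.index ≠ 2) {t : G} (ht : t * t = 1) (x : G) :
    Nat.card {y : G // IsConj x y} % 4 =
      Nat.card {y : G // IsConj x y ∧ Commute t y} % 4 := by
  let _ : MulAction G {y : G // IsConj x y} :=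
    { smul := fun g y => ⟨g * y.1 * g⁻¹, y.2.trans (isConj_iff.2 ⟨g, rfl⟩)⟩
      one_smul := fun y => Subtype.ext (show 1 * y.1 * 1⁻¹ = y.1 by group)
      mul_smul := fun g k y => Subtype.ext
        (show g * k * y.1 * (g * k)⁻¹ = g * (k * y.1 * k⁻¹) * g⁻¹ by group) }
  refine (card_mod_four h ht (X := {y : G // IsConj x y})).trans (congrArg (· % 4) (Nat.card_congr ?_))
  refine (Equiv.subtypeEquivRight (q := fun y : {y : G // IsConj x y} => Commute t y.1) fun y => ?_).trans
    (Equiv.subtypeSubtypeEquivSubtypeInter _ _)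
  show (⟨t * y.1 * t⁻¹, _⟩ : {y : G // IsConj x y}) = y ↔ _
  rw [Subtype.ext_iff]
  exact mul_inv_eq_iff_eq_mul

theorem card_class (x : G) :
    Nat.card {y : G // IsConj x y} = (centralizer ({x} : Set G)).index := by
  rw [centralizer_eq_comap_stabilizer]
  erw [index_comap_of_surjective _ (ConjAct.toConjAct (G := G)).surjective]
  rw [index_stabilizer]
  refine Nat.card_congr (Equiv.subtypeEquivRight fun y => ?_)
  rw [ConjAct.mem_orbit_conjAct]
  exact ⟨IsConj.symm, IsConj.symm⟩

/-- Number of elements conjugating `t` into a set. -/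
theorem card_conj_mem (t : G) (S : Set G) :
    Nat.card {g : G // g⁻¹ * t * g ∈ S} =
      Nat.card {u : G // u ∈ S ∧ IsConj t u} * Nat.card ↥(centralizer ({t} : Set G)) := by
  classical
  have hpick : ∀ u : {u : G // u ∈ S ∧ IsConj t u}, ∃ g : G, g⁻¹ * t * g = u.1 := fun u => by
    obtain ⟨c, hc⟩ := isConj_iff.1 u.2.2
    exact ⟨c⁻¹, by rw [inv_inv]; exact hc⟩
  choose pick hp using hpick
  rw [← Nat.card_prod]
  refine Nat.card_congr (Equiv.symm (Equiv.ofBijective
    (fun q : {u : G // u ∈ S ∧ IsConj t u} × ↥(centralizer ({t} : Set G)) =>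
      (⟨q.2.1 * pick q.1, ?_⟩ : {g : G // g⁻¹ * t * g ∈ S})) ⟨?_, ?_⟩))
  · have hc : q.2.1⁻¹ * t * q.2.1 = t := by
      rw [mul_assoc, ← mem_centralizer_singleton_iff.1 q.2.2, inv_mul_cancel_left]
    rw [show (q.2.1 * pick q.1)⁻¹ * t * (q.2.1 * pick q.1) =
      (pick q.1)⁻¹ * (q.2.1⁻¹ * t * q.2.1) * pick q.1 by group, hc, hp]
    exact q.1.2.1
  · rintro ⟨u, c⟩ ⟨u', c'⟩ e
    have e' : c.1 * pick u = c'.1 * pick u' := congrArg Subtype.val e
    have hu : u.1 = u'.1 := by
      have hc : ∀ d : ↥(centralizer ({t} : Set G)), d.1⁻¹ * t * d.1 = t := fun d => by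
        rw [mul_assoc, ← mem_centralizer_singleton_iff.1 d.2, inv_mul_cancel_left]
      calc u.1 = (c.1 * pick u)⁻¹ * t * (c.1 * pick u) := by
            rw [show (c.1 * pick u)⁻¹ * t * (c.1 * pick u) =
              (pick u)⁻¹ * (c.1⁻¹ * t * c.1) * pick u by group, hc, hp]
        _ = u'.1 := by
            rw [e', show (c'.1 * pick u')⁻¹ * t * (c'.1 * pick u') =
              (pick u')⁻¹ * (c'.1⁻¹ * t * c'.1) * pick u' by group, hc, hp]
    obtain rfl := Subtype.ext hu
    exact Prod.ext rfl (Subtype.ext (mul_right_cancel e'))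
  · intro g
    let u : {u : G // u ∈ S ∧ IsConj t u} :=
      ⟨g.1⁻¹ * t * g.1, g.2, isConj_iff.2 ⟨g.1⁻¹, by rw [inv_inv]⟩⟩
    have hu : (pick u)⁻¹ * t * pick u = g.1⁻¹ * t * g.1 := hp u
    refine ⟨(u, ⟨g.1 * (pick u)⁻¹, mem_centralizer_singleton_iff.2 ?_⟩),
      Subtype.ext (inv_mul_cancel_right _ _)⟩
    calc g.1 * (pick u)⁻¹ * t = g.1 * ((pick u)⁻¹ * t * pick u) * (pick u)⁻¹ := by group
      _ = t * (g.1 * (pick u)⁻¹) := by rw [hu]; group

/-- The fixed cosets of `t`, counted in the conjugates of `t` inside the subgroup. -/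
theorem fixed_cosets_mul_card (t : G) (H : Subgroup G) :
    Nat.card {q : G ⧸ H // t • q = q} * Nat.card ↥H =
      Nat.card {u : G // u ∈ H ∧ IsConj t u} * Nat.card ↥(centralizer ({t} : Set G)) := by
  refine Eq.trans ?_ (card_conj_mem t (H : Set G))
  rw [mul_comm, ← Nat.card_prod]
  refine Eq.trans (Nat.card_congr (QuotientGroup.preimageMkEquivSubgroupProdSet H
    {q : G ⧸ H | t • q = q})).symm ?_
  refine Nat.card_congr (Equiv.subtypeEquivRight fun g => ?_)
  show ((t * g : G) : G ⧸ H) = (g : G ⧸ H) ↔ _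
  rw [eq_comm, QuotientGroup.eq, mul_assoc]
  rfl

/-- The coset version: `F` is the number of fixed cosets. -/
theorem index_mod_four (h : ∀ H : Subgroup G, H.index ≠ 2) {t : G} (ht : t * t = 1)
    (H : Subgroup G) {F : ℕ}
    (hF : F * Nat.card ↥H =
      Nat.card {u : G // u ∈ H ∧ IsConj t u} * Nat.card ↥(centralizer ({t} : Set G))) :
    H.index % 4 = F % 4 := by
  have e := (fixed_cosets_mul_card t H).trans hF.symm
  rw [index_eq_card, card_mod_four h ht (X := G ⧸ H),
    Nat.eq_of_mul_eq_mul_right Nat.card_pos e]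

end CfsgLib.Invol.ClassSign
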