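import Mathlib.GroupTheory.Sylow

/-!
# Kernels determined by a Sylow 2-subgroup and the elements of odd order
-/

set_option autoImplicit false

namespace CfsgLib.Invol

open Subgroup

variable {N : Type*} [Group N] [Finite N]

/-- An element lies in `D` as soon as its odd part and its 2-part do. -/
theorem mem_of_parts (D : Subgroup N) (n : N)
    (hodd : ∀ a : ℕ, Odd (orderOf (n ^ a)) → n ^ a ∈ D)
    (htwo : ∀ a k : ℕ, orderOf (n ^ a) = 2 ^ k → n ^ a ∈ D) : n ∈ D := by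
  obtain ⟨k, r, hr, he⟩ := Nat.exists_eq_pow_mul_and_not_dvd (orderOf_pos n).ne' 2 (by norm_num)
  have hr0 : r ≠ 0 := fun e => hr (e ▸ dvd_zero 2)
  have h1 : n ^ r ∈ D := htwo r k (by
    rw [orderOf_pow_of_dvd hr0 ⟨2 ^ k, by rw [he, mul_comm]⟩, he,
      Nat.mul_div_cancel _ (Nat.pos_of_ne_zero hr0)])
  have h2 : n ^ 2 ^ k ∈ D := hodd _ (by
    rw [orderOf_pow_of_dvd (pow_ne_zero _ (by norm_num)) ⟨r, he⟩, he,
      Nat.mul_div_cancel_left _ (Nat.two_pow_pos k)]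
    exact Nat.odd_iff.2 (by omega))
  have hcop : Nat.gcd r (2 ^ k) = 1 :=
    Nat.Coprime.pow_right k (Nat.coprime_two_right.2 (Nat.odd_iff.2 (by omega)))
  have hb := Nat.gcd_eq_gcd_ab r (2 ^ k)
  rw [hcop, Nat.cast_one] at hb
  have h3 : n ^ ((1 : ℤ)) ∈ D := by
    rw [hb, zpow_add, zpow_mul, zpow_mul, zpow_natCast, zpow_natCast]
    exact mul_mem (zpow_mem h1 _) (zpow_mem h2 _)
  rwa [zpow_one] at h3

/-- A kernel lies in a normal subgroup `D` if its elements of odd order and its elements in one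
Sylow 2-subgroup do. -/
theorem ker_le_of_sylow {M : Type*} [Group M] (φ : N →* M) (D : Subgroup N) [D.Normal]
    {T : Subgroup N} (hT : IsPGroup 2 T) (hTi : ¬ 2 ∣ T.index)
    (h2 : ∀ u ∈ T, φ u = 1 → u ∈ D) (hodd : ∀ u, φ u = 1 → Odd (orderOf u) → u ∈ D) :
    φ.ker ≤ D := by
  haveI : Fact (Nat.Prime 2) := ⟨Nat.prime_two⟩
  intro n hn
  refine mem_of_parts D n (fun a ha => hodd _ (by rw [map_pow, hn, one_pow]) ha) fun a k ha => ?_
  obtain ⟨P, hP⟩ := (IsPGroup.of_card (n := k) (by rw [Nat.card_zpowers, ha]) :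
    IsPGroup 2 (zpowers (n ^ a))).exists_le_sylow
  obtain ⟨g, hg⟩ := MulAction.exists_smul_eq N P (hT.toSylow hTi)
  have hmem : g * n ^ a * g⁻¹ ∈ T := by
    have : g * n ^ a * g⁻¹ ∈ ((g • P : Sylow 2 N) : Subgroup N) := by
      rw [Sylow.coe_subgroup_smul]
      exact ⟨n ^ a, hP (mem_zpowers _), rfl⟩
    rw [hg] at this
    exact this
  have h1 := h2 _ hmem (by rw [map_mul, map_mul, map_pow, hn, one_pow, mul_one, map_inv, mul_inv_cancel])
  have := (inferInstance : D.Normal).conj_mem _ h1 g⁻¹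
  rwa [show g⁻¹ * (g * n ^ a * g⁻¹) * g⁻¹⁻¹ = n ^ a by group] at this

/-- A Sylow 2-subgroup and a normal subgroup holding all elements of odd order generate. -/
theorem sup_eq_top_of_sylow (C : Subgroup N) [C.Normal] {T : Subgroup N} (hTi : ¬ 2 ∣ T.index)
    (hodd : ∀ u : N, Odd (orderOf u) → u ∈ C) : T ⊔ C = ⊤ := by
  haveI : Fact (Nat.Prime 2) := ⟨Nat.prime_two⟩
  have hp : IsPGroup 2 (N ⧸ C) := by
    intro q
    obtain ⟨n, rfl⟩ := QuotientGroup.mk_surjective q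
    obtain ⟨k, r, hr, he⟩ := Nat.exists_eq_pow_mul_and_not_dvd (orderOf_pos n).ne' 2 (by norm_num)
    refine ⟨k, ?_⟩
    rw [← QuotientGroup.mk_pow, QuotientGroup.eq_one_iff]
    refine hodd _ ?_
    rw [orderOf_pow_of_dvd (pow_ne_zero _ (by norm_num)) ⟨r, he⟩, he,
      Nat.mul_div_cancel_left _ (Nat.two_pow_pos k)]
    exact Nat.odd_iff.2 (by omega)
  obtain ⟨j, hj⟩ := hp.exists_card_eq
  rw [← Subgroup.index_eq_card] at hj
  have h1 : (T ⊔ C).index ∣ 2 ^ j := hj ▸ Subgroup.index_dvd_of_le le_sup_right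
  have h2 : (T ⊔ C).index ∣ T.index := Subgroup.index_dvd_of_le le_sup_left
  rw [← Subgroup.index_eq_one]
  exact Nat.eq_one_of_dvd_coprimes
    (Nat.Coprime.pow_left j (Nat.prime_two.coprime_iff_not_dvd.2 hTi)) h1 h2

end CfsgLib.Invol
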