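import Cfsg.Agent.Lib.Invol.CentralCore
import Cfsg.Agent.Lib.Invol.SylowKernel
import Cfsg.Agent.Lib.Invol.OddCore

/-!
# Extending a normal subgroup of `C` to `G = O(G) C`
-/

set_option autoImplicit false

namespace CfsgLib.Invol

open Subgroup

variable {G : Type*} [Group G] [Finite G]

/-- An element of odd order dies in a 2-group. -/
theorem map_eq_one_of_odd {H Q : Type*} [Group H] [Group Q] (hQ : IsPGroup 2 Q) (f : H →* Q) {u : H}
    (hu : Odd (orderOf u)) : f u = 1 := by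
  obtain ⟨k, hk⟩ := hQ (f u)
  have h1 := orderOf_dvd_of_pow_eq_one hk
  have h2 := (orderOf_map_dvd f u)
  exact orderOf_eq_one_iff.1 (Nat.eq_one_of_dvd_coprimes
    (Nat.Coprime.pow_left k (Nat.coprime_two_left.2 hu)) h1 h2)

/-- If `G = O(G) C`, a normal subgroup of `C` containing its elements of odd order and supplementing
`S` extends to a normal subgroup of `G`. -/
theorem exists_core_extend (S : Sylow 2 G) (C : Subgroup G) (hSC : (S : Subgroup G) ≤ C)
    (hGC : ∀ g : G, ∃ o ∈ Cfsg.oddCore G, ∃ c ∈ C, g = o * c)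
    (K₀ : Subgroup C) [K₀.Normal] (hodd : ∀ u : C, Odd (orderOf u) → u ∈ K₀) :
    ∃ K : Subgroup G, K.Normal ∧
      (∀ (s : G) (hs : s ∈ (S : Subgroup G)), (s ∈ K ↔ (⟨s, hSC hs⟩ : C) ∈ K₀)) ∧
      (∀ u : C, u ∈ K₀ → (u : G) ∈ K) ∧
      K ⊔ (S : Subgroup G) = ⊤ := by
  haveI : Fact (Nat.Prime 2) := ⟨Nat.prime_two⟩
  have hOd : ∀ o ∈ Cfsg.oddCore G, Odd (orderOf o) := fun o ho =>
    Nat.not_even_iff_odd.1 fun he => CfsgLib.Coprime.pPrimeCore_not_dvd (G := G) Nat.prime_two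
      (he.two_dvd.trans (Subgroup.orderOf_dvd_natCard _ ho))
  have hsup : K₀ ⊔ (S : Subgroup G).subgroupOf C = ⊤ := by
    rw [sup_comm]
    exact sup_eq_top_of_sylow K₀ (fun hd => S.not_dvd_index
      (hd.trans (Subgroup.relIndex_dvd_index_of_le hSC))) hodd
  set O := Cfsg.oddCore G with hO
  haveI hOn : O.Normal := inferInstanceAs (Cfsg.pPrimeCore 2 G).Normal
  set K := O ⊔ K₀.map C.subtype with hK
  refine ⟨K, ⟨fun u hu g => ?_⟩, fun s hs => ⟨fun hsK => ?_, fun h => ?_⟩,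
    fun u hu => mem_sup_right ⟨u, hu, rfl⟩, ?_⟩
  · suffices key : K ≤ K.comap (MulAut.conj g).toMonoidHom from key hu
    refine sup_le (fun v hv => mem_sup_left (hOn.conj_mem v hv g)) ?_
    rintro _ ⟨v, hv, rfl⟩
    obtain ⟨o, ho, c, hc, rfl⟩ := hGC g
    show o * c * v * (o * c)⁻¹ ∈ K
    have h1 : c * v * c⁻¹ ∈ K :=
      mem_sup_right ⟨_, (inferInstance : K₀.Normal).conj_mem v hv ⟨c, hc⟩, rfl⟩
    rw [show o * c * (v : G) * (o * c)⁻¹ = o * (c * v * c⁻¹) * o⁻¹ by group]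
    exact mul_mem (mul_mem (mem_sup_left ho) h1) (inv_mem (mem_sup_left ho))
  · obtain ⟨o, ho, k, ⟨k₀, hk₀, rfl⟩, e⟩ := mem_sup_of_normal_left.1 hsK
    have hoC : o ∈ C := by
      rw [show o = s * ((k₀ : G))⁻¹ by rw [← e]; show o = o * (k₀ : G) * (k₀ : G)⁻¹; group]
      exact mul_mem (hSC hs) (inv_mem k₀.2)
    have e' : (⟨s, hSC hs⟩ : C) = ⟨o, hoC⟩ * k₀ := Subtype.ext e.symm
    rw [e']
    exact mul_mem (hodd _ (by rw [Subgroup.orderOf_mk]; exact hOd o ho)) hk₀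
  · exact mem_sup_right ⟨_, h, rfl⟩
  · rw [eq_top_iff]
    intro g _
    obtain ⟨o, ho, c, hc, rfl⟩ := hGC g
    refine mul_mem (mem_sup_left (mem_sup_left ho)) ?_
    have h1 : (⟨c, hc⟩ : C) ∈ K₀ ⊔ (S : Subgroup G).subgroupOf C := by
      rw [hsup]; exact mem_top _
    obtain ⟨k, hk, s, hs, e⟩ := mem_sup_of_normal_left.1 h1
    rw [show c = (k : G) * (s : G) from (congrArg Subtype.val e).symm]
    exact mul_mem (mem_sup_left (mem_sup_right ⟨k, hk, rfl⟩)) (mem_sup_right (mem_subgroupOf.1 hs))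

/-- `G = O(G) C` has a normal 2-complement as soon as `C` has one. -/
theorem hasNormalPComplement_of_core_mul (S : Sylow 2 G) (C : Subgroup G)
    (hSC : (S : Subgroup G) ≤ C) (hGC : ∀ g : G, ∃ o ∈ Cfsg.oddCore G, ∃ c ∈ C, g = o * c)
    (hC : Cfsg.HasNormalPComplement 2 C) : Cfsg.HasNormalPComplement 2 G := by
  haveI : Fact (Nat.Prime 2) := ⟨Nat.prime_two⟩
  obtain ⟨P, K₀, hn, hc⟩ := hC
  haveI := hn
  have hNc : ¬ 2 ∣ Nat.card K₀ := by rw [← hc.index_eq_card]; exact P.not_dvd_index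
  have hodd : ∀ u : C, Odd (orderOf u) → u ∈ K₀ := fun u hu => by
    have hq : IsPGroup 2 (C ⧸ K₀) := by
      obtain ⟨j, hj⟩ := P.2.exists_card_eq
      refine IsPGroup.of_card (n := j) ?_
      rw [← hj, ← Subgroup.index_eq_card, hc.symm.index_eq_card]
    exact (QuotientGroup.eq_one_iff _).1 (map_eq_one_of_odd hq (QuotientGroup.mk' K₀) hu)
  obtain ⟨K, hKn, hKS, -, hKtop⟩ := exists_core_extend S C hSC hGC K₀ hodd
  haveI := hKn
  have hbot : (S : Subgroup G) ⊓ K = ⊥ := by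
    rw [eq_bot_iff]
    rintro s ⟨hs, hsK⟩
    have h1 := (hKS s hs).1 hsK
    have h2 : orderOf (⟨s, hSC hs⟩ : C) ∣ Nat.card K₀ := Subgroup.orderOf_dvd_natCard K₀ h1
    obtain ⟨k, hk⟩ := S.2 ⟨s, hs⟩
    have h3 : orderOf (⟨s, hSC hs⟩ : C) ∣ 2 ^ k := by
      rw [Subgroup.orderOf_mk]
      exact orderOf_dvd_of_pow_eq_one (congrArg Subtype.val hk)
    exact congrArg Subtype.val (orderOf_eq_one_iff.1 (Nat.eq_one_of_dvd_coprimes
      (Nat.Coprime.pow_left k (Nat.prime_two.coprime_iff_not_dvd.2 hNc)) h3 h2))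
  have hidx : K.index = Nat.card (S : Subgroup G) := by
    rw [← Subgroup.relIndex_top_right, ← hKtop, Subgroup.relIndex_sup_left,
      ← Subgroup.inf_relIndex_right, inf_comm, hbot, Subgroup.relIndex_bot_left]
  have hcard : Nat.card K = (S : Subgroup G).index := by
    have h1 := K.card_mul_index
    have h2 := (S : Subgroup G).card_mul_index
    rw [hidx] at h1
    exact Nat.eq_of_mul_eq_mul_right (Nat.card_pos (α := (S : Subgroup G)))
      (h1.trans (h2.symm.trans (mul_comm _ _)))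
  refine hasNormalPComplement_of_isPGroup_quotient K ?_ ?_
  · rw [hcard]
    exact (Nat.prime_two.coprime_iff_not_dvd.2 S.not_dvd_index).symm
  · obtain ⟨j, hj⟩ := S.2.exists_card_eq
    exact IsPGroup.of_card (n := j) (by rw [← Subgroup.index_eq_card, hidx, hj])

end CfsgLib.Invol
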