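import Mathlib

/-!
For an odd prime `r` and a prime `q ≡ 3 (mod 4)`, `q ≡ -1 (mod r)`, the element `-1` has the form
`u ^ 2 + q * v ^ 2` in the `r`-th cyclotomic field; stated as an identity of rational polynomials.
-/

namespace CfsgLib.Invol.CyclotomicNorm

open Polynomial Finset

variable (q : ℕ) [Fact q.Prime]

/-- The nonzero squares modulo `q`. -/
noncomputable def sqs : Finset (ZMod q) :=
  Finset.univ.filter (fun a => quadraticChar (ZMod q) a = 1)

/-- Coefficient of `ψ s` in `∏ (X - ψ a)` over the nonzero squares. -/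
noncomputable def coe' (s : ZMod q) : ℚ[X] :=
  ∑ T ∈ (sqs q).powerset.filter (fun T => ∑ a ∈ T, a = s), (-1) ^ T.card * X ^ ((sqs q).card - T.card)

theorem coe'_mul (b : ZMod q) (hb : quadraticChar (ZMod q) b = 1) (s : ZMod q) :
    coe' q (b * s) = coe' q s := by
  classical
  have hb0 : b ≠ 0 := fun h => by simp [h] at hb
  have hbi : quadraticChar (ZMod q) b⁻¹ = 1 := by
    have : quadraticChar (ZMod q) (b * b⁻¹) = 1 := by rw [mul_inv_cancel₀ hb0]; simp
    rw [map_mul, hb, one_mul] at this; exact this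
  have hmem : ∀ c, quadraticChar (ZMod q) c = 1 → ∀ a, a ∈ sqs q → c * a ∈ sqs q := by
    intro c hc a ha
    simp only [sqs, Finset.mem_filter, Finset.mem_univ, true_and] at ha ⊢
    rw [map_mul, hc, ha, one_mul]
  have hinj : ∀ c : ZMod q, c ≠ 0 → Function.Injective (fun a => c * a) :=
    fun c hc => mul_right_injective₀ hc
  symm
  refine Finset.sum_nbij' (fun T => T.image (fun a => b * a)) (fun T => T.image (fun a => b⁻¹ * a))
    ?_ ?_ ?_ ?_ ?_
  · intro T hT
    simp only [Finset.mem_coe, Finset.mem_filter, Finset.mem_powerset] at hT ⊢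
    refine ⟨Finset.image_subset_iff.2 fun a ha => hmem b hb a (hT.1 ha), ?_⟩
    rw [Finset.sum_image (fun x _ y _ h => hinj b hb0 h), ← Finset.mul_sum, hT.2]
  · intro T hT
    simp only [Finset.mem_coe, Finset.mem_filter, Finset.mem_powerset] at hT ⊢
    refine ⟨Finset.image_subset_iff.2 fun a ha => hmem b⁻¹ hbi a (hT.1 ha), ?_⟩
    rw [Finset.sum_image (fun x _ y _ h => hinj b⁻¹ (inv_ne_zero hb0) h), ← Finset.mul_sum, hT.2,
      inv_mul_cancel_left₀ hb0]
  · intro T _
    rw [Finset.image_image]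
    convert Finset.image_id (s := T) using 2
    funext a; simp [hb0]
  · intro T _
    rw [Finset.image_image]
    convert Finset.image_id (s := T) using 2
    funext a; simp [hb0]
  · intro T _
    rw [Finset.card_image_of_injective _ (hinj b hb0)]

theorem prod_eq (ψ : AddChar (ZMod q) ℂ) (ζ : ℂ) :
    ∏ a ∈ sqs q, (ζ - ψ a) = ∑ s, aeval ζ (coe' q s) * ψ s := by
  classical
  have h1 : ∏ a ∈ sqs q, (ζ - ψ a) = ∏ a ∈ sqs q, ((-ψ a) + ζ) :=
    Finset.prod_congr rfl fun a _ => by ring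
  rw [h1, Finset.prod_add,
    ← Finset.sum_fiberwise (sqs q).powerset (fun T => ∑ a ∈ T, a)]
  refine Finset.sum_congr rfl fun s _ => ?_
  rw [coe', map_sum, Finset.sum_mul]
  refine Finset.sum_congr rfl fun T hT => ?_
  simp only [Finset.mem_filter, Finset.mem_powerset] at hT
  rw [Finset.prod_neg, Finset.prod_const, Finset.card_sdiff_of_subset hT.1]
  have hψ : ψ s = ∏ a ∈ T, ψ a := by
    rw [← hT.2]; exact map_prod ψ.toMonoidHom (fun a => Multiplicative.ofAdd a) T
  rw [hψ]
  simp only [map_mul, map_pow, map_neg, map_one, aeval_X]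
  ring

/-- `-1` is `u ^ 2 + q * v ^ 2` in the cyclotomic field, as a polynomial identity. -/
theorem exists_poly {r : ℕ} (hr : r.Prime) (hq4 : q % 4 = 3) (hqr : q ≡ r - 1 [MOD r])
    (hr2 : r ≠ 2) :
    ∃ U V : ℚ[X], Polynomial.cyclotomic r ℚ ∣ U ^ 2 + C (q : ℚ) * V ^ 2 + (X ^ ((r - 1) / 2)) ^ 2 := by
  classical
  haveI : NeZero q := ⟨(Fact.out : q.Prime).ne_zero⟩
  have hq2 : q ≠ 2 := by omega
  have hchar : ringChar (ZMod q) ≠ 2 := by rwa [ZMod.ringChar_zmod_n]
  obtain ⟨ζ, hζ⟩ : ∃ ζ : ℂ, IsPrimitiveRoot ζ r := ⟨_, Complex.isPrimitiveRoot_exp r hr.ne_zero⟩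
  let ψ : AddChar (ZMod q) ℂ := ZMod.stdAddChar
  have hψ : ψ.IsPrimitive := ZMod.isPrimitive_stdAddChar q
  let χ : MulChar (ZMod q) ℂ := (quadraticChar (ZMod q)).ringHomComp (Int.castRingHom ℂ)
  have hneg : quadraticChar (ZMod q) (-1) = -1 := by
    rw [quadraticChar_neg_one_iff_not_isSquare, ZMod.exists_sq_eq_neg_one_iff]; omega
  set S := sqs q with hSdef
  set N := S.image (fun a => -a) with hNdef
  have hNmem : ∀ a, a ∈ N ↔ quadraticChar (ZMod q) a = -1 := by
    intro a
    have hna : quadraticChar (ZMod q) (-a) = -quadraticChar (ZMod q) a := by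
      rw [← neg_one_mul a, map_mul, hneg, neg_one_mul]
    constructor
    · intro h
      obtain ⟨b, hb, rfl⟩ := Finset.mem_image.1 h
      simp only [hSdef, sqs, Finset.mem_filter, Finset.mem_univ, true_and] at hb
      rw [← neg_one_mul b, map_mul, hneg, hb, mul_one]
    · intro h
      refine Finset.mem_image.2 ⟨-a, ?_, neg_neg a⟩
      simp only [hSdef, sqs, Finset.mem_filter, Finset.mem_univ, true_and]
      rw [hna, h, neg_neg]
  have hSmem : ∀ a, a ∈ S ↔ quadraticChar (ZMod q) a = 1 := by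
    intro a; simp [hSdef, sqs]
  have hdisj : Disjoint S N := Finset.disjoint_left.2 fun a ha hb => by
    have := (hSmem a).1 ha; rw [(hNmem a).1 hb] at this; norm_num at this
  have hunion : (Finset.univ : Finset (ZMod q)) = insert 0 (S ∪ N) := by
    ext a
    simp only [Finset.mem_univ, Finset.mem_insert, Finset.mem_union, true_iff, hSmem, hNmem]
    rcases eq_or_ne a 0 with h | h
    · exact Or.inl h
    · exact Or.inr (quadraticChar_dichotomy h)
  have h0 : (0 : ZMod q) ∉ S ∪ N := by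
    simp only [Finset.mem_union, hSmem, hNmem, quadraticChar_zero]; norm_num
  -- the two half products
  set η₁ := ∑ a ∈ S, ψ a with hη₁
  set η₂ := ∑ a ∈ N, ψ a with hη₂
  set c0 := aeval ζ (coe' q 0)
  set c1 := aeval ζ (coe' q 1)
  set c2 := aeval ζ (coe' q (-1))
  have hcS : ∀ a ∈ S, aeval ζ (coe' q a) = c1 := by
    intro a ha
    have := coe'_mul q a ((hSmem a).1 ha) 1
    rw [mul_one] at this; rw [this]
  have hcN : ∀ a ∈ N, aeval ζ (coe' q a) = c2 := by
    intro a ha
    obtain ⟨b, hb, rfl⟩ := Finset.mem_image.1 ha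
    have := coe'_mul q b ((hSmem b).1 hb) (-1)
    rw [mul_neg_one] at this; rw [this]
  have hval : ∀ φ : AddChar (ZMod q) ℂ, ∏ a ∈ S, (ζ - φ a) =
      c0 + c1 * (∑ a ∈ S, φ a) + c2 * (∑ a ∈ N, φ a) := by
    intro φ
    rw [hSdef, prod_eq q φ ζ, ← hSdef, hunion, Finset.sum_insert h0, Finset.sum_union hdisj,
      Finset.mul_sum, Finset.mul_sum, AddChar.map_zero_eq_one, mul_one, add_assoc]
    congr 1
    congr 1
    · exact Finset.sum_congr rfl fun a ha => by rw [hcS a ha]
    · exact Finset.sum_congr rfl fun a ha => by rw [hcN a ha]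
  have hS2 : ∏ a ∈ N, (ζ - ψ a) = c0 + c1 * η₂ + c2 * η₁ := by
    have h := hval (ψ.mulShift (-1))
    simp only [AddChar.mulShift_apply, neg_one_mul] at h
    have e1 : ∑ a ∈ S, ψ (-a) = η₂ := by
      rw [hη₂, hNdef, Finset.sum_image (fun x _ y _ h => neg_injective h)]
    have e2 : ∑ a ∈ N, ψ (-a) = η₁ := by
      rw [hη₁, hNdef, Finset.sum_image (fun x _ y _ h => neg_injective h)]
      simp
    rw [e1, e2] at h
    rw [hNdef, Finset.prod_image (fun x _ y _ h => neg_injective h), h]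
  have hsum : η₁ + η₂ = -1 := by
    have h : ∑ a, ψ a = 0 := AddChar.sum_eq_zero_of_ne_one (by
      intro hh
      have := hψ (one_ne_zero (α := ZMod q))
      rw [AddChar.mulShift_one] at this
      exact this hh)
    rw [hunion, Finset.sum_insert h0, Finset.sum_union hdisj, AddChar.map_zero_eq_one] at h
    linear_combination h
  have hg : gaussSum χ ψ = η₁ - η₂ := by
    rw [gaussSum, hunion, Finset.sum_insert h0, Finset.sum_union hdisj]
    have e0 : χ 0 = 0 := MulChar.map_zero χ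
    have e1 : ∑ a ∈ S, χ a * ψ a = η₁ := Finset.sum_congr rfl fun a ha => by
      simp [χ, MulChar.ringHomComp_apply, (hSmem a).1 ha]
    have e2 : ∑ a ∈ N, χ a * ψ a = -η₂ := by
      rw [hη₂, ← Finset.sum_neg_distrib]
      exact Finset.sum_congr rfl fun a ha => by
        simp [χ, MulChar.ringHomComp_apply, (hNmem a).1 ha]
    rw [e0, e1, e2]; ring
  have hg2 : (η₁ - η₂) ^ 2 = -(q : ℂ) := by
    rw [← hg, gaussSum_sq ?_ ((quadraticChar_isQuadratic (ZMod q)).comp _) hψ, ZMod.card]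
    · simp [χ, MulChar.ringHomComp_apply, hneg]
    · intro hh
      have := congrArg (fun m : MulChar (ZMod q) ℂ => m (-1)) hh
      simp [χ, MulChar.ringHomComp_apply, hneg, MulChar.one_apply] at this
      norm_num at this
  -- the full product
  have hω : IsPrimitiveRoot (ψ 1) q := by
    refine IsPrimitiveRoot.iff_orderOf.2 (orderOf_eq_prime ?_ ?_)
    · rw [← AddChar.map_nsmul_eq_pow, nsmul_one, ZMod.natCast_self, AddChar.map_zero_eq_one]
    · intro h
      exact one_ne_zero (ZMod.injective_stdAddChar (h.trans (AddChar.map_zero_eq_one ψ).symm))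
  have hroots : nthRootsFinset q (1 : ℂ) = Finset.univ.image ψ := by
    symm
    apply Finset.eq_of_subset_of_card_le
    · intro y hy
      obtain ⟨a, -, rfl⟩ := Finset.mem_image.1 hy
      rw [Polynomial.mem_nthRootsFinset (NeZero.pos q) (1 : ℂ), ← AddChar.map_nsmul_eq_pow,
        nsmul_eq_mul, ZMod.natCast_self, zero_mul, AddChar.map_zero_eq_one]
    · rw [hω.card_nthRootsFinset, Finset.card_image_of_injective _ ZMod.injective_stdAddChar,
        Finset.card_univ, ZMod.card]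
  have hfull : (ζ - 1) * ((∏ a ∈ S, (ζ - ψ a)) * ∏ a ∈ N, (ζ - ψ a)) = ζ ^ q - 1 := by
    have h := hω.pow_sub_pow_eq_prod_sub_mul ζ 1 (NeZero.pos q)
    simp only [one_pow, mul_one] at h
    rw [h, hroots, Finset.prod_image (fun x _ y _ h => ZMod.injective_stdAddChar h), hunion,
      Finset.prod_insert h0, Finset.prod_union hdisj, AddChar.map_zero_eq_one]
  have hζq : ζ ^ q = ζ ^ (r - 1) := by
    rw [← pow_mod_orderOf, ← hζ.eq_orderOf, hqr, hζ.eq_orderOf, pow_mod_orderOf]
  have hζ1 : ζ ^ r = 1 := hζ.pow_eq_one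
  have hζr : ζ ^ (r - 1) * ζ = 1 := by rw [← pow_succ, Nat.sub_add_cancel hr.one_le, hζ1]
  have hP : (c0 + c1 * η₁ + c2 * η₂) * (c0 + c1 * η₂ + c2 * η₁) = -ζ ^ (r - 1) := by
    have hne : ζ - 1 ≠ 0 := sub_ne_zero.2 (hζ.ne_one hr.one_lt)
    apply mul_left_cancel₀ hne
    rw [← hval ψ, ← hS2, hfull, hζq]
    linear_combination hζr
  refine ⟨coe' q 0 - C (1 / 2 : ℚ) * (coe' q 1 + coe' q (-1)),
    C (1 / 2 : ℚ) * (coe' q 1 - coe' q (-1)), ?_⟩
  rw [Polynomial.cyclotomic_eq_minpoly_rat hζ hr.pos]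
  apply minpoly.dvd
  have hpow : (ζ ^ ((r - 1) / 2)) ^ 2 = ζ ^ (r - 1) := by
    rw [← pow_mul]; congr 1
    obtain ⟨k, hk⟩ := hr.odd_of_ne_two hr2
    omega
  simp only [map_add, map_sub, map_mul, map_pow, aeval_C, aeval_X, map_natCast, hpow]
  norm_num
  linear_combination hP - (c0 * (c1 + c2) + (c1 ^ 2 + c2 ^ 2) * 0) * hsum
    + ((c1 - c2) ^ 2 / 4) * hg2
    - ((c1 + c2) ^ 2 / 4) * ((η₁ + η₂ - 1) * hsum)

end CfsgLib.Invol.CyclotomicNorm
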