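import Mathlib
import Cfsg.Agent.Lib.Invol.CyclotomicNorm
import Cfsg.Agent.Lib.Invol.SL25Facts

/-!
A copy of `SL(2, 5)` in a division ring admits no nontrivial element of prime order `≥ 7` commuting with it
and no extension by a group of order two.
-/

namespace CfsgLib.Invol.DivisionSL25

open Polynomial CfsgLib.Invol.SL25

section Quat

variable {D : Type*} [DivisionRing D]

theorem quat_zero {i j a b c d : D} (h2 : (2 : D) ≠ 0) (hi : i * i = -1) (hj : j * j = -1)
    (hji : j * i = -(i * j))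
    (ab : Commute a b) (ac : Commute a c) (ad : Commute a d) (bc : Commute b c) (bd : Commute b d)
    (cd : Commute c d)
    (ai : Commute a i) (bi : Commute b i) (ci : Commute c i) (di : Commute d i)
    (aj : Commute a j) (bj : Commute b j) (cj : Commute c j) (dj : Commute d j)
    (h : a * a + b * b + c * c + d * d = 0) : a = 0 := by
  have hj0 : j ≠ 0 := fun e => by simp [e] at hj
  have hi0 : i ≠ 0 := fun e => by simp [e] at hi
  -- `j` conjugates `x + y i` to `x - y i`
  have hJ : ∀ x y : D, Commute x j → Commute y j → j * (x + y * i) = (x - y * i) * j := by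
    intro x y hx hy
    rw [mul_add, sub_mul, ← hx.eq, ← mul_assoc, ← hy.eq, mul_assoc, hji, mul_neg, ← sub_eq_add_neg,
      mul_assoc]
  have hJ' : ∀ x y : D, Commute x j → Commute y j → j * (x - y * i) = (x + y * i) * j := by
    intro x y hx hy
    rw [mul_sub, add_mul, ← hx.eq, ← mul_assoc, ← hy.eq, mul_assoc, hji, mul_neg, sub_neg_eq_add,
      mul_assoc]
  have hN : ∀ x y : D, Commute x y → Commute x i → Commute y i →
      (x + y * i) * (x - y * i) = x * x + y * y := by
    intro x y hxy hx hy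
    have h1 : (y * i) * x = x * (y * i) := (hxy.mul_right hx).symm.eq
    have h2 : (y * i) * (y * i) = -(y * y) := by
      rw [mul_assoc, ← mul_assoc i y i, ← hy.eq, mul_assoc, hi]; simp
    rw [add_mul, mul_sub, mul_sub, h1, h2]; abel
  set p := a + b * i with hp
  set p' := a - b * i with hp'
  set q := c + d * i with hq
  set q' := c - d * i with hq'
  have hpq : p * q = q * p := by
    have h1 : Commute a q := ac.add_right (ad.mul_right ai)
    have h2 : Commute (b * i) q := by
      refine Commute.mul_left (bc.add_right (bd.mul_right bi)) ?_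
      exact ci.symm.add_right (di.symm.mul_right (Commute.refl i))
    exact (h1.add_left h2).eq
  have e1 : j * p' = p * j := hJ' a b aj bj
  have e2 : j * q = q' * j := hJ c d cj dj
  have e3 : (q * j) * (q * j) = -(q * q') := by
    rw [mul_assoc, ← mul_assoc j q j, e2, mul_assoc q' j j, hj, mul_neg, mul_one, mul_neg]
  have hprod : (p + q * j) * (p' - q * j) = 0 := by
    rw [add_mul, mul_sub p, mul_sub (q * j), mul_assoc q j p', e1, ← mul_assoc q p j, ← hpq, mul_assoc p q j,
      e3, hp, hp', hN a b ab ai bi, hq, hq', hN c d cd ci di]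
    rw [← h]; abel
  -- either factor vanishing forces the `i`-part to vanish
  have hI : ∀ x y : D, Commute x i → Commute y i → i * (x + y * i) = (x + y * i) * i := fun x y hx hy =>
    (hx.symm.add_right (hy.symm.mul_right (Commute.refl i))).eq
  have split : ∀ x y : D, Commute x i → Commute y i → x + y * j = 0 → x = 0 := by
    intro x y hx hy he
    have h1 : i * (x + y * j) = (x - y * j) * i := by
      rw [mul_add, sub_mul, ← hx.eq, ← mul_assoc, ← hy.eq, mul_assoc, mul_assoc, hji]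
      simp [mul_neg]
    rw [he, mul_zero] at h1
    have h3 : x - y * j = 0 := (mul_eq_zero.1 h1.symm).resolve_right hi0
    have h4 : (2 : D) * x = 0 := by
      rw [two_mul]
      calc x + x = (x + y * j) + (x - y * j) := by abel
        _ = 0 := by rw [he, h3, add_zero]
    exact (mul_eq_zero.1 h4).resolve_left h2
  have pI : Commute p i := ((hI a b ai bi)).symm
  have p'I : Commute p' i := ai.sub_left ((bi).mul_left (Commute.refl i))
  have qI : Commute q i := (hI c d ci di).symm
  have key : p = 0 ∨ p' = 0 := by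
    rcases mul_eq_zero.1 hprod with he | he
    · exact Or.inl (split p q pI qI he)
    · refine Or.inr (split p' (-q) p'I qI.neg_left ?_)
      rw [neg_mul, ← sub_eq_add_neg, he]
  have both : p = 0 ∧ p' = 0 := by
    rcases key with hp0 | hp0
    · refine ⟨hp0, ?_⟩
      have := hJ a b aj bj
      rw [← hp, hp0, mul_zero, ← hp'] at this
      exact (mul_eq_zero.1 this.symm).resolve_right hj0
    · refine ⟨?_, hp0⟩
      have := hJ' a b aj bj
      rw [← hp', hp0, mul_zero, ← hp] at this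
      exact (mul_eq_zero.1 this.symm).resolve_right hj0
  have h4 : (2 : D) * a = 0 := by
    rw [two_mul]
    calc a + a = p + p' := by rw [hp, hp']; abel
      _ = 0 := by rw [both.1, both.2, add_zero]
  exact (mul_eq_zero.1 h4).resolve_left h2

/-- Quaternion units force characteristic zero. -/
theorem charZero_of_quat {i j : D} (hi : i * i = -1) (hj : j * j = -1) (hji : j * i = -(i * j))
    (hne : (1 : D) ≠ -1) : CharZero D := by
  have h2 : (2 : D) ≠ 0 := fun h => hne (by rw [eq_neg_iff_add_eq_zero]; rw [← h]; norm_num)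
  obtain ⟨p, hp⟩ := CharP.exists D
  rcases CharP.char_is_prime_or_zero D p with hpp | rfl
  · haveI := Fact.mk hpp
    obtain ⟨a, b, hab⟩ := ZMod.sq_add_sq p (-1)
    have h0 : ((1 + a.val * a.val + b.val * b.val : ℕ) : D) = 0 := by
      rw [CharP.cast_eq_zero_iff D p, ← ZMod.natCast_eq_zero_iff]
      push_cast
      rw [ZMod.natCast_zmod_val, ZMod.natCast_zmod_val]
      linear_combination hab
    have hc : ∀ (n : ℕ) (z : D), Commute (n : D) z := fun n z => Nat.cast_commute n z
    exfalso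
    refine one_ne_zero (quat_zero (a := (1 : D)) (b := (a.val : D)) (c := (b.val : D)) (d := (0 : D))
      h2 hi hj hji (Commute.one_left _) (Commute.one_left _) (Commute.one_left _) (hc _ _)
      (Commute.zero_right _) (Commute.zero_right _) (Commute.one_left _) (hc _ _) (hc _ _)
      (Commute.zero_left _) (Commute.one_left _) (hc _ _) (hc _ _) (Commute.zero_left _) ?_)
    push_cast at h0
    simpa using h0
  · exact CharP.charP_to_charZero D

end Quat

/-- Thue's lemma gives a small multiple of `q` as `a ^ 2 + 5 * b ^ 2`. -/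
theorem exists_rep (q : ℕ) [Fact q.Prime] (hsq : IsSquare (-5 : ZMod q)) :
    ∃ (k : ℕ) (a b : ℤ), 1 ≤ k ∧ k ≤ 5 ∧ (k : ℤ) * q = a ^ 2 + 5 * b ^ 2 := by
  have hq : q.Prime := Fact.out
  obtain ⟨w, hw⟩ := hsq
  set m := Nat.sqrt q with hm
  have hlt : Fintype.card (ZMod q) < Fintype.card (Fin (m + 1) × Fin (m + 1)) := by
    rw [ZMod.card, Fintype.card_prod, Fintype.card_fin]; exact Nat.lt_succ_sqrt q
  obtain ⟨x, y, hne, he⟩ := Fintype.exists_ne_map_eq_of_card_lt
    (fun z : Fin (m + 1) × Fin (m + 1) => (z.1.val : ZMod q) - w * (z.2.val : ZMod q)) hlt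
  set a : ℤ := (x.1.val : ℤ) - y.1.val with ha
  set b : ℤ := (x.2.val : ℤ) - y.2.val with hb
  have hdiv : (q : ℤ) ∣ a ^ 2 + 5 * b ^ 2 := by
    rw [← ZMod.intCast_zmod_eq_zero_iff_dvd]
    have e : (a : ZMod q) = w * (b : ZMod q) := by
      rw [ha, hb]; push_cast; linear_combination he
    push_cast
    rw [e]; linear_combination -(b : ZMod q) ^ 2 * hw
  have hmq : (m : ℤ) * m < q := by
    have h1 : m * m ≤ q := Nat.sqrt_le q
    have h2 : m * m ≠ q := by
      intro h
      have hd : m ∣ q := ⟨m, h.symm⟩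
      rcases (Nat.dvd_prime hq).1 hd with h1 | h1
      · rw [h1] at h; simp at h; exact hq.ne_one h.symm
      · rw [h1] at h; have := hq.two_le; nlinarith
    exact_mod_cast lt_of_le_of_ne h1 h2
  have hab : ∀ z : Fin (m + 1), (0 : ℤ) ≤ z.val ∧ (z.val : ℤ) ≤ m := fun z => by
    have := z.isLt; omega
  have ha2 : a ^ 2 < q := by
    have := hab x.1; have := hab y.1
    have : |a| ≤ m := by rw [abs_le, ha]; omega
    nlinarith [abs_mul_abs_self a, abs_nonneg a]
  have hb2 : b ^ 2 < q := by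
    have := hab x.2; have := hab y.2
    have : |b| ≤ m := by rw [abs_le, hb]; omega
    nlinarith [abs_mul_abs_self b, abs_nonneg b]
  obtain ⟨k, hk⟩ := hdiv
  have hpos : 0 < a ^ 2 + 5 * b ^ 2 := by
    rcases eq_or_ne a 0 with h | h
    · rcases eq_or_ne b 0 with h' | h'
      · exfalso; apply hne
        ext <;> omega
      · positivity
    · positivity
  have hq0 : (0 : ℤ) < q := by exact_mod_cast hq.pos
  have hk1 : 1 ≤ k := by by_contra hc; nlinarith
  have hk5 : k ≤ 5 := by by_contra hc; nlinarith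
  refine ⟨k.toNat, a, b, by omega, by omega, ?_⟩
  rw [Int.toNat_of_nonneg (by omega), hk]; ring

theorem three_not_square : ¬ IsSquare (3 : ZMod 5) := by decide

/-- Over a ring containing a square root of `5`, four times each of `1, …, 5` is a sum of two squares. -/
theorem four_mul_rep {R : Type*} [CommRing R] (s : R) (hs : s * s = 5) (k : ℕ) (h1 : 1 ≤ k) (h5 : k ≤ 5) :
    ∃ c d : R, c * c + d * d = 4 * (k : R) := by
  interval_cases k
  · exact ⟨2, 0, by norm_num⟩
  · exact ⟨2, 2, by norm_num⟩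
  · exact ⟨1 + s, 1 - s, by push_cast; linear_combination 2 * hs⟩
  · exact ⟨4, 0, by norm_num⟩
  · exact ⟨4, 2, by norm_num⟩

section Group

variable {G D : Type*} [Group G] [DivisionRing D]

theorem sq_one {x : D} (h : x * x = 1) : x = 1 ∨ x = -1 := mul_self_eq_one_iff.1 h

variable (f : G →* D) (hf : Function.Injective f) (ι : T →* G) (hι : Function.Injective ι)

include hf hι

theorem map_neg_one : f (ι (-1)) = -1 := by
  have h : f (ι (-1)) * f (ι (-1)) = 1 := by rw [← map_mul, ← map_mul]; simp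
  refine (sq_one h).resolve_left fun e => SL25.neg_one_ne ?_
  exact hι (by rw [hf (e.trans (map_one f).symm), map_one])

theorem quat : f (ι SL25.I) * f (ι SL25.I) = -1 ∧ f (ι SL25.J) * f (ι SL25.J) = -1 ∧
    f (ι SL25.J) * f (ι SL25.I) = -(f (ι SL25.I) * f (ι SL25.J)) ∧ (1 : D) ≠ -1 := by
  refine ⟨?_, ?_, ?_, ?_⟩
  · rw [← map_mul, ← map_mul, SL25.I_mul_self, map_neg_one f hf ι hι]
  · rw [← map_mul, ← map_mul, SL25.J_mul_self, map_neg_one f hf ι hι]
  · rw [← map_mul, ← map_mul, SL25.J_mul_I, map_mul, map_mul, map_neg_one f hf ι hι, neg_one_mul,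
      map_mul, map_mul]
  · rw [← map_neg_one f hf ι hι, ← map_one f]
    intro e
    exact SL25.neg_one_ne (hι ((hf e).symm.trans (map_one ι).symm))

theorem charZero : CharZero D := by
  obtain ⟨a, b, c, d⟩ := quat f hf ι hι
  exact charZero_of_quat a b c d

/-- The trace element of `U`: it squares correctly and commutes with the generators. -/
theorem trace_facts : ∃ t : D, t = f (ι SL25.U) + f (ι SL25.U⁻¹) ∧ t * t + t = 1 ∧
    Commute t (f (ι SL25.U)) ∧ Commute t (f (ι SL25.J)) ∧ Commute t (f (ι SL25.V)) ∧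
    Commute t (f (ι SL25.I)) := by
  set u := f (ι SL25.U) with hu
  set u' := f (ι SL25.U⁻¹) with hu'
  set j := f (ι SL25.J) with hj
  have huu : u * u' = 1 := by rw [hu, hu', ← map_mul, ← map_mul, mul_inv_cancel, map_one, map_one]
  have huu' : u' * u = 1 := by rw [hu, hu', ← map_mul, ← map_mul, inv_mul_cancel, map_one, map_one]
  have hjj : j * j = -1 := (quat f hf ι hι).2.1
  refine ⟨u + u', rfl, ?_⟩
  have h5 : u ^ 5 = 1 := by rw [hu, ← map_pow, ← map_pow, SL25.U_pow_five, map_one, map_one]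
  have hu1 : u ≠ 1 := fun e => SL25.U_ne_one (hι (by rw [hf (e.trans (map_one f).symm), map_one]))
  have hu4 : u' = u ^ 4 := by rw [hu', ← SL25.U_four, map_pow, map_pow]
  have hgeo : 1 + u + u ^ 2 + u ^ 3 + u ^ 4 = 0 := by
    have h : (1 + u + u ^ 2 + u ^ 3 + u ^ 4) * (u - 1) = u ^ 5 - 1 := by noncomm_ring
    rw [h5, sub_self] at h
    exact (mul_eq_zero.1 h).resolve_right (sub_ne_zero.2 hu1)
  have hquad : (u + u') * (u + u') + (u + u') = 1 := by
    rw [hu4]
    have e : (u + u ^ 4) * (u + u ^ 4) + (u + u ^ 4) =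
        (1 + u + u ^ 2 + u ^ 3 + u ^ 4) + (u ^ 5 * u ^ 3 - u ^ 3) + (u ^ 5 + u ^ 5 - 1) := by noncomm_ring
    rw [e, hgeo, h5]; noncomm_ring
  have cU : Commute (u + u') u := by
    show _ * _ = _ * _
    rw [add_mul, mul_add, huu, huu']
  -- `y = j u` satisfies `y ^ 2 + y + 1 = 0`
  set y := j * u with hy
  have hy3 : y * y * y = 1 := by
    rw [hy, hu, hj, ← map_mul, ← map_mul, ← map_mul, ← map_mul, ← map_mul, ← map_mul]
    rw [show SL25.J * SL25.U * (SL25.J * SL25.U) * (SL25.J * SL25.U) = 1 from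
      (by rw [← SL25.JU_cube]; simp [pow_succ]), map_one, map_one]
  have hy1 : y ≠ 1 := by
    intro e
    rw [hy, hu, hj, ← map_mul, ← map_mul] at e
    exact SL25.JU_ne (hι (by rw [hf (e.trans (map_one f).symm), map_one]))
  have hyq : y * y = -1 - y := by
    have h : (y * y + y + 1) * (y - 1) = y * y * y - 1 := by noncomm_ring
    rw [hy3, sub_self] at h
    have h' := (mul_eq_zero.1 h).resolve_right (sub_ne_zero.2 hy1)
    rw [eq_neg_of_add_eq_zero_left (show y * y + (y + 1) = 0 by rw [← add_assoc]; exact h')]; abel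
  have huy : u = -(j * y) := by rw [hy, ← mul_assoc, hjj, neg_one_mul, neg_neg]
  have hu'y : u' = (-1 - y) * j := by
    have e : u' = (y * y) * j := by
      have h1 : u' * (j * j * u) = u' * (-u) := by rw [hjj]; simp
      have h2 : (y * y * j) * u = 1 := by rw [mul_assoc, ← hy, hy3]
      calc u' = (y * y * j * u) * u' := by rw [h2, one_mul]
        _ = y * y * j := by rw [mul_assoc, huu, mul_one]
    rw [e, hyq]
  have cJ : Commute (u + u') j := by
    show _ * _ = _ * _
    rw [huy, hu'y]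
    have ej : ∀ z : D, j * (j * z) = -z := fun z => by rw [← mul_assoc, hjj, neg_one_mul]
    simp only [add_mul, mul_add, neg_mul, mul_neg, sub_mul, mul_sub, one_mul, mul_one, mul_assoc, hjj, ej]
    abel
  have hj' : Commute (u + u') (f (ι SL25.J⁻¹)) := by
    have e : f (ι SL25.J⁻¹) = -j := by
      have h1 : f (ι SL25.J⁻¹) * j = 1 := by
        rw [hj, ← map_mul, ← map_mul, inv_mul_cancel, map_one, map_one]
      calc f (ι SL25.J⁻¹) = f (ι SL25.J⁻¹) * (j * (-j)) := by rw [mul_neg, hjj, neg_neg, mul_one]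
        _ = -j := by rw [← mul_assoc, h1, one_mul]
    rw [e]; exact cJ.neg_right
  have hu'c : Commute (u + u') u' := by
    show _ * _ = _ * _
    rw [add_mul, mul_add, huu, huu']
  have cV : Commute (u + u') (f (ι SL25.V)) := by
    rw [SL25.V_word, map_mul, map_mul, map_mul, map_mul]
    exact (cJ.mul_right hu'c).mul_right hj'
  refine ⟨hquad, cU, cJ, cV, ?_⟩
  rw [SL25.I_word]
  simp only [map_mul]
  exact ((((cV.mul_right cV).mul_right cU).mul_right cV).mul_right cU).mul_right cU

/-- No element of prime order `r ≥ 7` centralises the image of `SL(2, 5)`. -/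
theorem no_central_prime (r : ℕ) (hr : r.Prime) (hr2 : r ≠ 2) (hr5 : r ≠ 5) (x : G)
    (hx : x ^ r = 1) (hx1 : x ≠ 1) (hc : ∀ z : T, Commute x (ι z)) : False := by
  haveI := charZero f hf ι hι
  obtain ⟨t, ht, hquad, hcU, hcJ, hcV, hcI⟩ := trace_facts f hf ι hι
  set s := 2 * t + 1 with hs
  have hss : s * s = 5 := by
    calc (2 * t + 1) * (2 * t + 1) = 4 * (t * t + t) + 1 := by noncomm_ring
      _ = 5 := by rw [hquad]; norm_num
  have hsC : ∀ z : D, Commute t z → Commute s z := fun z hz =>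
    ((Commute.ofNat_left 2 z).mul_left hz).add_left (Commute.one_left z)
  obtain ⟨hi, hj, hji, hne⟩ := quat f hf ι hι
  set i := f (ι SL25.I)
  set j := f (ι SL25.J)
  set ξ := f x with hξ
  have hξi : Commute ξ i := (hc _).map f
  have hξj : Commute ξ j := (hc _).map f
  have hξs : Commute s ξ := hsC ξ (by
    rw [ht]; exact (((hc _).map f).symm).add_left (((hc _).map f).symm))
  have hξr : ξ ^ r = 1 := by rw [hξ, ← map_pow, hx, map_one]
  have hξ1 : ξ ≠ 1 := fun e => hx1 (hf (e.trans (map_one f).symm))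
  -- choose the auxiliary prime
  have hcop : Nat.Coprime 20 r := by
    rw [Nat.coprime_comm, hr.coprime_iff_not_dvd]
    intro hd
    have : r ∈ Nat.divisors 20 := Nat.mem_divisors.2 ⟨hd, by norm_num⟩
    have e : Nat.divisors 20 = {1, 2, 4, 5, 10, 20} := by decide
    rw [e] at this
    simp only [Finset.mem_insert, Finset.mem_singleton] at this
    rcases this with h | h | h | h | h | h <;> subst h <;> first | omega | norm_num at hr
  obtain ⟨a₀, ha1, ha2⟩ := Nat.chineseRemainder hcop 3 (r - 1)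
  have hacop : a₀.Coprime (20 * r) := by
    refine Nat.Coprime.mul_right ?_ ?_
    · rw [Nat.Coprime, Nat.gcd_comm, Nat.gcd_rec, ha1]; norm_num
    · rw [Nat.Coprime, Nat.gcd_comm, Nat.gcd_rec, ha2, ← Nat.gcd_rec, ← Nat.Coprime,
        Nat.coprime_comm, ← Nat.coprime_comm, Nat.coprime_self_sub_right hr.one_le]
      exact Nat.coprime_one_right r
  obtain ⟨q, -, hqp, hq⟩ := Nat.forall_exists_prime_gt_and_modEq 0 (by positivity [hr.pos]) hacop
  haveI := Fact.mk hqp
  have hq20 : q ≡ 3 [MOD 20] := (hq.of_dvd (dvd_mul_right 20 r)).trans ha1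
  have hqr : q ≡ r - 1 [MOD r] := (hq.of_dvd (dvd_mul_left r 20)).trans ha2
  have hq20' : q % 20 = 3 := hq20
  have hq4 : q % 4 = 3 := by omega
  have hsq : IsSquare (-5 : ZMod q) := by
    haveI : Fact (Nat.Prime 5) := ⟨by norm_num⟩
    have h5 : ¬ IsSquare ((5 : ℕ) : ZMod q) := by
      rw [← ZMod.exists_sq_eq_prime_iff_of_mod_four_eq_one (p := 5) (q := q) (by norm_num) (by omega),
        show ((q : ℕ) : ZMod 5) = 3 by rw [← ZMod.natCast_mod, show q % 5 = 3 by omega]; rfl]
      exact three_not_square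
    have hm1 : ¬ IsSquare (-1 : ZMod q) := by rw [ZMod.exists_sq_eq_neg_one_iff]; omega
    have h50 : ((5 : ℕ) : ZMod q) ≠ 0 := fun e => h5 (e ▸ IsSquare.zero)
    rw [← quadraticChar_neg_one_iff_not_isSquare] at h5 hm1
    rw [← quadraticChar_one_iff_isSquare (by simpa using h50),
      show (-5 : ZMod q) = -1 * ((5 : ℕ) : ZMod q) by norm_num, map_mul, h5, hm1]
    norm_num
  obtain ⟨U, V, hUV⟩ := CyclotomicNorm.exists_poly q hr hq4 hqr hr2
  haveI := Fact.mk hr
  have hPhi : aeval ξ (Polynomial.cyclotomic r ℚ) = 0 := by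
    rw [Polynomial.cyclotomic_prime, map_sum]
    simp only [map_pow, aeval_X]
    have h := geom_sum_mul ξ r
    rw [hξr, sub_self] at h
    exact (mul_eq_zero.1 h).resolve_right (sub_ne_zero.2 hξ1)
  -- work in the commutative algebra generated by `ξ` and `s`
  let P := Algebra.adjoin ℚ ({ξ, s} : Set D)
  have hcomm : ∀ a ∈ ({ξ, s} : Set D), ∀ b ∈ ({ξ, s} : Set D), a * b = b * a := by
    rintro a (rfl | rfl) b (rfl | rfl)
    exacts [rfl, hξs.symm.eq, hξs.eq, rfl]
  letI : CommRing P := Algebra.adjoinCommRingOfComm ℚ hcomm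
  have hPi : ∀ z : P, Commute (z : D) i := fun z =>
    (Algebra.commute_of_mem_adjoin_of_forall_mem_commute z.2 (by
      rintro b (rfl | rfl)
      exacts [hξi.symm, (hsC i hcI).symm])).symm
  have hPj : ∀ z : P, Commute (z : D) j := fun z =>
    (Algebra.commute_of_mem_adjoin_of_forall_mem_commute z.2 (by
      rintro b (rfl | rfl)
      exacts [hξj.symm, (hsC j hcJ).symm])).symm
  have hPc : ∀ z w : P, Commute (z : D) (w : D) := fun z w => congrArg Subtype.val (mul_comm z w)
  let ξP : P := ⟨ξ, Algebra.subset_adjoin (Or.inl rfl)⟩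
  let sP : P := ⟨s, Algebra.subset_adjoin (Or.inr rfl)⟩
  have hsP : sP * sP = 5 := by
    apply Subtype.ext
    show s * s = P.val (OfNat.ofNat 5)
    rw [hss, map_ofNat]
  have hzero : aeval ξP (U ^ 2 + C (q : ℚ) * V ^ 2 + (X ^ ((r - 1) / 2)) ^ 2) = 0 := by
    obtain ⟨W, hW⟩ := hUV
    apply Subtype.ext
    have hv : P.val (aeval ξP (Polynomial.cyclotomic r ℚ * W)) = aeval ξ (Polynomial.cyclotomic r ℚ * W) :=
      (Polynomial.aeval_algHom_apply P.val ξP _).symm
    rw [hW]
    refine hv.trans ?_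
    rw [map_mul, hPhi, zero_mul]
    rfl
  obtain ⟨k, a, b, hk1, hk5, hk⟩ := exists_rep q hsq
  obtain ⟨c, d, hcd⟩ := four_mul_rep sP hsP k hk1 hk5
  set u := aeval ξP U
  set v := aeval ξP V
  set m := ξP ^ ((r - 1) / 2)
  have hm : u ^ 2 + (q : P) * v ^ 2 + m ^ 2 = 0 := by
    simpa [u, v, m, map_ofNat] using hzero
  have hkP : (k : P) * q = (a : P) ^ 2 + 5 * (b : P) ^ 2 := by
    have := congrArg (fun z : ℤ => (z : P)) hk
    simpa using this
  set A := c * a + d * b * sP
  set B := d * a - c * b * sP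
  have hfour : (2 * (k : P) * m) * (2 * (k : P) * m) + (2 * (k : P) * u) * (2 * (k : P) * u) +
      (v * A) * (v * A) + (v * B) * (v * B) = 0 := by
    linear_combination (4 * (k : P) ^ 2) * hm + (v ^ 2 * ((a : P) ^ 2 + (b : P) ^ 2 * sP ^ 2)) * hcd
      + (4 * (k : P) * v ^ 2 * (b : P) ^ 2) * hsP - (4 * (k : P) * v ^ 2) * hkP
  have h2 : (2 : D) ≠ 0 := by norm_num
  have hres := quat_zero (a := ((2 * (k : P) * m : P) : D)) (b := ((2 * (k : P) * u : P) : D))
    (c := ((v * A : P) : D)) (d := ((v * B : P) : D)) h2 hi hj hji (hPc _ _) (hPc _ _) (hPc _ _) (hPc _ _) (hPc _ _) (hPc _ _)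
    (hPi _) (hPi _) (hPi _) (hPi _) (hPj _) (hPj _) (hPj _) (hPj _)
    (congrArg P.val hfour)
  push_cast at hres
  have hξ0 : ξ ≠ 0 := fun e => by rw [e, zero_pow hr.ne_zero] at hξr; exact zero_ne_one hξr
  have hk0 : (k : D) ≠ 0 := Nat.cast_ne_zero.2 (by omega)
  exact mul_ne_zero (mul_ne_zero h2 hk0) (pow_ne_zero ((r - 1) / 2) hξ0) (by simpa [m, ξP] using hres)

omit hf hι in
theorem comm_of_range (hS : ι.range.Normal) (g : G) (z : T) : ∃ w, g * ι z = ι w * g := by
  obtain ⟨w, hw⟩ := hS.conj_mem _ ⟨z, rfl⟩ g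
  exact ⟨w, by rw [hw]; group⟩

/-- If `h` centralises both generators of the quaternion subgroup and `h * h` is in the image, then so is `h`. -/
theorem mem_of_centralizes (h : G) (hI : h * ι SL25.I = ι SL25.I * h) (hJ : h * ι SL25.J = ι SL25.J * h)
    (hh : h * h ∈ ι.range) : h ∈ ι.range := by
  obtain ⟨σ, hσ⟩ := hh
  have cI : σ * SL25.I = SL25.I * σ := hι (by
    rw [map_mul, map_mul, hσ, mul_assoc, hI, ← mul_assoc, hI, mul_assoc])
  have cJ : σ * SL25.J = SL25.J * σ := hι (by
    rw [map_mul, map_mul, hσ, mul_assoc, hJ, ← mul_assoc, hJ, mul_assoc])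
  obtain ⟨hi, -, -, -⟩ := quat f hf ι hι
  rcases SL25.cent_IJ σ cI cJ with rfl | rfl
  · have e : f h * f h = 1 := by rw [← map_mul, ← hσ, map_one, map_one]
    rcases sq_one e with e | e
    · exact ⟨1, hf (by rw [e, map_one, map_one])⟩
    · exact ⟨-1, hf (by rw [e, map_neg_one f hf ι hι])⟩
  · have e : f h * f h = f (ι SL25.I) * f (ι SL25.I) := by
      rw [hi, ← map_mul, ← hσ, map_neg_one f hf ι hι]
    have hc : Commute (f h) (f (ι SL25.I)) := (show Commute h (ι SL25.I) from hI).map f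
    rcases hc.mul_self_eq_mul_self_iff.1 e with e | e
    · exact ⟨SL25.I, hf e.symm⟩
    · exact ⟨-1 * SL25.I, hf (by rw [e, map_mul, map_mul, map_neg_one f hf ι hι, neg_one_mul])⟩

omit hf hι in
theorem conj_pow {h u v : G} (he : h * u = v * h) (n : ℕ) : h * u ^ n = v ^ n * h :=
  (SemiconjBy.pow_right (show SemiconjBy h u v from he) n).eq

/-- Outside the image nothing fixes the trace element. -/
theorem mem_of_fix_trace (hS : ι.range.Normal) (hsq : ∀ g : G, g * g ∈ ι.range) (h : G)
    (ht : Commute (f h) (f (ι SL25.U) + f (ι SL25.U⁻¹))) : h ∈ ι.range := by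
  haveI := charZero f hf ι hι
  obtain ⟨t, htdef, hquad, hcU, hcJ, hcV, hcI⟩ := trace_facts f hf ι hι
  rw [← htdef] at ht
  have hcS : ∀ w : T, Commute t (f (ι w)) := SL25.commute_all f ι t hcU hcV
  -- move `h` into the normaliser of `⟨U⟩`
  obtain ⟨u₁, hu₁⟩ := comm_of_range ι hS h SL25.U
  have h5 : u₁ ^ 5 = 1 := hι (by
    have := conj_pow hu₁ 5
    rw [← map_pow, ← map_pow, SL25.U_pow_five, map_one, mul_one] at this
    rw [map_one]
    exact mul_right_cancel (a := _) (b := h) (by rw [one_mul]; exact this.symm))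
  obtain ⟨σ, m, hm⟩ := SL25.conj_U u₁ h5
  set h₁ := ι σ * h with hh₁
  have e1 : h₁ * ι SL25.U = ι (SL25.U ^ m.val) * h₁ := by
    rw [hh₁, mul_assoc, hu₁, ← mul_assoc, ← map_mul, hm, map_mul, mul_assoc]
  have ht₁ : Commute (f h₁) t := by
    rw [hh₁, map_mul]; exact (hcS σ).symm.mul_left ht
  have hne : f h₁ ≠ 0 := fun e => by
    have : f (h₁⁻¹ * h₁) = 0 := by rw [map_mul, e, mul_zero]
    rw [inv_mul_cancel, map_one] at this
    exact one_ne_zero this
  have e1' : h₁ * ι SL25.U⁻¹ = ι (SL25.U ^ m.val)⁻¹ * h₁ := by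
    have := (SemiconjBy.inv_right (show SemiconjBy h₁ (ι SL25.U) (ι (SL25.U ^ m.val)) from e1)).eq
    rwa [← map_inv, ← map_inv] at this
  have htr : f (ι (SL25.U ^ m.val)) + f (ι (SL25.U ^ m.val)⁻¹) = t := by
    apply mul_right_cancel₀ hne
    calc (f (ι (SL25.U ^ m.val)) + f (ι (SL25.U ^ m.val)⁻¹)) * f h₁ = f h₁ * t := by
          rw [add_mul, ← map_mul, ← map_mul, ← e1, ← e1', map_mul f h₁, map_mul f h₁, ← mul_add, ← htdef]
      _ = t * f h₁ := ht₁.eq
  -- the exponent is `±1`
  set u := f (ι SL25.U) with hu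
  set u' := f (ι SL25.U⁻¹) with hu'
  have huu : u * u' = 1 := by rw [hu, hu', ← map_mul, ← map_mul, mul_inv_cancel, map_one, map_one]
  have huu' : u' * u = 1 := by rw [hu, hu', ← map_mul, ← map_mul, inv_mul_cancel, map_one, map_one]
  have hsol : ∀ e : SL25.U ^ m.val = SL25.U ^ 2 ∨ SL25.U ^ m.val = (SL25.U ^ 2)⁻¹, False := by
    intro e
    have hh : f (ι (SL25.U ^ 2)) + f (ι (SL25.U ^ 2)⁻¹) = t := by
      rcases e with e | e <;> rw [e] at htr
      · exact htr
      · rw [inv_inv, add_comm] at htr; exact htr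
    have e2 : t * t = f (ι (SL25.U ^ 2)) + f (ι (SL25.U ^ 2)⁻¹) + 2 := by
      rw [htdef, sq SL25.U, mul_inv_rev, map_mul, map_mul, map_mul, map_mul, ← hu, ← hu']
      rw [add_mul, mul_add, mul_add, huu, huu', ← one_add_one_eq_two]; abel
    rw [hh] at e2
    have h55 : (2 * t + 1) * (2 * t + 1) = 5 := by
      calc (2 * t + 1) * (2 * t + 1) = 4 * (t * t + t) + 1 := by noncomm_ring
        _ = 5 := by rw [hquad]; norm_num
    rw [e2] at hquad
    have ht2 : 2 * t + 1 = 0 := by
      calc 2 * t + 1 = (t + 2 + t) - 1 := by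
            rw [two_mul, ← one_add_one_eq_two]; abel
        _ = 0 := by rw [hquad, sub_self]
    rw [ht2, mul_zero] at h55
    exact (by norm_num : (5 : D) ≠ 0) h55.symm
  obtain ⟨h₂, hh₂, e3⟩ : ∃ h₂, (h₂ ∈ ι.range → h₁ ∈ ι.range) ∧ h₂ * ι SL25.U = ι SL25.U * h₂ := by
    rcases SL25.pow_cases m with hm1 | hm1 | hm1 | hm1
    · exfalso
      rw [hm1, map_one, one_mul] at e1
      exact SL25.U_ne_one (hι (by rw [map_one]; exact mul_left_cancel (e1.trans (mul_one h₁).symm)))
    · exact ⟨h₁, id, by rw [hm1] at e1; exact e1⟩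
    · exact absurd hm1 (fun e => hsol e)
    · refine ⟨ι SL25.I * h₁, fun hh => (Subgroup.mul_mem_cancel_left _ (MonoidHom.mem_range.2 ⟨_, rfl⟩)).1 hh, ?_⟩
      rw [mul_assoc, e1, ← mul_assoc, ← map_mul, hm1, SL25.I_U_inv, map_mul, mul_assoc]
  -- adjust the image of the torus element
  obtain ⟨y, hy⟩ := comm_of_range ι hS h₂ SL25.I
  have hyU : y * SL25.U = SL25.U ^ 4 * y := by
    have hp := conj_pow e3 4
    rw [← map_pow] at hp
    apply hι
    rw [map_mul, map_mul]
    apply mul_right_cancel (b := h₂)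
    calc ι y * ι SL25.U * h₂ = ι y * h₂ * ι SL25.U := by rw [mul_assoc, ← e3, mul_assoc]
      _ = h₂ * ι (SL25.I * SL25.U) := by rw [← hy, map_mul, mul_assoc]
      _ = h₂ * ι (SL25.U ^ 4) * ι SL25.I := by rw [SL25.I_U, map_mul, mul_assoc]
      _ = ι (SL25.U ^ 4) * ι y * h₂ := by rw [hp, mul_assoc, hy, mul_assoc]
  obtain ⟨k, hk⟩ := SL25.normalizes_U y hyU
  set h₃ := (ι (SL25.U ^ k.val))⁻¹ * h₂ with hh₃
  have e4 : h₃ * ι SL25.U = ι SL25.U * h₃ := by
    have hc : (ι (SL25.U ^ k.val))⁻¹ * ι SL25.U = ι SL25.U * (ι (SL25.U ^ k.val))⁻¹ := by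
      rw [map_pow]; exact ((Commute.refl _).pow_left _).inv_left.eq
    rw [hh₃, mul_assoc, e3, ← mul_assoc, hc, mul_assoc]
  have hy' : ∀ y', y * SL25.U ^ k.val = SL25.U ^ k.val * y' → h₃ * ι SL25.I = ι y' * h₃ := by
    intro y' he
    have he' : (ι (SL25.U ^ k.val))⁻¹ * ι y = ι y' * (ι (SL25.U ^ k.val))⁻¹ := by
      rw [inv_mul_eq_iff_eq_mul, ← mul_assoc, eq_mul_inv_iff_mul_eq, ← map_mul, ← map_mul, he]
    rw [hh₃, mul_assoc, hy, ← mul_assoc, he', mul_assoc]
  -- image of `V`
  obtain ⟨g, hg⟩ := comm_of_range ι hS h₃ SL25.V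
  have hginv : h₃ * ι SL25.V⁻¹ = ι g⁻¹ * h₃ := by
    have := (SemiconjBy.inv_right (show SemiconjBy h₃ (ι SL25.V) (ι g) from hg)).eq
    rwa [← map_inv, ← map_inv] at this
  have sc : ∀ a b a' b' : T, h₃ * ι a = ι a' * h₃ → h₃ * ι b = ι b' * h₃ →
      h₃ * ι (a * b) = ι (a' * b') * h₃ := by
    intro a b a' b' ha hb
    rw [map_mul, map_mul, ← mul_assoc, ha, mul_assoc, hb, mul_assoc]
  have uniq : ∀ a b b', h₃ * ι a = ι b * h₃ → h₃ * ι a = ι b' * h₃ → b = b' := fun a b b' h1 h2 =>
    hι (mul_right_cancel (h1.symm.trans h2))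
  have hbraid : SL25.U * g⁻¹ * SL25.U = g⁻¹ * SL25.U * g⁻¹ := by
    refine uniq _ _ _ (sc _ _ _ _ (sc _ _ _ _ e4 hginv) e4) ?_
    rw [SL25.braid]
    exact sc _ _ _ _ (sc _ _ _ _ hginv e4) hginv
  obtain ⟨y', hy'I, hy3⟩ : ∃ y', (y' = SL25.I ∨ y' = -1 * SL25.I) ∧ h₃ * ι SL25.I = ι y' * h₃ := by
    rcases hk with hk | hk
    · exact ⟨_, Or.inl rfl, hy' _ hk⟩
    · exact ⟨_, Or.inr rfl, hy' _ hk⟩
  have hgIg : g * SL25.I * g = SL25.I := by
    have h1 : g * y' * g = y' := by
      refine uniq _ _ _ (sc _ _ _ _ (sc _ _ _ _ hg hy3) hg) ?_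
      rw [SL25.IgI]; exact hy3
    rcases hy'I with rfl | rfl
    · exact h1
    · apply mul_left_cancel (a := (-1 : T))
      calc -1 * (g * SL25.I * g) = g * (-1 * SL25.I) * g := by simp
        _ = -1 * SL25.I := h1
  have hgV : g = SL25.V := by
    refine (SL25.braid_unique g hgIg hbraid).resolve_right fun e => ?_
    have hU' : h₃ * ι SL25.U⁻¹ = ι SL25.U⁻¹ * h₃ := by
      rw [map_inv]; exact (show Commute h₃ (ι SL25.U) from e4).inv_right.eq
    rw [e] at hg
    exact SL25.V_ne (hι (mul_left_cancel (hg.trans hU'.symm)))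
  rw [hgV] at hg
  have cI : h₃ * ι SL25.I = ι SL25.I * h₃ := by
    rw [SL25.I_word]
    exact sc _ _ _ _ (sc _ _ _ _ (sc _ _ _ _ (sc _ _ _ _ (sc _ _ _ _ hg hg) e4) hg) e4) e4
  have cJ : h₃ * ι SL25.J = ι SL25.J * h₃ := by
    rw [SL25.J_word]
    exact sc _ _ _ _ (sc _ _ _ _ (sc _ _ _ _ (sc _ _ _ _ (sc _ _ _ _ e4 hg) hg) hg) hg) e4
  have m3 := mem_of_centralizes f hf ι hι h₃ cI cJ (hsq h₃)
  have m2 : h₂ ∈ ι.range := (Subgroup.mul_mem_cancel_left _ (inv_mem (MonoidHom.mem_range.2 ⟨_, rfl⟩))).1 m3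
  exact (Subgroup.mul_mem_cancel_left _ (MonoidHom.mem_range.2 ⟨σ, rfl⟩)).1 (hh₂ m2)

/-- A group containing the image of `SL(2, 5)` normally, all squares in it, is that image. -/
theorem range_eq_top (hS : ι.range.Normal) (hsq : ∀ g : G, g * g ∈ ι.range) : ι.range = ⊤ := by
  haveI := charZero f hf ι hι
  by_contra hne
  obtain ⟨g₀, hg₀⟩ : ∃ g₀, g₀ ∉ ι.range := by
    by_contra hc; push Not at hc
    exact hne (eq_top_iff.2 fun x _ => hc x)
  obtain ⟨t, htdef, hquad, hcU, hcJ, hcV, hcI⟩ := trace_facts f hf ι hι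
  obtain ⟨hi, hj, hji, -⟩ := quat f hf ι hι
  have sq : ∀ g a a', g * ι a = ι a' * g → g * ι (a * a) = ι (a' * a') * g := by
    intro g a a' ha
    rw [map_mul, map_mul, ← mul_assoc, ha, mul_assoc, ha, mul_assoc]
  have hcent : ∀ g : G, g * ι (-1) = ι (-1) * g := by
    intro g
    apply hf
    rw [map_mul, map_mul, map_neg_one f hf ι hι]; simp
  -- make `g` commute with the torus element
  obtain ⟨y, hy⟩ := comm_of_range ι hS g₀ SL25.I
  have hyy : y * y = -1 := by
    apply hι
    have h1 := sq g₀ _ _ hy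
    rw [SL25.I_mul_self, hcent] at h1
    exact (mul_right_cancel h1).symm
  obtain ⟨σ, hσ⟩ := SL25.conj_I y hyy
  set g₁ := ι σ * g₀ with hg₁
  have hg₁n : g₁ ∉ ι.range := fun hh => hg₀ ((Subgroup.mul_mem_cancel_left _ (MonoidHom.mem_range.2 ⟨σ, rfl⟩)).1 hh)
  have e1 : g₁ * ι SL25.I = ι SL25.I * g₁ := by
    rw [hg₁, mul_assoc, hy, ← mul_assoc, ← map_mul, hσ, map_mul, mul_assoc]
  obtain ⟨z, hz⟩ := comm_of_range ι hS g₁ SL25.J
  have hzI : z * SL25.I = -1 * (SL25.I * z) := by
    have h1 : g₁ * ι (SL25.J * SL25.I) = ι (z * SL25.I) * g₁ := by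
      rw [map_mul, map_mul, ← mul_assoc, hz, mul_assoc, e1, mul_assoc]
    have h2 : g₁ * ι (SL25.I * SL25.J) = ι (SL25.I * z) * g₁ := by
      rw [map_mul, map_mul, ← mul_assoc, e1, mul_assoc, hz, mul_assoc]
    apply hι
    apply mul_right_cancel (b := g₁)
    rw [← h1, SL25.J_mul_I, map_mul, map_mul (f := ι) (-1) (SL25.I * z), mul_assoc (ι (-1)), ← h2,
      ← mul_assoc, ← mul_assoc, hcent]
  obtain ⟨g, hgn, gI, gJ⟩ : ∃ g, g ∉ ι.range ∧ g * ι SL25.I = ι SL25.I * g ∧
      g * ι SL25.J = ι (SL25.I * SL25.J) * g := by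
    have step : ∀ z', SL25.I * z = z' * SL25.I → g₁ * ι SL25.J = ι z * g₁ →
        (ι SL25.I * g₁) * ι SL25.J = ι z' * (ι SL25.I * g₁) := by
      intro z' he _
      rw [mul_assoc, hz, ← mul_assoc, ← map_mul, he, map_mul, mul_assoc]
    have hn : ι SL25.I * g₁ ∉ ι.range := fun hh => hg₁n ((Subgroup.mul_mem_cancel_left _ (MonoidHom.mem_range.2 ⟨_, rfl⟩)).1 hh)
    have eI : (ι SL25.I * g₁) * ι SL25.I = ι SL25.I * (ι SL25.I * g₁) := by rw [mul_assoc, e1]
    rcases SL25.anti_I z hzI with rfl | rfl | rfl | rfl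
    · exact absurd (mem_of_centralizes f hf ι hι g₁ e1 hz (hsq g₁)) hg₁n
    · exact absurd (mem_of_centralizes f hf ι hι _ eI (step _ SL25.I_negJ hz) (hsq _)) hn
    · exact ⟨g₁, hg₁n, e1, hz⟩
    · exact ⟨ι SL25.I * g₁, hn, eI, step _ SL25.I_negIJ hz⟩
  -- the square of `g`
  obtain ⟨ρ, hρ⟩ := hsq g
  have gIJ : g * ι (SL25.I * SL25.J) = ι (-1 * SL25.J) * g := by
    rw [← SL25.I_IJ, map_mul, map_mul ι SL25.I (SL25.I * SL25.J), ← mul_assoc, gI, mul_assoc, gJ,
      ← mul_assoc]
  have cρI : ρ * SL25.I = SL25.I * ρ := hι (by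
    rw [map_mul, map_mul, hρ, mul_assoc, gI, ← mul_assoc, gI, mul_assoc])
  have cρJ : ρ * SL25.J = -1 * SL25.J * ρ := hι (by
    rw [map_mul, map_mul ι (-1 * SL25.J) ρ, hρ, mul_assoc, gJ, ← mul_assoc, gIJ, mul_assoc])
  have hρI : ρ = SL25.I ∨ ρ = -1 * SL25.I := by
    have c1 : ρ * SL25.I * SL25.I = SL25.I * (ρ * SL25.I) := by rw [← mul_assoc, ← cρI]
    have c2 : ρ * SL25.I * SL25.J = SL25.J * (ρ * SL25.I) := by
      have hIJ : SL25.I * SL25.J = -1 * (SL25.J * SL25.I) := by rw [SL25.J_mul_I]; simp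
      rw [mul_assoc, hIJ]
      calc ρ * (-1 * (SL25.J * SL25.I)) = -1 * (ρ * SL25.J * SL25.I) := by simp [mul_assoc]
        _ = SL25.J * (ρ * SL25.I) := by rw [cρJ]; simp [mul_assoc]
    rcases SL25.cent_IJ _ c1 c2 with e | e
    · right
      calc ρ = (ρ * SL25.I) * (-1 * SL25.I) := by
            rw [mul_assoc, show SL25.I * (-1 * SL25.I) = 1 by simp [SL25.I_mul_self], mul_one]
        _ = _ := by rw [e, one_mul]
    · left
      calc ρ = (ρ * SL25.I) * (-1 * SL25.I) := by
            rw [mul_assoc, show SL25.I * (-1 * SL25.I) = 1 by simp [SL25.I_mul_self], mul_one]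
        _ = _ := by rw [e]; simp
  -- everything now happens in the division ring
  set i := f (ι SL25.I) with hi'
  set j := f (ι SL25.J) with hj'
  set G' := f g with hG'
  have GI : G' * i = i * G' := by rw [hG', hi', ← map_mul, gI, map_mul]
  have GJ : G' * j = i * j * G' := by
    rw [hG', hi', hj', ← map_mul, gJ, map_mul, map_mul, map_mul]
  have GG : G' * G' = i ∨ G' * G' = -i := by
    rw [hG', ← map_mul, ← hρ]
    rcases hρI with rfl | rfl
    · exact Or.inl rfl
    · right; rw [map_mul, map_mul, map_neg_one f hf ι hι, neg_one_mul]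
  have GtR : G' * t = (-1 - t) * G' := by
    obtain ⟨u₁, hu₁⟩ := comm_of_range ι hS g SL25.U
    have hu₂ : g * ι SL25.U⁻¹ = ι u₁⁻¹ * g := by
      have := (SemiconjBy.inv_right (show SemiconjBy g (ι SL25.U) (ι u₁) from hu₁)).eq
      rwa [← map_inv, ← map_inv] at this
    set t' := f (ι u₁) + f (ι u₁⁻¹) with ht'
    have e : G' * t = t' * G' := by
      rw [htdef, ht', hG', mul_add, add_mul, ← map_mul, ← map_mul, hu₁, hu₂, map_mul, map_mul]
    have hct : ∀ w : T, Commute t (f (ι w)) := SL25.commute_all f ι t hcU hcV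
    have hctt : Commute t t' := (hct u₁).add_right (hct u₁⁻¹)
    have hne' : G' ≠ 0 := fun e0 => by
      have : f (g⁻¹ * g) = 0 := by rw [map_mul, ← hG', e0, mul_zero]
      rw [inv_mul_cancel, map_one] at this
      exact one_ne_zero this
    have hq' : t' * t' + t' = 1 := by
      apply mul_right_cancel₀ hne'
      rw [add_mul, mul_assoc, ← e, ← mul_assoc, ← e, mul_assoc, ← mul_add, hquad, mul_one, one_mul]
    have : (t' - t) * (t' + t + 1) = 0 := by
      have : (t' - t) * (t' + t + 1) = (t' * t' + t') - (t * t + t) + (t' * t - t * t') := by noncomm_ring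
      rw [this, hq', hquad, hctt.eq]; abel
    rcases mul_eq_zero.1 this with h0 | h0
    · exfalso
      rw [sub_eq_zero.1 h0] at e
      refine hgn (mem_of_fix_trace f hf ι hι hS hsq g ?_)
      rw [← htdef]; exact e
    · rw [e]
      congr 1
      rw [add_assoc] at h0
      rw [eq_neg_of_add_eq_zero_left h0]; abel
  set s := 2 * t + 1 with hs
  have Gs : G' * s = -(s * G') := by
    have h2 : G' * (2 * t) = 2 * (G' * t) := by rw [← mul_assoc, (Commute.ofNat_right G' 2).eq, mul_assoc]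
    rw [hs, mul_add, h2, GtR, mul_one]; noncomm_ring
  have hss : s * s = 5 := by
    calc (2 * t + 1) * (2 * t + 1) = 4 * (t * t + t) + 1 := by noncomm_ring
      _ = 5 := by rw [hquad]; norm_num
  have h50 : (5 : D) ≠ 0 := by norm_num
  have hs0 : s ≠ 0 := fun e => h50 (by rw [← hss, e, zero_mul])
  have hsI : Commute s i := ((Commute.ofNat_left 2 i).mul_left hcI).add_left (Commute.one_left i)
  have hsJ : Commute s j := ((Commute.ofNat_left 2 j).mul_left hcJ).add_left (Commute.one_left j)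
  have ii : ∀ w : D, i * (i * w) = -w := fun w => by rw [← mul_assoc, hi, neg_one_mul]
  have jj : ∀ w : D, j * (j * w) = -w := fun w => by rw [← mul_assoc, hj, neg_one_mul]
  have jiw : ∀ w : D, j * (i * w) = -(i * (j * w)) := fun w => by
    rw [← mul_assoc, hji, neg_mul, mul_assoc]
  have GIw : ∀ w : D, G' * (i * w) = i * (G' * w) := fun w => by rw [← mul_assoc, GI, mul_assoc]
  set K := (1 - i) * G' with hK
  have Ki : Commute K i := by
    show (1 - i) * G' * i = i * ((1 - i) * G')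
    simp only [sub_mul, mul_sub, one_mul, mul_assoc, GI]
  have Kj : Commute K j := by
    show (1 - i) * G' * j = j * ((1 - i) * G')
    simp only [sub_mul, mul_sub, one_mul, mul_assoc, GJ, ii, jiw, sub_neg_eq_add]
    abel
  have Ks : K * s = -(s * K) := by
    rw [hK, mul_assoc, Gs, mul_neg, ← mul_assoc, ← mul_assoc,
      ((Commute.one_left s).sub_left hsI.symm).eq]
  have KK : K * K = 2 ∨ K * K = -2 := by
    have e : K * K = -(2 * (i * (G' * G'))) := by
      rw [hK]
      simp only [sub_mul, mul_sub, one_mul, mul_assoc, GIw, ii]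
      rw [two_mul]; abel
    rcases GG with h | h
    · left; rw [e, h, hi]; simp
    · right; rw [e, h, mul_neg, hi]; simp
  have hK0 : K * s ≠ 0 := by
    intro e
    rcases mul_eq_zero.1 e with e | e
    · rcases KK with h | h <;> rw [e, mul_zero] at h
      · exact two_ne_zero h.symm
      · exact two_ne_zero (neg_eq_zero.1 h.symm)
    · exact hs0 e
  have hK2 : K * s + K * s ≠ 0 := by
    rw [← two_mul]; exact mul_ne_zero two_ne_zero hK0
  rcases KK with h | h
  · set u := s + K * s with hu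
    set w := i + 2 * j with hw
    have huu : u * u = -5 := by
      have e : (s + K * s) * (s + K * s) =
          s * s + s * K * s + K * (s * s) + K * (s * K) * s := by noncomm_ring
      rw [hu, e, show s * K = -(K * s) by rw [Ks, neg_neg], mul_neg, ← mul_assoc K K s, h,
        neg_mul, neg_mul, mul_assoc K s s, hss, mul_assoc 2 s s, hss]
      norm_num
    have hww : w * w = -5 := by
      have e : (i + 2 * j) * (i + 2 * j) = i * i + 2 * (i * j + j * i) + 4 * (j * j) := by noncomm_ring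
      rw [hw, e, hi, hj, hji]; norm_num
    have hc : Commute u w := by
      have a : Commute u i := hsI.add_left (Ki.mul_left hsI)
      have b : Commute u j := hsJ.add_left (Kj.mul_left hsJ)
      exact a.add_right ((Commute.ofNat_right u 2).mul_right b)
    have hsw : Commute s w := hsI.add_right ((Commute.ofNat_right s 2).mul_right hsJ)
    have hsu : Commute s u := by
      rcases hc.mul_self_eq_mul_self_iff.1 (huu.trans hww.symm) with e | e
      · rw [e]; exact hsw
      · rw [e]; exact hsw.neg_right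
    have hsK : Commute s (K * s) := by
      have := hsu.sub_right (Commute.refl s)
      rwa [hu, add_sub_cancel_left] at this
    have e5 : K * (s * s) = -(K * (s * s)) := by
      calc K * (s * s) = K * s * s := (mul_assoc K s s).symm
        _ = s * (K * s) := hsK.eq.symm
        _ = s * K * s := (mul_assoc s K s).symm
        _ = -(K * (s * s)) := by rw [show s * K = -(K * s) by rw [Ks, neg_neg], neg_mul, mul_assoc K s s]
    apply hK0
    have e6 : K * (s * s) + K * (s * s) = 0 := eq_neg_iff_add_eq_zero.1 e5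
    rw [← two_mul, ← mul_assoc K s s] at e6
    have := (mul_eq_zero.1 e6).resolve_left two_ne_zero
    exact (mul_eq_zero.1 this).resolve_right hs0
  · set w := i + j with hw
    have hww : w * w = -2 := by
      have e : (i + j) * (i + j) = i * i + (i * j + j * i) + j * j := by noncomm_ring
      rw [hw, e, hi, hj, hji]; norm_num
    have hsK : Commute s K := by
      rcases ((Ki.add_right Kj) : Commute K w).mul_self_eq_mul_self_iff.1 (h.trans hww.symm) with e | e
      · rw [e]; exact hsI.add_right hsJ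
      · rw [e]; exact (hsI.add_right hsJ).neg_right
    apply hK2
    nth_rewrite 1 [Ks]
    rw [← hsK.eq, neg_add_cancel]

end Group

end CfsgLib.Invol.DivisionSL25
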