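import Cfsg.Agent.Lib.Invol.QuaternionLocal
import Cfsg.Agent.Lib.Invol.Lonely
import Cfsg.Agent.Lib.Invol.TransferOrder
import Cfsg.Agent.Lib.Invol.BrauerSuzukiLarge

/-!
# The centralizer of an isolated involution over a quaternion Sylow subgroup of order eight
-/

open Subgroup

set_option autoImplicit false

namespace CfsgLib.Invol

open Cfsg

universe u

variable {G : Type u} [Group G] [Fintype G]

theorem exists_eightData {z : G} (IH : ZStarBelow.{u} (Nat.card G))
    (hz : IsIsolatedInvolution z) (hO : pPrimeCore 2 G = ⊥) (hzZ : z ∉ Subgroup.center G)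
    (huniq : ∀ v : G, orderOf v = 2 → Commute z v → v = z) (S : Sylow 2 G)
    (hS : (S : Subgroup G) ≤ Subgroup.centralizer ({z} : Set G))
    (e : (S : Subgroup G) ≃* QuaternionGroup 2) :
    ∃ D : EightData (Subgroup.centralizer ({z} : Set G)), (D.u : G) = z := by
  classical
  haveI : Fact (Nat.Prime 2) := ⟨Nat.prime_two⟩
  set C := Subgroup.centralizer ({z} : Set G) with hC
  have hmem : ∀ g : G, g ∈ C ↔ Commute g z := fun g => Subgroup.mem_centralizer_singleton_iff
  obtain ⟨a, y, haS, hyS, hao, hyo, hinv⟩ := quaternion_elements e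
  have hpow : ∀ q : QuaternionGroup 2, q ^ 4 = 1 := by
    intro q
    have h := Monoid.pow_exponent_eq_one q
    rw [QuaternionGroup.exponent] at h
    norm_num at h ⊢
    exact h
  have hS4 : ∀ x ∈ (S : Subgroup G), x ^ 4 = 1 := by
    intro x hx
    have h := hpow (e ⟨x, hx⟩)
    rw [← map_pow] at h
    exact congrArg Subtype.val (e.injective (h.trans (map_one e).symm))
  have ha2 : a ^ 2 = z :=
    huniq _ (by rw [orderOf_pow, hao]; rfl)
      (((hmem a).1 (hS haS)).symm.pow_right 2)
  have hfour : ∀ g : G, ∀ k : ℕ, g ^ 2 ^ k = 1 → g ^ 4 = 1 := by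
    intro g k hk
    obtain ⟨j, -, hj⟩ := (Nat.dvd_prime_pow Nat.prime_two).1 (orderOf_dvd_of_pow_eq_one hk)
    obtain ⟨b, hb⟩ := exists_conj_le_sylow (Q := Subgroup.zpowers g)
      (IsPGroup.of_card (n := j) (by rw [Nat.card_zpowers, hj])) S
    have h := hS4 _ (hb g (Subgroup.mem_zpowers g))
    rwa [conj_pow, conj_eq_one_iff] at h
  -- the fusion of elements of order four
  set M := Subgroup.zpowers a with hM
  have hMS : M ≤ (S : Subgroup G) := Subgroup.zpowers_le.2 haS
  have hMr : M.relIndex (S : Subgroup G) = 2 := by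
    have h := (M.subgroupOf (S : Subgroup G)).card_mul_index
    rw [Nat.card_congr (Subgroup.subgroupOfEquivOfLe hMS).toEquiv, hM, Nat.card_zpowers, hao,
      Nat.card_congr e.toEquiv, Nat.card_eq_fintype_card, QuaternionGroup.card] at h
    show (M.subgroupOf (S : Subgroup G)).index = 2
    rw [hM]
    omega
  have hord : ∀ x ∈ (S : Subgroup G), x ∉ M → 2 ^ (2 - 1) < orderOf x := by
    intro x hx hxM
    have h0 := orderOf_pos x
    by_contra hle
    have hle' : orderOf x ≤ 2 := by simpa using hle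
    rcases (show orderOf x = 1 ∨ orderOf x = 2 by omega) with h | h
    · exact hxM (orderOf_eq_one_iff.1 h ▸ one_mem _)
    · refine hxM ?_
      rw [huniq x h ((hmem x).1 (hS hx)).symm, ← ha2]
      exact Subgroup.npow_mem_zpowers a 2
  have haC : a ∈ C := hS haS
  have hyC : y ∈ C := hS hyS
  have hsq : ∀ x : G, Commute x z → orderOf x = 4 → x ^ 2 = z := fun x hx ho =>
    huniq _ (by rw [orderOf_pow, ho]; rfl) (hx.symm.pow_right 2)
  have hconj : ∀ x : C, orderOf x = 4 → IsConj x ⟨a, haC⟩ := by
    intro x hx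
    rw [← Subgroup.orderOf_coe] at hx
    by_contra hne
    have hnone : ∀ b : G, b * (x : G) * b⁻¹ ∉ M := by
      intro b hb
      have hbo : orderOf (b * (x : G) * b⁻¹) = 4 := by
        rw [← MulAut.conj_apply, MulEquiv.orderOf_eq, hx]
      obtain ⟨i, hi, hi'⟩ : ∃ i : ℕ, i < 4 ∧ a ^ i = b * (x : G) * b⁻¹ := by
        obtain ⟨i, hi, hi'⟩ := Subgroup.mem_zpowers_iff.1 hb |>.elim fun k hk =>
          (⟨(k % 4).toNat, by omega, by
            rw [← hk, ← zpow_natCast, Int.toNat_of_nonneg (Int.emod_nonneg _ (by norm_num))]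
            conv_rhs => rw [← zpow_mod_orderOf, hao]
            norm_num⟩ : ∃ i : ℕ, i < 4 ∧ a ^ i = b * (x : G) * b⁻¹)
        exact ⟨i, hi, hi'⟩
      have hcase : b * (x : G) * b⁻¹ = a ∨ b * (x : G) * b⁻¹ = a⁻¹ := by
        interval_cases i
        · rw [← hi', pow_zero, orderOf_one] at hbo; norm_num at hbo
        · exact Or.inl (by rw [← hi', pow_one])
        · rw [← hi', ha2, hz.1] at hbo; norm_num at hbo
        · refine Or.inr ?_
          rw [← hi', eq_inv_iff_mul_eq_one, ← pow_succ]
          have := pow_orderOf_eq_one a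
          rw [hao] at this
          exact this
      obtain ⟨h, hh, hhx⟩ := centralizer_control hz (x := (x : G)) (a := b) x.2 (by
        rcases hcase with h | h <;> rw [h]
        · exact haC
        · exact inv_mem haC)
      rcases hcase with h' | h'
      · exact hne (isConj_iff.2 ⟨⟨h, hh⟩, Subtype.ext (hhx.trans h')⟩)
      · refine hne (isConj_iff.2 ⟨⟨y, hyC⟩ * ⟨h, hh⟩, Subtype.ext ?_⟩)
        show y * h * (x : G) * (y * h)⁻¹ = a
        calc y * h * (x : G) * (y * h)⁻¹ = y * (h * (x : G) * h⁻¹) * y⁻¹ := by group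
          _ = (y * a * y⁻¹)⁻¹ := by rw [hhx, h']; group
          _ = a := by rw [hinv, inv_inv]
    obtain ⟨H, hH⟩ := exists_index_two_of_no_conj S M hMS hMr (n := 2) hord (x : G)
      (by rw [hx]; norm_num) hnone
    haveI : H.Normal := Subgroup.normal_of_index_eq_two hH
    refine notMem_proper_normal IH hz hO hzZ H (fun h => ?_) ?_
    · rw [h, Subgroup.index_top] at hH; norm_num at hH
    · rw [← ha2, pow_two]; exact Subgroup.mul_self_mem_of_index_two hH a
  refine ⟨{ u := ⟨z, (hmem z).2 (Commute.refl z)⟩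
            c := ⟨a, haC⟩
            y := ⟨y, hyC⟩
            u_order := ?_, central := ?_, uniq := ?_, c_order := ?_, flip := ?_, four := ?_
            conj_c := hconj }, rfl⟩
  · rw [Subgroup.orderOf_mk, hz.1]
  · exact fun g => Subtype.ext ((hmem _).1 g.2).eq
  · intro v hv
    exact Subtype.ext (huniq v (by rw [Subgroup.orderOf_coe]; exact hv) ((hmem _).1 v.2).symm)
  · rw [Subgroup.orderOf_mk, hao]
  · exact Subtype.ext hinv
  · intro g k hk
    exact Subtype.ext (hfour g k (congrArg Subtype.val hk))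

end CfsgLib.Invol
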