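import Cfsg.Agent.Lib.Invol.StronglyEmbedded
import Cfsg.Agent.Lib.Invol.TI

/-!
# Elementary abelian involution centralizers
-/

namespace CfsgLib.Invol

variable {G : Type*} [Group G] [Finite G]

theorem stronglyEmbedded_normalizer_of_elementary (T : Sylow 2 G) (hnc : ¬ IsCyclic (T : Subgroup G))
    (hnn : ¬ (T : Subgroup G).Normal)
    (hC : ∀ t : G, orderOf t = 2 → IsMulCommutative (Subgroup.centralizer ({t} : Set G)) ∧
      ∀ c ∈ Subgroup.centralizer ({t} : Set G), c ^ 2 = 1) :
    Cfsg.IsStronglyEmbedded (Subgroup.normalizer ((T : Subgroup G) : Set G)) := by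
  have : Fact (Nat.Prime 2) := ⟨Nat.prime_two⟩
  set N := Subgroup.normalizer ((T : Subgroup G) : Set G) with hN
  have hTnt : Nontrivial (T : Subgroup G) := by
    by_contra h
    rw [not_nontrivial_iff_subsingleton] at h
    exact hnc isCyclic_of_subsingleton
  have hTeven : Even (Nat.card (T : Subgroup G)) := by
    obtain ⟨k, hk⟩ := T.2.exists_card_eq
    rcases k with _ | k
    · have := Finite.one_lt_card (α := (T : Subgroup G))
      rw [hk] at this; norm_num at this
    · exact even_iff_two_dvd.2 (hk ▸ dvd_pow_self 2 (Nat.succ_ne_zero k))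
  -- the centralizer of an involution of `T` is `T`
  have : Nontrivial (Subgroup.center (T : Subgroup G)) := T.2.center_nontrivial
  have hcomm : IsMulCommutative (T : Subgroup G) := by
    have hZeven : Even (Nat.card (Subgroup.center (T : Subgroup G))) := by
      obtain ⟨k, hk⟩ := (T.2.to_subgroup (Subgroup.center (T : Subgroup G))).exists_card_eq
      rcases k with _ | k
      · have := Finite.one_lt_card (α := Subgroup.center (T : Subgroup G))
        rw [hk] at this; norm_num at this
      · exact even_iff_two_dvd.2 (hk ▸ dvd_pow_self 2 (Nat.succ_ne_zero k))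
    obtain ⟨z, hz, hzo⟩ := exists_invol_mem hZeven
    rw [← Subgroup.orderOf_coe] at hzo
    have hle : (T : Subgroup G) ≤ Subgroup.centralizer ({(z : G)} : Set G) := fun u hu =>
      Subgroup.mem_centralizer_singleton_iff.2
        (congrArg Subtype.val (Subgroup.mem_center_iff.1 hz (⟨u, hu⟩ : (T : Subgroup G))))
    refine ⟨⟨fun a b => Subtype.ext ?_⟩⟩
    have h := congrArg Subtype.val ((hC _ hzo).1.is_comm.comm
      (⟨a, hle a.2⟩ : Subgroup.centralizer ({(z : G)} : Set G)) ⟨b, hle b.2⟩)
    exact h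
  have hCT : ∀ t ∈ (T : Subgroup G), orderOf t = 2 →
      Subgroup.centralizer ({t} : Set G) = (T : Subgroup G) := by
    intro t ht hto
    refine T.3 (fun c => ⟨1, Subtype.ext ?_⟩) fun u hu => ?_
    · exact (hC t hto).2 c c.2
    · exact Subgroup.mem_centralizer_singleton_iff.2
        (congrArg Subtype.val (hcomm.is_comm.comm (⟨u, hu⟩ : (T : Subgroup G)) ⟨t, ht⟩))
  have hNne : N ≠ ⊤ := fun h => hnn (Subgroup.normalizer_eq_top_iff.1 h)
  have hNeven : Even (Nat.card N) :=
    even_iff_two_dvd.2 (hTeven.two_dvd.trans (Subgroup.card_dvd_of_le Subgroup.le_normalizer))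
  rw [stronglyEmbedded_iff hNne hNeven]
  -- involutions of `N` lie in `T`
  have hinT : ∀ t ∈ N, orderOf t = 2 → t ∈ (T : Subgroup G) := by
    intro t ht hto
    have hp : IsPGroup 2 (Subgroup.zpowers t) :=
      IsPGroup.of_card (n := 1) (by rw [Nat.card_zpowers, hto, pow_one])
    have hsup := hp.to_sup_of_normal_right' T.2 (Subgroup.zpowers_le.2 ht)
    exact (T.3 hsup le_sup_right).le (Subgroup.mem_sup_left (Subgroup.mem_zpowers t))
  intro t ht hto g hg
  have htT := hinT t ht hto
  have hgT := hinT _ hg (invol_conj hto g)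
  apply mem_normalizer_of_conj_map_eq
  rw [← hCT t htT hto]
  conv_rhs => rw [hCT t htT hto, ← hCT _ hgT (invol_conj hto g)]
  ext u
  rw [mem_conj_map, Subgroup.mem_centralizer_singleton_iff, Subgroup.mem_centralizer_singleton_iff]
  constructor
  · intro h
    calc u * (g * t * g⁻¹) = g * (g⁻¹ * u * g * t) * g⁻¹ := by group
      _ = g * (t * (g⁻¹ * u * g)) * g⁻¹ := by rw [h]
      _ = g * t * g⁻¹ * u := by group
  · intro h
    calc g⁻¹ * u * g * t = g⁻¹ * (u * (g * t * g⁻¹)) * g := by group
      _ = g⁻¹ * (g * t * g⁻¹ * u) * g := by rw [h]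
      _ = t * (g⁻¹ * u * g) := by group

end CfsgLib.Invol
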