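import Cfsg.Agent.Lib.Invol.ExtraTransferCocycle
import Cfsg.Agent.Lib.Coprime.PGroupFrattini
import Cfsg.Agent.Lib.Coprime.Core
import Cfsg.Prelude.Def_Transfer
import Cfsg.Prelude.Def_Solvable

/-!
# Transfer into the centralizer of an involution with a large extraspecial normal subgroup

For `ψ : C(z) → ℤ/2` the orbits of `E` on the cosets of `C(z)`, other than the trivial one,
contribute nothing to the transfer of `ψ`, as soon as `z` and the point stabilizers in `E` are
suitably killed. Then `O²(G) = G` forces `ψ = 1` on `2`-elements.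
-/

set_option autoImplicit false
set_option linter.style.haveILetI false
set_option linter.unusedSectionVars false

namespace CfsgLib.Invol.ExtraTransfer

open Subgroup
open scoped commutatorElement

variable {G : Type*} [Group G]

/-- The properties of a large extraspecial subgroup `E` at the involution `z` that are used. -/
structure Data (z : G) (E : Subgroup G) : Prop where
  ord : orderOf z = 2
  memZ : z ∈ E
  cmz : ∀ e ∈ E, Commute e z
  comm : ∀ a ∈ E, ∀ b ∈ E, a * b = b * a ∨ a * b = b * a * z
  sq : ∀ a ∈ E, a * a = 1 ∨ a * a = z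
  ctr : ∀ a ∈ E, (∀ b ∈ E, Commute a b) → a = 1 ∨ a = z
  large : centralizer (E : Set G) ≤ E
  norm : ∀ c : G, Commute c z → c ∈ normalizer (E : Set G)
  pGroup : IsPGroup 2 E

theorem Data.of [Finite G] {z : G} (hz : orderOf z = 2) {E : Subgroup G}
    (hE : E = (Cfsg.pCore 2 ↥(centralizer ({z} : Set G))).map
      (centralizer ({z} : Set G)).subtype)
    (hext : Cfsg.IsExtraspecial 2 ↥E) (hcent : centralizer (E : Set G) ≤ E) : Data z E := by
  haveI : Fact (Nat.Prime 2) := ⟨Nat.prime_two⟩
  set C := centralizer ({z} : Set G) with hC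
  haveI hn : (Cfsg.pCore 2 ↥C).Normal := CfsgLib.Coprime.pCore_normal' (G := ↥C) 2
  have hzC : z ∈ C := mem_centralizer_singleton_iff.2 rfl
  have hEC : ∀ e ∈ E, Commute e z := by
    intro e he
    rw [hE] at he
    obtain ⟨c, -, rfl⟩ := he
    exact mem_centralizer_singleton_iff.1 c.2
  have hzE : z ∈ E := by
    rw [hE]
    refine ⟨⟨z, hzC⟩, ?_, rfl⟩
    haveI : (zpowers (⟨z, hzC⟩ : C)).Normal := ⟨fun v hv g => by
      obtain ⟨k, rfl⟩ := hv
      refine ⟨k, ?_⟩
      have hc : Commute g ⟨z, hzC⟩ := Subtype.ext (mem_centralizer_singleton_iff.1 g.2)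
      show (⟨z, hzC⟩ : C) ^ k = g * (⟨z, hzC⟩ : C) ^ k * g⁻¹
      rw [(hc.zpow_right k).eq, mul_inv_cancel_right]⟩
    exact CfsgLib.Coprime.le_pCore (p := 2) (IsPGroup.of_card (n := 1) (by
      rw [Nat.card_zpowers, Subgroup.orderOf_mk, hz, pow_one])) (mem_zpowers _)
  obtain ⟨⟨hp, hfr, hcomm⟩, hcard⟩ := hext
  have hz1 : (⟨z, hzE⟩ : E) ≠ 1 := fun e => by
    have : z = 1 := congrArg Subtype.val e
    rw [this, orderOf_one] at hz
    omega
  have hzc : (⟨z, hzE⟩ : E) ∈ center E := mem_center_iff.2 fun g => Subtype.ext (hEC g g.2)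
  have hcen : ∀ v ∈ center E, (v : G) = 1 ∨ (v : G) = z := by
    intro v hv
    obtain ⟨w, -, hw⟩ := (Nat.card_eq_two_iff' (1 : center E)).1 hcard
    by_cases h : v = 1
    · exact Or.inl (congrArg Subtype.val h)
    · refine Or.inr ?_
      have h1 := hw ⟨v, hv⟩ (fun e => h (congrArg Subtype.val e))
      have h2 := hw ⟨⟨z, hzE⟩, hzc⟩ (fun e => hz1 (congrArg Subtype.val e))
      exact congrArg (fun t : center E => ((t : E) : G)) (h1.trans h2.symm)
  refine ⟨hz, hzE, hEC, fun a ha b hb => ?_, fun a ha => ?_, fun a ha h => ?_, hcent,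
    fun c hc => ?_, hp⟩
  · have h1 : ⁅(⟨a, ha⟩ : E), ⟨b, hb⟩⁆ ∈ commutator E :=
      commutator_mem_commutator (mem_top _) (mem_top _)
    rw [hcomm] at h1
    have h2 : a * b = ((⁅(⟨a, ha⟩ : E), ⟨b, hb⟩⁆ : E) : G) * (b * a) := by
      show a * b = a * b * a⁻¹ * b⁻¹ * (b * a)
      group
    rcases hcen _ h1 with h | h
    · rw [h, one_mul] at h2; exact Or.inl h2
    · rw [h, (show Commute z (b * a) from ((hEC b hb).mul_left (hEC a ha)).symm).eq] at h2
      exact Or.inr h2
  · have h1 := CfsgLib.Coprime.pow_mem_frattini hp (⟨a, ha⟩ : E)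
    rw [hfr, pow_two] at h1
    exact hcen _ h1
  · exact hcen ⟨a, ha⟩ (mem_center_iff.2 fun b => Subtype.ext (h b b.2).eq.symm)
  · have hcC : c ∈ C := mem_centralizer_singleton_iff.2 hc
    have key : ∀ c ∈ C, ∀ e ∈ E, c * e * c⁻¹ ∈ E := by
      intro c hcC e he
      rw [hE] at he ⊢
      obtain ⟨e', he', rfl⟩ := he
      exact ⟨⟨c, hcC⟩ * e' * ⟨c, hcC⟩⁻¹, hn.conj_mem e' he' _, rfl⟩
    refine mem_normalizer_iff.2 fun e => ⟨key c hcC e, fun h => ?_⟩
    have := key c⁻¹ (inv_mem hcC) _ h
    simpa [mul_assoc] using this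

variable {z : G} {E : Subgroup G}

theorem Data.zz (h : Data z E) : z * z = 1 := by
  rw [← pow_two, ← h.ord, pow_orderOf_eq_one]

theorem Data.z_ne (h : Data z E) : z ≠ 1 := fun e => by
  have := h.ord
  rw [e, orderOf_one] at this
  omega

theorem Data.sq_mem (h : Data z E) {W : Subgroup G} (hzW : z ∈ W) {a : G} (ha : a ∈ E) :
    a * a ∈ W := by
  rcases h.sq a ha with e | e <;> rw [e]
  · exact one_mem W
  · exact hzW

theorem Data.conj_mem (h : Data z E) {W : Subgroup G} (hWE : W ≤ E) (hzW : z ∈ W) {a w : G}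
    (ha : a ∈ E) (hw : w ∈ W) : a * w * a⁻¹ ∈ W := by
  rcases h.comm a ha w (hWE hw) with e | e
  · rwa [e, mul_inv_cancel_right]
  · rw [e, mul_assoc w a z, (h.cmz a ha).eq, ← mul_assoc, mul_inv_cancel_right]
    exact mul_mem hw hzW

/-- A subgroup of index two avoiding a given element. -/
theorem Data.hyperplane [Finite G] (h : Data z E) {H D : Subgroup G} (hHE : H ≤ E) (hDH : D ≤ H)
    (hzD : z ∈ D) {c : G} (hc : c ∈ H) (hcD : c ∉ D) :
    ∃ W : Subgroup G, D ≤ W ∧ W ≤ H ∧ c ∉ W ∧ ∀ a ∈ H, a ∈ W ∨ c⁻¹ * a ∈ W := by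
  obtain ⟨W, hDW, ⟨hW1, hW2⟩, hmax⟩ := exists_maximal_ge_of_wellFoundedGT
    (fun W : Subgroup G => W ≤ H ∧ c ∉ W) D ⟨hDH, hcD⟩
  refine ⟨W, hDW, hW1, hW2, fun a ha => ?_⟩
  by_cases haW : a ∈ W
  · exact Or.inl haW
  have hzW : z ∈ W := hDW hzD
  have hWE := hW1.trans hHE
  have hconj : ∀ w ∈ W, a * w * a⁻¹ ∈ W := fun w hw => h.conj_mem hWE hzW (hHE ha) hw
  have hconj' : ∀ w ∈ W, a⁻¹ * w * a ∈ W := fun w hw => by
    simpa using h.conj_mem hWE hzW (inv_mem (hHE ha)) hw
  have haa : a * a ∈ W := h.sq_mem hzW (hHE ha)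
  let V : Subgroup G :=
    { carrier := {g | g ∈ W ∨ a⁻¹ * g ∈ W}
      one_mem' := Or.inl (one_mem W)
      mul_mem' := by
        rintro x y (hx | hx) (hy | hy)
        · exact Or.inl (mul_mem hx hy)
        · refine Or.inr ?_
          rw [show a⁻¹ * (x * y) = a⁻¹ * x * a * (a⁻¹ * y) by group]
          exact mul_mem (hconj' x hx) hy
        · refine Or.inr ?_
          rw [← mul_assoc]
          exact mul_mem hx hy
        · refine Or.inl ?_
          rw [show x * y = a * (a⁻¹ * x) * a⁻¹ * (a * a) * (a⁻¹ * y) by group]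
          exact mul_mem (mul_mem (hconj _ hx) haa) hy
      inv_mem' := by
        rintro x (hx | hx)
        · exact Or.inl (inv_mem hx)
        · refine Or.inr ?_
          rw [show a⁻¹ * x⁻¹ = a⁻¹ * (a⁻¹ * x)⁻¹ * a * (a * a)⁻¹ by group]
          exact mul_mem (hconj' _ (inv_mem hx)) (inv_mem haa) }
  have hVH : V ≤ H := by
    rintro g (hg | hg)
    · exact hW1 hg
    · simpa using mul_mem ha (hW1 hg)
  have hcV : c ∈ V := by
    by_contra hcV
    exact haW (hmax ⟨hVH, hcV⟩ (fun g hg => Or.inl hg)
      (Or.inr (by rw [inv_mul_cancel]; exact one_mem W)))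
  rcases hcV with h1 | h1
  · exact absurd h1 hW2
  · exact Or.inr (by simpa using inv_mem h1)

theorem Data.two_mul_card_le [Finite G] (h : Data z E) :
    ∀ (k : ℕ) (H : Subgroup G), Nat.card H = k → H ≤ E → z ∈ H →
      2 * Nat.card E ≤ Nat.card ↥(E ⊓ centralizer (H : Set G)) * Nat.card H := by
  intro k
  induction k using Nat.strongRecOn with
  | ind k ih =>
  intro H hk hHE hzH
  have hle : zpowers z ≤ H := zpowers_le.2 hzH
  by_cases hH : H ≤ zpowers z
  · have h1 : E ≤ E ⊓ centralizer (H : Set G) := by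
      refine le_inf le_rfl fun e he => mem_centralizer_iff.2 fun a ha => ?_
      obtain ⟨i, rfl⟩ := hH ha
      exact ((h.cmz e he).zpow_right i).eq.symm
    rw [le_antisymm hH hle, Nat.card_zpowers, h.ord, mul_comm]
    refine Nat.mul_le_mul_right 2 ?_
    rw [← le_antisymm hH hle]
    exact card_le_of_le h1
  · obtain ⟨a, ha, haz⟩ := SetLike.not_le_iff_exists.1 hH
    obtain ⟨W, hzW', hWH, haW, hcov⟩ := h.hyperplane hHE hle (mem_zpowers z) ha haz
    have hzW : z ∈ W := hzW' (mem_zpowers z)
    have hWlt : Nat.card W < Nat.card H := by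
      refine lt_of_le_of_ne (card_le_of_le hWH) fun e => haW ?_
      rw [eq_of_le_of_card_ge hWH e.ge]; exact ha
    have hIH := ih _ (hk ▸ hWlt) W rfl (hWH.trans hHE) hzW
    have h2 : 2 * Nat.card W ≤ Nat.card H := by
      have := Nat.card_le_card_of_injective (fun t : Bool × W => (⟨(if t.1 then a else 1) * t.2,
        mul_mem (by split <;> simp [ha]) (hWH t.2.2)⟩ : H)) (by
          rintro ⟨b, w⟩ ⟨b', w'⟩ e
          have e' : (if b then a else 1) * (w : G) = (if b' then a else 1) * w' :=
            congrArg Subtype.val e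
          cases b <;> cases b' <;> simp at e'
          · subst e'; rfl
          · exact absurd (by rw [show a = (w : G) * (w' : G)⁻¹ by rw [e']; group]
                             exact mul_mem w.2 (inv_mem w'.2)) haW
          · exact absurd (by rw [show a = (w' : G) * (w : G)⁻¹ by rw [← e']; group]
                             exact mul_mem w'.2 (inv_mem w.2)) haW
          · subst e'; rfl)
      simpa [Nat.card_prod] using this
    have h3 : Nat.card ↥(E ⊓ centralizer (W : Set G)) ≤
        2 * Nat.card ↥(E ⊓ centralizer (H : Set G)) := by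
      classical
      set CH := E ⊓ centralizer (H : Set G) with hCH
      have hmem : ∀ x ∈ E ⊓ centralizer (W : Set G), Commute x a → x ∈ CH := by
        intro x hx hxa
        refine ⟨hx.1, mem_centralizer_iff.2 fun b hb => ?_⟩
        rcases hcov b hb with hb' | hb'
        · exact mem_centralizer_iff.1 hx.2 b hb'
        · have h4 : Commute x (a * (a⁻¹ * b)) :=
            hxa.mul_right (mem_centralizer_iff.1 hx.2 _ hb').symm
          rw [mul_inv_cancel_left] at h4
          exact h4.eq.symm
      by_cases hex : ∃ x₀ ∈ E ⊓ centralizer (W : Set G), ¬ Commute x₀ a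
      · obtain ⟨x₀, hx₀, hx₀a⟩ := hex
        have hkey : ∀ x : ↥(E ⊓ centralizer (W : Set G)),
            (if Commute (x : G) a then (x : G) else x₀⁻¹ * x) ∈ CH := by
          intro x
          split
          · exact hmem x x.2 ‹_›
          · refine hmem _ (mul_mem (inv_mem hx₀) x.2) ?_
            rcases h.comm a (hHE ha) x x.2.1 with e | e
            · exact absurd e.symm ‹_›
            rcases h.comm a (hHE ha) x₀ hx₀.1 with e0 | e0
            · exact absurd e0.symm hx₀a
            · have e0' : a * x₀⁻¹ = x₀⁻¹ * a * z := by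
                calc a * x₀⁻¹ = x₀⁻¹ * (x₀ * a * z) * (z⁻¹ * x₀⁻¹) := by group
                  _ = x₀⁻¹ * (a * x₀) * (x₀⁻¹ * z) := by
                    rw [← e0, inv_eq_of_mul_eq_one_right h.zz,
                      ((h.cmz x₀ hx₀.1).inv_left).eq]
                  _ = x₀⁻¹ * a * z := by group
              show x₀⁻¹ * x * a = a * (x₀⁻¹ * x)
              rw [← mul_assoc a, e0', mul_assoc (x₀⁻¹ * a) z, ← (h.cmz x x.2.1).eq,
                mul_assoc x₀⁻¹ a, ← mul_assoc a, e]
              simp only [mul_assoc]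
              rw [h.zz, mul_one]
        refine (Nat.card_le_card_of_injective (β := Bool × CH)
          (fun x : ↥(E ⊓ centralizer (W : Set G)) => (decide (Commute (x : G) a), ⟨_, hkey x⟩))
          ?_).trans (le_of_eq (by rw [Nat.card_prod]; simp))
        intro x y e
        simp only [Prod.mk.injEq, decide_eq_decide, Subtype.mk.injEq] at e
        obtain ⟨e1, e2⟩ := e
        by_cases hx : Commute (x : G) a
        · rw [if_pos hx, if_pos (e1.1 hx)] at e2; exact Subtype.ext e2
        · rw [if_neg hx, if_neg (fun hy => hx (e1.2 hy))] at e2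
          exact Subtype.ext (mul_left_cancel e2)
      · push Not at hex
        exact (card_le_of_le fun x hx => hmem x hx (hex x hx)).trans (Nat.le_mul_of_pos_left _ two_pos)
    calc 2 * Nat.card E ≤ _ := hIH
      _ ≤ 2 * Nat.card ↥(E ⊓ centralizer (H : Set G)) * Nat.card W := Nat.mul_le_mul_right _ h3
      _ = Nat.card ↥(E ⊓ centralizer (H : Set G)) * (2 * Nat.card W) := by ring
      _ ≤ _ := Nat.mul_le_mul_left _ h2

/-- If `C_E(v)` has index two for an involution `v ≠ z` of `C(z)` then `v ∈ E`. -/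
theorem Data.mem_of_two_cosets [Finite G] (h : Data z E) {v c : G} (hv : Commute v z)
    (hv2 : v * v = 1) (hc : c ∈ E) (hcv : ¬ Commute c v)
    (htwo : ∀ e ∈ E, Commute e v ∨ Commute (c⁻¹ * e) v) : v ∈ E := by
  have hvinv : v⁻¹ = v := inv_eq_of_mul_eq_one_right hv2
  have hvE := h.norm v hv
  have hc' : v * c * v ∈ E := by
    have := (mem_normalizer_iff.1 hvE c).1 hc
    rwa [hvinv] at this
  set u := c⁻¹ * (v * c * v) with hu
  have huE : u ∈ E := mul_mem (inv_mem hc) hc'
  have hcu : v * c * v = c * u := (mul_inv_cancel_left c _).symm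
  have huv : Commute u v := by
    refine (htwo _ hc').resolve_left fun h1 => hcv ?_
    have h2 : v * c * v * v = v * (v * c * v) := h1.eq
    simp only [mul_assoc, hv2, mul_one] at h2
    simp only [← mul_assoc, hv2, one_mul] at h2
    exact h2.symm
  have hvu : v * u * v = u := by rw [← huv.eq, mul_assoc, hv2, mul_one]
  have huu : u * u = 1 := by
    have h1 : v * (v * c * v) * v = c := by
      simp only [← mul_assoc, hv2, one_mul]; rw [mul_assoc, hv2, mul_one]
    rw [hcu, show v * (c * u) * v = v * c * v * (v⁻¹ * u * v) by group, hvinv, hvu, hcu,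
      mul_assoc] at h1
    exact mul_eq_left.1 h1
  have hsqv : ∀ a ∈ E, v * (a * a) * v = a * a := by
    intro a ha
    rcases h.sq a ha with e | e <;> rw [e]
    · rw [mul_one, hv2]
    · rw [hv.eq, mul_assoc, hv2, mul_one]
  have huc : Commute u c := by
    have h1 : c * u * (c * u) = c * c := by
      rw [← hcu, show v * c * v * (v * c * v) = v * c * (v * v) * c * v by group, hv2, mul_one,
        ← hsqv c hc]
      group
    rw [mul_assoc] at h1
    have h2 : u * (c * u) = c := mul_left_cancel h1
    have h3 : u * (u * (c * u)) = u * c := by rw [h2]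
    rw [← mul_assoc u u, huu, one_mul] at h3
    exact h3.symm
  have hcu2 : u = 1 ∨ u = z := by
    refine h.ctr u huE fun e he => ?_
    have key : ∀ a ∈ E, Commute a v → Commute u a := by
      intro a ha hav
      have hva : v * a * v = a := by rw [← hav.eq, mul_assoc, hv2, mul_one]
      rcases h.comm a ha c hc with e1 | e1
      · have e2 : v * (a * c) * v = v * (c * a) * v := by rw [e1]
        rw [show v * (a * c) * v = v * a * v⁻¹ * (v * c * v) by group,
          show v * (c * a) * v = v * c * v * (v⁻¹ * a * v) by group, hvinv, hva, hcu,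
          ← mul_assoc, e1, mul_assoc, mul_assoc] at e2
        exact (mul_left_cancel e2).symm
      · have e2 : v * (a * c) * v = v * (c * a * z) * v := by rw [e1]
        rw [show v * (a * c) * v = v * a * v⁻¹ * (v * c * v) by group,
          show v * (c * a * z) * v = v * c * v * (v⁻¹ * a * v) * (v⁻¹ * z * v) by group,
          hvinv, hva, hcu, hv.eq, mul_assoc z v v, hv2, mul_one, ← mul_assoc, e1,
          mul_assoc (c * a) z u, ← (h.cmz u huE).eq, ← mul_assoc] at e2
        have e3 := mul_right_cancel e2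
        rw [mul_assoc, mul_assoc] at e3
        exact (mul_left_cancel e3).symm
    rcases htwo e he with h1 | h1
    · exact key e he h1
    · have := huc.mul_right (key _ (mul_mem (inv_mem hc) he) h1)
      rwa [mul_inv_cancel_left] at this
  rcases hcu2 with hu1 | hu1
  · rw [hu1, mul_one] at hcu
    exact absurd (show c * v = v * c by
      conv_lhs => rw [← hcu]
      rw [mul_assoc, hv2, mul_one]) hcv
  set D := E ⊓ centralizer ({v} : Set G) with hD
  have hDE : D ≤ E := inf_le_left
  have hzD : z ∈ D := ⟨h.memZ, mem_centralizer_singleton_iff.2 hv.eq.symm⟩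
  have hDcov : ∀ e ∈ E, e ∈ D ∨ c⁻¹ * e ∈ D := fun e he => (htwo e he).imp
    (fun h1 => ⟨he, mem_centralizer_singleton_iff.2 h1.eq⟩)
    (fun h1 => mem_inf.2 ⟨mul_mem (inv_mem hc) he, mem_centralizer_singleton_iff.2 h1.eq⟩)
  have hDlt : Nat.card D < Nat.card E := by
    refine lt_of_le_of_ne (card_le_of_le hDE) fun e => hcv ?_
    have : c ∈ D := by rw [eq_of_le_of_card_ge hDE e.ge]; exact hc
    exact mem_centralizer_singleton_iff.1 this.2
  obtain ⟨a, haC, haz⟩ : ∃ a ∈ E ⊓ centralizer (D : Set G), a ∉ zpowers z := by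
    by_contra hcon
    push Not at hcon
    have h1 := card_le_of_le (K := zpowers z) hcon
    rw [Nat.card_zpowers, h.ord] at h1
    have h2 := (h.two_mul_card_le _ D rfl hDE hzD).trans (Nat.mul_le_mul_right _ h1)
    omega
  have hac : a * c = c * a * z := by
    refine (h.comm a haC.1 c hc).resolve_left fun e => haz ?_
    rcases h.ctr a haC.1 (fun b hb => by
      rcases hDcov b hb with hb' | hb'
      · exact (mem_centralizer_iff.1 haC.2 b hb').symm
      · have := (show Commute a c from e).mul_right (mem_centralizer_iff.1 haC.2 _ hb').symm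
        rwa [mul_inv_cancel_left] at this) with r | r <;> rw [r]
    · exact one_mem _
    · exact mem_zpowers z
  have hva : v * a ∈ E := by
    refine h.large (mem_centralizer_iff.2 fun e he => ?_)
    have hD' : ∀ d ∈ D, Commute (v * a) d := fun d hd =>
      (show Commute v d from (mem_centralizer_singleton_iff.1 hd.2 : d * v = v * d).symm).mul_left
        (mem_centralizer_iff.1 haC.2 d hd).symm
    have hvc : Commute (v * a) c := by
      show v * a * c = c * (v * a)
      have h1 : v * c = c * z * v := by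
        rw [← hu1, ← hcu, mul_assoc, hv2, mul_one]
      calc v * a * c = v * c * (a * z) := by rw [mul_assoc, hac, mul_assoc c a z, ← mul_assoc]
        _ = c * z * v * (z * a) := by rw [h1, (h.cmz a haC.1).eq]
        _ = c * (v * z * z) * a := by rw [hv.eq]; simp only [mul_assoc]
        _ = c * (v * a) := by rw [mul_assoc v z z, h.zz, mul_one, mul_assoc]
    rcases hDcov e he with he' | he'
    · exact (hD' e he').eq.symm
    · have := hvc.mul_right (hD' _ he')
      rw [mul_inv_cancel_left] at this
      exact this.eq.symm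
  simpa using mul_mem hva (inv_mem haC.1)

end CfsgLib.Invol.ExtraTransfer
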