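import Cfsg.Agent.Lib.Invol.ExtraTransferOrbit
import Mathlib.GroupTheory.Abelianization.Defs

/-!
# Consequences of `O²(G) = G` for a large extraspecial `O₂(C(z))`
-/

set_option autoImplicit false
set_option linter.style.haveILetI false
set_option linter.unusedSectionVars false

namespace CfsgLib.Invol.ExtraTransfer

open Subgroup MulAction

variable {G : Type*} [Group G] {z : G} {E : Subgroup G}

/-- The homomorphism with a given kernel of index two. -/
theorem exists_psi {C : Type*} [Group C] {W : Subgroup C} (hW : W.index = 2) :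
    ∃ ψ : C →* Multiplicative (ZMod 2), ∀ c, ψ c = 1 ↔ c ∈ W := by
  classical
  refine ⟨MonoidHom.mk' (fun c => if c ∈ W then 1 else Multiplicative.ofAdd 1) fun a b => ?_,
    fun c => ?_⟩
  · simp only [mul_mem_iff_of_index_two hW]
    by_cases ha : a ∈ W <;> by_cases hb : b ∈ W <;> simp [ha, hb] <;> decide
  · show (if c ∈ W then 1 else Multiplicative.ofAdd (1 : ZMod 2)) = 1 ↔ _
    by_cases hc : c ∈ W <;> simp [hc] <;> decide

theorem exists_two_element [Finite G] (g : G) :
    ∃ m : ℕ, Odd m ∧ IsPGroup 2 (zpowers (g ^ m)) := by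
  obtain ⟨a, m, hm, hord⟩ := Nat.exists_eq_two_pow_mul_odd (orderOf_pos g).ne'
  refine ⟨m, hm, IsPGroup.of_card (n := a) ?_⟩
  rw [Nat.card_zpowers, orderOf_pow' g hm.pos.ne', hord, Nat.gcd_mul_left_left,
    Nat.mul_div_cancel _ hm.pos]

theorem Data.commutative_or [Finite G] (h : Data z E) (q : G ⧸ centralizer ({z} : Set G)) :
    (∀ a ∈ E, ∀ b ∈ E, a • q = q → b • q = q → a * b = b * a) ∨
      ∃ a ∈ E, ∃ b ∈ E, a • q = q ∧ b • q = q ∧ a * b = b * a * z := by
  by_cases hab : ∃ a ∈ E, ∃ b ∈ E, a • q = q ∧ b • q = q ∧ a * b = b * a * z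
  · exact Or.inr hab
  · exact Or.inl fun a ha b hb haq hbq =>
      (h.comm a ha b hb).resolve_right fun e => hab ⟨a, ha, b, hb, haq, hbq, e⟩

/-- Elements fixing the coset and commuting with translates that cover `E` are central. -/
theorem Data.central_of_cover [Finite G] (h : Data z E) {q : G ⧸ centralizer ({z} : Set G)}
    (hab : ∀ a ∈ E, ∀ b ∈ E, a • q = q → b • q = q → a * b = b * a) {d : G} (hd : d ∈ E)
    (hdq : d • q = q) (us : List G) (hus : ∀ u ∈ us, u ∈ E ∧ Commute d u)
    (hcov : ∀ e ∈ E, e • q = q ∨ ∃ u ∈ us, (u * e) • q = q) : d = 1 ∨ d = z := by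
  refine h.ctr d hd fun e he => ?_
  rcases hcov e he with h1 | ⟨u, hu, h1⟩
  · exact hab d hd e he hdq h1
  · have := (hus u hu).2.inv_right.mul_right
      (hab d hd _ (mul_mem (hus u hu).1 he) hdq h1 : Commute d (u * e))
    rwa [inv_mul_cancel_left] at this

/-- A coset with two stabilizer translates covering `E` comes from an involution in `E`. -/
theorem Data.conj_mem_of_two [Finite G] (h : Data z E) {q : G ⧸ centralizer ({z} : Set G)}
    (hzq : z • q = q) {c : G} (hc : c ∈ E) (hcq : c • q ≠ q)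
    (htwo : ∀ e ∈ E, e • q = q ∨ (c⁻¹ * e) • q = q) : q.out * z * q.out⁻¹ ∈ E :=
  h.mem_of_two_cosets ((smul_eq_iff z q).1 hzq).symm (h.pow_two_conj q) hc
    (fun e => hcq ((smul_eq_iff c q).2 e))
    fun e he => (htwo e he).imp (smul_eq_iff e q).1 (smul_eq_iff _ q).1

/-- The abelianization of `C(z)` has elementary Sylow `2`-subgroups. -/
theorem Data.abelianization_sq [Finite G] (h : Data z E) (hres : Cfsg.pResidual 2 G = ⊤) :
    ∀ q : Abelianization ↥(centralizer ({z} : Set G)),
      (∃ k : ℕ, orderOf q = 2 ^ k) → q ^ 2 = 1 := by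
  classical
  set C := centralizer ({z} : Set G) with hC
  rintro a ⟨k, hk⟩
  by_contra ha
  let U : Subgroup (Abelianization C) :=
    { carrier := {x | ∃ t b, t * t = 1 ∧ x = t * (b * b)}
      one_mem' := ⟨1, 1, one_mul 1, by simp⟩
      mul_mem' := by
        rintro _ _ ⟨t, b, ht, rfl⟩ ⟨s, d, hs, rfl⟩
        exact ⟨t * s, b * d, by rw [mul_mul_mul_comm, ht, hs, one_mul],
          by simp [mul_comm, mul_left_comm, mul_assoc]⟩
      inv_mem' := by
        rintro _ ⟨t, b, ht, rfl⟩
        exact ⟨t⁻¹, b⁻¹, by rw [← mul_inv, ht, inv_one], by simp [mul_comm, mul_left_comm]⟩ }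
  obtain ⟨x, hx⟩ : ∃ x, x ∉ U := by
    by_contra hcon
    push Not at hcon
    let f : Set.range (fun x : Abelianization C => x * x) →
        Set.range (fun x : Abelianization C => x * x) := fun x => ⟨x.1 * x.1, x.1, rfl⟩
    have hsurj : Function.Surjective f := by
      rintro ⟨_, b, rfl⟩
      obtain ⟨t, d, ht, rfl⟩ := hcon b
      exact ⟨⟨d * d, d, rfl⟩, Subtype.ext (by
        show d * d * (d * d) = t * (d * d) * (t * (d * d))
        rw [mul_mul_mul_comm t (d * d) t (d * d), ht, one_mul])⟩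
    have hinj := Finite.injective_iff_surjective.2 hsurj
    have h2 : ∀ j : ℕ, ∀ b : Abelianization C, (b * b) ^ (2 ^ j) = 1 → b * b = 1 := by
      intro j
      induction j with
      | zero => intro b hb; rwa [pow_zero, pow_one] at hb
      | succ j ih =>
        intro b hb
        have h1 := ih (b * b) (by
          rw [← pow_two (b * b), ← pow_mul, ← pow_succ']; exact hb)
        exact congrArg Subtype.val (@hinj ⟨b * b, b, rfl⟩ ⟨1, 1, one_mul 1⟩
          (Subtype.ext (h1.trans (one_mul 1).symm)))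
    rw [pow_two] at ha
    refine ha (h2 k a ?_)
    rw [← pow_two, ← pow_mul, mul_comm 2, pow_mul, ← hk, pow_orderOf_eq_one, one_pow]
  obtain ⟨W, hUW, hxW, hmax⟩ := exists_maximal_ge_of_wellFoundedGT
    (fun W : Subgroup (Abelianization C) => x ∉ W) U hx
  have hsq : ∀ b, b * b ∈ W := fun b => hUW ⟨1, b, one_mul 1, (one_mul _).symm⟩
  have hidx : W.index = 2 := by
    refine index_eq_two_iff.2 ⟨x, fun b => ?_⟩
    by_cases hb : b ∈ W
    · exact Or.inr ⟨hb, fun hm => hxW ((mul_mem_cancel_left hb).1 hm)⟩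
    · refine Or.inl ⟨?_, hb⟩
      by_contra hbx
      have hlt : x ∈ W ⊔ zpowers b := by
        by_contra hc
        exact hb (hmax hc le_sup_left (mem_sup_right (mem_zpowers b)))
      obtain ⟨w, hw, _, ⟨i, rfl⟩, hwi⟩ := mem_sup.1 hlt
      obtain ⟨j, hj | hj⟩ := Int.even_or_odd' i
      · refine hxW ?_
        rw [← hwi, hj]
        show w * b ^ (2 * j) ∈ W
        rw [zpow_mul, zpow_ofNat, pow_two]
        exact mul_mem hw (zpow_mem (hsq b) j)
      · refine hbx ?_
        rw [← hwi, hj, show b * (w * b ^ (2 * j + 1)) = w * ((b * b) ^ j * (b * b)) by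
          rw [zpow_add, zpow_one, zpow_mul, zpow_ofNat, pow_two]
          ac_rfl]
        exact mul_mem hw (mul_mem (zpow_mem (hsq b) j) (hsq b))
  obtain ⟨ψ₀, hψ₀⟩ := exists_psi hidx
  set ψ : ↥C →* Multiplicative (ZMod 2) := ψ₀.comp Abelianization.of with hψ
  have hQ : ∀ c : ↥C, ∀ s t : ↥C, c * c = s * t * s⁻¹ * t⁻¹ → ψ c = 1 := by
    intro c s t hc
    refine (hψ₀ _).2 (hUW ⟨Abelianization.of c, 1, ?_, by simp⟩)
    rw [← map_mul, hc]
    simp [mul_comm, mul_left_comm]
  obtain ⟨c₀, rfl⟩ := QuotientGroup.mk_surjective x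
  haveI := Fintype.ofFinite (G ⧸ centralizer ({z} : Set G))
  obtain ⟨m, ⟨i, rfl⟩, hmp⟩ := exists_two_element (c₀ : G)
  have hψc : ψ c₀ ^ (2 * i + 1) = ψ c₀ := by
    generalize ψ c₀ = v
    rw [pow_succ, pow_mul, show v ^ 2 = 1 by revert v; decide, one_pow, one_mul]
  have hq1 : ∀ q : G ⧸ C, z • q = q → cval ψ z q = 0 := by
    intro q hzq
    obtain ⟨mm, e⟩ := cval_fix ψ hzq
    rw [e, hQ _ 1 1 (Subtype.ext ?_), toAdd_one]
    show q.out⁻¹ * z * q.out * (q.out⁻¹ * z * q.out) = ((1 * 1 * 1⁻¹ * 1⁻¹ : ↥C) : G)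
    rw [show q.out⁻¹ * z * q.out * (q.out⁻¹ * z * q.out) = q.out⁻¹ * (z * z) * q.out by group,
      h.zz]
    simp
  have hok : ∀ q : G ⧸ C, z • q = q → q ≠ ((1 : G) : G ⧸ C) → OrbitOK ψ E q := by
    intro q hzq hne
    refine ⟨fun c hc hcq htwo => ⟨hq1 q hzq, fun d hd hdq => ?_⟩, fun hz => absurd (hq1 q hzq) hz⟩
    obtain ⟨mm, e⟩ := cval_fix ψ hdq
    suffices hs : d * d = 1 ∨ ∃ a b : G, a • q = q ∧ b • q = q ∧ d * d = a * b * a⁻¹ * b⁻¹ by
      obtain ⟨a, b, ha, hb, hab⟩ : ∃ a b : G, a • q = q ∧ b • q = q ∧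
          d * d = a * b * a⁻¹ * b⁻¹ :=
        hs.elim (fun e1 => ⟨1, 1, one_smul _ _, one_smul _ _, by simp [e1]⟩) id
      obtain ⟨ma, -⟩ := cval_fix ψ ha
      obtain ⟨mb, -⟩ := cval_fix ψ hb
      rw [e, hQ _ ⟨_, ma⟩ ⟨_, mb⟩ (Subtype.ext ?_), toAdd_one]
      show q.out⁻¹ * d * q.out * (q.out⁻¹ * d * q.out) = q.out⁻¹ * a * q.out *
        (q.out⁻¹ * b * q.out) * (q.out⁻¹ * a * q.out)⁻¹ * (q.out⁻¹ * b * q.out)⁻¹
      rw [show q.out⁻¹ * d * q.out * (q.out⁻¹ * d * q.out) = q.out⁻¹ * (d * d) * q.out by group,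
        hab]
      group
    rcases h.sq d hd with hdd | hdd
    · exact Or.inl hdd
    rcases h.commutative_or q with hab | ⟨a, ha, b, hb, haq, hbq, hab⟩
    swap
    · refine Or.inr ⟨a, b, haq, hbq, hdd.trans ?_⟩
      have hza : Commute (b * a) z := (h.cmz b hb).mul_left (h.cmz a ha)
      calc z = z * (b * a) * a⁻¹ * b⁻¹ := by group
        _ = a * b * a⁻¹ * b⁻¹ := by rw [← hza.eq, ← hab]
    exfalso
    set v := q.out * z * q.out⁻¹ with hv
    have hvE : v ∈ E := h.conj_mem_of_two hzq hc hcq htwo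
    have hvq : v • q = q := (smul_eq_iff v q).2 (Commute.refl _)
    have hcent : ∀ u ∈ E, u • q = q → Commute u c → u = 1 ∨ u = z := fun u hu huq huc =>
      h.central_of_cover hab hu huq [c⁻¹]
        (by simp only [List.mem_singleton, forall_eq]; exact ⟨inv_mem hc, huc.inv_right⟩)
        fun e he => (htwo e he).imp_right fun h1 => ⟨_, List.mem_singleton_self _, h1⟩
    have hdc : d * c = c * d * z := (h.comm d hd c hc).resolve_left fun e1 => by
      rcases hcent d hd hdq e1 with r | r <;> rw [r] at hdd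
      · rw [one_mul] at hdd; exact h.z_ne hdd.symm
      · rw [h.zz] at hdd; exact h.z_ne hdd.symm
    have hvv : v * v = 1 := h.pow_two_conj q
    have hvc : v * c = c * v * z := (h.comm v hvE c hc).resolve_left fun e1 => by
      rcases hcent v hvE hvq e1 with r | r
      · refine h.z_ne ?_
        rw [hv, mul_inv_eq_one] at r
        exact mul_eq_left.1 r
      · exact conj_z_ne hne r
    have hdvc : Commute (d * v) c := by
      show d * v * c = c * (d * v)
      calc d * v * c = d * c * (v * z) := by rw [mul_assoc, hvc, mul_assoc c v z, ← mul_assoc]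
        _ = c * d * (z * v) * z := by rw [hdc]; simp only [mul_assoc]
        _ = c * d * v * (z * z) := by rw [← (h.cmz v hvE).eq]; simp only [mul_assoc]
        _ = c * (d * v) := by rw [h.zz, mul_one, mul_assoc]
    have hdv := hcent _ (mul_mem hd hvE) (by rw [mul_smul, hvq, hdq]) hdvc
    refine h.z_ne (hdd.symm.trans ?_)
    have hd2 : d = (d * v) * v := by rw [mul_assoc, hvv, mul_one]
    rcases hdv with r | r <;> rw [hd2, r]
    · rw [one_mul, hvv]
    · rw [show z * v * (z * v) = z * (v * z) * v by group, (h.cmz v hvE).eq,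
        show z * (z * v) * v = (z * z) * (v * v) by group, h.zz, hvv, one_mul]
  have hfin := h.eq_one_of_orbitOK (ψ := ψ) hres hok (pow_mem c₀.2 (2 * i + 1)) hmp
  rw [show (⟨(c₀ : G) ^ (2 * i + 1), pow_mem c₀.2 _⟩ : ↥C) = c₀ ^ (2 * i + 1) from rfl,
    map_pow, hψc] at hfin
  exact hxW ((hψ₀ _).1 hfin)

/-- A subgroup of index two in `C(z)` makes `z` conjugate into `E ∖ {z}`. -/
theorem Data.exists_fused [Finite G] (h : Data z E) (hres : Cfsg.pResidual 2 G = ⊤)
    (hbig : 64 < Nat.card E) {K : Subgroup G}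
    (hKi : K.relIndex (centralizer ({z} : Set G)) = 2) :
    ∃ g : G, g * z * g⁻¹ ∈ E ∧ g * z * g⁻¹ ≠ z := by
  classical
  by_contra hno
  set C := centralizer ({z} : Set G) with hC
  obtain ⟨ψ, hψ⟩ := exists_psi (W := K.subgroupOf C) hKi
  haveI := Fintype.ofFinite (G ⧸ centralizer ({z} : Set G))
  have hok : ∀ q : G ⧸ C, z • q = q → q ≠ ((1 : G) : G ⧸ C) → OrbitOK ψ E q := by
    intro q hzq hne
    refine ⟨fun c hc hcq htwo => absurd ⟨q.out, h.conj_mem_of_two hzq hc hcq htwo,
      conj_z_ne hne⟩ hno, fun hz u₁ hu₁ u₂ hu₂ u₃ hu₃ hcov => ?_⟩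
    rcases h.commutative_or q with hab | ⟨a, ha, b, hb, haq, hbq, hab⟩
    swap
    · refine hz ?_
      have h1 := cval_mul ψ a b q
      rw [hab, cval_mul, hzq, cval_mul, haq, hbq, add_comm (cval ψ b q)] at h1
      exact add_eq_left.1 h1
    set D := E ⊓ stabilizer G q with hD
    have hfib : ∀ a b : D, (Commute (a : G) u₁ ↔ Commute (b : G) u₁) →
        (Commute (a : G) u₂ ↔ Commute (b : G) u₂) → (Commute (a : G) u₃ ↔ Commute (b : G) u₃) →
        (a : G) * b = 1 ∨ (a : G) * b = z := by
      intro a b e1 e2 e3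
      have hu : ∀ u ∈ E, (Commute (a : G) u ↔ Commute (b : G) u) → Commute ((a : G) * b) u := by
        intro u hu e
        by_cases hau : Commute (a : G) u
        · exact hau.mul_left (e.1 hau)
        · have hbu := (h.comm _ b.2.1 u hu).resolve_left fun hh => hau (e.2 hh)
          have hau' := (h.comm _ a.2.1 u hu).resolve_left hau
          show (a : G) * b * u = u * (a * b)
          calc (a : G) * b * u = a * u * (b * z) := by
                rw [mul_assoc, hbu, mul_assoc u _ z, ← mul_assoc]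
            _ = u * a * (z * b) * z := by rw [hau']; simp only [mul_assoc]
            _ = u * a * b * (z * z) := by rw [← (h.cmz _ b.2.1).eq]; simp only [mul_assoc]
            _ = u * (a * b) := by rw [h.zz, mul_one, mul_assoc]
      refine h.central_of_cover hab (mul_mem a.2.1 b.2.1)
        (by rw [mul_smul, show (b : G) • q = q from b.2.2]; exact a.2.2) [u₁, u₂, u₃] ?_ ?_
      · simp only [List.mem_cons, List.not_mem_nil, or_false, forall_eq_or_imp, forall_eq]
        exact ⟨⟨hu₁, hu u₁ hu₁ e1⟩, ⟨hu₂, hu u₂ hu₂ e2⟩, hu₃, hu u₃ hu₃ e3⟩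
      · intro e he
        refine (hcov e he).imp_right ?_
        rintro (h1 | h1 | h1)
        · exact ⟨u₁, by simp, h1⟩
        · exact ⟨u₂, by simp, h1⟩
        · exact ⟨u₃, by simp, h1⟩
    let key : D → Bool × Bool × Bool := fun a =>
      (decide (Commute (a : G) u₁), decide (Commute (a : G) u₂), decide (Commute (a : G) u₃))
    haveI : Nonempty D := ⟨1⟩
    let rep : Bool × Bool × Bool → D := Function.invFun key
    have hD16 : Nat.card D ≤ 16 := by
      refine (Nat.card_le_card_of_injective (β := (Bool × Bool × Bool) × Bool)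
        (fun a => (key a, decide (a = rep (key a)))) ?_).trans (le_of_eq (by simp [Nat.card_prod]))
      intro a b e
      simp only [Prod.mk.injEq, decide_eq_decide] at e
      obtain ⟨ek, er⟩ := e
      by_cases har : a = rep (key a)
      · rw [har, er.1 har, ek]
      · have hr : key (rep (key a)) = key a := Function.invFun_eq ⟨a, rfl⟩
        have hrb : key (rep (key b)) = key b := Function.invFun_eq ⟨b, rfl⟩
        have hbr : ¬ b = rep (key b) := fun hb => har (er.2 hb)
        have hk : ∀ x : D, key x = key (rep (key a)) → ¬ x = rep (key a) →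
            (x : G) * (rep (key a) : G) = 1 ∨ (x : G) * (rep (key a) : G) = z := by
          intro x hx _
          simp only [key, Prod.mk.injEq, decide_eq_decide] at hx
          exact hfib x _ hx.1 hx.2.1 hx.2.2
        have ha' := hk a hr.symm har
        have hb' := hk b (ek ▸ hr.symm) (by rw [ek]; exact hbr)
        have hself : ((rep (key a) : D) : G) * (rep (key a) : G) = 1 ∨
            ((rep (key a) : D) : G) * (rep (key a) : G) = z := h.sq _ (rep (key a)).2.1
        refine Subtype.ext (mul_right_cancel (b := ((rep (key a) : D) : G)) ?_)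
        have hne : ∀ x : D, ¬ x = rep (key a) → (x : G) * (rep (key a) : G) ≠
            (rep (key a) : G) * (rep (key a) : G) := fun x hx e' =>
          hx (Subtype.ext (mul_right_cancel e'))
        have hna := hne a har
        have hnb := hne b (by rw [ek]; exact hbr)
        rcases ha' with r1 | r1 <;> rcases hb' with r2 | r2 <;> rcases hself with r3 | r3 <;>
          first
            | exact r1.trans r2.symm
            | exact absurd (r1.trans r3.symm) hna
            | exact absurd (r2.trans r3.symm) hnb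
    have hcard : Nat.card E ≤ 4 * Nat.card D := by
      have hc : ∀ e : E, ∃ j : Fin 4, (![1, u₁, u₂, u₃] j * (e : G)) ∈ D := by
        intro e
        rcases hcov e e.2 with h1 | h1 | h1 | h1
        · refine ⟨0, ?_⟩
          simp only [Matrix.cons_val_zero, one_mul]
          exact mem_inf.2 ⟨e.2, h1⟩
        · exact ⟨1, mem_inf.2 ⟨mul_mem hu₁ e.2, h1⟩⟩
        · exact ⟨2, mem_inf.2 ⟨mul_mem hu₂ e.2, h1⟩⟩
        · exact ⟨3, mem_inf.2 ⟨mul_mem hu₃ e.2, h1⟩⟩
      choose j hj using hc
      refine (Nat.card_le_card_of_injective (β := Fin 4 × D) (fun e => (j e, ⟨_, hj e⟩)) ?_).trans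
        (le_of_eq (by simp [Nat.card_prod]))
      intro e e' he
      simp only [Prod.mk.injEq, Subtype.mk.injEq] at he
      obtain ⟨h1, h2⟩ := he
      rw [h1] at h2
      exact Subtype.ext (mul_left_cancel h2)
    omega
  obtain ⟨w, hw⟩ : ∃ w : C, w ∉ K.subgroupOf C := by
    by_contra hcon
    push Not at hcon
    rw [relIndex, (eq_top_iff' _).2 hcon, index_top] at hKi
    omega
  obtain ⟨m, ⟨i, rfl⟩, hmp⟩ := exists_two_element (w : G)
  have hfin := h.eq_one_of_orbitOK (ψ := ψ) hres hok (pow_mem w.2 (2 * i + 1)) hmp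
  rw [show (⟨(w : G) ^ (2 * i + 1), pow_mem w.2 _⟩ : ↥C) = w ^ (2 * i + 1) from rfl,
    map_pow] at hfin
  refine hw ((hψ w).1 ?_)
  revert hfin
  generalize ψ w = v
  rw [pow_succ, pow_mul, show v ^ 2 = 1 by revert v; decide, one_pow, one_mul]
  exact id

end CfsgLib.Invol.ExtraTransfer
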