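import Mathlib.GroupTheory.Transfer
import Mathlib.GroupTheory.PGroup
import Mathlib.Data.ZMod.Basic
import Cfsg.Agent.Lib.Fusion.Residual

/-!
# The transfer into a group of order two as a sum of cocycle values

For `ψ : C → ℤ/2` and coset representatives `τ`, put `f h q = ψ(τ(hq)⁻¹ h τ(q))`. Then the sum of
`f h` over all cosets is the transfer, and the sum over an invariant set can be computed block by
block or by pairing along a free involution.
-/

set_option autoImplicit false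
set_option linter.style.haveILetI false
set_option linter.unusedSectionVars false

namespace CfsgLib.Invol.ExtraTransfer

open Subgroup

variable {G : Type*} [Group G] {C : Subgroup G}

/-- The cocycle attached to a homomorphism into `ℤ/2`. -/
noncomputable def cval (ψ : C →* Multiplicative (ZMod 2)) (h : G) (q : G ⧸ C) : ZMod 2 :=
  Multiplicative.toAdd (ψ ⟨((h • q).out)⁻¹ * h * q.out, by
    rw [mul_assoc, ← QuotientGroup.eq, QuotientGroup.out_eq']
    conv_lhs => rw [← QuotientGroup.out_eq' q]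
    rfl⟩)

variable (ψ : C →* Multiplicative (ZMod 2))

theorem cval_mul (h k : G) (q : G ⧸ C) : cval ψ (h * k) q = cval ψ h (k • q) + cval ψ k q := by
  rw [cval, cval, cval, ← toAdd_mul, ← map_mul]
  congr 2
  ext
  simp only [Subgroup.coe_mul, mul_smul]
  group

theorem cval_one (q : G ⧸ C) : cval ψ 1 q = 0 := by
  have h := cval_mul ψ 1 1 q
  rw [mul_one, one_smul] at h
  exact left_eq_add.1 h

theorem cval_fix {h : G} {q : G ⧸ C} (hq : h • q = q) :
    ∃ m : q.out⁻¹ * h * q.out ∈ C, cval ψ h q = Multiplicative.toAdd (ψ ⟨_, m⟩) := by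
  have m : q.out⁻¹ * h * q.out ∈ C := by
    rw [mul_assoc, ← QuotientGroup.eq, QuotientGroup.out_eq']
    conv_lhs => rw [← hq, ← QuotientGroup.out_eq' q]
    rfl
  refine ⟨m, ?_⟩
  rw [cval]
  congr 2
  ext
  simp only
  rw [hq]

theorem cval_base {h : G} (hh : h ∈ C) :
    cval ψ h ((1 : G) : G ⧸ C) = Multiplicative.toAdd (ψ ⟨h, hh⟩) := by
  have hfix : h • ((1 : G) : G ⧸ C) = ((1 : G) : G ⧸ C) := by
    show ((h * 1 : G) : G ⧸ C) = _
    rw [QuotientGroup.eq, mul_one, mul_one]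
    exact inv_mem hh
  obtain ⟨m, hm⟩ := cval_fix ψ hfix
  rw [hm]
  set c := ((1 : G) : G ⧸ C).out with hc
  have hcC : c ∈ C := by
    have h1 := QuotientGroup.out_eq' ((1 : G) : G ⧸ C)
    rw [← hc, QuotientGroup.eq, mul_one] at h1
    exact (inv_mem_iff).1 h1
  refine congrArg Multiplicative.toAdd ?_
  rw [show (⟨c⁻¹ * h * c, m⟩ : C) = ⟨c, hcC⟩⁻¹ * ⟨h, hh⟩ * ⟨c, hcC⟩ from rfl, map_mul, map_mul,
    mul_right_comm, ← map_mul, inv_mul_cancel, map_one, one_mul]

theorem sum_cval [Finite G] [Fintype (G ⧸ C)] (h : G) :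
    ∑ q : G ⧸ C, cval ψ h q = Multiplicative.toAdd (MonoidHom.transfer ψ h) := by
  let T : C.LeftTransversal :=
    ⟨Set.range (Quotient.out : G ⧸ C → G), isComplement_range_left QuotientGroup.out_eq'⟩
  have hT : ∀ q : G ⧸ C, ((T.2.leftQuotientEquiv q : T.1) : G) = q.out := fun q =>
    IsComplement.leftQuotientEquiv_apply QuotientGroup.out_eq' q
  rw [MonoidHom.transfer_def ψ T h, leftTransversals.diff, toAdd_prod]
  rw [Subsingleton.elim C.fintypeQuotientOfFiniteIndex ‹Fintype (G ⧸ C)›]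
  refine Fintype.sum_equiv (MulAction.toPerm h) _ _ fun q => ?_
  rw [cval]
  congr 2
  ext
  simp only [MulAction.toPerm_apply]
  rw [hT, smul_apply_eq_smul_apply_inv_smul, hT, inv_smul_smul, smul_eq_mul, mul_assoc]

theorem sum_cval_eq_zero [Finite G] [Fintype (G ⧸ C)] (hres : Cfsg.pResidual 2 G = ⊤) (h : G) :
    ∑ q : G ⧸ C, cval ψ h q = 0 := by
  have hk : Cfsg.pResidual 2 G ≤ (MonoidHom.transfer ψ).ker := by
    refine (closure_le _).2 fun g hg => MonoidHom.mem_ker.2 ?_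
    have h1 : MonoidHom.transfer ψ g ^ 2 = 1 := by
      generalize MonoidHom.transfer ψ g = v
      revert v; decide
    have h2 : MonoidHom.transfer ψ g ^ orderOf g = 1 := by
      rw [← map_pow, pow_orderOf_eq_one, map_one]
    have h3 := pow_gcd_eq_one.2 ⟨h2, h1⟩
    rwa [Nat.Coprime.gcd_eq_one hg, pow_one] at h3
  rw [sum_cval, MonoidHom.mem_ker.1 (hk (hres ▸ mem_top h)), toAdd_one]

/-- Pairing along a free involution `σ` commuting with `π`. -/
theorem pair_sum {X : Type*} [DecidableEq X] (P Hs : Finset X) (σ π : X → X)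
    (F g δ : X → ZMod 2) (κ : ZMod 2) (hHs : Hs ⊆ P) (hσP : ∀ q ∈ P, σ q ∈ P)
    (hσ : ∀ q ∈ P, σ (σ q) = q) (hπP : ∀ q ∈ P, π q ∈ P)
    (hπi : ∀ q ∈ P, ∀ r ∈ P, π q = π r → q = r) (hcomm : ∀ q ∈ P, π (σ q) = σ (π q))
    (hsec : ∀ q ∈ P, σ q ∈ Hs ↔ q ∉ Hs) (hg : ∀ q ∈ P, g (σ q) = g q + κ)
    (hF : ∀ q ∈ Hs, F q + F (σ q) = g q + g (π q) + δ q) :
    ∑ q ∈ P, F q = ∑ q ∈ Hs, δ q + ((Hs.filter fun q => π q ∉ Hs).card : ZMod 2) * κ := by
  have hσi : ∀ q ∈ P, ∀ r ∈ P, σ q = σ r → q = r := fun q hq r hr e => by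
    rw [← hσ q hq, e, hσ r hr]
  have hP : P = Hs ∪ Hs.image σ := by
    refine Finset.Subset.antisymm (fun q hq => ?_) (Finset.union_subset hHs ?_)
    · by_cases h : q ∈ Hs
      · exact Finset.mem_union_left _ h
      · exact Finset.mem_union_right _ (Finset.mem_image.2 ⟨σ q, (hsec q hq).2 h, hσ q hq⟩)
    · intro q hq
      obtain ⟨r, hr, rfl⟩ := Finset.mem_image.1 hq
      exact hσP r (hHs hr)
  have hdis : Disjoint Hs (Hs.image σ) := by
    refine Finset.disjoint_left.2 fun q hq hq' => ?_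
    obtain ⟨r, hr, rfl⟩ := Finset.mem_image.1 hq'
    exact (hsec r (hHs hr)).1 hq hr
  set π' : X → X := fun q => if π q ∈ Hs then π q else σ (π q) with hπ'
  have hmaps : ∀ q ∈ Hs, π' q ∈ Hs := fun q hq => by
    simp only [hπ']
    split
    · assumption
    · exact (hsec _ (hπP q (hHs hq))).2 ‹_›
  have hinj : ∀ q ∈ Hs, ∀ r ∈ Hs, π' q = π' r → q = r := by
    intro q hq r hr e
    have hq' := hHs hq
    have hr' := hHs hr
    simp only [hπ'] at e
    split at e <;> split at e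
    · exact hπi q hq' r hr' e
    · rw [← hcomm r hr'] at e
      exact absurd (hπi q hq' _ (hσP r hr') e ▸ hq) (fun h => (hsec r hr').1 h hr)
    · rw [← hcomm q hq'] at e
      exact absurd ((hπi _ (hσP q hq') r hr' e).symm ▸ hr) (fun h => (hsec q hq').1 h hq)
    · exact hπi q hq' r hr' (hσi _ (hπP q hq') _ (hπP r hr') e)
  have himg : Hs.image π' = Hs := Finset.eq_of_subset_of_card_le
    (fun q hq => by obtain ⟨r, hr, rfl⟩ := Finset.mem_image.1 hq; exact hmaps r hr)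
    (le_of_eq (Finset.card_image_of_injOn hinj).symm)
  have hgπ : ∀ q ∈ Hs, g (π q) = g (π' q) + (if π q ∈ Hs then 0 else κ) := fun q hq => by
    simp only [hπ']
    split
    · rw [add_zero]
    · rw [hg _ (hπP q (hHs hq)), add_assoc, CharTwo.add_self_eq_zero, add_zero]
  have hsum : ∑ q ∈ Hs, g (π' q) = ∑ q ∈ Hs, g q := by
    conv_rhs => rw [← himg, Finset.sum_image hinj]
  calc ∑ q ∈ P, F q = ∑ q ∈ Hs, (F q + F (σ q)) := by
        rw [hP, Finset.sum_union hdis,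
          Finset.sum_image (fun a ha b hb e => hσi a (hHs ha) b (hHs hb) e),
          ← Finset.sum_add_distrib]
    _ = ∑ q ∈ Hs, (g q + (g (π' q) + (if π q ∈ Hs then 0 else κ)) + δ q) :=
        Finset.sum_congr rfl fun q hq => by rw [hF q hq, hgπ q hq]
    _ = _ := by
        rw [Finset.sum_add_distrib, Finset.sum_add_distrib, Finset.sum_add_distrib, hsum,
          ← add_assoc, CharTwo.add_self_eq_zero, zero_add, Finset.sum_ite, Finset.sum_const_zero,
          zero_add, Finset.sum_const, nsmul_eq_mul, add_comm]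

/-- A section of a free involution. -/
theorem exists_section {X : Type*} [DecidableEq X] [Fintype X] (P : Finset X) (σ : X → X)
    (hσP : ∀ q ∈ P, σ q ∈ P) (hσ : ∀ q ∈ P, σ (σ q) = q) (hfree : ∀ q ∈ P, σ q ≠ q) :
    ∃ Hs ⊆ P, ∀ q ∈ P, (σ q ∈ Hs ↔ q ∉ Hs) := by
  classical
  set e := Fintype.equivFin X
  refine ⟨P.filter fun q => e q < e (σ q), Finset.filter_subset _ _, fun q hq => ?_⟩
  simp only [Finset.mem_filter, hσP q hq, hσ q hq, hq, true_and, not_lt]
  exact ⟨le_of_lt, fun h => lt_of_le_of_ne h (e.injective.ne (hfree q hq))⟩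

/-- Sums over an invariant set, block by block: if `x` permutes the orbits of `E` then it is enough
to know that the sums of powers of `x` over the orbits they fix vanish. -/
theorem sum_orbits_eq_zero [Finite G] [Fintype (G ⧸ C)] [DecidableEq (G ⧸ C)] (E : Subgroup G)
    {x : G} (hxE : x ∈ normalizer (E : Set G)) (blk : G ⧸ C → Finset (G ⧸ C))
    (hblk : ∀ q r, r ∈ blk q ↔ ∃ e ∈ E, e • q = r) (X : Finset (G ⧸ C))
    (hE : ∀ q ∈ X, ∀ e ∈ E, e • q ∈ X) (hx : ∀ q ∈ X, x • q ∈ X)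
    (h0 : ∀ q ∈ X, ∀ s : ℕ, x ^ s • q ∈ blk q → ∑ r ∈ blk q, cval ψ (x ^ s) r = 0) :
    ∑ q ∈ X, cval ψ x q = 0 := by
  classical
  suffices key : ∀ (n : ℕ) (X : Finset (G ⧸ C)), X.card = n →
      (∀ q ∈ X, ∀ e ∈ E, e • q ∈ X) → (∀ q ∈ X, x • q ∈ X) →
      (∀ q ∈ X, ∀ s : ℕ, x ^ s • q ∈ blk q → ∑ r ∈ blk q, cval ψ (x ^ s) r = 0) →
      ∑ q ∈ X, cval ψ x q = 0 from key _ X rfl hE hx h0
  intro n
  induction n using Nat.strongRecOn with
  | ind n ih =>
  intro X hn hE hx h0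
  rcases X.eq_empty_or_nonempty with rfl | ⟨q₀, hq₀⟩
  · simp
  have hxn : ∀ i : ℕ, x ^ i ∈ normalizer (E : Set G) := fun i => pow_mem hxE i
  have hxp : ∀ i : ℕ, ∀ q ∈ X, x ^ i • q ∈ X := by
    intro i
    induction i with
    | zero => intro q hq; rwa [pow_zero, one_smul]
    | succ i hi => intro q hq; rw [pow_succ', mul_smul]; exact hx _ (hi q hq)
  have hsym : ∀ q r, r ∈ blk q → ∀ r', r' ∈ blk q → r' ∈ blk r := by
    intro q r hr r' hr'
    obtain ⟨e, he, rfl⟩ := (hblk q r).1 hr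
    obtain ⟨e', he', rfl⟩ := (hblk q r').1 hr'
    exact (hblk _ _).2 ⟨e' * e⁻¹, mul_mem he' (inv_mem he), by rw [mul_smul, inv_smul_smul]⟩
  have hmove : ∀ (i : ℕ) q r, r ∈ blk q → x ^ i • r ∈ blk (x ^ i • q) := by
    intro i q r hr
    obtain ⟨e, he, rfl⟩ := (hblk q r).1 hr
    refine (hblk _ _).2 ⟨x ^ i * e * (x ^ i)⁻¹, (mem_normalizer_iff.1 (hxn i) e).1 he, ?_⟩
    simp only [mul_smul, inv_smul_smul]
  have hex : ∃ s : ℕ, 0 < s ∧ x ^ s • q₀ ∈ blk q₀ :=
    ⟨orderOf x, orderOf_pos x, by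
      rw [pow_orderOf_eq_one, one_smul]; exact (hblk _ _).2 ⟨1, one_mem E, one_smul _ _⟩⟩
  obtain ⟨hs0, hs⟩ := Nat.find_spec hex
  set s := Nat.find hex with hsd
  set B := fun i : ℕ => (blk q₀).image (fun r => x ^ i • r) with hB
  have hBd : ∀ i < s, ∀ j < s, i < j → Disjoint (B i) (B j) := by
    intro i _ j hj hij
    refine Finset.disjoint_left.2 fun r hr hr' => ?_
    obtain ⟨a, ha, rfl⟩ := Finset.mem_image.1 hr
    obtain ⟨b, hb, e⟩ := Finset.mem_image.1 hr'
    have e' : x ^ (j - i) • b = a := by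
      have : x ^ i • (x ^ (j - i) • b) = x ^ i • a := by
        rw [← mul_smul, ← pow_add, Nat.add_sub_cancel' hij.le]; exact e
      exact MulAction.injective _ this
    refine Nat.find_min hex (show j - i < s by omega) ⟨by omega, ?_⟩
    have h1 : x ^ (j - i) • q₀ ∈ blk (x ^ (j - i) • b) :=
      hmove _ b q₀ (hsym q₀ b hb q₀ ((hblk _ _).2 ⟨1, one_mem E, one_smul _ _⟩))
    rw [e'] at h1
    obtain ⟨e1, he1, h2⟩ := (hblk _ _).1 h1
    obtain ⟨e2, he2, h3⟩ := (hblk _ _).1 ha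
    exact (hblk _ _).2 ⟨e1 * e2, mul_mem he1 he2, by rw [mul_smul, h3, h2]⟩
  have hpd : Set.PairwiseDisjoint (Finset.range s : Set ℕ) B := by
    intro i hi j hj hne
    rcases lt_or_gt_of_ne hne with h | h
    · exact hBd i (Finset.mem_range.1 hi) j (Finset.mem_range.1 hj) h
    · exact (hBd j (Finset.mem_range.1 hj) i (Finset.mem_range.1 hi) h).symm
  set U := (Finset.range s).biUnion B with hU
  have hmemU : ∀ r, r ∈ U ↔ ∃ i < s, ∃ a ∈ blk q₀, x ^ i • a = r := fun r => by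
    simp only [hU, hB, Finset.mem_biUnion, Finset.mem_range, Finset.mem_image]
  have hblkX : ∀ a ∈ blk q₀, a ∈ X := fun a ha => by
    obtain ⟨e, he, rfl⟩ := (hblk _ _).1 ha
    exact hE _ hq₀ e he
  have hUX : U ⊆ X := fun r hr => by
    obtain ⟨i, -, a, ha, rfl⟩ := (hmemU r).1 hr
    exact hxp i a (hblkX a ha)
  have hUx : ∀ r ∈ U, x • r ∈ U := fun r hr => by
    obtain ⟨i, hi, a, ha, rfl⟩ := (hmemU r).1 hr
    rw [← mul_smul, ← pow_succ']
    rcases Nat.lt_or_ge (i + 1) s with h | h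
    · exact (hmemU _).2 ⟨i + 1, h, a, ha, rfl⟩
    · have : i + 1 = s := by omega
      rw [this]
      refine (hmemU _).2 ⟨0, hs0, x ^ s • a, ?_, by rw [pow_zero, one_smul]⟩
      obtain ⟨e1, he1, h1⟩ := (hblk _ _).1 hs
      obtain ⟨e2, he2, h2⟩ := (hblk _ _).1 (hmove s q₀ a ha)
      exact (hblk _ _).2 ⟨e2 * e1, mul_mem he2 he1, by rw [mul_smul, h1, h2]⟩
  have hUE : ∀ r ∈ U, ∀ e ∈ E, e • r ∈ U := fun r hr e he => by
    obtain ⟨i, hi, a, ha, rfl⟩ := (hmemU r).1 hr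
    refine (hmemU _).2 ⟨i, hi, ((x ^ i)⁻¹ * e * x ^ i) • a, ?_, by
      rw [mul_smul, mul_smul, smul_inv_smul]⟩
    obtain ⟨e', he', rfl⟩ := (hblk _ _).1 ha
    exact (hblk _ _).2 ⟨(x ^ i)⁻¹ * e * x ^ i * e',
      mul_mem ((mem_normalizer_iff''.1 (hxn i) e).1 he) he', mul_smul _ _ _⟩
  have hinv : ∀ r, r ∈ U → x⁻¹ • r ∈ U := by
    have h1 : U.image (x • ·) = U := Finset.eq_of_subset_of_card_le
      (fun r hr => by obtain ⟨a, ha, rfl⟩ := Finset.mem_image.1 hr; exact hUx a ha)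
      (le_of_eq (Finset.card_image_of_injective _ (MulAction.injective x)).symm)
    intro r hr
    rw [← h1] at hr
    obtain ⟨a, ha, rfl⟩ := Finset.mem_image.1 hr
    rwa [inv_smul_smul]
  have hsumU : ∑ r ∈ U, cval ψ x r = 0 := by
    rw [hU, Finset.sum_biUnion hpd, Finset.sum_congr rfl
      (fun i _ => (Finset.sum_image (f := cval ψ x) (g := fun r => x ^ i • r)
        (s := blk q₀) fun a _ b _ e => MulAction.injective _ e : ∑ r ∈ B i, cval ψ x r = _)),
      Finset.sum_comm]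
    refine Eq.trans (Finset.sum_congr rfl fun a _ => ?_) (h0 q₀ hq₀ s hs)
    clear_value s
    clear hsd hs0 hs hBd hpd hU hmemU hUX hUx hUE hinv
    induction s with
    | zero => rw [Finset.sum_range_zero, pow_zero, cval_one]
    | succ s hi => rw [Finset.sum_range_succ, hi, pow_succ' x s, cval_mul, add_comm]
  rw [← Finset.sum_sdiff hUX, hsumU, add_zero]
  refine ih (X \ U).card ?_ _ rfl (fun q hq e he => ?_) (fun q hq => ?_) (fun q hq => h0 q (Finset.mem_sdiff.1 hq).1)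
  · rw [← hn]
    refine Finset.card_lt_card (Finset.sdiff_ssubset hUX ?_)
    exact ⟨q₀, (hmemU _).2 ⟨0, hs0, q₀, (hblk _ _).2 ⟨1, one_mem E, one_smul _ _⟩,
      by rw [pow_zero, one_smul]⟩⟩
  · rw [Finset.mem_sdiff] at hq ⊢
    refine ⟨hE q hq.1 e he, fun h => hq.2 ?_⟩
    simpa using hUE _ h e⁻¹ (inv_mem he)
  · rw [Finset.mem_sdiff] at hq ⊢
    exact ⟨hx q hq.1, fun h => hq.2 (by simpa using hinv _ h)⟩

end CfsgLib.Invol.ExtraTransfer
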