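import Cfsg.Agent.Lib.Invol.ExtraTransfer

/-!
# The orbits of `E` on the cosets of `C(z)` contribute nothing to the transfer
-/

set_option autoImplicit false
set_option linter.style.haveILetI false
set_option linter.unusedSectionVars false

namespace CfsgLib.Invol.ExtraTransfer

open Subgroup MulAction

theorem zmod_two_cases (a : ZMod 2) : a = 0 ∨ a = 1 := by revert a; decide

theorem zmod_two_shift : ∀ a b c d : ZMod 2, a + b = c + d → d + a = b + c := by decide

theorem zmod_two_indicator (a b : ZMod 2) : a = b + (if a ≠ b then 1 else 0) := by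
  revert a b; decide

theorem natCast_of_even {k : ℕ} (h : Even k) : (k : ZMod 2) = 0 :=
  (ZMod.natCast_eq_zero_iff_even).2 h

variable {G : Type*} [Group G] {z : G} {E : Subgroup G}

theorem smul_base {h : G} (hh : Commute h z) :
    h • ((1 : G) : G ⧸ (centralizer ({z} : Set G))) = ((1 : G) : G ⧸ (centralizer ({z} : Set G))) := by
  show ((h * 1 : G) : G ⧸ (centralizer ({z} : Set G))) = _
  rw [QuotientGroup.eq, mul_one, mul_one]
  exact inv_mem (mem_centralizer_singleton_iff.2 hh)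

/-- The point stabilizer of a coset is the centralizer of the corresponding conjugate of `z`. -/
theorem smul_eq_iff (h : G) (q : G ⧸ (centralizer ({z} : Set G))) : h • q = q ↔ Commute h (q.out * z * q.out⁻¹) := by
  have h1 : h • q = q ↔ q.out⁻¹ * h * q.out ∈ (centralizer ({z} : Set G)) := by
    conv_lhs => rw [← QuotientGroup.out_eq' q]
    show ((h * q.out : G) : G ⧸ (centralizer ({z} : Set G))) = (q.out : G ⧸ (centralizer ({z} : Set G))) ↔ _
    rw [QuotientGroup.eq, ← inv_mem_iff]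
    simp [mul_assoc]
  rw [h1, mem_centralizer_singleton_iff]
  constructor
  · intro e
    show h * (q.out * z * q.out⁻¹) = q.out * z * q.out⁻¹ * h
    calc h * (q.out * z * q.out⁻¹) = q.out * (q.out⁻¹ * h * q.out * z) * q.out⁻¹ := by group
      _ = q.out * z * q.out⁻¹ * h := by rw [e]; group
  · intro e
    calc q.out⁻¹ * h * q.out * z = q.out⁻¹ * (h * (q.out * z * q.out⁻¹)) * q.out := by group
      _ = z * (q.out⁻¹ * h * q.out) := by rw [e.eq]; group

theorem conj_z_ne {q : G ⧸ (centralizer ({z} : Set G))} (hq : q ≠ ((1 : G) : G ⧸ (centralizer ({z} : Set G)))) :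
    q.out * z * q.out⁻¹ ≠ z := fun e => hq (by
  rw [← QuotientGroup.out_eq' q, QuotientGroup.eq, mul_one]
  exact inv_mem (mem_centralizer_singleton_iff.2 (mul_inv_eq_iff_eq_mul.1 e)))

theorem Data.pow_two_conj (h : Data z E) (q : G ⧸ (centralizer ({z} : Set G))) :
    q.out * z * q.out⁻¹ * (q.out * z * q.out⁻¹) = 1 := by
  rw [show q.out * z * q.out⁻¹ * (q.out * z * q.out⁻¹) = q.out * (z * z) * q.out⁻¹ by group,
    h.zz, mul_one, mul_inv_cancel]

/-- `E` moves every fixed point of `z` but the trivial coset. -/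
theorem Data.exists_moving (h : Data z E) {q : G ⧸ (centralizer ({z} : Set G))} (hzq : z • q = q)
    (hq : q ≠ ((1 : G) : G ⧸ (centralizer ({z} : Set G)))) : ∃ e ∈ E, e • q ≠ q := by
  by_contra hcon
  push Not at hcon
  set v := q.out * z * q.out⁻¹ with hv
  have hvE : v ∈ E := h.large (mem_centralizer_iff.2 fun e he =>
    ((smul_eq_iff e q).1 (hcon e he)).eq)
  rcases h.ctr v hvE (fun e he => ((smul_eq_iff e q).1 (hcon e he)).symm) with r | r
  · refine h.z_ne ?_
    rw [hv, mul_inv_eq_one] at r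
    exact mul_eq_left.1 r
  · exact conj_z_ne hq r

theorem Data.smul_z_smul (h : Data z E) {q : G ⧸ (centralizer ({z} : Set G))} (hzq : z • q = q) {e : G} (he : e ∈ E) :
    z • (e • q) = e • q := by
  rw [← mul_smul, ← (h.cmz e he).eq, mul_smul, hzq]

/-- A point stabilizer in `E` fixes the whole orbit. -/
theorem Data.fix_orbit (h : Data z E) {q : G ⧸ (centralizer ({z} : Set G))} (hzq : z • q = q) {d : G} (hd : d ∈ E)
    (hdq : d • q = q) {e : G} (he : e ∈ E) : d • (e • q) = e • q := by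
  rcases h.comm d hd e he with r | r
  · rw [← mul_smul, r, mul_smul, hdq]
  · rw [← mul_smul, r, mul_smul, mul_smul, hzq, hdq]

variable (ψ : ((centralizer ({z} : Set G)) : Subgroup G) →* Multiplicative (ZMod 2))

theorem Data.cval_orbit (h : Data z E) {q : G ⧸ (centralizer ({z} : Set G))} (hzq : z • q = q) {d : G} (hd : d ∈ E)
    (hdq : d • q = q) {e : G} (he : e ∈ E) :
    (Commute d e → cval ψ d (e • q) = cval ψ d q) ∧
      (¬ Commute d e → cval ψ d (e • q) = cval ψ d q + cval ψ z q) := by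
  refine ⟨fun hc => ?_, fun hc => ?_⟩
  · have h1 := cval_mul ψ d e q
    rw [hc.eq, cval_mul, hdq, add_comm (cval ψ d (e • q))] at h1
    exact (add_left_cancel h1).symm
  · have r := (h.comm d hd e he).resolve_left hc
    have h1 := cval_mul ψ d e q
    rw [r, mul_assoc e d z, cval_mul, mul_smul, hzq, hdq, cval_mul, hzq,
      add_comm (cval ψ d (e • q))] at h1
    exact (add_left_cancel h1).symm

variable [Finite G]

/-- An orbit, as a finset. -/
noncomputable def blk (H : Subgroup G) (q : G ⧸ (centralizer ({z} : Set G))) : Finset (G ⧸ (centralizer ({z} : Set G))) :=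
  haveI := Fintype.ofFinite (G ⧸ (centralizer ({z} : Set G)))
  haveI := Classical.decPred fun r : G ⧸ (centralizer ({z} : Set G)) => ∃ e ∈ H, e • q = r
  Finset.univ.filter fun r => ∃ e ∈ H, e • q = r

theorem mem_blk {H : Subgroup G} {q r : G ⧸ (centralizer ({z} : Set G))} : r ∈ blk H q ↔ ∃ e ∈ H, e • q = r := by
  simp [blk]

theorem Data.even_blk (h : Data z E) {H : Subgroup G} (hH : H ≤ E) {q : G ⧸ (centralizer ({z} : Set G))}
    (hm : ∃ e ∈ H, e • q ≠ q) : Even (blk H q).card := by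
  haveI : Fact (Nat.Prime 2) := ⟨Nat.prime_two⟩
  obtain ⟨n, hn⟩ := (h.pGroup.to_le hH).card_orbit q
  have hset : MulAction.orbit H q = (blk H q : Set (G ⧸ (centralizer ({z} : Set G)))) := by
    ext r
    rw [Finset.mem_coe, mem_blk]
    exact ⟨fun ⟨e, he⟩ => ⟨e, e.2, he⟩, fun ⟨e, he, her⟩ => ⟨⟨e, he⟩, her⟩⟩
  have hc : Nat.card (MulAction.orbit H q) = (blk H q).card := by
    rw [hset, Nat.card_coe_set_eq, Set.ncard_coe_finset]
  rcases Nat.eq_zero_or_pos n with rfl | hn0
  · obtain ⟨e, he, hne⟩ := hm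
    rw [hc, pow_zero, Finset.card_eq_one] at hn
    obtain ⟨a, ha⟩ := hn
    have h1 : q ∈ blk H q := mem_blk.2 ⟨1, one_mem H, one_smul _ _⟩
    have h2 : e • q ∈ blk H q := mem_blk.2 ⟨e, he, rfl⟩
    rw [ha, Finset.mem_singleton] at h1 h2
    exact absurd (h2.trans h1.symm) hne
  · rw [← hc, hn]
    exact (Nat.even_pow).2 ⟨even_two, hn0.ne'⟩

theorem Data.even_count (h : Data z E) {W W₁ : Subgroup G} (hWE : W ≤ E) (hW₁ : W₁ ≤ W)
    {q : G ⧸ (centralizer ({z} : Set G))} (p : G ⧸ (centralizer ({z} : Set G)) → Prop) [DecidablePred p]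
    (hp : ∀ w ∈ W, p (w • q) ↔ w ∉ W₁)
    (hout : ∀ a ∈ W, ∀ b ∈ W, a ∉ W₁ → b ∉ W₁ → a * b ∈ W₁)
    (hwit : ∃ a ∈ W, ∃ b ∈ W, a • q ≠ q ∧ b • q ≠ q ∧ (a * b) • q ≠ q) :
    Even ((blk W q).filter p).card := by
  classical
  obtain ⟨a, ha, b, hb, h1, h2, h3⟩ := hwit
  have hm : ∃ w ∈ W₁, w • q ≠ q := by
    by_cases hA : a ∈ W₁
    · exact ⟨a, hA, h1⟩
    by_cases hB : b ∈ W₁
    · exact ⟨b, hB, h2⟩
    exact ⟨a * b, hout a ha b hb hA hB, h3⟩
  have hsub : blk W₁ q ⊆ blk W q := fun r hr => by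
    obtain ⟨w, hw, rfl⟩ := mem_blk.1 hr
    exact mem_blk.2 ⟨w, hW₁ hw, rfl⟩
  have heq : (blk W q).filter p = blk W q \ blk W₁ q := by
    ext r
    rw [Finset.mem_filter, Finset.mem_sdiff]
    refine and_congr_right fun hr => ?_
    obtain ⟨w, hw, rfl⟩ := mem_blk.1 hr
    rw [hp w hw]
    refine ⟨fun hn hmem => ?_, fun hn hmem => hn (mem_blk.2 ⟨w, hmem, rfl⟩)⟩
    obtain ⟨w', hw', hww⟩ := mem_blk.1 hmem
    refine (hp w hw).2 hn |> fun hpw => ?_
    rw [← hww] at hpw
    exact (hp w' (hW₁ hw')).1 hpw hw'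
  rw [heq, Finset.card_sdiff_of_subset hsub,
    Nat.even_sub (Finset.card_le_card hsub)]
  exact iff_of_true (h.even_blk hWE ⟨a, ha, h1⟩) (h.even_blk (hW₁.trans hWE) hm)

/-- The hypotheses on an orbit. -/
structure OrbitOK (E : Subgroup G) (q : G ⧸ (centralizer ({z} : Set G))) : Prop where
  two : ∀ c ∈ E, c • q ≠ q → (∀ e ∈ E, e • q = q ∨ (c⁻¹ * e) • q = q) →
    cval ψ z q = 0 ∧ ∀ d ∈ E, d • q = q → cval ψ d q = 0
  four : cval ψ z q ≠ 0 → ∀ u₁ ∈ E, ∀ u₂ ∈ E, ∀ u₃ ∈ E,
    ¬ ∀ e ∈ E, e • q = q ∨ (u₁ * e) • q = q ∨ (u₂ * e) • q = q ∨ (u₃ * e) • q = q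

/-- The section of an orbit given by a hyperplane. -/
theorem Data.exists_half (h : Data z E) {q : G ⧸ (centralizer ({z} : Set G))} (hzq : z • q = q) {c : G} (hc : c ∈ E)
    (hcq : c • q ≠ q) :
    ∃ W : Subgroup G, W ≤ E ∧ c ∉ W ∧ z ∈ W ∧ (∀ e ∈ E, e • q = q → e ∈ W) ∧
      (∀ e ∈ E, e ∈ W ∨ c⁻¹ * e ∈ W) ∧
      (∀ e ∈ E, e • q ∈ blk W q ↔ e ∈ W) ∧
      ∀ r ∈ blk E q, (c • r ∈ blk W q ↔ r ∉ blk W q) := by
  obtain ⟨W, hDW, hWE, hcW, hcov⟩ := h.hyperplane (D := E ⊓ stabilizer G q) le_rfl inf_le_left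
    (mem_inf.2 ⟨h.memZ, hzq⟩) hc (fun hh => hcq hh.2)
  have hfix : ∀ e ∈ E, e • q = q → e ∈ W := fun e he heq => hDW (mem_inf.2 ⟨he, heq⟩)
  have hzW : z ∈ W := hfix z h.memZ hzq
  have hmem : ∀ e ∈ E, e • q ∈ blk W q ↔ e ∈ W := by
    intro e he
    refine ⟨fun hm => ?_, fun hm => mem_blk.2 ⟨e, hm, rfl⟩⟩
    obtain ⟨w, hw, hwe⟩ := mem_blk.1 hm
    have h1 := hfix (w⁻¹ * e) (mul_mem (inv_mem (hWE hw)) he)
      (by rw [mul_smul, ← hwe, inv_smul_smul])
    simpa using mul_mem hw h1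
  refine ⟨W, hWE, hcW, hzW, hfix, hcov, hmem, fun r hr => ?_⟩
  obtain ⟨e, he, rfl⟩ := mem_blk.1 hr
  rw [← mul_smul, hmem _ (mul_mem hc he), hmem e he]
  constructor
  · intro h1 h2
    exact hcW (by simpa using mul_mem h1 (inv_mem h2))
  · intro h1
    have h2 := (hcov e he).resolve_left h1
    have h3 := mul_mem (h.sq_mem hzW hc) h2
    rwa [mul_assoc, mul_inv_cancel_left] at h3

variable [Fintype (G ⧸ (centralizer ({z} : Set G)))] [DecidableEq (G ⧸ (centralizer ({z} : Set G)))]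

/-- A `2`-element fixing a point has zero sum on its orbit. -/
theorem Data.sum_fix (h : Data z E) {q : G ⧸ (centralizer ({z} : Set G))} (hzq : z • q = q)
    (hne : q ≠ ((1 : G) : G ⧸ (centralizer ({z} : Set G)))) (hok : OrbitOK ψ E q) {y : G} (hy : Commute y z)
    (hyp : IsPGroup 2 (zpowers y)) (hyq : y • q = q) :
    ∑ r ∈ blk E q, cval ψ y r = 0 := by
  classical
  haveI : Fact (Nat.Prime 2) := ⟨Nat.prime_two⟩
  have hyN := h.norm y hy
  have hyconj : ∀ e : G, e ∈ E → y * e * y⁻¹ ∈ E := fun e he => (mem_normalizer_iff.1 hyN e).1 he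
  have hymove : ∀ e : G, y • (e • q) = (y * e * y⁻¹) • q := fun e => by
    rw [← mul_smul, mul_smul (y * e), show y⁻¹ • q = q by
      rw [inv_smul_eq_iff, hyq], mul_smul]
  -- a second fixed point
  let S : SubMulAction (zpowers y) (G ⧸ (centralizer ({z} : Set G))) :=
    { carrier := (blk E q : Set (G ⧸ (centralizer ({z} : Set G))))
      smul_mem' := by
        rintro ⟨v, k, rfl⟩ r hr
        rw [Finset.mem_coe, mem_blk] at hr ⊢
        obtain ⟨e, he, rfl⟩ := hr
        refine ⟨y ^ k * e * (y ^ k)⁻¹,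
          (mem_normalizer_iff.1 (zpow_mem hyN k) e).1 he, ?_⟩
        show (y ^ k * e * (y ^ k)⁻¹) • q = y ^ k • (e • q)
        have hk : (y ^ k)⁻¹ • q = q := inv_smul_eq_iff.2
          ((mem_stabilizer_iff.1 (zpow_mem (mem_stabilizer_iff.2 hyq) k)).symm)
        rw [mul_smul, hk, mul_smul] }
  obtain ⟨e₀, he₀, he₀q⟩ := h.exists_moving hzq hne
  have hSe : Even (Nat.card S) := by
    rw [show Nat.card S = (blk E q).card from by
      rw [show Nat.card S = Nat.card ((blk E q : Finset _) : Set (G ⧸ (centralizer ({z} : Set G)))) from rfl,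
        Nat.card_coe_set_eq, Set.ncard_coe_finset]]
    exact h.even_blk le_rfl ⟨e₀, he₀, he₀q⟩
  let q' : S := ⟨q, Finset.mem_coe.2 (mem_blk.2 ⟨1, one_mem E, one_smul _ _⟩)⟩
  have hq' : q' ∈ fixedPoints (zpowers y) S := by
    rintro ⟨v, k, rfl⟩
    exact Subtype.ext (mem_stabilizer_iff.1 (zpow_mem (mem_stabilizer_iff.2 hyq) k))
  obtain ⟨⟨r, hr⟩, hrf, hrne⟩ : ∃ r : S, r ∈ fixedPoints (zpowers y) S ∧ r ≠ q' := by
    obtain ⟨b, hb⟩ := IsPGroup.exists_fixed_point_of_prime_dvd_card_of_fixed_point hyp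
      S (even_iff_two_dvd.1 hSe) hq'
    exact ⟨b, hb.1, hb.2.symm⟩
  obtain ⟨c, hc, rfl⟩ := mem_blk.1 (Finset.mem_coe.1 hr)
  have hcq : c • q ≠ q := fun e => hrne (Subtype.ext e)
  have hyc : y • (c • q) = c • q :=
    congrArg Subtype.val (hrf ⟨y, mem_zpowers y⟩)
  set d := c⁻¹ * (y * c * y⁻¹) with hd
  have hdE : d ∈ E := mul_mem (inv_mem hc) (hyconj c hc)
  have hdq : d • q = q := by rw [hd, mul_smul, ← hymove, hyc, inv_smul_smul]
  obtain ⟨W, hWE, hcW, hzW, hfix, hcov, hmem, hsec⟩ := h.exists_half hzq hc hcq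
  have hblk : ∀ e ∈ E, ∀ r ∈ blk E q, e • r ∈ blk E q := fun e he r hr => by
    obtain ⟨a, ha, rfl⟩ := mem_blk.1 hr
    exact mem_blk.2 ⟨e * a, mul_mem he ha, mul_smul _ _ _⟩
  have hsub : blk W q ⊆ blk E q := fun r hr => by
    obtain ⟨w, hw, rfl⟩ := mem_blk.1 hr
    exact mem_blk.2 ⟨w, hWE hw, rfl⟩
  have hyP : ∀ r ∈ blk E q, y • r ∈ blk E q := fun r hr => by
    obtain ⟨a, ha, rfl⟩ := mem_blk.1 hr
    rw [hymove]
    exact mem_blk.2 ⟨_, hyconj a ha, rfl⟩
  have hdP : ∀ r ∈ blk E q, d • r = r := fun r hr => by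
    obtain ⟨a, ha, rfl⟩ := mem_blk.1 hr
    exact h.fix_orbit hzq hdE hdq ha
  have hcc : ∀ r ∈ blk E q, c • c • r = r := fun r hr => by
    obtain ⟨a, ha, rfl⟩ := mem_blk.1 hr
    rcases h.sq c hc with e | e <;> rw [← mul_smul, e]
    · exact one_smul _ _
    · exact h.smul_z_smul hzq ha
  have hycd : y * c = c * d * y := by rw [hd]; group
  have hkap : ∀ r ∈ blk E q, cval ψ (c * c) r = cval ψ (c * c) q := fun r hr => by
    obtain ⟨a, ha, rfl⟩ := mem_blk.1 hr
    rcases h.sq c hc with e | e <;> rw [e]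
    · rw [cval_one, cval_one]
    · exact (h.cval_orbit ψ hzq h.memZ hzq ha).1 (h.cmz a ha).symm
  rw [pair_sum (blk E q) (blk W q) (c • ·) (y • ·) (cval ψ y) (cval ψ c)
    (fun r => cval ψ d (y • r)) (cval ψ (c * c) q) hsub (hblk c hc) hcc hyP
    (fun a _ b _ e => MulAction.injective y e)
    (fun r hr => by
      rw [← mul_smul, hycd, mul_smul, mul_smul, hdP _ (hyP r hr)])
    hsec
    (fun r hr => by
      rw [← hkap r hr, cval_mul, add_comm (cval ψ c (c • r)), ← add_assoc,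
        CharTwo.add_self_eq_zero, zero_add])
    (fun r hr => by
      have hr' := hsub hr
      have h1 := cval_mul ψ y c r
      rw [hycd, cval_mul, cval_mul, hdP _ (hyP r hr')] at h1
      generalize cval ψ c (y • r) = a at h1 ⊢
      generalize cval ψ d (y • r) = b at h1 ⊢
      generalize cval ψ y r = e at h1 ⊢
      generalize cval ψ y (c • r) = f at h1 ⊢
      generalize cval ψ c r = g at h1 ⊢
      revert h1; revert a b e f g; decide)]
  have hdelta : ∀ w ∈ W,
      (Commute d (y * w * y⁻¹) → cval ψ d (y • (w • q)) = cval ψ d q) ∧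
      (¬ Commute d (y * w * y⁻¹) → cval ψ d (y • (w • q)) = cval ψ d q + cval ψ z q) := by
    intro w hw
    rw [hymove]
    exact h.cval_orbit ψ hzq hdE hdq (hyconj w (hWE hw))
  by_cases hWm : ∃ w ∈ W, w • q ≠ q
  swap
  · push Not at hWm
    obtain ⟨hz0, hd0⟩ := hok.two c hc hcq fun e he => (hcov e he).imp (hWm e) (hWm _)
    have hk : cval ψ (c * c) q = 0 := by
      rcases h.sq c hc with e | e <;> rw [e]
      · exact cval_one ψ q
      · exact hz0
    rw [hk, mul_zero, add_zero]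
    refine Finset.sum_eq_zero fun r hr => ?_
    obtain ⟨w, hw, rfl⟩ := mem_blk.1 hr
    by_cases hcm : Commute d (y * w * y⁻¹)
    · rw [(hdelta w hw).1 hcm, hd0 d hdE hdq]
    · rw [(hdelta w hw).2 hcm, hd0 d hdE hdq, hz0, add_zero]
  rcases zmod_two_cases (cval ψ z q) with hz0 | hz1
  · have hk : cval ψ (c * c) q = 0 := by
      rcases h.sq c hc with e | e <;> rw [e]
      · exact cval_one ψ q
      · exact hz0
    rw [hk, mul_zero, add_zero, Finset.sum_congr rfl (fun r hr => ?_) (g := fun _ => cval ψ d q),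
      Finset.sum_const, nsmul_eq_mul, natCast_of_even (h.even_blk hWE hWm), zero_mul]
    obtain ⟨w, hw, rfl⟩ := mem_blk.1 hr
    by_cases hcm : Commute d (y * w * y⁻¹)
    · exact (hdelta w hw).1 hcm
    · rw [(hdelta w hw).2 hcm, hz0, add_zero]
  have hz : cval ψ z q ≠ 0 := by rw [hz1]; exact one_ne_zero
  have hwit : ∃ a ∈ W, ∃ b ∈ W, a • q ≠ q ∧ b • q ≠ q ∧ (a * b) • q ≠ q := by
    by_contra hcon
    push Not at hcon
    obtain ⟨w, hw, hwq⟩ := hWm
    have hcase : ∀ b ∈ W, b • q = q ∨ (w * b) • q = q := fun b hb => by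
      by_cases hbq : b • q = q
      · exact Or.inl hbq
      · exact Or.inr (hcon w hw b hb hwq hbq)
    refine hok.four hz w (hWE hw) c⁻¹ (inv_mem hc) (w * c⁻¹) (mul_mem (hWE hw) (inv_mem hc))
      fun e he => ?_
    rcases hcov e he with h1 | h1
    · exact (hcase e h1).imp_right Or.inl
    · rcases hcase _ h1 with h2 | h2
      · exact Or.inr (Or.inr (Or.inl h2))
      · exact Or.inr (Or.inr (Or.inr (by rwa [mul_assoc])))
  have hev1 : Even ((blk W q).filter fun r => y • r ∉ blk W q).card := by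
    refine h.even_count hWE (inf_le_left (b := W.comap (MulAut.conj y).toMonoidHom)) _
      (fun w hw => ?_) (fun a ha b hb na nb => mem_inf.2 ⟨mul_mem ha hb, ?_⟩) hwit
    · rw [hymove, hmem _ (hyconj w (hWE hw))]
      exact ⟨fun hn hm => hn (mem_inf.1 hm).2, fun hn hm => hn (mem_inf.2 ⟨hw, hm⟩)⟩
    · have ha' := (hcov _ (hyconj a (hWE ha))).resolve_left fun hm => na (mem_inf.2 ⟨ha, hm⟩)
      have hb' := (hcov _ (hyconj b (hWE hb))).resolve_left fun hm => nb (mem_inf.2 ⟨hb, hm⟩)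
      show y * (a * b) * y⁻¹ ∈ W
      rw [show y * (a * b) * y⁻¹ = c * (c⁻¹ * (y * a * y⁻¹)) * c⁻¹ * (c * c) *
        (c⁻¹ * (y * b * y⁻¹)) by group]
      exact mul_mem (mul_mem (h.conj_mem hWE hzW hc ha') (h.sq_mem hzW hc)) hb'
  have hev2 : Even ((blk W q).filter fun r => cval ψ d (y • r) ≠ cval ψ d q).card := by
    refine h.even_count hWE
      (inf_le_left (b := (centralizer ({d} : Set G)).comap (MulAut.conj y).toMonoidHom)) _
      (fun w hw => ?_) (fun a ha b hb na nb => mem_inf.2 ⟨mul_mem ha hb, ?_⟩) hwit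
    · refine ⟨fun hn hm => hn ((hdelta w hw).1
        (mem_centralizer_singleton_iff.1 (mem_inf.1 hm).2 :
          y * w * y⁻¹ * d = d * (y * w * y⁻¹)).symm), fun hn e => hz ?_⟩
      have hnc : ¬ Commute d (y * w * y⁻¹) := fun hc' =>
        hn (mem_inf.2 ⟨hw, mem_centralizer_singleton_iff.2 hc'.eq.symm⟩)
      rw [(hdelta w hw).2 hnc] at e
      exact add_eq_left.1 e
    · have hnc : ∀ w ∈ W, w ∉ W ⊓ (centralizer ({d} : Set G)).comap (MulAut.conj y).toMonoidHom →
          d * (y * w * y⁻¹) = y * w * y⁻¹ * d * z := fun w hw hn =>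
        (h.comm d hdE _ (hyconj w (hWE hw))).resolve_left fun e =>
          hn (mem_inf.2 ⟨hw, mem_centralizer_singleton_iff.2 e.symm⟩)
      have h1 := hnc a ha na
      have h2 := hnc b hb nb
      refine mem_centralizer_singleton_iff.2 ?_
      show y * (a * b) * y⁻¹ * d = d * (y * (a * b) * y⁻¹)
      have hzb : Commute z (y * b * y⁻¹) := (h.cmz _ (hyconj b (hWE hb))).symm
      symm
      calc d * (y * (a * b) * y⁻¹) = d * (y * a * y⁻¹) * (y * b * y⁻¹) := by group
        _ = y * a * y⁻¹ * d * (z * (y * b * y⁻¹)) := by rw [h1, mul_assoc _ z]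
        _ = y * a * y⁻¹ * (d * (y * b * y⁻¹)) * z := by rw [hzb.eq]; simp only [mul_assoc]
        _ = y * (a * b) * y⁻¹ * d * (z * z) := by rw [h2]; group
        _ = _ := by rw [h.zz, mul_one]
  rw [natCast_of_even hev1, zero_mul, add_zero, Finset.sum_congr rfl
    (fun r _ => zmod_two_indicator (cval ψ d (y • r)) (cval ψ d q)), Finset.sum_add_distrib,
    Finset.sum_const, nsmul_eq_mul, natCast_of_even (h.even_blk hWE hWm), zero_mul, zero_add,
    Finset.sum_boole, natCast_of_even hev2]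

/-- An element of `E` has zero sum on the orbit. -/
theorem Data.sum_mem (h : Data z E) {q : G ⧸ (centralizer ({z} : Set G))} (hzq : z • q = q)
    (hne : q ≠ ((1 : G) : G ⧸ (centralizer ({z} : Set G)))) (hok : OrbitOK ψ E q) {e : G} (he : e ∈ E) :
    ∑ r ∈ blk E q, cval ψ e r = 0 := by
  classical
  by_cases heq : e • q = q
  · exact h.sum_fix ψ hzq hne hok (h.cmz e he) (h.pGroup.to_le (zpowers_le.2 he)) heq
  obtain ⟨W, hWE, -, -, -, hcov, -, hsec⟩ := h.exists_half hzq he heq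
  have hsub : blk W q ⊆ blk E q := fun r hr => by
    obtain ⟨w, hw, rfl⟩ := mem_blk.1 hr
    exact mem_blk.2 ⟨w, hWE hw, rfl⟩
  have hkap : ∀ r ∈ blk E q, cval ψ (e * e) r = cval ψ (e * e) q := fun r hr => by
    obtain ⟨a, ha, rfl⟩ := mem_blk.1 hr
    rcases h.sq e he with s | s <;> rw [s]
    · rw [cval_one, cval_one]
    · exact (h.cval_orbit ψ hzq h.memZ hzq ha).1 (h.cmz a ha).symm
  rw [pair_sum (blk E q) (blk W q) (e • ·) id (cval ψ e) (fun _ => 0)
    (fun _ => cval ψ (e * e) q) 0 hsub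
    (fun r hr => by
      obtain ⟨a, ha, rfl⟩ := mem_blk.1 hr
      exact mem_blk.2 ⟨e * a, mul_mem he ha, mul_smul _ _ _⟩)
    (fun r hr => by
      obtain ⟨a, ha, rfl⟩ := mem_blk.1 hr
      rcases h.sq e he with s | s <;> rw [← mul_smul, s]
      · exact one_smul _ _
      · exact h.smul_z_smul hzq ha)
    (fun r hr => hr) (fun a _ b _ s => s) (fun _ _ => rfl) hsec (fun _ _ => (add_zero _).symm)
    (fun r hr => by
      rw [add_zero, zero_add, ← hkap r (hsub hr), cval_mul, add_comm]),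
    mul_zero, add_zero, Finset.sum_const, nsmul_eq_mul]
  by_cases hWm : ∃ w ∈ W, w • q ≠ q
  · rw [natCast_of_even (h.even_blk hWE hWm), zero_mul]
  · push Not at hWm
    obtain ⟨hz0, -⟩ := hok.two e he heq fun a ha => (hcov a ha).imp (hWm a) (hWm _)
    rcases h.sq e he with s | s <;> rw [s]
    · rw [cval_one, mul_zero]
    · rw [hz0, mul_zero]

/-- If every orbit is harmless, `ψ` kills every `2`-element of `C(z)`. -/
theorem Data.eq_one_of_orbitOK (h : Data z E) (hres : Cfsg.pResidual 2 G = ⊤)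
    (hok : ∀ q : G ⧸ (centralizer ({z} : Set G)), z • q = q → q ≠ ((1 : G) : G ⧸ (centralizer ({z} : Set G))) → OrbitOK ψ E q)
    {x : G} (hx : x ∈ (centralizer ({z} : Set G))) (hxp : IsPGroup 2 (zpowers x)) : ψ ⟨x, hx⟩ = 1 := by
  classical
  haveI : Fact (Nat.Prime 2) := ⟨Nat.prime_two⟩
  set b := ((1 : G) : G ⧸ (centralizer ({z} : Set G))) with hb
  have hxz : Commute x z := mem_centralizer_singleton_iff.1 hx
  set X₁ := Finset.univ.filter (fun r : G ⧸ (centralizer ({z} : Set G)) => z • r ≠ r) with hX₁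
  set X₂ := Finset.univ.filter (fun r : G ⧸ (centralizer ({z} : Set G)) => z • r = r ∧ r ≠ b) with hX₂
  have hcomm : ∀ r : G ⧸ (centralizer ({z} : Set G)), x • z • r = z • x • r := fun r => by
    rw [← mul_smul, ← mul_smul, hxz.eq]
  have hS1 : ∑ r ∈ X₁, cval ψ x r = 0 := by
    have hzz : ∀ r : G ⧸ (centralizer ({z} : Set G)), z • z • r = r := fun r => by rw [← mul_smul, h.zz, one_smul]
    have hP : ∀ r ∈ X₁, z • r ∈ X₁ := fun r hr => by
      rw [hX₁, Finset.mem_filter] at hr ⊢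
      exact ⟨Finset.mem_univ _, fun e => hr.2 (MulAction.injective z e)⟩
    obtain ⟨Hs, hHs, hsec⟩ := exists_section X₁ (z • ·) hP (fun r _ => hzz r)
      (fun r hr => (Finset.mem_filter.1 hr).2)
    rw [pair_sum X₁ Hs (z • ·) (x • ·) (cval ψ x) (cval ψ z) (fun _ => 0) 0 hHs hP
      (fun r _ => hzz r)
      (fun r hr => by
        rw [hX₁, Finset.mem_filter] at hr ⊢
        refine ⟨Finset.mem_univ _, fun e => hr.2 ?_⟩
        rw [← hcomm] at e
        exact MulAction.injective x e)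
      (fun a _ c _ e => MulAction.injective x e) (fun r _ => hcomm r) hsec
      (fun r _ => by
        have h1 := cval_mul ψ z z r
        rw [h.zz, cval_one] at h1
        rw [add_zero]
        exact CharTwo.add_eq_zero.1 h1.symm)
      (fun r _ => by
        have h1 := cval_mul ψ x z r
        rw [hxz.eq, cval_mul] at h1
        rw [add_zero]
        generalize cval ψ z (x • r) = a at h1 ⊢
        generalize cval ψ x r = e at h1 ⊢
        generalize cval ψ x (z • r) = f at h1 ⊢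
        generalize cval ψ z r = g at h1 ⊢
        revert h1; revert a e f g; decide), Finset.sum_const_zero, mul_zero, add_zero]
  have hS2 : ∑ r ∈ X₂, cval ψ x r = 0 := by
    refine sum_orbits_eq_zero ψ E (h.norm x hxz) (blk E) (fun q r => mem_blk) X₂
      (fun q hq e he => ?_) (fun q hq => ?_) fun q hq s hs => ?_
    · rw [hX₂, Finset.mem_filter] at hq ⊢
      refine ⟨Finset.mem_univ _, h.smul_z_smul hq.2.1 he, fun e' => hq.2.2 ?_⟩
      rw [← inv_smul_smul e q, e', hb, smul_base ((h.cmz e he).inv_left)]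
    · rw [hX₂, Finset.mem_filter] at hq ⊢
      refine ⟨Finset.mem_univ _, by rw [← hcomm, hq.2.1], fun e' => hq.2.2 ?_⟩
      rw [← inv_smul_smul x q, e', hb, smul_base hxz.inv_left]
    · rw [hX₂, Finset.mem_filter] at hq
      obtain ⟨e₀, he₀, he₀s⟩ := mem_blk.1 hs
      set y := e₀⁻¹ * x ^ s with hy
      have hyq : y • q = q := by rw [hy, mul_smul, ← he₀s, inv_smul_smul]
      have hyz : Commute y z := ((h.cmz e₀ he₀).inv_left).mul_left (hxz.pow_left s)
      have hyp : IsPGroup 2 (zpowers y) := by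
        refine (IsPGroup.to_sup_of_normal_right' hxp h.pGroup
          (zpowers_le.2 (h.norm x hxz))).to_le (zpowers_le.2 ?_)
        exact mul_mem (mem_sup_right (inv_mem he₀)) (mem_sup_left (pow_mem (mem_zpowers x) s))
      have hok' := hok q hq.2.1 hq.2.2
      have hperm : (blk E q).image (y • ·) = blk E q := by
        refine Finset.eq_of_subset_of_card_le (fun r hr => ?_)
          (le_of_eq (Finset.card_image_of_injective _ (MulAction.injective y)).symm)
        obtain ⟨a, ha, rfl⟩ := Finset.mem_image.1 hr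
        obtain ⟨e, he, rfl⟩ := mem_blk.1 ha
        refine mem_blk.2 ⟨y * e * y⁻¹, (mem_normalizer_iff.1 (h.norm y hyz) e).1 he, ?_⟩
        rw [mul_smul, show y⁻¹ • q = q by rw [inv_smul_eq_iff, hyq], mul_smul]
      rw [show x ^ s = e₀ * y by rw [hy, mul_inv_cancel_left],
        Finset.sum_congr rfl (fun r _ => cval_mul ψ e₀ y r), Finset.sum_add_distrib,
        h.sum_fix ψ hq.2.1 hq.2.2 hok' hyz hyp hyq, add_zero,
        ← Finset.sum_image (f := cval ψ e₀) (g := (y • ·))
          (fun a _ c _ e => MulAction.injective y e), hperm]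
      exact h.sum_mem ψ hq.2.1 hq.2.2 hok' he₀
  have hsplit : (Finset.univ : Finset (G ⧸ (centralizer ({z} : Set G)))) = insert b (X₂ ∪ X₁) := by
    ext r
    simp only [hX₁, hX₂, Finset.mem_univ, Finset.mem_insert, Finset.mem_union,
      Finset.mem_filter, true_and, true_iff]
    tauto
  have h0 := sum_cval_eq_zero ψ hres x
  rw [hsplit, Finset.sum_insert, Finset.sum_union, hS1, hS2, add_zero, add_zero,
    cval_base ψ hx] at h0
  · exact toAdd_eq_zero.1 h0
  · refine Finset.disjoint_left.2 fun r h1 h2 => ?_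
    exact (Finset.mem_filter.1 h2).2 (Finset.mem_filter.1 h1).2.1
  · simp only [hX₁, hX₂, Finset.mem_union, Finset.mem_filter, Finset.mem_univ, true_and]
    rintro (⟨-, hne⟩ | hne)
    · exact hne rfl
    · exact hne (smul_base (Commute.refl z))

end CfsgLib.Invol.ExtraTransfer
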