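import Cfsg.Agent.Lib.Invol.ExtremelyClosed
import Cfsg.Agent.Lib.Char.CoprimeCyclicAction
import Cfsg.Agent.Lib.Block.Glauberman
import Cfsg.Agent.Lib.Invol.PrincipalBlock

/-!
# Extremely closed abelian subgroups of odd order act fixed point freely on `[O, H]`

Let `O` be a normal `p'`-subgroup and `θ` an irreducible character of `O` invariant under `H`.
For `h` in `H` the canonical extension of `θ` takes one value on the generators of `⟨h⟩`, and the
class equation makes this value the degree; hence `[O, H]` lies in the kernel of every invariant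
character, so by the Glauberman correspondence it meets the centralizer of `H` trivially.
-/

set_option autoImplicit false
set_option linter.style.haveILetI false
set_option linter.unusedSectionVars false
set_option maxHeartbeats 800000

namespace CfsgLib.ExtClosed

open Cfsg CfsgLib.Char
open scoped ComplexConjugate

universe u

/-- The determinantal order does not change along an automorphism. -/
theorem detOrder_comp_equiv {A : Type u} [Group A] [Finite A] (e : A ≃* A) (χ : IrrCharacter A) :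
    detOrder (fun a => (χ : A → ℂ) (e a)) = detOrder (χ : A → ℂ) := by
  obtain ⟨χ, n, ρ, hρ, rfl⟩ := χ
  show detOrder (fun a => ρ.character (e a)) = detOrder ρ.character
  let ρ' : Representation ℂ A (Fin n → ℂ) := ρ.comp e.toMonoidHom
  rw [show (fun a => ρ.character (e a)) = ρ'.character
    from rfl, Cfsg.detOrder, Cfsg.detOrder, detChar_eq, detChar_eq]
  let L : (A → ℂ) →* (A → ℂ) :=
    { toFun := fun f a => f (e a), map_one' := rfl, map_mul' := fun _ _ => rfl }
  rw [show (fun g => (detHom ρ' g : ℂ)) =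
      L (fun g => (detHom ρ g : ℂ)) from rfl]
  exact orderOf_injective L (fun f f' h => funext fun a => by
    simpa [L] using congrFun h (e.symm a)) _

/-- Invariance of a function on a subgroup under a set of conjugations. -/
def HInv {G : Type u} [Group G] (H : Subgroup G) {O : Subgroup G} (θ : O → ℂ) : Prop :=
  ∀ h ∈ H, ∀ o o' : O, (o' : G) = h * o * h⁻¹ → θ o' = θ o

/-- Every invariant character of a normal `p'`-subgroup is trivial on the commutators with `H`. -/
theorem commutator_mem_kernel {p : ℕ} [Fact p.Prime] (hp : p ≠ 2) :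
    ∀ (n : ℕ) {G : Type u} [Group G] [Finite G], Nat.card G < n →
      ∀ {H : Subgroup G}, IsPGroup p H → IsMulCommutative H → Cfsg.IsExtremelyClosed H →
      ∀ (O : Subgroup G) [O.Normal], ¬ p ∣ Nat.card O → ∀ θ : IrrCharacter O,
        HInv H (θ : O → ℂ) → ∀ h ∈ H, ∀ o o' : O, (o' : G) = h * o * h⁻¹ * (o : G)⁻¹ →
          (θ : O → ℂ) o' = (θ : O → ℂ) 1 := by
  intro n
  induction n with
  | zero => intro G _ _ h; exact absurd h (Nat.not_lt_zero _)
  | succ n ih =>
    intro G _ _ hn H hHp hHab hcl O hOn hO θ hθ h hh o₁ o₁' ho₁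
    classical
    letI := Fintype.ofFinite G
    by_cases hcen : ∀ o ∈ O, Commute h o
    · rw [show o₁' = 1 from Subtype.ext (by
        rw [ho₁, (hcen _ o₁.2).eq, mul_inv_cancel_right, mul_inv_cancel, OneMemClass.coe_one])]
    -- the centralizer of `h` is proper
    set Cz := Subgroup.centralizer ({h} : Set G) with hCz
    have hCne : Cz ≠ ⊤ := fun htop => hcen fun o _ =>
      (Subgroup.mem_centralizer_singleton_iff.1 (htop.ge (Subgroup.mem_top o))).symm
    have hHC : H ≤ Cz := fun x hx => Subgroup.mem_centralizer_singleton_iff.2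
      (congrArg Subtype.val (hHab.is_comm.comm (⟨x, hx⟩ : H) ⟨h, hh⟩))
    have hlt : Nat.card Cz < n :=
      lt_of_lt_of_le (lt_of_le_of_ne (Nat.le_of_dvd Nat.card_pos (Subgroup.card_subgroup_dvd_card Cz))
        fun e => hCne (Subgroup.eq_top_of_card_eq Cz e)) (Nat.lt_succ_iff.1 hn)
    -- the order of `h`
    obtain ⟨k, hk⟩ := hHp ⟨h, hh⟩
    have hk' : h ^ p ^ k = 1 := congrArg Subtype.val hk
    have hodd : Odd (orderOf h) :=
      ((Fact.out : p.Prime).odd_of_ne_two hp).pow.of_dvd_nat (orderOf_dvd_of_pow_eq_one hk')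
    have hco2 : Nat.Coprime 2 (orderOf h) := Nat.coprime_two_left.2 hodd
    -- the semidirect product by `⟨h⟩`
    set Γ : Subgroup G := O ⊔ Subgroup.zpowers h with hΓ
    have hOΓ : O ≤ Γ := le_sup_left
    have hhΓ : h ∈ Γ := Subgroup.mem_sup_right (Subgroup.mem_zpowers h)
    set G' : Subgroup Γ := O.subgroupOf Γ with hG'
    set σ : Γ := ⟨h, hhΓ⟩ with hσ
    have hσo : orderOf σ = orderOf h := Subgroup.orderOf_mk h hhΓ
    have hcop : (Nat.card G').Coprime (orderOf σ) := by
      rw [Nat.card_congr (Subgroup.subgroupOfEquivOfLe hOΓ).toEquiv, hσo]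
      exact (((Fact.out : p.Prime).coprime_iff_not_dvd.2 hO).pow_left k).symm.coprime_dvd_right
        (orderOf_dvd_of_pow_eq_one hk')
    have htop : G' ⊔ Subgroup.zpowers σ = ⊤ := by
      apply Subgroup.map_injective Γ.subtype_injective
      rw [Subgroup.map_sup, Subgroup.map_subgroupOf_eq_of_le hOΓ, MonoidHom.map_zpowers,
        ← MonoidHom.range_eq_map, Subgroup.range_subtype]
      rfl
    set C : Subgroup Γ := G' ⊓ Subgroup.centralizer (Subgroup.zpowers σ : Set Γ) with hC
    let θ' : IrrCharacter G' := ⟨fun x => (θ : O → ℂ) (Subgroup.subgroupOfEquivOfLe hOΓ x),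
      isIrrCharacter_comp_surjective θ.2 (Subgroup.subgroupOfEquivOfLe hOΓ).toMonoidHom
        (Subgroup.subgroupOfEquivOfLe hOΓ).surjective⟩
    have hinv : ∀ (x : Γ) (g : G'), (θ' : G' → ℂ) ⟨x * g * x⁻¹, ((inferInstance : G'.Normal).conj_mem
        g g.2 x)⟩ = (θ' : G' → ℂ) g := by
      intro x g
      obtain ⟨a, ha, b, hb, hab⟩ := Coprime.mem_sup_exists
        (le_top.trans (Subgroup.normalizer_eq_top_iff.2 hOn).ge) x.2
      obtain ⟨j, rfl⟩ := Subgroup.mem_zpowers_iff.1 hb
      set g0 : O := Subgroup.subgroupOfEquivOfLe hOΓ g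
      set g1 : O := ⟨h ^ j * (g0 : G) * (h ^ j)⁻¹, hOn.conj_mem _ g0.2 _⟩
      have e1 := hθ (h ^ j) (H.zpow_mem hh j) g0 g1 rfl
      rw [show (θ' : G' → ℂ) g = (θ : O → ℂ) g0 from rfl, ← e1,
        ← Char.isClassFunction_irr θ g1 ⟨a, ha⟩]
      refine congrArg (θ : O → ℂ) (Subtype.ext ?_)
      show (x : G) * (g0 : G) * (x : G)⁻¹ = a * (h ^ j * (g0 : G) * (h ^ j)⁻¹) * a⁻¹
      rw [← hab]; group
    obtain ⟨χ, hcan⟩ := CoprimeCyclic.exists_canonical hcop htop θ' hinv
    obtain ⟨β, ε, hε, hsig, -⟩ := CoprimeCyclic.exists_signed hcop htop hC hcan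
    set d := (χ : Γ → ℂ) 1 with hd
    have hd0 : d ≠ 0 := Char.irr_one_ne_zero χ
    have hval1 : ∀ j : ℕ, j.Coprime (orderOf σ) →
        (χ : Γ → ℂ) (σ ^ j) = (ε : ℂ) * (β : C → ℂ) 1 := fun j hj => by
      have := hsig 1 j hj
      rwa [OneMemClass.coe_one, one_mul] at this
    -- the correspondent is invariant under `H`
    have hmemC : ∀ {c : Γ}, c ∈ C ↔ (c : G) ∈ O ∧ Commute h (c : G) := fun {c} => by
      rw [CoprimeCyclic.mem_C (σ := σ) hC, hG', Subgroup.mem_subgroupOf]
      exact and_congr_right fun _ => ⟨fun e => congrArg Subtype.val e, fun e => Subtype.ext e⟩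
    have hHΓ : H ≤ Subgroup.normalizer (Γ : Set G) :=
      Coprime.sup_le_normalizer (le_top.trans (Subgroup.normalizer_eq_top_iff.2 hOn).ge)
        fun x hx => Subgroup.centralizer_le_normalizer _ (Subgroup.mem_centralizer_iff.2 fun y hy => by
          obtain ⟨j, rfl⟩ := Subgroup.mem_zpowers_iff.1 hy
          exact ((show Commute x h from Subgroup.mem_centralizer_singleton_iff.1 (hHC hx)).zpow_right
            j).eq.symm)
    have hχinv : ∀ x ∈ H, ∀ y y' : Γ, (y' : G) = x * y * x⁻¹ → (χ : Γ → ℂ) y' = (χ : Γ → ℂ) y := by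
      intro x hx
      let e : Γ ≃* Γ :=
        { toFun := fun y => ⟨x * y * x⁻¹, (Subgroup.mem_normalizer_iff.1 (hHΓ hx) _).1 y.2⟩
          invFun := fun y => ⟨x⁻¹ * y * x, (Subgroup.mem_normalizer_iff''.1 (hHΓ hx) _).1 y.2⟩
          left_inv := fun y => Subtype.ext (by simp [mul_assoc])
          right_inv := fun y => Subtype.ext (by simp [mul_assoc])
          map_mul' := fun y z => Subtype.ext (by simp [mul_assoc]) }
      have hψ : IsIrrCharacter Γ (fun y => (χ : Γ → ℂ) (e y)) :=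
        isIrrCharacter_comp_surjective χ.2 e.toMonoidHom e.surjective
      have hres : ∀ g : G', (χ : Γ → ℂ) (e g) = (θ' : G' → ℂ) g := by
        intro g
        have hmem : e g ∈ G' := Subgroup.mem_subgroupOf.2 (hOn.conj_mem _ g.2 x)
        rw [show e g = ((⟨e g, hmem⟩ : G') : Γ) from rfl, hcan.res]
        exact hθ x hx (Subgroup.subgroupOfEquivOfLe hOΓ g)
          (Subgroup.subgroupOfEquivOfLe hOΓ ⟨e g, hmem⟩) rfl
      have hdet : (detOrder fun y => (χ : Γ → ℂ) (e y)).Coprime (orderOf σ) := by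
        rw [detOrder_comp_equiv]; exact hcan.det
      have hu := hcan.unique hcop htop hψ hres hdet
      intro y y' hy
      rw [show y' = e y from Subtype.ext hy]
      exact congrFun hu y
    -- the induction hypothesis in the centralizer
    set Oc : Subgroup Cz := O.subgroupOf Cz with hOc
    let iota : Oc →* C :=
      { toFun := fun c => ⟨⟨((c : Cz) : G), hOΓ (Subgroup.mem_subgroupOf.1 c.2)⟩,
          hmemC.2 ⟨Subgroup.mem_subgroupOf.1 c.2,
            (Subgroup.mem_centralizer_singleton_iff.1 (c : Cz).2).symm⟩⟩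
        map_one' := rfl
        map_mul' := fun _ _ => rfl }
    have hiota : Function.Surjective iota := fun c => by
      obtain ⟨h1, h2⟩ := hmemC.1 c.2
      exact ⟨⟨⟨((c : Γ) : G), Subgroup.mem_centralizer_singleton_iff.2 h2.eq.symm⟩,
        Subgroup.mem_subgroupOf.2 h1⟩, rfl⟩
    let β' : IrrCharacter Oc := ⟨fun c => (β : C → ℂ) (iota c),
      isIrrCharacter_comp_surjective β.2 iota hiota⟩
    have hε0 : (ε : ℂ) ≠ 0 := by rcases hε with e | e <;> rw [e] <;> norm_num
    have hβinv : HInv (H.subgroupOf Cz) (β' : Oc → ℂ) := by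
      intro x hx c c' hcc
      refine mul_left_cancel₀ hε0 ?_
      show (ε : ℂ) * (β : C → ℂ) (iota c') = (ε : ℂ) * (β : C → ℂ) (iota c)
      rw [← hsig _ 1 (Nat.coprime_one_left _), ← hsig _ 1 (Nat.coprime_one_left _), pow_one]
      refine hχinv (x : G) (Subgroup.mem_subgroupOf.1 hx) _ _ ?_
      have hxh : (x : G) * h = h * x :=
        Subgroup.mem_centralizer_singleton_iff.1 x.2
      show ((c' : Cz) : G) * h = (x : G) * (((c : Cz) : G) * h) * (x : G)⁻¹
      rw [show ((c' : Cz) : G) = (x : G) * ((c : Cz) : G) * (x : G)⁻¹ from congrArg Subtype.val hcc]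
      calc (x : G) * ((c : Cz) : G) * (x : G)⁻¹ * h = (x : G) * ((c : Cz) : G) * ((x : G)⁻¹ * h) := by
            group
        _ = (x : G) * ((c : Cz) : G) * (h * (x : G)⁻¹) := by
            rw [show (x : G)⁻¹ * h = h * (x : G)⁻¹ from
              (inv_mul_eq_iff_eq_mul.2 (by rw [← mul_assoc, hxh, mul_inv_cancel_right]))]
        _ = _ := by group
    haveI : Oc.Normal := Subgroup.Normal.subgroupOf hOn _
    have hOcnd : ¬ p ∣ Nat.card Oc := fun e => hO (e.trans (by
      rw [← Subgroup.card_map_of_injective Cz.subtype_injective (K := Oc)]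
      exact Subgroup.card_dvd_of_le (Subgroup.subgroupOf_map_subtype O Cz ▸ inf_le_left)))
    have hIH := ih hlt (subgroupOf_facts hHp hHab hHC).1 (subgroupOf_facts hHp hHab hHC).2
      (ExtClosed.subgroupOf hHp hHab hcl hHC) Oc hOcnd β' hβinv
    obtain ⟨N, hN, hNiff⟩ := CfsgLib.Invol.exists_charKernel β'
    haveI := hN
    -- the value on the square
    have hprod : ∀ o ∈ O, ∀ y : Γ, (y : G) = h * (o * h * o⁻¹) →
        (χ : Γ → ℂ) y = (ε : ℂ) * (β : C → ℂ) 1 := by
      intro o ho y hy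
      obtain ⟨q, hq, hqn⟩ := exists_rep hHp hHab hcl o
      have hTO : ∀ z ∈ coreT p H o, z ∈ O := by
        intro z hz
        have hle : pairT H o ≤ O ⊔ H := by
          refine sup_le le_sup_right ?_
          rintro _ ⟨x, hx, rfl⟩
          show o * x * o⁻¹ ∈ O ⊔ H
          exact (O ⊔ H).mul_mem ((O ⊔ H).mul_mem (Subgroup.mem_sup_left ho) (Subgroup.mem_sup_right hx))
            ((O ⊔ H).inv_mem (Subgroup.mem_sup_left ho))
        obtain ⟨a, ha, b, hb, hab⟩ := Coprime.mem_sup_exists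
          (le_top.trans (Subgroup.normalizer_eq_top_iff.2 hOn).ge) (hle (coreT_le o hz))
        refine (QuotientGroup.eq_one_iff z).1 (Fusion.eq_one_of_pGroup_of_coprime
          (hHp.map (QuotientGroup.mk' O)) ⟨b, hb, ?_⟩ ?_)
        · rw [← hab, QuotientGroup.mk'_apply, QuotientGroup.mk_mul,
            (QuotientGroup.eq_one_iff a).2 ha, one_mul]
        · exact ((Fact.out : p.Prime).coprime_iff_not_dvd.2 fun e =>
            orderOf_mem_coreT hz (e.trans (orderOf_map_dvd (QuotientGroup.mk' O) z))).symm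
      have hqO := hTO q hq
      have hcc : q⁻¹ * o ∈ Subgroup.centralizer (H : Set G) :=
        Coprime.mem_centralizer_of_mem_normalizer
          (le_top.trans (Subgroup.normalizer_eq_top_iff.2 hOn).ge)
          (by
            obtain ⟨m, hm⟩ := hHp.exists_card_eq
            rw [hm]; exact (((Fact.out : p.Prime).coprime_iff_not_dvd.2 hO).pow_left m))
          (O.mul_mem (O.inv_mem hqO) ho) hqn
      have hoq : o * h * o⁻¹ = q * h * q⁻¹ := by
        have := Coprime.mem_centralizer_iff_conj_eq.1 hcc h hh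
        rw [mul_inv_eq_iff_eq_mul] at this
        calc o * h * o⁻¹ = q * ((q⁻¹ * o) * h) * o⁻¹ := by group
          _ = q * (h * (q⁻¹ * o)) * o⁻¹ := by rw [this]
          _ = q * h * q⁻¹ := by group
      obtain ⟨w, r, hw, hr, hcomm, hwy⟩ := exists_ppart_conj hHp hHab hcl hq hh hh
      have hrO := hTO r hr
      have hwO := hTO w hw
      have hrh : Commute h r := by
        obtain ⟨i, hi⟩ := hodd
        have h2 : Commute (h * h) r := hcomm.symm
        have := h2.pow_left (i + 1)
        rwa [show (h * h) ^ (i + 1) = h by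
          rw [← pow_two, ← pow_mul, show 2 * (i + 1) = orderOf h + 1 by omega, pow_succ,
            pow_orderOf_eq_one, one_mul]] at this
      have hrC : r ∈ Cz := Subgroup.mem_centralizer_singleton_iff.2 hrh.eq.symm
      -- `r` is in the kernel of the correspondent
      have hrN : (⟨⟨r, hrC⟩, Subgroup.mem_subgroupOf.2 hrO⟩ : Oc) ∈ N := by
        set Nk := (N.map Oc.subtype).map Cz.subtype with hNk
        set D := coreT p H o ⊓ Cz with hD
        have hOK : ∀ {z : G}, z ∈ Nk → z ∈ O ∧ z ∈ Cz := by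
          rintro _ ⟨_, ⟨a, -, rfl⟩, rfl⟩
          exact ⟨Subgroup.mem_subgroupOf.1 a.2, (a : Cz).2⟩
        have hHN : H ≤ Subgroup.normalizer (Nk : Set G) := by
          intro x hx
          have key : ∀ x ∈ H, ∀ z ∈ Nk, x * z * x⁻¹ ∈ Nk := by
            rintro x hx _ ⟨_, ⟨a, ha, rfl⟩, rfl⟩
            refine ⟨⟨x, hHC hx⟩ * (a : Cz) * ⟨x, hHC hx⟩⁻¹,
              ⟨⟨_, (inferInstance : Oc.Normal).conj_mem _ a.2 ⟨x, hHC hx⟩⟩, ?_, rfl⟩, rfl⟩
            exact (hNiff _).2 ((hβinv ⟨x, hHC hx⟩ (Subgroup.mem_subgroupOf.2 hx) a _ rfl).trans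
              ((hNiff a).1 ha))
          refine Subgroup.mem_normalizer_iff.2 fun z => ⟨key x hx z, fun hz => ?_⟩
          have := key x⁻¹ (H.inv_mem hx) _ hz
          simpa [mul_assoc] using this
        have hkey : ∀ d : G, d ∈ D → d ∈ Subgroup.normalizer ((D ⊓ Nk : Subgroup G) : Set G) := by
          intro d hd
          have key : ∀ d ∈ D, ∀ z ∈ D ⊓ Nk, d * z * d⁻¹ ∈ D ⊓ Nk := by
            rintro d hd z ⟨hzD, hzN⟩
            refine ⟨D.mul_mem (D.mul_mem hd hzD) (D.inv_mem hd), ?_⟩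
            obtain ⟨_, ⟨a, ha, rfl⟩, rfl⟩ := hzN
            set d' : Oc := ⟨⟨d, hd.2⟩, Subgroup.mem_subgroupOf.2 (hTO d hd.1)⟩
            exact ⟨_, ⟨d' * a * d'⁻¹, hN.conj_mem a ha d', rfl⟩, rfl⟩
          refine Subgroup.mem_normalizer_iff.2 fun z => ⟨key d hd z, fun hz => ?_⟩
          have := key d⁻¹ (D.inv_mem hd) _ hz
          simpa [mul_assoc] using this
        have hA : H ≤ Subgroup.normalizer ((D ⊓ Nk : Subgroup G) : Set G) :=
          Coprime.inf_le_normalizer (Coprime.inf_le_normalizer (le_normalizer_coreT o)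
            (hHC.trans Subgroup.le_normalizer)) hHN
        have hfix : ∀ x ∈ H, x * r * x⁻¹ * r⁻¹ ∈ D ⊓ Nk := by
          intro x hx
          have hu : x * r * x⁻¹ * r⁻¹ ∈ coreT p H o :=
            mul_mem ((Subgroup.mem_normalizer_iff.1 (le_normalizer_coreT o hx) r).1 hr) (inv_mem hr)
          have huC : x * r * x⁻¹ * r⁻¹ ∈ Cz :=
            Cz.mul_mem (Cz.mul_mem (Cz.mul_mem (hHC hx) hrC) (Cz.inv_mem (hHC hx))) (Cz.inv_mem hrC)
          refine Subgroup.mem_inf.2 ⟨⟨hu, huC⟩, ?_⟩
          refine ⟨⟨_, huC⟩, ⟨⟨⟨_, huC⟩, Subgroup.mem_subgroupOf.2 (hTO _ hu)⟩, ?_, rfl⟩, rfl⟩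
          exact (hNiff _).2 (hIH ⟨x, hHC hx⟩ (Subgroup.mem_subgroupOf.2 hx)
            ⟨⟨r, hrC⟩, Subgroup.mem_subgroupOf.2 hrO⟩ _ rfl)
        obtain ⟨m, hm, hmc⟩ := Coprime.exists_fixed_in_coset hA
          ((coprime_card_coreT hHp o).coprime_dvd_right
            (Subgroup.card_dvd_of_le (inf_le_left.trans inf_le_left)))
          (Or.inl (Coprime.isSolvable_of_isMulCommutative hHab)) (hkey r ⟨hr, hrC⟩) hfix
        obtain ⟨⟨hm1, -⟩, hm2⟩ := Subgroup.mem_inf.1 hm
        have h1 : r * m = 1 := eq_one_of_normalizing hHp hHab hcl (mul_mem hr hm1)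
          (Coprime.centralizer_le_normalizer_self H hmc)
        obtain ⟨_, ⟨a, ha, rfl⟩, he⟩ := hm2
        have : (⟨⟨r, hrC⟩, Subgroup.mem_subgroupOf.2 hrO⟩ : Oc) = a⁻¹ := by
          refine Subtype.ext (Subtype.ext ?_)
          show r = ((a : Cz) : G)⁻¹
          exact (eq_inv_of_mul_eq_one_left h1).trans (congrArg (·⁻¹) he.symm)
        rw [this]
        exact N.inv_mem ha
      have hrv := (hNiff _).1 hrN
      rw [← Char.isClassFunction_irr χ y ⟨w, hOΓ hwO⟩]
      have hy2 : (⟨w, hOΓ hwO⟩ : Γ) * y * ⟨w, hOΓ hwO⟩⁻¹ =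
          (⟨r, hOΓ hrO⟩ : Γ) * σ ^ 2 := by
        refine Subtype.ext ?_
        show w * (y : G) * w⁻¹ = r * ((σ ^ 2 : Γ) : G)
        rw [hy, hoq, hwy, SubgroupClass.coe_pow, pow_two]
        exact hcomm.symm
      rw [hy2]
      have := hsig (iota ⟨⟨r, hrC⟩, Subgroup.mem_subgroupOf.2 hrO⟩) 2 (by rwa [hσo])
      refine this.trans ?_
      exact congrArg _ (hrv.trans rfl)
    -- the class equation
    have hkey : (χ : Γ → ℂ) σ = d := by
      have h1 : (χ : Γ → ℂ) σ = (ε : ℂ) * (β : C → ℂ) 1 := by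
        simpa using hval1 1 (Nat.coprime_one_left _)
      have hsum := CfsgLib.Block.sum_conj_char χ σ σ
      rw [Finset.sum_congr rfl (g := fun _ => (χ : Γ → ℂ) σ) fun v _ => ?_, Finset.sum_const,
        Finset.card_univ, nsmul_eq_mul, ← Nat.card_eq_fintype_card] at hsum
      · have hne : (χ : Γ → ℂ) σ ≠ 0 := by
          rw [h1]; exact mul_ne_zero hε0 (Char.irr_one_ne_zero β)
        have hcard : (Nat.card Γ : ℂ) ≠ 0 := Nat.cast_ne_zero.mpr Nat.card_pos.ne'
        rw [eq_div_iff hd0, mul_assoc] at hsum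
        exact (mul_left_cancel₀ hne (mul_left_cancel₀ hcard (hsum.trans (mul_assoc _ _ _)))).symm
      · obtain ⟨a, ha, b, hb, hab⟩ := Coprime.mem_sup_exists
          (le_top.trans (Subgroup.normalizer_eq_top_iff.2 hOn).ge) v.2
        obtain ⟨j, rfl⟩ := Subgroup.mem_zpowers_iff.1 hb
        rw [hprod a ha _ ?_, h1]
        show h * ((v : G) * h * (v : G)⁻¹) = h * (a * h * a⁻¹)
        rw [← hab]; group
    -- `h` is in the kernel
    obtain ⟨N', hN', hN'iff⟩ := CfsgLib.Invol.exists_charKernel χ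
    have hσN : σ ∈ N' := (hN'iff σ).2 hkey
    set o2 : Γ := ⟨o₁, hOΓ o₁.2⟩
    have h2 : σ * o2 * σ⁻¹ * o2⁻¹ ∈ N' := by
      rw [show σ * o2 * σ⁻¹ * o2⁻¹ = σ * (o2 * σ⁻¹ * o2⁻¹) by group]
      exact mul_mem hσN (hN'.conj_mem _ (inv_mem hσN) o2)
    have h3 := (hN'iff _).1 h2
    have hmem : σ * o2 * σ⁻¹ * o2⁻¹ ∈ G' := Subgroup.mem_subgroupOf.2 (by
      show h * (o₁ : G) * h⁻¹ * (o₁ : G)⁻¹ ∈ O
      rw [← ho₁]; exact o₁'.2)
    rw [show σ * o2 * σ⁻¹ * o2⁻¹ = ((⟨_, hmem⟩ : G') : Γ) from rfl, hcan.res,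
      show (1 : Γ) = ((1 : G') : Γ) from rfl, hcan.res] at h3
    refine Eq.trans ?_ (h3.trans ?_)
    · exact congrArg (θ : O → ℂ) (Subtype.ext ho₁)
    · exact congrArg (θ : O → ℂ) (Subtype.ext rfl)

/-- `H` fixes only the identity of `[O, H]`: the commutators avoid the centralizer. -/
theorem eq_one_of_commutator_centralizing {G : Type u} [Group G] [Finite G] {p : ℕ} [Fact p.Prime]
    (hp : p ≠ 2) {H : Subgroup G} (hHp : IsPGroup p H) (hHab : IsMulCommutative H)
    (hcl : Cfsg.IsExtremelyClosed H) (O : Subgroup G) [O.Normal] (hO : ¬ p ∣ Nat.card O) {c : G}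
    (hc : c ∈ ⁅O, H⁆) (hcH : c ∈ Subgroup.centralizer (H : Set G)) : c = 1 := by
  classical
  letI := Fintype.ofFinite G
  obtain ⟨M, hM⟩ := CfsgLib.Block.exists_pModular (Fact.out : p.Prime)
  haveI := hM.2.1
  set C : Subgroup G := O ⊓ Subgroup.centralizer (H : Set G) with hC
  letI := Fintype.ofFinite O
  letI := Fintype.ofFinite C
  letI := Fintype.ofFinite (ConjClasses O)
  letI := Fintype.ofFinite (ConjClasses C)
  have hcO : c ∈ O := (Subgroup.commutator_le_left O H) hc
  set c' : C := ⟨c, hcO, hcH⟩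
  have hnorm : ∀ s ∈ H, ∀ g ∈ O, s * g * s⁻¹ ∈ O := fun s _ g hg =>
    (inferInstance : O.Normal).conj_mem g hg s
  -- `c` is in the kernel of every invariant character
  have hker : ∀ θ : IrrCharacter O, HInv H (θ : O → ℂ) →
      (θ : O → ℂ) ⟨c, hcO⟩ = (θ : O → ℂ) 1 := by
    intro θ hθ
    obtain ⟨N, hN, hNiff⟩ := CfsgLib.Invol.exists_charKernel θ
    haveI := hN
    have hle : ⁅O, H⁆ ≤ N.map O.subtype := by
      rw [Subgroup.commutator_le]
      intro o ho h hh
      have hmem : h * o * h⁻¹ * o⁻¹ ∈ O := O.mul_mem (hnorm h hh o ho) (O.inv_mem ho)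
      have h1 : (⟨_, hmem⟩ : O) ∈ N := (hNiff _).2
        (commutator_mem_kernel hp (Nat.card G + 1) (Nat.lt_succ_self _) hHp hHab hcl O hO θ hθ h hh
          ⟨o, ho⟩ ⟨_, hmem⟩ rfl)
      refine ⟨(⟨_, hmem⟩ : O)⁻¹, N.inv_mem h1, ?_⟩
      show (h * o * h⁻¹ * o⁻¹)⁻¹ = _
      simp only [commutatorElement_def]
      group
    obtain ⟨a, ha, hae⟩ := hle hc
    rw [show (⟨c, hcO⟩ : O) = a from Subtype.ext hae.symm]
    exact (hNiff a).1 ha
  -- every character of the centralizer lies in the restriction of an invariant one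
  suffices h : c' = 1 from congrArg Subtype.val h
  refine isConj_one_right.1 (Char.isConj_of_irr_agree (G := C) (g := 1) (h := c') fun β => ?_)
  obtain ⟨θ, hθi, hθe⟩ := Block.Glauberman.exists_up (G := O) (S := H) (C := C) rfl hM hHp hnorm hO β
  obtain ⟨m, hm⟩ := Char.classInner_char_irr_nat
    (Char.isCharacter_comp (Char.isCharacter_irr θ) (Subgroup.inclusion (inf_le_left : C ≤ O))) β
  have hm0 : (m : CfsgLib.Block.ResField M) ≠ 0 := by
    rcases (Block.Glauberman.mult_congr rfl hM hHp hnorm hO hθi hθe β hm).1 rfl with e | e <;> rw [e]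
    · exact one_ne_zero
    · exact neg_ne_zero.2 one_ne_zero
  have hm1 : m ≠ 0 := fun e => hm0 (by rw [e, Nat.cast_zero])
  -- the restriction of `θ` is constant on the cosets of `c'`
  obtain ⟨N, hN, hNiff⟩ := CfsgLib.Invol.exists_charKernel θ
  obtain ⟨θc, nθ, ρ, hρ, hρe⟩ := θ
  subst hρe
  have hcρ : ρ ⟨c, hcO⟩ = LinearMap.id := (Char.char_eq_degree_iff ρ _).1 (by
    rw [← Representation.char_one ρ]; exact hker _ fun h hh o o' e => hθi h hh o o' e)
  obtain ⟨β', nβ, σβ, hσ, hσe⟩ := β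
  subst hσe
  by_contra hne'
  -- compare with the constituent
  have hsum : classInner (fun x : C => ρ.character (Subgroup.inclusion (inf_le_left : C ≤ O) x))
      σβ.character * σβ.character 1 =
      classInner (fun x : C => ρ.character (Subgroup.inclusion (inf_le_left : C ≤ O) x))
        σβ.character * σβ.character c' := by
    obtain ⟨K, hK, hKiff⟩ := CfsgLib.Invol.exists_charKernel (⟨σβ.character, nβ, σβ, hσ, rfl⟩ : IrrCharacter C)
    obtain ⟨cc, hcc⟩ := Char.schur_scalar σβ
      (∑ x : C, ρ.character (Subgroup.inclusion (inf_le_left : C ≤ O) x) • σβ x⁻¹) fun y => by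
        simp only [Finset.sum_mul, Finset.mul_sum, smul_mul_assoc, mul_smul_comm, ← map_mul]
        refine Fintype.sum_bijective (fun a => y⁻¹ * a * y⁻¹⁻¹) (MulAut.conj y⁻¹).bijective _ _
          fun a => ?_
        rw [show y * (y⁻¹ * a * y⁻¹⁻¹)⁻¹ = a⁻¹ * y by group,
          show Subgroup.inclusion (inf_le_left : C ≤ O) (y⁻¹ * a * y⁻¹⁻¹) =
            Subgroup.inclusion inf_le_left y⁻¹ * Subgroup.inclusion inf_le_left a *
              (Subgroup.inclusion (inf_le_left : C ≤ O) y⁻¹)⁻¹ by simp,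
          Representation.char_conj]
    have h1 : ∀ z : C, ∑ x : C, ρ.character (Subgroup.inclusion (inf_le_left : C ≤ O) x) *
        σβ.character (x⁻¹ * z) = cc * σβ.character z := by
      intro z
      have h2 := congrArg (fun T => LinearMap.trace ℂ _ (T * σβ z)) hcc
      simp only [Finset.sum_mul, map_sum, smul_mul_assoc, map_smul, smul_eq_mul, ← map_mul,
        ← Module.End.one_eq_id, one_mul] at h2
      exact h2
    have h3 : cc * σβ.character c' = cc * σβ.character 1 := by
      rw [← h1, ← h1]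
      refine Fintype.sum_equiv (Equiv.mulRight c'⁻¹) _ _ fun x => ?_
      simp only [Equiv.coe_mulRight, map_mul, map_inv, mul_inv_rev, inv_inv, mul_one]
      congr 1
      · rw [show (Subgroup.inclusion (inf_le_left : C ≤ O)) c' = ⟨c, hcO⟩ from rfl]
        simp only [Representation.character, map_mul]
        rw [show ρ (⟨c, hcO⟩ : O)⁻¹ = LinearMap.id by
          have := congrArg (ρ (⟨c, hcO⟩ : O)⁻¹ * ·) hcρ
          rw [← map_mul, inv_mul_cancel, map_one] at this
          exact (this.trans (mul_one _)).symm]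
        rfl
      · exact Char.classFun_mul_comm (Char.isClassFunction_irr (⟨_, nβ, σβ, hσ, rfl⟩ : IrrCharacter C)) _ _
    have hcc' : classInner (fun x : C => ρ.character (Subgroup.inclusion (inf_le_left : C ≤ O) x))
        σβ.character * (Nat.card C : ℂ) = cc * σβ.character 1 := by
      rw [← h1, classInner, mul_comm, ← mul_assoc, mul_inv_cancel₀ (Nat.cast_ne_zero.2 Nat.card_pos.ne'),
        one_mul]
      refine Finset.sum_congr rfl fun x _ => ?_
      rw [mul_one, Char.char_inv]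
    have hb0 : σβ.character 1 ≠ 0 := Char.irr_one_ne_zero ⟨_, nβ, σβ, hσ, rfl⟩
    have hC0 : (Nat.card C : ℂ) ≠ 0 := Nat.cast_ne_zero.2 Nat.card_pos.ne'
    have hcc0 : cc ≠ 0 := fun e => hm1 (by
      rw [e, zero_mul, mul_eq_zero] at hcc'
      rcases hcc' with e' | e'
      · exact_mod_cast (hm.symm.trans e')
      · exact absurd e' hC0)
    rw [mul_left_cancel₀ hcc0 h3]
  rw [show classInner (fun x : C => ρ.character (Subgroup.inclusion (inf_le_left : C ≤ O) x))
    σβ.character = (m : ℂ) from hm] at hsum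
  exact hne' (mul_left_cancel₀ (Nat.cast_ne_zero.2 hm1) hsum)

end CfsgLib.ExtClosed
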