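import Cfsg.Agent.Lib.Invol.ExtremelyClosedMoment
import Cfsg.Agent.Lib.Invol.ExtremelyClosedTwo
import Cfsg.Agent.S3021
import Cfsg.Agent.Lib.Fusion.Transfer

/-!
# Extremely closed abelian subgroups of odd order are normal modulo the `p'`-core

The moment argument over all of `H`: `φ ≤ c χ(1)` off the principal character with `c = 2`, and
`c = 1/2` when `|H| = 3`.
-/

set_option autoImplicit false
set_option linter.style.haveILetI false
set_option linter.unusedSectionVars false
set_option maxHeartbeats 1600000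

namespace CfsgLib.ExtClosed

open Cfsg CfsgLib.Block
open scoped ComplexConjugate

universe u

section bounds

variable {G : Type u} [Group G] [Fintype G]

theorem re_inv (χ : IrrCharacter G) (g : G) : ((χ : G → ℂ) g⁻¹).re = ((χ : G → ℂ) g).re := by
  rw [Char.irr_inv, Complex.conj_re]

theorem re_le_one (χ : IrrCharacter G) (h : G) : ((χ : G → ℂ) h).re ≤ ((χ : G → ℂ) 1).re := by
  have := re_quadratic_nonneg χ ![1, h] ![1, -1]
  simp only [Fin.sum_univ_two, Matrix.cons_val_zero, Matrix.cons_val_one, inv_one, one_mul, mul_one,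
    inv_mul_cancel, Complex.ofReal_neg, Complex.ofReal_one, neg_mul, mul_neg, neg_neg,
    Complex.add_re, Complex.neg_re, re_inv] at this
  linarith

/-- Positive definiteness at `(1 - h)(1 - s)`. -/
theorem re_pair (χ : IrrCharacter G) (h s : G) :
    2 * ((χ : G → ℂ) h).re + 2 * ((χ : G → ℂ) s).re ≤ 2 * ((χ : G → ℂ) 1).re +
      ((χ : G → ℂ) (h * s)).re + ((χ : G → ℂ) (h⁻¹ * s)).re := by
  have hc := Char.isClassFunction_irr χ
  have e2 : ((χ : G → ℂ) (s⁻¹ * (h * s))).re = ((χ : G → ℂ) h).re := by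
    rw [Char.classFun_mul_comm hc, mul_inv_cancel_right]
  have e3 : ((χ : G → ℂ) (h⁻¹ * (h * s))).re = ((χ : G → ℂ) s).re := by rw [inv_mul_cancel_left]
  have e4 : ((χ : G → ℂ) (s⁻¹ * h)).re = ((χ : G → ℂ) (h⁻¹ * s)).re := by
    rw [← re_inv, mul_inv_rev, inv_inv]
  have e5 : ((χ : G → ℂ) (s⁻¹ * h⁻¹)).re = ((χ : G → ℂ) (h * s)).re := by
    rw [← re_inv, mul_inv_rev, inv_inv, inv_inv]
  have e6 : ((χ : G → ℂ) (s⁻¹ * h⁻¹ * h)).re = ((χ : G → ℂ) s).re := by
    rw [inv_mul_cancel_right, re_inv]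
  have e7 : ((χ : G → ℂ) (s⁻¹ * h⁻¹ * s)).re = ((χ : G → ℂ) h).re := by
    rw [mul_assoc, Char.classFun_mul_comm hc, mul_inv_cancel_right, re_inv]
  have e8 : ((χ : G → ℂ) (s⁻¹ * h⁻¹ * (h * s))).re = ((χ : G → ℂ) 1).re := by
    rw [mul_assoc, inv_mul_cancel_left, inv_mul_cancel]
  have := re_quadratic_nonneg χ ![1, h, s, h * s] ![1, -1, -1, 1]
  simp only [Fin.sum_univ_four, Matrix.cons_val_zero, Matrix.cons_val_one, Matrix.cons_val_two,
    Matrix.cons_val_three, Matrix.tail_cons, Matrix.head_cons, Matrix.cons_val, inv_one, one_mul,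
    mul_one, inv_mul_cancel, Complex.ofReal_neg, Complex.ofReal_one, neg_mul, mul_neg, neg_neg,
    Complex.add_re, Complex.neg_re, mul_inv_rev, e2, e3, e4, e5, e6, e7, e8, re_inv] at this
  linarith

/-- An element of order 3 acting without fixed points on a subgroup: `χ` at an element of the
subgroup is bounded below by `χ` at the acting element. -/
theorem re_fpf_three (χ : IrrCharacter G) {a : G} (D : Subgroup G) (ha3 : a ^ 3 = 1)
    (hn : ∀ y ∈ D, a * y * a⁻¹ ∈ D) (hfpf : ∀ y ∈ D, a * y * a⁻¹ = y → y = 1) {y : G} (hy : y ∈ D) :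
    3 * ((χ : G → ℂ) a).re ≤ ((χ : G → ℂ) 1).re + 2 * ((χ : G → ℂ) y).re := by
  classical
  have hc := Char.isClassFunction_irr χ
  let D' : Finset G := Finset.univ.filter (· ∈ D)
  -- every element of `D` is a twisted commutator
  have hsurj : ∀ y : D, ∃ z : D, (z : G)⁻¹ * (a * z * a⁻¹) = y := by
    let F : D → D := fun z => ⟨(z : G)⁻¹ * (a * z * a⁻¹), D.mul_mem (D.inv_mem z.2) (hn _ z.2)⟩
    have hinj : Function.Injective F := by
      intro z w h
      have h' : (z : G)⁻¹ * (a * z * a⁻¹) = (w : G)⁻¹ * (a * w * a⁻¹) := congrArg Subtype.val h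
      have := hfpf ((w : G) * (z : G)⁻¹) (D.mul_mem w.2 (D.inv_mem z.2)) (by
        calc a * ((w : G) * (z : G)⁻¹) * a⁻¹ = (a * w * a⁻¹) * (a * z * a⁻¹)⁻¹ := by group
          _ = (w : G) * ((w : G)⁻¹ * (a * w * a⁻¹)) * (a * z * a⁻¹)⁻¹ := by group
          _ = (w : G) * ((z : G)⁻¹ * (a * z * a⁻¹)) * (a * z * a⁻¹)⁻¹ := by rw [h']
          _ = (w : G) * (z : G)⁻¹ := by group)
      exact Subtype.ext (mul_inv_eq_one.1 this).symm
    intro y
    obtain ⟨z, hz⟩ := (Finite.injective_iff_surjective.1 hinj) y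
    exact ⟨z, congrArg Subtype.val hz⟩
  have hconj : ∀ z ∈ D, (χ : G → ℂ) (z * a) = (χ : G → ℂ) a := by
    intro z hz
    obtain ⟨w, hw⟩ := hsurj ⟨z, hz⟩
    rw [show z * a = (w : G)⁻¹ * a * (w : G)⁻¹⁻¹ by
      rw [show z = (w : G)⁻¹ * (a * w * a⁻¹) from hw.symm]; group]
    exact hc a _
  have htriple : ∀ z ∈ D, z * (a * z * a⁻¹) * (a ^ 2 * z * (a ^ 2)⁻¹) = 1 := by
    intro z hz
    obtain ⟨w, hw⟩ := hsurj ⟨z, hz⟩
    rw [show z = (w : G)⁻¹ * (a * w * a⁻¹) from hw.symm]
    have e : a ^ 3 * (w : G) * (a ^ 3)⁻¹ = w := by rw [ha3]; group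
    calc _ = (w : G)⁻¹ * (a ^ 3 * w * (a ^ 3)⁻¹) := by
          simp only [pow_succ, pow_zero, one_mul]; group
      _ = 1 := by rw [e, inv_mul_cancel]
  set m : ℝ := ∑ z : D, ((χ : G → ℂ) z).re with hm
  have hD0 : (0 : ℝ) < (Fintype.card D : ℝ) := Nat.cast_pos.2 Fintype.card_pos
  have hshift : ∀ z : D, ∑ w : D, ((χ : G → ℂ) ((z : G)⁻¹ * w)).re = m := fun z =>
    Fintype.sum_equiv (Equiv.mulLeft z⁻¹) _ _ fun w => rfl
  -- the value at `a` is at most the average over `D`
  have hA : (Fintype.card D : ℝ) * ((χ : G → ℂ) a).re ≤ m := by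
    have hq := re_quadratic_nonneg χ (ι := Bool × D)
      (fun x => if x.1 then a * (x.2 : G) else x.2) (fun x => if x.1 then -1 else 1)
    simp only [Fintype.sum_prod_type, Fintype.sum_bool, ↓reduceIte, Bool.false_eq_true,
      Complex.ofReal_neg, Complex.ofReal_one, Complex.re_sum, Complex.add_re, neg_mul, mul_neg,
      neg_neg, one_mul, Complex.neg_re, Finset.sum_add_distrib, Finset.sum_neg_distrib] at hq
    have e1 : ∀ z w : D, ((χ : G → ℂ) ((a * (z : G))⁻¹ * (a * (w : G)))).re =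
        ((χ : G → ℂ) ((z : G)⁻¹ * w)).re := fun z w => by
      rw [show (a * (z : G))⁻¹ * (a * (w : G)) = (z : G)⁻¹ * w by group]
    have e2 : ∀ z w : D, ((χ : G → ℂ) ((z : G)⁻¹ * (a * (w : G)))).re = ((χ : G → ℂ) a).re :=
      fun z w => by
        rw [← mul_assoc, Char.classFun_mul_comm hc, ← mul_assoc,
          hconj _ (D.mul_mem w.2 (D.inv_mem z.2))]
    have e3 : ∀ z w : D, ((χ : G → ℂ) ((a * (z : G))⁻¹ * (w : G))).re = ((χ : G → ℂ) a).re :=
      fun z w => by
        rw [← re_inv, mul_inv_rev, inv_inv]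
        exact e2 w z
    simp only [e1, e2, e3, hshift, Finset.sum_const, Finset.card_univ, nsmul_eq_mul] at hq
    nlinarith
  -- positive definiteness at `(1 + y + y y^a)` off the trivial constituent of `D`
  set b := a * y * a⁻¹ with hb
  have hbD : b ∈ D := hn y hy
  let g : Fin 3 → D := ![1, ⟨y, hy⟩, ⟨y * b, D.mul_mem hy hbD⟩]
  have hq := re_quadratic_nonneg χ (ι := Fin 3 × Option D)
    (fun x => x.2.elim (g x.1 : G) fun z => (g x.1 : G) * z)
    (fun x => x.2.elim 1 fun _ => -(Fintype.card D : ℝ)⁻¹)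
  simp only [Fintype.sum_prod_type, Fintype.sum_option, Option.elim_none, Option.elim_some,
    Complex.re_sum, Complex.add_re, Complex.ofReal_one, one_mul, mul_one, Complex.ofReal_neg,
    neg_mul, mul_neg, neg_neg, Complex.neg_re, ← Complex.ofReal_mul, Complex.re_ofReal_mul,
    Finset.sum_neg_distrib, ← Finset.mul_sum, Finset.sum_add_distrib] at hq
  have f1 : ∀ i j : Fin 3, ∑ z : D, ((χ : G → ℂ) ((g i : G)⁻¹ * ((g j : G) * z))).re = m :=
    fun i j => Fintype.sum_equiv (Equiv.mulLeft ((g i)⁻¹ * g j)) _ _ fun z => by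
      simp [mul_assoc]
  have f2 : ∀ i j : Fin 3, ∑ z : D, ((χ : G → ℂ) (((g i : G) * z)⁻¹ * (g j : G))).re = m := by
    intro i j
    rw [← f1 j i]
    refine Finset.sum_congr rfl fun z _ => ?_
    rw [← re_inv, mul_inv_rev, inv_inv]
  have f3 : ∀ (i j : Fin 3) (z : D),
      ∑ w : D, ((χ : G → ℂ) (((g i : G) * z)⁻¹ * ((g j : G) * w))).re = m :=
    fun i j z => Fintype.sum_equiv (Equiv.mulLeft ((g i * z)⁻¹ * g j)) _ _ fun w => by
      simp [mul_assoc]
  have f2' : ∀ i : Fin 3,
      ∑ z : D, ∑ j : Fin 3, ((χ : G → ℂ) (((g i : G) * z)⁻¹ * (g j : G))).re = 3 * m := fun i => by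
    rw [Finset.sum_comm]
    simp only [f2, Finset.sum_const, Finset.card_univ, nsmul_eq_mul, Fintype.card_fin]
    norm_num
  simp only [f1, f2', f3, Finset.sum_const, Finset.card_univ, nsmul_eq_mul, Fintype.card_fin] at hq
  field_simp at hq
  have hb1 : ((χ : G → ℂ) b).re = ((χ : G → ℂ) y).re := by rw [hb, hc y a]
  have hyb : ((χ : G → ℂ) (y * b)).re = ((χ : G → ℂ) y).re := by
    rw [show y * b = (a ^ 2 * y * (a ^ 2)⁻¹)⁻¹ from eq_inv_of_mul_eq_one_left (htriple y hy), re_inv,
      hc y (a ^ 2)]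
  have hsum : ∑ i : Fin 3, ∑ j : Fin 3, ((χ : G → ℂ) ((g i : G)⁻¹ * (g j : G))).re =
      3 * ((χ : G → ℂ) 1).re + 6 * ((χ : G → ℂ) y).re := by
    simp only [g, Fin.sum_univ_three, Matrix.cons_val_zero, Matrix.cons_val_one, Matrix.cons_val_two,
      Matrix.tail_cons, Matrix.head_cons, Matrix.cons_val, Subgroup.coe_one, inv_one, one_mul,
      mul_one, mul_inv_rev, inv_mul_cancel, re_inv, inv_mul_cancel_left, inv_mul_cancel_right,
      mul_assoc b⁻¹, hb1, hyb]
    ring
  rw [hsum] at hq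
  norm_num at hq
  by_contra hlt
  nlinarith [mul_pos hD0 (sub_pos.2 (not_le.1 hlt))]

end bounds

/-- There is no reduced counterexample of odd order. -/
theorem false_of_reduced_odd {G : Type u} [Group G] [Finite G] {p : ℕ} [Fact p.Prime] (hp : p ≠ 2)
    {H : Subgroup G} (hHp : IsPGroup p H) (hHab : IsMulCommutative H)
    (hcl : Cfsg.IsExtremelyClosed H) (hH1 : H ≠ ⊥) (hO : Cfsg.pPrimeCore p G = ⊥)
    (hZ : ∀ z ∈ H, z ∈ Subgroup.center G → z = 1)
    (IH : ∀ M : Subgroup G, H ≤ M → M ≠ ⊤ → Concl p (H.subgroupOf M))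
    (hnorm : ∀ M : Subgroup G, M.Normal → H ≤ M → M = ⊤) : False := by
  classical
  letI := Fintype.ofFinite G
  letI := Fintype.ofFinite (IrrCharacter G)
  have hpp : p.Prime := Fact.out
  have hp3 : 3 ≤ p := by
    have := hpp.two_le
    omega
  obtain ⟨M, hM⟩ := exists_pModular hpp
  haveI := hM.2.1
  have hcomm : ∀ {a b : G}, a ∈ H → b ∈ H → a * b = b * a := fun {a b} ha hb =>
    congrArg Subtype.val (hHab.is_comm.comm (⟨a, ha⟩ : H) ⟨b, hb⟩)
  have hHC : ∀ {a : G}, a ∈ H → H ≤ Subgroup.centralizer ({a} : Set G) := fun {a} ha x hx =>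
    Subgroup.mem_centralizer_singleton_iff.2 (hcomm hx ha)
  have hproper : ∀ {a : G}, a ∈ H → a ≠ 1 → Subgroup.centralizer ({a} : Set G) ≠ ⊤ := by
    intro a ha h1 htop
    refine h1 (hZ a ha (Subgroup.mem_center_iff.2 fun g => ?_))
    exact Subgroup.mem_centralizer_singleton_iff.1 (htop.ge (Subgroup.mem_top g))
  have hpow : ∀ {a : G}, a ∈ H → ∃ k : ℕ, orderOf a = p ^ k := by
    intro a ha
    obtain ⟨k, hk⟩ := hHp ⟨a, ha⟩
    obtain ⟨j, -, hj⟩ := (Nat.dvd_prime_pow hpp).1
      (orderOf_dvd_of_pow_eq_one (congrArg Subtype.val hk : a ^ p ^ k = 1))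
    exact ⟨j, hj⟩
  have hpdvd : ∀ {a : G}, a ∈ H → a ≠ 1 → p ∣ orderOf a := by
    intro a ha h1
    obtain ⟨k, hk⟩ := hpow ha
    rcases Nat.eq_zero_or_pos k with rfl | hk0
    · exact absurd (orderOf_eq_one_iff.1 (by rwa [pow_zero] at hk)) h1
    · exact hk ▸ dvd_pow_self p hk0.ne'
  choose rep hrep hrepn using exists_rep hHp hHab hcl
  have hval : ∀ χ ∈ principalBlock M G, ∀ v : G, ∀ a ∈ H, ∀ b ∈ H, a * b ≠ 1 →
      (χ : G → ℂ) (a * (rep v * b * (rep v)⁻¹)) = (χ : G → ℂ) (a * b) := by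
    intro χ hχ v a ha b hb hab1
    obtain ⟨w, r, -, hr, hcomm', hw⟩ := exists_ppart_conj hHp hHab hcl (hrep v) ha hb
    have habH : a * b ∈ H := H.mul_mem ha hb
    set C := Subgroup.centralizer ({a * b} : Set G) with hCdef
    have hrC := mem_core_centralizer hHp hHab hcl habH
      (IH C (hHC habH) (hproper habH hab1)) hr hcomm'
    obtain ⟨r', hr', hrr⟩ := hrC
    letI := Fintype.ofFinite (IrrCharacter C)
    haveI : (Cfsg.pPrimeCore p C).Normal :=
      haveI := Coprime.pPrimeCore_characteristic (G := C) p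
      inferInstance
    have h := CfsgLib.Invol.irr_secElt_mul hM (x := a * b) (hpow habH)
      (C := C) (fun t => Subgroup.mem_centralizer_singleton_iff) hχ (Cfsg.pPrimeCore p C)
      (Coprime.pPrimeCore_not_dvd hpp) (y := 1) hr' (by rw [orderOf_one]; exact hpp.not_dvd_one)
      (by
        rw [one_mul, ← Subgroup.orderOf_coe]
        change ¬ p ∣ orderOf (C.subtype r')
        rw [hrr]; exact orderOf_mem_coreT hr)
    rw [one_mul, Subgroup.coe_one, mul_one] at h
    change (χ : G → ℂ) (a * b * C.subtype r') = _ at h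
    rw [hrr] at h
    rw [← Char.isClassFunction_irr χ (a * (rep v * b * (rep v)⁻¹)) w, hw, h]
  -- the data
  set Hs := Finset.univ.filter (· ∈ H) with hHs
  set q : ℝ := (Hs.card : ℝ) with hqdef
  have hmem : ∀ {a : G}, a ∈ Hs ↔ a ∈ H := by simp [hHs]
  have h1Hs : (1 : G) ∈ Hs := hmem.2 H.one_mem
  have hne1 : ∀ {a : G}, a ∈ Hs.erase 1 ↔ a ∈ H ∧ a ≠ 1 := by
    simp [hHs, and_comm]
  set d : IrrCharacter G → ℝ := fun χ => ((χ : G → ℂ) 1).re with hddef
  set φ : IrrCharacter G → ℝ := fun χ => ∑ a ∈ Hs.erase 1, ((χ : G → ℂ) a).re with hφdef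
  set Y : IrrCharacter G → ℂ := fun χ =>
    ∑ v : G, ∑ a ∈ Hs.erase 1, (χ : G → ℂ) (a * (rep v * a⁻¹ * (rep v)⁻¹)) with hYdef
  have hsymm : ∀ χ : IrrCharacter G, ∑ a ∈ Hs.erase 1, (χ : G → ℂ) a⁻¹ =
      ∑ a ∈ Hs.erase 1, (χ : G → ℂ) a := by
    intro χ
    refine Finset.sum_equiv (Equiv.inv G) (fun a => ?_) fun a _ => rfl
    simp only [hne1, Equiv.inv_apply, inv_mem_iff, ne_eq, inv_eq_one]
  have hreal : ∀ χ : IrrCharacter G, ((φ χ : ℝ) : ℂ) = ∑ a ∈ Hs.erase 1, (χ : G → ℂ) a := by
    intro χ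
    simp only [hφdef]
    rw [← Complex.re_sum]
    refine Complex.conj_eq_iff_re.1 ?_
    rw [map_sum, ← hsymm χ]
    exact Finset.sum_congr rfl fun a _ => by rw [← Char.irr_inv]
  have hdpos : ∀ χ : IrrCharacter G, 0 < d χ := by
    intro χ
    obtain ⟨n, hn⟩ := Char.isCharacter_degree (Char.isCharacter_irr χ)
    simp only [hddef, hn, Complex.natCast_re, Nat.cast_pos]
    exact Nat.pos_of_ne_zero fun h => Char.irr_one_ne_zero χ (by rw [hn, h, Nat.cast_zero])
  have hd1 : ∀ χ : IrrCharacter G, (χ : G → ℂ) 1 = (d χ : ℂ) := by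
    intro χ
    obtain ⟨n, hn⟩ := Char.isCharacter_degree (Char.isCharacter_irr χ)
    rw [hddef]; simp only [hn, Complex.natCast_re, Complex.ofReal_natCast]
  have hsumH : ∀ χ : IrrCharacter G, ∑ a ∈ Hs, (χ : G → ℂ) a = ((φ χ + d χ : ℝ) : ℂ) := by
    intro χ
    rw [← Finset.sum_erase_add _ _ h1Hs, ← hreal χ, hd1 χ]
    push_cast; ring
  have hG0 : (0 : ℝ) < (Nat.card G : ℝ) := Nat.cast_pos.2 Nat.card_pos
  have hk1 : ((Hs.erase 1).card : ℝ) = q - 1 := by
    rw [Finset.card_erase_of_mem h1Hs, Nat.cast_sub (Finset.card_pos.2 ⟨1, h1Hs⟩), hqdef,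
      Nat.cast_one]
  -- the class equation
  have hmain : ∀ χ ∈ principalBlock M G,
      (Nat.card G : ℝ) * φ χ ^ 2 =
        d χ * ((Nat.card G : ℝ) * (q - 2) * φ χ + (Y χ).re) := by
    intro χ hχ
    have h1 : ∑ a ∈ Hs, ∑ b ∈ Hs, ∑ v : G, (χ : G → ℂ) (a * (v * b * v⁻¹)) =
        (Nat.card G : ℂ) * ((φ χ + d χ : ℝ) : ℂ) ^ 2 / (d χ : ℂ) := by
      simp only [sum_conj_char]
      rw [← hsumH χ, ← hd1 χ, pow_two, Finset.sum_mul_sum, Finset.mul_sum, Finset.sum_div]
      refine Finset.sum_congr rfl fun a _ => ?_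
      rw [Finset.mul_sum, Finset.sum_div]
      exact Finset.sum_congr rfl fun b _ => by ring
    have h2 : ∀ v : G, ∑ a ∈ Hs, ∑ b ∈ Hs, (χ : G → ℂ) (a * (v * b * v⁻¹)) =
        (q : ℂ) * ((φ χ + d χ : ℝ) : ℂ) - (q : ℂ) * (χ : G → ℂ) 1 +
          ((χ : G → ℂ) 1 + ∑ a ∈ Hs.erase 1, (χ : G → ℂ) (a * (rep v * a⁻¹ * (rep v)⁻¹))) := by
      intro v
      set n := (rep v)⁻¹ * v with hn
      have hnN : n ∈ Subgroup.normalizer (H : Set G) := hrepn v
      have h3 : ∀ a ∈ Hs, ∑ b ∈ Hs, (χ : G → ℂ) (a * (v * b * v⁻¹)) =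
          (∑ b ∈ Hs, (χ : G → ℂ) b) - (χ : G → ℂ) 1 +
            (χ : G → ℂ) (a * (rep v * a⁻¹ * (rep v)⁻¹)) := by
        intro a ha
        have e : ∑ b ∈ Hs, (χ : G → ℂ) (a * (v * b * v⁻¹)) =
            ∑ b ∈ Hs, (χ : G → ℂ) (a * (rep v * b * (rep v)⁻¹)) := by
          refine Finset.sum_equiv (MulAut.conj n).toEquiv (fun b => ?_) fun b _ => ?_
          · simp only [MulEquiv.toEquiv_eq_coe, EquivLike.coe_coe, MulAut.conj_apply, hmem]
            exact Subgroup.mem_normalizer_iff.1 hnN b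
          · simp only [MulEquiv.toEquiv_eq_coe, EquivLike.coe_coe, MulAut.conj_apply, hn]
            congr 2
            group
        have e2 : ∑ b ∈ Hs, (χ : G → ℂ) (a * b) = ∑ b ∈ Hs, (χ : G → ℂ) b := by
          refine Finset.sum_equiv (Equiv.mulLeft a) (fun b => ?_) fun b _ => rfl
          rw [Equiv.coe_mulLeft, hmem, hmem]
          exact ⟨fun hb => H.mul_mem (hmem.1 ha) hb, fun hb => by
            simpa using H.mul_mem (H.inv_mem (hmem.1 ha)) hb⟩
        have hai : a⁻¹ ∈ Hs := hmem.2 (H.inv_mem (hmem.1 ha))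
        rw [e, ← e2, ← Finset.sum_erase_add _ _ hai,
          ← Finset.sum_erase_add _ (fun b => (χ : G → ℂ) (a * b)) hai, mul_inv_cancel,
          add_sub_cancel_right]
        congr 1
        refine Finset.sum_congr rfl fun b hb => ?_
        refine hval χ hχ v a (hmem.1 ha) b (hmem.1 (Finset.mem_of_mem_erase hb)) fun h => ?_
        exact (Finset.ne_of_mem_erase hb) (inv_eq_of_mul_eq_one_right h).symm
      rw [Finset.sum_congr rfl h3, Finset.sum_add_distrib, Finset.sum_const, hsumH χ,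
        ← Finset.sum_erase_add _ (fun a => (χ : G → ℂ) (a * (rep v * a⁻¹ * (rep v)⁻¹))) h1Hs,
        nsmul_eq_mul, hqdef, Complex.ofReal_natCast]
      simp only [mul_one, mul_inv_cancel, inv_one]
      ring
    rw [Finset.sum_comm_cycle, Finset.sum_congr rfl fun v _ => h2 v, Finset.sum_add_distrib,
      Finset.sum_add_distrib, Finset.sum_const, Finset.sum_const, Finset.card_univ,
      ← Nat.card_eq_fintype_card, nsmul_eq_mul, nsmul_eq_mul, hd1 χ] at h1
    change _ + (_ + Y χ) = _ at h1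
    have hdne : (d χ : ℂ) ≠ 0 := Complex.ofReal_ne_zero.2 (hdpos χ).ne'
    rw [eq_div_iff hdne] at h1
    have h4 := congrArg Complex.re h1
    simp only [← Complex.ofReal_natCast, ← Complex.ofReal_mul, ← Complex.ofReal_sub,
      ← Complex.ofReal_pow, Complex.add_re, Complex.mul_re, Complex.ofReal_re, Complex.ofReal_im,
      mul_zero, sub_zero] at h4
    linear_combination -h4
  -- orthogonality against the elements of `H`
  have hu : ∀ v : G, ∀ a ∈ H, a * (rep v * a⁻¹ * (rep v)⁻¹) ∈ coreT p H v := by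
    intro v a ha
    have h1 : a * rep v * a⁻¹ ∈ coreT p H v :=
      (Subgroup.mem_normalizer_iff.1 (le_normalizer_coreT v ha) _).1 (hrep v)
    have h := (coreT p H v).mul_mem h1 ((coreT p H v).inv_mem (hrep v))
    rwa [mul_assoc a (rep v), mul_assoc] at h
  set B := Finset.univ.filter (· ∈ principalBlock M G) with hBdef
  have hreg : ∀ g : G, ¬ p ∣ orderOf g → ∀ b ∈ Hs.erase 1,
      ∑ χ ∈ B, (χ : G → ℂ) g * conj ((χ : G → ℂ) b) = 0 := by
    intro g hg b hb
    obtain ⟨hbH, hb1⟩ := hne1.1 hb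
    have h := blockUnion_orthogonal_regular_singular hM
      (.of_isPBlock (isPBlock_principalBlock (M := M) (G := G))) hg (h := b) (hpdvd hbH hb1)
    rw [finsum_mem_eq_toFinset_sum] at h
    exact Eq.trans (Finset.sum_congr (by ext; simp [hBdef]) fun _ _ => rfl) h
  have hconjφ : ∀ χ : IrrCharacter G, ∑ b ∈ Hs.erase 1, conj ((χ : G → ℂ) b) = (φ χ : ℂ) := by
    intro χ
    rw [← map_sum, ← hreal χ, Complex.conj_ofReal]
  have horth : ∑ χ ∈ B, φ χ * (Y χ).re = 0 := by
    have h0 : ∑ χ ∈ B, Y χ * ∑ b ∈ Hs.erase 1, conj ((χ : G → ℂ) b) = 0 := by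
      simp only [hYdef, Finset.mul_sum, Finset.sum_mul]
      rw [Finset.sum_comm]
      refine Finset.sum_eq_zero fun b hb => ?_
      rw [Finset.sum_comm]
      refine Finset.sum_eq_zero fun v _ => ?_
      rw [Finset.sum_comm]
      exact Finset.sum_eq_zero fun a ha =>
        hreg _ (orderOf_mem_coreT (hu v a (hne1.1 ha).1)) b hb
    simp only [hconjφ] at h0
    have h2 := congrArg Complex.re h0
    simp only [Complex.re_sum, Complex.mul_re, Complex.ofReal_re, Complex.ofReal_im, mul_zero,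
      sub_zero, Complex.zero_re] at h2
    rw [← h2]
    exact Finset.sum_congr rfl fun χ _ => mul_comm _ _
  have hdeg : ∑ χ ∈ B, d χ * φ χ = 0 := by
    have h0 : ∑ χ ∈ B, (χ : G → ℂ) 1 * ∑ b ∈ Hs.erase 1, conj ((χ : G → ℂ) b) = 0 := by
      simp only [Finset.mul_sum]
      rw [Finset.sum_comm]
      exact Finset.sum_eq_zero fun b hb => hreg 1 (by rw [orderOf_one]; exact hpp.not_dvd_one) b hb
    simp only [hconjφ] at h0
    have h2 := congrArg Complex.re h0
    simp only [Complex.re_sum, Complex.mul_re, Complex.ofReal_re, Complex.ofReal_im, mul_zero,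
      sub_zero, Complex.zero_re] at h2
    exact h2
  -- the order of `H`
  obtain ⟨e, he⟩ := hHp.exists_card_eq
  have hHs_card : Hs.card = Nat.card H := by
    rw [Nat.card_eq_fintype_card, Fintype.card_subtype]
  have he0 : e ≠ 0 := fun h => by
    rw [h, pow_zero] at he
    exact hH1 (Subgroup.card_eq_one.1 he)
  -- the constant
  set c : ℝ := if Hs.card = 3 then 1 / 2 else 2 with hcdef
  have hbound : ∀ χ ∈ principalBlock M G, χ ≠ oneChar G → φ χ ≤ c * d χ := by
    intro χ hχ hne
    have hle : ∀ a, ((χ : G → ℂ) a).re ≤ d χ := fun a => re_le_one χ a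
    have hd0 := hdpos χ
    have hYge : (Nat.card G : ℝ) * (if Hs.card = 3 then 3 / 2 * φ χ - d χ
        else 3 * φ χ - 2 * (q - 1) * d χ) ≤ (Y χ).re := by
      simp only [hYdef, Complex.re_sum]
      rw [← nsmul_eq_mul, Nat.card_eq_fintype_card, ← Finset.card_univ, ← Finset.sum_const]
      refine Finset.sum_le_sum fun v _ => ?_
      split_ifs with h3
      · have hk2 : ((Hs.erase 1).card : ℝ) = 2 := by rw [hk1, hqdef, h3]; norm_num
        have hterm : ∀ a ∈ Hs.erase 1, 3 * ((χ : G → ℂ) a).re - d χ ≤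
            2 * ((χ : G → ℂ) (a * (rep v * a⁻¹ * (rep v)⁻¹))).re := by
          intro a ha
          obtain ⟨haH, ha1⟩ := hne1.1 ha
          have hcard3 : Nat.card H = 3 := by rw [← hHs_card, h3]
          have ha3 : a ^ 3 = 1 := by
            have := congrArg Subtype.val (pow_card_eq_one' (x := (⟨a, haH⟩ : H)))
            rwa [SubgroupClass.coe_pow, hcard3, OneMemClass.coe_one] at this
          have hgen : H ≤ Subgroup.zpowers a := by
            haveI : Fact (Nat.Prime 3) := ⟨Nat.prime_three⟩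
            intro x hx
            have := mem_zpowers_of_prime_card hcard3 (g := (⟨a, haH⟩ : H)) (g' := ⟨x, hx⟩)
              (fun h => ha1 (congrArg Subtype.val h))
            obtain ⟨i, hi⟩ := Subgroup.mem_zpowers_iff.1 this
            exact Subgroup.mem_zpowers_iff.2 ⟨i, by
              simpa using congrArg Subtype.val hi⟩
          have h := re_fpf_three χ (coreT p H v) ha3
            (fun y hy => (Subgroup.mem_normalizer_iff.1 (le_normalizer_coreT v haH) y).1 hy)
            (fun y hy hfix => eq_one_of_normalizing hHp hHab hcl hy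
              (Coprime.centralizer_le_normalizer_self H (Subgroup.mem_centralizer_iff.2 fun x hx => by
                obtain ⟨i, rfl⟩ := Subgroup.mem_zpowers_iff.1 (hgen hx)
                exact ((show Commute a y from mul_inv_eq_iff_eq_mul.1 hfix).zpow_left i).eq)))
            (hu v a haH)
          linarith
        have hs := Finset.sum_le_sum hterm
        rw [Finset.sum_sub_distrib, ← Finset.mul_sum, ← Finset.mul_sum, Finset.sum_const,
          nsmul_eq_mul, hk2] at hs
        simp only [hφdef]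
        linarith
      · have hterm : ∀ a ∈ Hs.erase 1, 4 * ((χ : G → ℂ) a).re - 2 * d χ - ((χ : G → ℂ) (a * a)).re ≤
            ((χ : G → ℂ) (a * (rep v * a⁻¹ * (rep v)⁻¹))).re := by
          intro a ha
          obtain ⟨haH, ha1⟩ := hne1.1 ha
          have h := re_pair χ a⁻¹ (rep v * a⁻¹ * (rep v)⁻¹)
          rw [Char.isClassFunction_irr χ a⁻¹ (rep v), re_inv, inv_inv,
            hval χ hχ v a⁻¹ (H.inv_mem haH) a⁻¹ (H.inv_mem haH) (fun h2 => ?_),
            ← mul_inv_rev, re_inv] at h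
          · linarith
          · have h2' : a ^ 2 = 1 := by
              rw [← mul_inv_rev, inv_eq_one] at h2
              rw [pow_two]; exact h2
            have h5 := hpdvd haH ha1
            have h6 := (h5.trans (orderOf_dvd_of_pow_eq_one h2'))
            have := Nat.le_of_dvd two_pos h6
            omega
        have hsq : ∑ a ∈ Hs.erase 1, ((χ : G → ℂ) (a * a)).re = φ χ := by
          rw [hφdef]
          refine Finset.sum_nbij (fun a => a * a) (fun a ha => ?_) (fun a ha b hb h => ?_) ?_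
            fun a _ => rfl
          · obtain ⟨haH, ha1⟩ := hne1.1 ha
            refine hne1.2 ⟨H.mul_mem haH haH, fun h => ?_⟩
            have := Nat.le_of_dvd two_pos
              ((hpdvd haH ha1).trans (orderOf_dvd_of_pow_eq_one (pow_two a ▸ h)))
            omega
          · rw [Finset.mem_coe, hne1] at ha hb
            have h' : (a * b⁻¹) ^ 2 = 1 := by
              rw [(show Commute a b⁻¹ from hcomm ha.1 (H.inv_mem hb.1)).mul_pow, inv_pow, pow_two,
                pow_two, show a * a = b * b from h, mul_inv_cancel]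
            by_contra hab
            have h1 : a * b⁻¹ ≠ 1 := fun e => hab (mul_inv_eq_one.1 e)
            have := Nat.le_of_dvd two_pos ((hpdvd (H.mul_mem ha.1 (H.inv_mem hb.1)) h1).trans
              (orderOf_dvd_of_pow_eq_one h'))
            omega
          · intro b hb
            rw [Finset.mem_coe, hne1] at hb
            obtain ⟨k, hk⟩ := hpow hb.1
            obtain ⟨i, hi⟩ : Odd (orderOf b) := hk ▸ (hpp.odd_of_ne_two hp).pow
            refine ⟨b ^ (i + 1), ?_, ?_⟩
            · rw [Finset.mem_coe, hne1]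
              refine ⟨H.pow_mem hb.1 _, fun h => hb.2 ?_⟩
              calc b = b ^ ((i + 1) + (i + 1)) := by
                    rw [show (i + 1) + (i + 1) = orderOf b + 1 by omega, pow_succ, pow_orderOf_eq_one,
                      one_mul]
                _ = 1 := by rw [pow_add, h, one_mul]
            · show b ^ (i + 1) * b ^ (i + 1) = b
              rw [← pow_add, show (i + 1) + (i + 1) = orderOf b + 1 by omega, pow_succ,
                pow_orderOf_eq_one, one_mul]
        have hs := Finset.sum_le_sum hterm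
        rw [Finset.sum_sub_distrib, Finset.sum_sub_distrib, ← Finset.mul_sum, Finset.sum_const,
          nsmul_eq_mul, hk1, hsq] at hs
        simp only [hφdef] at hs ⊢
        linarith
    have h := hmain χ hχ
    have hprod : 0 ≤ (φ χ - c * d χ) * (φ χ - (q - 1) * d χ) := by
      refine nonneg_of_mul_nonneg_right (a := (Nat.card G : ℝ)) ?_ hG0
      have hYd := mul_le_mul_of_nonneg_left hYge hd0.le
      by_cases h3 : Hs.card = 3
      · rw [if_pos h3] at hYd
        have hc3 : c = 1 / 2 := by rw [hcdef, if_pos h3]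
        have hq3 : q = 3 := by rw [hqdef, h3]; norm_num
        rw [hq3] at h ⊢
        rw [hc3]
        nlinarith
      · rw [if_neg h3] at hYd
        have hc3 : c = 2 := by rw [hcdef, if_neg h3]
        rw [hc3]
        nlinarith
    by_contra hc'
    have hge : (q - 1) * d χ ≤ φ χ := by
      by_contra hlt
      have := mul_neg_of_pos_of_neg (sub_pos.2 (not_le.1 hc')) (sub_neg.2 (not_le.1 hlt))
      linarith
    -- all of `H` is in the kernel
    have hsum : ∑ b ∈ Hs.erase 1, (d χ - ((χ : G → ℂ) b).re) ≤ 0 := by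
      rw [Finset.sum_sub_distrib, Finset.sum_const, nsmul_eq_mul, hk1]
      exact sub_nonpos.2 hge
    obtain ⟨N, hN, hNiff⟩ := CfsgLib.Invol.exists_charKernel χ
    have hHN : H ≤ N := by
      intro a ha
      by_cases ha1 : a = 1
      · rw [ha1]; exact N.one_mem
      have h6 := (Finset.sum_eq_zero_iff_of_nonneg (fun b _ => sub_nonneg.2 (hle b))).1
        (le_antisymm hsum (Finset.sum_nonneg fun b _ => sub_nonneg.2 (hle b))) a
        (hne1.2 ⟨ha, ha1⟩)
      refine (hNiff a).2 ?_
      obtain ⟨ψ, n, ρ, hρ, rfl⟩ := χ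
      have hd' : d ⟨ρ.character, n, ρ, hρ, rfl⟩ = (Module.finrank ℂ (Fin n → ℂ) : ℝ) := by
        simp [hddef, Representation.char_one]
      have hre : (ρ.character a).re = (Module.finrank ℂ (Fin n → ℂ) : ℝ) := by
        rw [← hd']; exact (sub_eq_zero.1 h6).symm
      have hn' := Char.norm_char_le ρ a
      have hnsq : Complex.normSq (ρ.character a) ≤ (Module.finrank ℂ (Fin n → ℂ) : ℝ) ^ 2 := by
        rw [Complex.normSq_eq_norm_sq]
        exact pow_le_pow_left₀ (norm_nonneg _) hn' 2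
      rw [Complex.normSq_apply, hre] at hnsq
      have him : (ρ.character a).im = 0 := mul_self_eq_zero.1 (le_antisymm (by nlinarith)
        (mul_self_nonneg _))
      show ρ.character a = ρ.character 1
      rw [Representation.char_one]
      exact Complex.ext (by rw [hre]; simp) (by rw [him]; simp)
    refine hne (CfsgLib.Invol.eq_oneChar_of_constant χ fun g => (hNiff g).1 ?_)
    rw [hnorm N hN hHN]
    exact Subgroup.mem_top g
  -- values at two elements of `H`
  set S2 := ∑ χ ∈ B, φ χ ^ 2 with hS2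
  set D := Hs.erase 1 ×ˢ Hs.erase 1 with hD
  set W : G × G → ℝ := fun x => (∑ χ ∈ B, (χ : G → ℂ) x.1 * conj ((χ : G → ℂ) x.2)).re with hW
  have hS2W : S2 = ∑ x ∈ D, W x := by
    have h0 : ∀ χ : IrrCharacter G, ((φ χ ^ 2 : ℝ) : ℂ) =
        ∑ a ∈ Hs.erase 1, ∑ b ∈ Hs.erase 1, (χ : G → ℂ) a * conj ((χ : G → ℂ) b) := by
      intro χ
      rw [← Finset.sum_mul_sum, ← hreal χ, hconjφ χ]
      push_cast; ring
    rw [Finset.sum_product]
    simp only [hW]
    rw [← Complex.ofReal_re S2, hS2, Complex.ofReal_sum, Finset.sum_congr rfl fun χ _ => h0 χ,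
      Finset.sum_comm]
    simp only [Complex.re_sum]
    refine Finset.sum_congr rfl fun a _ => ?_
    rw [Finset.sum_comm]
  have hWzero : ∀ x ∈ D, ¬ IsConj x.1 x.2 → W x = 0 := by
    intro x hx hc'
    obtain ⟨h1, h2⟩ := Finset.mem_product.1 hx
    have hpart : ∀ {a : G}, a ∈ H → IsPPart p a a := fun {a} ha =>
      ⟨1, mul_one a, Commute.one_right a, hpow ha, by rw [orderOf_one]; exact hpp.not_dvd_one⟩
    have h := blockUnion_orthogonal_conj hM
      (.of_isPBlock (isPBlock_principalBlock (M := M) (G := G))) (hpart (hne1.1 h1).1)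
      (hpart (hne1.1 h2).1) hc'
    rw [finsum_mem_eq_toFinset_sum] at h
    show Complex.re _ = 0
    rw [Eq.trans (Finset.sum_congr (by ext; simp [hBdef]) fun _ _ => rfl) h, Complex.zero_re]
  have hWge : ∀ {P : Subgroup G}, IsPGroup p P → ∀ x ∈ D, IsConj x.1 x.2 →
      (∀ y ∈ P, y * x.1 = x.1 * y) → (Nat.card P : ℝ) ≤ W x := by
    intro P hP x hx hc' hcomm'
    obtain ⟨h1, -⟩ := Finset.mem_product.1 hx
    have hbb : ∀ χ : IrrCharacter G, (χ : G → ℂ) x.2 = (χ : G → ℂ) x.1 := fun χ =>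
      Char.classFun_isConj (Char.isClassFunction_irr χ) hc'.symm
    simp only [hW, hbb]
    exact section_norm_ge hM (hpow (hne1.1 h1).1) hP hcomm'
  have hWgeH : ∀ x ∈ D, IsConj x.1 x.2 → (Nat.card H : ℝ) ≤ W x := fun x hx hc' =>
    hWge hHp x hx hc' fun y hy => hcomm hy (hne1.1 (Finset.mem_product.1 hx).1).1
  have hWnn : ∀ x ∈ D, 0 ≤ W x := by
    intro x hx
    by_cases hc' : IsConj x.1 x.2
    · exact le_trans (Nat.cast_nonneg _) (hWgeH x hx hc')
    · exact (hWzero x hx hc').ge
  have hqH : (Nat.card H : ℝ) = q := by rw [hqdef, hHs_card]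
  have hS2ge : q * ((q - 1) + ((p : ℝ) - 1)) ≤ S2 ∨ (p : ℝ) * q * (q - 1) ≤ S2 := by
    by_cases hfus : ∃ x ∈ H, ∃ y ∈ H, x ≠ y ∧ IsConj x y
    · obtain ⟨x, hx, y, hy, hne, hconj⟩ := hfus
      left
      have hx1 : x ≠ 1 := fun h => hne (h.trans (isConj_one_right.1 (h ▸ hconj)).symm)
      obtain ⟨k, hk⟩ := hpow hx
      have hpx : p ∣ orderOf x := hpdvd hx hx1
      have hy_ord : orderOf y = orderOf x := by
        obtain ⟨g, hg⟩ := isConj_iff.1 hconj
        rw [← hg, ← MulAut.conj_apply, MulEquiv.orderOf_eq]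
      have hipow : ∀ i ∈ Finset.Ico 1 p, x ^ i ≠ 1 ∧ y ^ i ≠ 1 ∧ x ^ i ≠ y ^ i := by
        intro i hi
        rw [Finset.mem_Ico] at hi
        have hip : ¬ p ∣ i := fun h => by
          have := Nat.le_of_dvd (by omega) h
          omega
        refine ⟨fun h => hip (hpx.trans (orderOf_dvd_of_pow_eq_one h)),
          fun h => hip ((hy_ord ▸ hpx).trans (orderOf_dvd_of_pow_eq_one h)), fun h => hne ?_⟩
        have hcop : i.Coprime (orderOf x) := by
          rw [hk]; exact ((hpp.coprime_iff_not_dvd.2 hip).symm).pow_right k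
        rw [← pow_one x, ← pow_one y]
        have key : ∀ l : ℕ, x ^ (i * l) = y ^ (i * l) := fun l => by rw [pow_mul, pow_mul, h]
        have h1x : 1 < orderOf x := by
          rw [hk]; exact Nat.one_lt_pow (fun h0 => by
            rw [h0, pow_zero] at hk; exact hx1 (orderOf_eq_one_iff.1 hk)) hpp.one_lt
        obtain ⟨l, hl⟩ : ∃ l : ℕ, i * l ≡ 1 [MOD orderOf x] := by
          obtain ⟨l, -, hl⟩ := Nat.exists_mul_mod_eq_one_of_coprime hcop h1x
          exact ⟨l, hl.trans (Nat.mod_eq_of_lt h1x).symm⟩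
        rw [← pow_eq_pow_iff_modEq.2 hl, key l]
        exact pow_eq_pow_iff_modEq.2 (hy_ord ▸ hl)
      set E : Finset (G × G) := (Hs.erase 1).image (fun a => (a, a)) ∪
        (Finset.Ico 1 p).image (fun i => (x ^ i, y ^ i)) with hE
      have hED : E ⊆ D := by
        intro z hz
        simp only [hE, Finset.mem_union, Finset.mem_image] at hz
        rcases hz with ⟨a, ha, rfl⟩ | ⟨i, hi, rfl⟩
        · exact Finset.mk_mem_product ha ha
        · exact Finset.mk_mem_product (hne1.2 ⟨H.pow_mem hx i, (hipow i hi).1⟩)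
            (hne1.2 ⟨H.pow_mem hy i, (hipow i hi).2.1⟩)
      have hEc : (E.card : ℝ) = (q - 1) + ((p : ℝ) - 1) := by
        rw [hE, Finset.card_union_of_disjoint, Finset.card_image_of_injective _ fun a b h =>
          congrArg Prod.fst h, Finset.card_image_of_injOn ?_, Nat.cast_add, hk1, Nat.card_Ico,
          Nat.cast_sub hpp.one_le, Nat.cast_one]
        · intro i hi j hj h
          rw [Finset.mem_coe, Finset.mem_Ico] at hi hj
          have h' : x ^ i = x ^ j := congrArg Prod.fst h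
          have hpo : p ≤ orderOf x := Nat.le_of_dvd (orderOf_pos x) hpx
          exact pow_injOn_Iio_orderOf (by simp; omega) (by simp; omega) h'
        · rw [Finset.disjoint_left]
          intro z hz hz'
          obtain ⟨a, -, rfl⟩ := Finset.mem_image.1 hz
          obtain ⟨i, hi, h⟩ := Finset.mem_image.1 hz'
          exact (hipow i hi).2.2 ((congrArg Prod.fst h).trans (congrArg Prod.snd h).symm)
      rw [hS2W]
      refine le_trans ?_ (Finset.sum_le_sum_of_subset_of_nonneg hED fun z hz _ => hWnn z hz)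
      rw [← hEc, ← hqH, mul_comm, ← nsmul_eq_mul, ← Finset.sum_const]
      refine Finset.sum_le_sum fun z hz => hWgeH z (hED hz) ?_
      simp only [hE, Finset.mem_union, Finset.mem_image] at hz
      rcases hz with ⟨a, -, rfl⟩ | ⟨i, -, rfl⟩
      · exact IsConj.refl _
      · obtain ⟨g, hg⟩ := isConj_iff.1 hconj
        exact isConj_iff.2 ⟨g, by rw [← conj_pow, hg]⟩
    · push Not at hfus
      right
      -- the normalizer centralizes `H`
      have hNC : Subgroup.normalizer (H : Set G) ≤ Subgroup.centralizer (H : Set G) := by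
        intro n hn
        rw [Coprime.mem_centralizer_iff_conj_eq]
        intro a ha
        have h1 : n * a * n⁻¹ ∈ H := (Subgroup.mem_normalizer_iff.1 hn a).1 ha
        have h2 : a = n * a * n⁻¹ := by_contra fun h => hfus a ha _ h1 h (isConj_iff.2 ⟨n, rfl⟩)
        rw [mul_inv_eq_iff_eq_mul]
        exact mul_inv_eq_iff_eq_mul.1 h2.symm |>.symm
      obtain ⟨P, hP⟩ := hHp.exists_le_sylow
      have hPN : (P : Subgroup G) ≤ Subgroup.normalizer (H : Set G) :=
        ((Cfsg.Agent.S3021.result H hHp hcl).2 P hP).1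
      have hlt : H < (P : Subgroup G) := by
        refine lt_of_le_of_ne hP fun heq => ?_
        have hPc : Subgroup.normalizer ((P : Subgroup G) : Set G) ≤
            Subgroup.centralizer ((P : Subgroup G) : Set G) := by rwa [← heq]
        obtain ⟨Q, K, hK, hQK⟩ := Fusion.hasNormalPComplement_of_normalizer_le_centralizer P hPc
        have hKbot : K = ⊥ := by
          rw [← le_bot_iff, ← hO]
          haveI := hK
          refine Coprime.le_pPrimeCore_of_not_dvd hpp fun h => ?_
          rw [← hQK.index_eq_card] at h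
          exact Q.not_dvd_index h
        have hQtop : (Q : Subgroup G) = ⊤ := by
          rw [hKbot] at hQK
          exact Subgroup.isComplement'_bot_left.1 hQK
        have hHtop : H = ⊤ := Subgroup.eq_top_of_card_eq H (by
          rw [heq, P.card_eq_multiplicity, ← Q.card_eq_multiplicity, hQtop, Subgroup.card_top])
        obtain ⟨a, ha, ha1⟩ : ∃ a ∈ H, a ≠ 1 := by
          by_contra hcon
          push Not at hcon
          exact hH1 ((Subgroup.eq_bot_iff_forall H).2 hcon)
        exact ha1 (hZ a ha (Subgroup.mem_center_iff.2 fun g =>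
          hcomm (hHtop ▸ Subgroup.mem_top g) ha))
      have hPcard : p * Nat.card H ≤ Nat.card (P : Subgroup G) := by
        obtain ⟨k, hk⟩ := P.2.exists_card_eq
        have hlt' : Nat.card H < Nat.card (P : Subgroup G) :=
          lt_of_le_of_ne (Nat.le_of_dvd Nat.card_pos (Subgroup.card_dvd_of_le hP)) fun h =>
            hlt.ne (Subgroup.eq_of_le_of_card_ge hP h.ge)
        rw [hk, he] at hlt' ⊢
        rw [← pow_succ']
        exact Nat.pow_le_pow_right hpp.pos
          ((Nat.pow_lt_pow_iff_right hpp.one_lt).1 hlt')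
      rw [hS2W]
      have hdiag : (Hs.erase 1).image (fun a => (a, a)) ⊆ D := by
        intro z hz
        obtain ⟨a, ha, rfl⟩ := Finset.mem_image.1 hz
        exact Finset.mk_mem_product ha ha
      refine le_trans ?_ (Finset.sum_le_sum_of_subset_of_nonneg hdiag fun z hz _ => hWnn z hz)
      rw [Finset.sum_image (fun a _ b _ h => congrArg Prod.fst h), ← hk1, ← hqH, mul_comm,
        ← nsmul_eq_mul, ← Finset.sum_const, ← Nat.cast_mul]
      refine Finset.sum_le_sum fun a ha => le_trans (Nat.cast_le.2 hPcard) ?_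
      refine hWge P.2 (a, a) (Finset.mk_mem_product ha ha) (IsConj.refl _) fun y hy => ?_
      exact (Subgroup.mem_centralizer_iff.1 (hNC (hPN hy)) a (hne1.1 ha).1).symm
  -- the third moment
  have hthird : ∑ χ ∈ B, φ χ ^ 3 / d χ = (q - 2) * S2 := by
    have e : ∀ χ ∈ B, φ χ ^ 3 / d χ = (q - 2) * φ χ ^ 2 + φ χ * (Y χ).re / (Nat.card G : ℝ) := by
      intro χ hχ
      have hd0 := (hdpos χ).ne'
      field_simp
      linear_combination φ χ * hmain χ (Finset.mem_filter.1 hχ).2
    rw [Finset.sum_congr rfl e, Finset.sum_add_distrib, ← Finset.mul_sum, ← Finset.sum_div, horth,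
      zero_div, add_zero]
  have h1B : oneChar G ∈ B := by simp [hBdef, one_mem_principalBlock]
  have hd_one : d (oneChar G) = 1 := by simp [hddef, oneChar]
  have hφ_one : φ (oneChar G) = q - 1 := by
    rw [hφdef, ← hk1]
    simp [oneChar]
  have hcpos : 0 < c := by rw [hcdef]; split_ifs <;> norm_num
  have hstrict : ∑ χ ∈ B.erase (oneChar G), (φ χ ^ 3 / d χ - c * φ χ ^ 2) < 0 := by
    have hle : ∀ χ ∈ B.erase (oneChar G), φ χ ^ 3 / d χ - c * φ χ ^ 2 ≤ 0 := by
      intro χ hχ
      obtain ⟨hne, hχB⟩ := Finset.mem_erase.1 hχ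
      have h := hbound χ (Finset.mem_filter.1 hχB).2 hne
      rw [sub_nonpos, pow_succ, mul_div_assoc, mul_comm c]
      exact mul_le_mul_of_nonneg_left ((div_le_iff₀ (hdpos χ)).2 h) (sq_nonneg _)
    obtain ⟨χ, hχ, hneg⟩ : ∃ χ ∈ B.erase (oneChar G), φ χ < 0 := by
      by_contra hcon
      push Not at hcon
      have h1 := Finset.sum_erase_add B (fun χ => d χ * φ χ) h1B
      rw [hdeg, hd_one, hφ_one, one_mul] at h1
      have h2 := Finset.sum_nonneg fun χ hχ => mul_nonneg (hdpos χ).le (hcon χ hχ)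
      have h3 : (2 : ℝ) ≤ (Hs.card : ℝ) := by
        rw [hHs_card, he]
        exact_mod_cast le_trans hpp.two_le (Nat.le_self_pow he0 p)
      rw [hqdef] at h1
      linarith
    refine lt_of_lt_of_le (Finset.sum_lt_sum hle ⟨χ, hχ, ?_⟩) Finset.sum_const_zero.le
    rw [sub_neg]
    have h1 : φ χ ^ 3 / d χ < 0 :=
      div_neg_of_neg_of_pos (Odd.pow_neg (by decide) hneg) (hdpos χ)
    nlinarith [sq_nonneg (φ χ)]
  have hT : (q - 2 - c) * S2 < (q - 1) ^ 2 * (q - 1 - c) := by
    have h1 := Finset.sum_erase_add B (fun χ => φ χ ^ 3 / d χ - c * φ χ ^ 2) h1B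
    rw [Finset.sum_sub_distrib (s := B), hthird, ← Finset.mul_sum, hd_one, hφ_one, div_one] at h1
    nlinarith
  have hq_ge : (p : ℝ) ≤ q := by
    rw [hqdef, hHs_card, he]
    exact_mod_cast Nat.le_self_pow he0 p
  have hp3' : (3 : ℝ) ≤ (p : ℝ) := by exact_mod_cast hp3
  by_cases h3 : Hs.card = 3
  · have hq3 : q = 3 := by rw [hqdef, h3]; norm_num
    have hc3 : c = 1 / 2 := by rw [hcdef, if_pos h3]
    have hp_eq : (p : ℝ) = 3 := le_antisymm (hq3 ▸ hq_ge) hp3'
    rw [hq3, hc3] at hT
    rw [hq3, hp_eq] at hS2ge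
    rcases hS2ge with h | h <;> nlinarith
  · have hc2 : c = 2 := by rw [hcdef, if_neg h3]
    rw [hc2] at hT
    have hq5 : (5 : ℝ) ≤ q := by
      have hn : 5 ≤ Hs.card := by
        rw [hHs_card, he] at h3 ⊢
        rcases Nat.lt_or_ge e 2 with h | h
        · have e1 : e = 1 := by omega
          rw [e1, pow_one] at h3 ⊢
          by_contra h5
          have h4 : p = 4 := by omega
          rw [h4] at hpp
          norm_num at hpp
        · calc 5 ≤ 3 ^ 2 := by norm_num
            _ ≤ p ^ 2 := Nat.pow_le_pow_left hp3 2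
            _ ≤ p ^ e := Nat.pow_le_pow_right hpp.pos h
      rw [hqdef]; exact_mod_cast hn
    rcases hS2ge with h | h
    · have h' := mul_le_mul_of_nonneg_left h (show (0 : ℝ) ≤ q - 4 by linarith)
      by_cases hq : q = 5
      · have hp5 : (p : ℝ) = 5 := by
          have hn : p ^ e = 5 := by
            rw [← he, ← hHs_card]
            exact_mod_cast (hqdef ▸ hq : (Hs.card : ℝ) = 5)
          have hd5 : p ∣ 5 := hn ▸ dvd_pow_self p he0
          rw [(Nat.prime_dvd_prime_iff_eq hpp (by norm_num)).1 hd5]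
          norm_num
        rw [hq, hp5] at h'
        rw [hq] at hT
        nlinarith
      · have hq7 : (7 : ℝ) ≤ q := by
          have hn : 7 ≤ Hs.card := by
            have h5 : 5 ≤ Hs.card := by exact_mod_cast (hqdef ▸ hq5)
            have hne5 : Hs.card ≠ 5 := fun h5' => hq (by rw [hqdef, h5']; norm_num)
            have hne6 : Hs.card ≠ 6 := fun h6 => by
              rw [hHs_card, he] at h6
              have hd6 : 2 ∣ p ^ e := by rw [h6]; norm_num
              exact hp ((Nat.prime_dvd_prime_iff_eq Nat.prime_two hpp).1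
                (Nat.prime_two.dvd_of_dvd_pow hd6)).symm
            omega
          rw [hqdef]; exact_mod_cast hn
        nlinarith [mul_nonneg (show (0 : ℝ) ≤ q * (q - 4) by nlinarith)
          (show (0 : ℝ) ≤ (p : ℝ) - 3 by linarith)]
    · have h' := mul_le_mul_of_nonneg_left h (show (0 : ℝ) ≤ q - 4 by linarith)
      nlinarith [mul_nonneg (mul_nonneg (show (0 : ℝ) ≤ q * (q - 4) by nlinarith)
        (show (0 : ℝ) ≤ q - 1 by linarith)) (show (0 : ℝ) ≤ (p : ℝ) - 3 by linarith)]

/-- **An extremely closed abelian `p`-subgroup, `p` odd, is normal modulo the `p'`-core.** -/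
theorem concl_odd {p : ℕ} [Fact p.Prime] (hp : p ≠ 2) : ∀ (n : ℕ) {G : Type u} [Group G] [Finite G],
    Nat.card G < n → ∀ {H : Subgroup G}, IsPGroup p H → IsMulCommutative H →
      Cfsg.IsExtremelyClosed H → Concl p H := by
  intro n
  induction n with
  | zero => intro G _ _ h; exact absurd h (Nat.not_lt_zero _)
  | succ n ih =>
    intro G _ _ hn H hHp hHab hcl
    have hpp : p.Prime := Fact.out
    by_cases hO : Cfsg.pPrimeCore p G = ⊥
    swap
    · set K := Cfsg.pPrimeCore p G with hK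
      haveI : K.Characteristic := Coprime.pPrimeCore_characteristic p
      have hlt : Nat.card (G ⧸ K) < n := by
        refine lt_of_lt_of_le ?_ (Nat.lt_succ_iff.1 hn)
        rw [K.card_eq_card_quotient_mul_card_subgroup]
        exact lt_mul_of_one_lt_right Nat.card_pos (Subgroup.one_lt_card_iff_ne_bot _ |>.2 hO)
      obtain ⟨hp', hab'⟩ := map_facts hHp hHab (QuotientGroup.mk' K)
      have hnd : ¬ p ∣ Nat.card K := Coprime.pPrimeCore_not_dvd hpp
      have h := ih hlt hp' hab' (map_mk_coprime hHp hHab hcl K hnd)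
      rw [Concl, Coprime.pPrimeCore_quotient_eq_bot hpp, sup_bot_eq] at h
      have h' := h.ge.trans (Fusion.normalizer_map_le K hnd hHp)
      show Subgroup.normalizer (H : Set G) ⊔ K = ⊤
      have h2 := Subgroup.comap_mono (f := QuotientGroup.mk' K) h'
      rw [Subgroup.comap_top, Subgroup.comap_map_eq, QuotientGroup.ker_mk', top_le_iff] at h2
      exact h2
    suffices hnormal : H.Normal by
      show Subgroup.normalizer (H : Set G) ⊔ _ = ⊤
      rw [Subgroup.normalizer_eq_top_iff.2 hnormal, top_sup_eq]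
    have IH : ∀ M : Subgroup G, H ≤ M → M ≠ ⊤ → Concl p (H.subgroupOf M) := fun M hHM hM =>
      ih (lt_of_lt_of_le (lt_of_le_of_ne (Nat.le_of_dvd Nat.card_pos (Subgroup.card_subgroup_dvd_card M))
          fun h => hM (Subgroup.eq_top_of_card_eq M h)) (Nat.lt_succ_iff.1 hn))
        (subgroupOf_facts hHp hHab hHM).1 (subgroupOf_facts hHp hHab hHM).2
        (ExtClosed.subgroupOf hHp hHab hcl hHM)
    by_cases hH1 : H = ⊥
    · rw [hH1]; infer_instance
    by_cases hZ : ∃ z ∈ H, z ∈ Subgroup.center G ∧ z ≠ 1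
    · obtain ⟨z, hzH, hzZ, hz1⟩ := hZ
      set Z := Subgroup.zpowers z with hZd
      have hZH : Z ≤ H := (Subgroup.zpowers_le).2 hzH
      have hZc : Z ≤ Subgroup.center G := (Subgroup.zpowers_le).2 hzZ
      haveI : Z.Normal := ⟨fun x hx g => by
        rw [Subgroup.mem_center_iff.1 (hZc hx) g, mul_inv_cancel_right]; exact hx⟩
      have hlt : Nat.card (G ⧸ Z) < n := by
        refine lt_of_lt_of_le ?_ (Nat.lt_succ_iff.1 hn)
        rw [Z.card_eq_card_quotient_mul_card_subgroup]
        exact lt_mul_of_one_lt_right Nat.card_pos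
          (Subgroup.one_lt_card_iff_ne_bot _ |>.2 (by rwa [hZd, Ne, Subgroup.zpowers_eq_bot]))
      obtain ⟨hp', hab'⟩ := map_facts hHp hHab (QuotientGroup.mk' Z)
      have h := ih hlt hp' hab' (map_mk_le hcl Z hZH)
      rw [Concl, pPrimeCore_quotient_central hO (hHp.to_le hZH) hZc, sup_bot_eq,
        Subgroup.normalizer_eq_top_iff] at h
      have := h.comap (QuotientGroup.mk' Z)
      rwa [Subgroup.comap_map_eq, QuotientGroup.ker_mk', sup_eq_left.2 hZH] at this
    push Not at hZ
    by_contra hnn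
    refine false_of_reduced_odd hp hHp hHab hcl hH1 hO hZ IH fun M hMn hHM =>
      by_contra fun hM => hnn ?_
    haveI := hMn
    have h := IH M hHM hM
    have hMc : Cfsg.pPrimeCore p M = ⊥ := by
      have h4 := Coprime.pPrimeCore_map_subtype_eq (G := G) hpp M
      rw [hO, bot_inf_eq, Subgroup.map_eq_bot_iff_of_injective _ M.subtype_injective] at h4
      exact h4
    rw [Concl, hMc, sup_bot_eq, Subgroup.normalizer_eq_top_iff,
      Subgroup.normal_subgroupOf_iff_le_normalizer hHM] at h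
    exact ⟨fun x hx g => (hcl g).le (Subgroup.mem_inf.2
      ⟨Subgroup.mem_sup_right ⟨x, hx, rfl⟩, h (hMn.conj_mem x (hHM hx) g)⟩)⟩

end CfsgLib.ExtClosed
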