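import Cfsg.Agent.Lib.Invol.MaxClassTwo

/-!
# Subgroups of a group with a cyclic subgroup of index two
-/

set_option autoImplicit false

namespace CfsgLib.Invol

open Subgroup

variable {S : Type*} [Group S] {N : ℕ} {r e : ℤ} {a b : S}

namespace CyclicFrame

/-- The subgroup generated by `a ^ d` and `a ^ i * b`, given by its elements. -/
def sub (F : CyclicFrame N r e a b) (d i : ℤ) (hdi : d ∣ (1 + r) * i + e) : Subgroup S where
  carrier := {x | ∃ l : ℤ, x = a ^ (d * l) ∨ x = a ^ (i + d * l) * b}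
  one_mem' := ⟨0, Or.inl (by simp)⟩
  mul_mem' := by
    obtain ⟨q, hq⟩ := hdi
    rintro _ _ ⟨l, rfl | rfl⟩ ⟨l', rfl | rfl⟩
    · exact ⟨l + l', Or.inl (by rw [← zpow_add]; ring_nf)⟩
    · exact ⟨l + l', Or.inr (by rw [rot_mul_ref]; ring_nf)⟩
    · exact ⟨l + r * l', Or.inr (by rw [F.ref_mul_rot]; ring_nf)⟩
    · refine ⟨l + r * l' + q, Or.inl ?_⟩
      rw [F.ref_mul_ref]
      congr 1
      linear_combination hq
  inv_mem' := by
    obtain ⟨q, hq⟩ := hdi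
    rintro _ ⟨l, rfl | rfl⟩
    · exact ⟨-l, Or.inl (by rw [← zpow_neg]; ring_nf)⟩
    · refine ⟨l - q - (1 + r) * l, Or.inr ?_⟩
      rw [inv_eq_iff_mul_eq_one, F.ref_mul_ref, F.zpow_eq_one_iff]
      have h2 := F.mul_sq_conj
      have h3 := F.mul_e
      rw [← ZMod.intCast_zmod_eq_zero_iff_dvd]
      have h1 : (((1 + r) * i + e : ℤ) : ZMod N) = ((d * q : ℤ) : ZMod N) := by rw [hq]
      push_cast at h1 ⊢
      linear_combination (-(d : ZMod N) * l) * h2 - h3 + (1 + (r : ZMod N)) * h1 - h1 +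
        (-(i : ZMod N)) * h2

theorem mem_sub (F : CyclicFrame N r e a b) {d i : ℤ} {hdi : d ∣ (1 + r) * i + e} {x : S} :
    x ∈ F.sub d i hdi ↔ ∃ l : ℤ, x = a ^ (d * l) ∨ x = a ^ (i + d * l) * b := Iff.rfl

theorem rot_mem_sub_iff (F : CyclicFrame N r e a b) {d i : ℤ} {hdi : d ∣ (1 + r) * i + e}
    (hd : d ∣ (N : ℤ)) {j : ℤ} : a ^ j ∈ F.sub d i hdi ↔ d ∣ j := by
  refine ⟨?_, fun ⟨l, hl⟩ => ⟨l, Or.inl (by rw [hl])⟩⟩
  rintro ⟨l, hl | hl⟩
  · rw [F.zpow_eq_iff, ZMod.intCast_eq_intCast_iff_dvd_sub] at hl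
    have h := hd.trans hl
    have := dvd_sub (Dvd.intro l rfl) h
    rwa [show d * l - (d * l - j) = j by ring] at this
  · exact absurd hl (F.zpow_ne_mul _ _)

theorem ref_mem_sub_iff (F : CyclicFrame N r e a b) {d i : ℤ} {hdi : d ∣ (1 + r) * i + e}
    (hd : d ∣ (N : ℤ)) {j : ℤ} : a ^ j * b ∈ F.sub d i hdi ↔ d ∣ j - i := by
  refine ⟨?_, fun ⟨l, hl⟩ => ⟨l, Or.inr (by rw [← hl]; ring_nf)⟩⟩
  rintro ⟨l, hl | hl⟩
  · exact absurd hl.symm (F.zpow_ne_mul _ _)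
  · rw [F.mul_b_eq_iff, ZMod.intCast_eq_intCast_iff_dvd_sub] at hl
    have h := hd.trans hl
    have := dvd_sub (Dvd.intro l rfl) h
    rwa [show d * l - (i + d * l - j) = j - i by ring] at this

theorem zpowers_mem_iff (F : CyclicFrame N r e a b) {i : ℤ} :
    ¬ a ^ i * b ∈ Subgroup.zpowers a := fun h => by
  obtain ⟨j, hj⟩ := Subgroup.mem_zpowers_iff.1 h
  exact F.zpow_ne_mul j i hj

theorem card_sub (F : CyclicFrame N r e a b) {d i : ℤ} {hdi : d ∣ (1 + r) * i + e} {t : ℕ}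
    (hdt : (N : ℤ) = d * t) : Nat.card (F.sub d i hdi) = 2 * t := by
  haveI := F.finite
  have hd : d ∣ (N : ℤ) := ⟨t, hdt⟩
  set U := F.sub d i hdi
  have hle : Subgroup.zpowers (a ^ d) ≤ U := Subgroup.zpowers_le.2 ((F.rot_mem_sub_iff hd).2 dvd_rfl)
  have hU : a ^ i * b ∈ U := (F.ref_mem_sub_iff hd).2 (by simp)
  have h2 : ((Subgroup.zpowers (a ^ d)).subgroupOf U).index = 2 := by
    rw [Subgroup.index_eq_two_iff_exists_notMem_and']
    refine ⟨⟨a ^ i * b, hU⟩, fun h => ?_, ?_⟩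
    · obtain ⟨j, hj⟩ := Subgroup.mem_zpowers_iff.1 (h : a ^ i * b ∈ Subgroup.zpowers (a ^ d))
      rw [← zpow_mul] at hj
      exact F.zpow_ne_mul _ _ hj
    · rintro ⟨x, l, rfl | rfl⟩
      · exact Or.inr (show a ^ (d * l) ∈ _ by rw [zpow_mul]; exact Subgroup.zpow_mem_zpowers _ _)
      · refine Or.inl (show a ^ i * b * (a ^ (i + d * l) * b) ∈ Subgroup.zpowers (a ^ d) from ?_)
        obtain ⟨q, hq⟩ := hdi
        rw [F.ref_mul_ref, show i + r * (i + d * l) + e = d * (q + r * l) by linear_combination hq,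
          zpow_mul]
        exact Subgroup.zpow_mem_zpowers _ _
  have h3 := ((Subgroup.zpowers (a ^ d)).subgroupOf U).card_mul_index
  rw [h2, Nat.card_congr (Subgroup.subgroupOfEquivOfLe hle).toEquiv, Nat.card_zpowers] at h3
  have ho : orderOf (a ^ d) = t := by
    have hd0 : d ≠ 0 := by
      rintro rfl
      have := F.pos
      simp at hdt
      omega
    have key : ∀ n : ℕ, (a ^ d) ^ n = 1 ↔ t ∣ n := by
      intro n
      rw [← zpow_natCast, ← zpow_mul, F.zpow_eq_one_iff, hdt, mul_dvd_mul_iff_left hd0,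
        Int.natCast_dvd_natCast]
    exact Nat.dvd_antisymm (orderOf_dvd_of_pow_eq_one ((key t).2 dvd_rfl))
      ((key _).1 (pow_orderOf_eq_one _))
  rw [← h3, ho, mul_comm]

end CyclicFrame

end CfsgLib.Invol
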