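import Mathlib

/-!
# `GL(4,2)` acts faithfully on eight letters by even permutations

The exterior square of the natural module is identified with the even subsets of eight letters
modulo complementation; a transvection then induces a product of four transpositions.
-/

set_option autoImplicit false
set_option linter.style.haveILetI false

namespace CfsgLib.Invol.A8

open Matrix

local notation "F₂" => ZMod 2
local notation "M₄" => Matrix (Fin 4) (Fin 4) (ZMod 2)

/-- A Plücker coordinate. -/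
def pl (u v : Fin 4 → F₂) (i j : Fin 4) : F₂ := u i * v j + u j * v i

/-- The set of letters attached to a pair of vectors, normalised to avoid the last letter. -/
def phi (u v : Fin 4 → F₂) : Fin 8 → F₂ :=
  ![pl u v 0 1 + pl u v 2 3 + pl u v 0 2 + pl u v 1 2,
    pl u v 0 1 + pl u v 2 3 + pl u v 1 3 + pl u v 1 2,
    pl u v 0 1 + pl u v 2 3 + pl u v 0 3,
    pl u v 0 1 + pl u v 0 2 + pl u v 1 3 + pl u v 0 3,
    pl u v 2 3 + pl u v 0 2 + pl u v 1 3 + pl u v 0 3,
    pl u v 0 2 + pl u v 1 3 + pl u v 1 2,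
    pl u v 0 3 + pl u v 1 2,
    0]

/-- The action on normalised sets. -/
def act (σ : Equiv.Perm (Fin 8)) (S : Fin 8 → F₂) : Fin 8 → F₂ :=
  fun x => S (σ⁻¹ x) + S (σ⁻¹ 7)

theorem act_mul (σ τ : Equiv.Perm (Fin 8)) (S : Fin 8 → F₂) : act (σ * τ) S = act σ (act τ S) := by
  funext x
  simp only [act, _root_.mul_inv_rev, Equiv.Perm.mul_apply]
  have h2 : (2 : F₂) = 0 := by decide
  linear_combination (-S (τ⁻¹ 7)) * h2

theorem act_one (u v : Fin 4 → F₂) : act 1 (phi u v) = phi u v := by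
  funext x
  simp [act, phi]

/-- The compatibility of a matrix with a permutation. -/
def Compat (A : M₄) (σ : Equiv.Perm (Fin 8)) : Prop :=
  ∀ u v, phi (A *ᵥ u) (A *ᵥ v) = act σ (phi u v)

theorem compat_one : Compat 1 1 := fun u v => by rw [one_mulVec, one_mulVec, act_one]

theorem compat_mul {A B : M₄} {σ τ : Equiv.Perm (Fin 8)} (h : Compat A σ) (h' : Compat B τ) :
    Compat (A * B) (σ * τ) := fun u v => by
  rw [← mulVec_mulVec, ← mulVec_mulVec, h, h', act_mul]

/-- The permutation of a transvection. -/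
def tv : Fin 4 → Fin 4 → Equiv.Perm (Fin 8) :=
  ![![1, Equiv.swap (0 : Fin 8) 5 * Equiv.swap (1 : Fin 8) 7 * Equiv.swap (2 : Fin 8) 6 * Equiv.swap (3 : Fin 8) 4, Equiv.swap (0 : Fin 8) 1 * Equiv.swap (2 : Fin 8) 3 * Equiv.swap (4 : Fin 8) 6 * Equiv.swap (5 : Fin 8) 7, Equiv.swap (0 : Fin 8) 3 * Equiv.swap (1 : Fin 8) 2 * Equiv.swap (4 : Fin 8) 5 * Equiv.swap (6 : Fin 8) 7],
    ![Equiv.swap (0 : Fin 8) 6 * Equiv.swap (1 : Fin 8) 5 * Equiv.swap (2 : Fin 8) 7 * Equiv.swap (3 : Fin 8) 4, 1, Equiv.swap (0 : Fin 8) 2 * Equiv.swap (1 : Fin 8) 3 * Equiv.swap (4 : Fin 8) 5 * Equiv.swap (6 : Fin 8) 7, Equiv.swap (0 : Fin 8) 1 * Equiv.swap (2 : Fin 8) 3 * Equiv.swap (4 : Fin 8) 7 * Equiv.swap (5 : Fin 8) 6],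
    ![Equiv.swap (0 : Fin 8) 1 * Equiv.swap (2 : Fin 8) 4 * Equiv.swap (3 : Fin 8) 7 * Equiv.swap (5 : Fin 8) 6, Equiv.swap (0 : Fin 8) 4 * Equiv.swap (1 : Fin 8) 2 * Equiv.swap (3 : Fin 8) 5 * Equiv.swap (6 : Fin 8) 7, 1, Equiv.swap (0 : Fin 8) 5 * Equiv.swap (1 : Fin 8) 6 * Equiv.swap (2 : Fin 8) 7 * Equiv.swap (3 : Fin 8) 4],
    ![Equiv.swap (0 : Fin 8) 2 * Equiv.swap (1 : Fin 8) 4 * Equiv.swap (3 : Fin 8) 5 * Equiv.swap (6 : Fin 8) 7, Equiv.swap (0 : Fin 8) 1 * Equiv.swap (2 : Fin 8) 4 * Equiv.swap (3 : Fin 8) 6 * Equiv.swap (5 : Fin 8) 7, Equiv.swap (0 : Fin 8) 7 * Equiv.swap (1 : Fin 8) 5 * Equiv.swap (2 : Fin 8) 6 * Equiv.swap (3 : Fin 8) 4, 1]]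

theorem sign_tv : ∀ i j : Fin 4, Equiv.Perm.sign (tv i j) = 1 := by
  intro i j
  fin_cases i <;> fin_cases j <;> simp [tv]

theorem compat_tv (i j : Fin 4) (hij : i ≠ j) : Compat (transvection i j (1 : F₂)) (tv i j) := by
  intro u v
  have h2 : (2 : F₂) = 0 := by decide
  fin_cases i <;> fin_cases j <;> first
    | exact absurd rfl hij
    | (funext x
       fin_cases x <;>
         simp [act, tv, phi, pl, transvection, Matrix.add_mulVec, Equiv.swap_apply_def, Matrix.single_mulVec,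
           Function.update_apply] <;>
         ring_nf <;> simp [h2])

/-- The features of the letters distinguished by the images of basis pairs. -/
def feat (x : Fin 8) : Fin 6 → F₂ :=
  ![phi ![1, 0, 0, 0] ![0, 1, 0, 0] x, phi ![0, 0, 1, 0] ![0, 0, 0, 1] x,
    phi ![1, 0, 0, 0] ![0, 0, 1, 0] x, phi ![0, 1, 0, 0] ![0, 0, 0, 1] x,
    phi ![1, 0, 0, 0] ![0, 0, 0, 1] x, phi ![0, 1, 0, 0] ![0, 0, 1, 0] x]

theorem feat_facts : (∀ y : Fin 8, (∀ x : Fin 8, ∃ z : Fin 8, ∀ k, feat z k + feat y k = feat x k) → y = 7) ∧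
    ∀ x z : Fin 8, (∀ k, feat z k = feat x k) → z = x := by
  constructor <;> decide

theorem perm_eq_one {σ : Equiv.Perm (Fin 8)} (h : Compat 1 σ) : σ = 1 := by
  have key : ∀ x k, feat (σ⁻¹ x) k + feat (σ⁻¹ 7) k = feat x k := by
    intro x k
    fin_cases k <;> exact (congrFun (h _ _) x).symm.trans (by rw [one_mulVec, one_mulVec]; rfl)
  have h7 : σ⁻¹ 7 = 7 := feat_facts.1 _ fun x => ⟨σ⁻¹ x, key x⟩
  refine inv_eq_one.1 (Equiv.ext fun x => feat_facts.2 _ _ fun k => ?_)
  have := key x k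
  rw [h7] at this
  have h0 : feat 7 k = 0 := by clear this; revert k; decide
  rw [h0, add_zero] at this
  exact this

theorem minors : ∀ a b c d e f g i : F₂,
    (a * f + b * e = 0 ∧ a * g + c * e = 0 ∧ a * i + d * e = 0 ∧ b * g + c * f = 0 ∧ b * i + d * f = 0 ∧
      c * i + d * g = 0) →
    (a = 0 ∧ b = 0 ∧ c = 0 ∧ d = 0) ∨ (e = 0 ∧ f = 0 ∧ g = 0 ∧ i = 0) ∨ (a = e ∧ b = f ∧ c = g ∧ d = i) := by
  decide

theorem pl_of_phi (u v : Fin 4 → F₂) :
    pl u v 0 1 = phi u v 0 + phi u v 1 + phi u v 2 + phi u v 4 ∧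
    pl u v 2 3 = phi u v 0 + phi u v 1 + phi u v 2 + phi u v 3 ∧
    pl u v 0 2 = phi u v 1 + phi u v 3 + phi u v 4 + phi u v 5 ∧
    pl u v 1 3 = phi u v 0 + phi u v 3 + phi u v 4 + phi u v 5 ∧
    pl u v 0 3 = phi u v 2 + phi u v 3 + phi u v 4 ∧
    pl u v 1 2 = phi u v 0 + phi u v 1 + phi u v 5 := by
  have h2 : (2 : F₂) = 0 := by decide
  refine ⟨?_, ?_, ?_, ?_, ?_, ?_⟩ <;> simp [phi] <;> ring_nf <;> simp [h2, show (3 : F₂) = 1 by decide,
    show (4 : F₂) = 0 by decide]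

theorem matrix_eq_one {A : M₄} (hA : IsUnit A) (h : Compat A 1) : A = 1 := by
  refine Matrix.ext_of_mulVec_single fun k => ?_
  rw [one_mulVec]
  have key : ∀ (u v : Fin 4 → F₂) (i j : Fin 4), i < j → pl (A *ᵥ u) (A *ᵥ v) i j = pl u v i j := by
    intro u v i j hij
    have e : phi (A *ᵥ u) (A *ᵥ v) = phi u v := (h u v).trans (act_one u v)
    have h1 := pl_of_phi (A *ᵥ u) (A *ᵥ v)
    have h3 := pl_of_phi u v
    rw [e] at h1
    fin_cases i <;> fin_cases j <;> first
      | exact absurd hij (by decide)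
      | (simp only [Fin.zero_eta, Fin.mk_one, Fin.reduceFinMk]; simp only [h1, h3])
  set u : Fin 4 → F₂ := Pi.single k 1
  set w := A *ᵥ u with hw
  have hwne : w ≠ 0 := fun h0 => by
    have := (Matrix.mulVec_injective_iff_isUnit.2 hA) (h0.trans (mulVec_zero A).symm)
    simpa [u] using congrFun this k
  have hune : u ≠ 0 := fun h0 => by simpa [u] using congrFun h0 k
  have tri : ∀ (x a b : Fin 4 → F₂) (i j l : Fin 4),
      x = a ∨ x = b → x i * pl a b j l + x j * pl a b i l + x l * pl a b i j = 0 := by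
    intro x a b i j l hx
    have h2 : (2 : F₂) = 0 := by decide
    rcases hx with rfl | rfl <;> simp [pl] <;> ring_nf <;> simp [h2]
  have hm : ∀ i j : Fin 4, i < j → w i * u j + w j * u i = 0 := by
    intro i j hij
    obtain ⟨l, hli, hlj⟩ : ∃ l : Fin 4, l ≠ i ∧ l ≠ j := by revert i j; decide
    have ps : ∀ (a b : Fin 4 → F₂) (p q : Fin 4), pl a b p q = pl a b q p := fun a b p q => add_comm _ _
    have e : ∀ p q : Fin 4, p ≠ q → pl w (A *ᵥ Pi.single l 1) p q = pl u (Pi.single l 1) p q := by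
      intro p q hpq
      rcases lt_or_gt_of_ne hpq with h' | h'
      · exact key _ _ p q h'
      · rw [ps, key _ _ q p h', ps]
    have := tri w w (A *ᵥ Pi.single l 1) i j l (Or.inl rfl)
    rw [e j l hlj.symm, e i l hli.symm, e i j hij.ne] at this
    simpa [pl, hli, hlj, Ne.symm hli, Ne.symm hlj] using this
  rcases minors (w 0) (w 1) (w 2) (w 3) (u 0) (u 1) (u 2) (u 3)
      ⟨hm 0 1 (by decide), hm 0 2 (by decide), hm 0 3 (by decide), hm 1 2 (by decide),
        hm 1 3 (by decide), hm 2 3 (by decide)⟩ with h' | h' | h'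
  · exact absurd (funext fun i => by fin_cases i <;> simp [h'.1, h'.2.1, h'.2.2.1, h'.2.2.2]) hwne
  · exact absurd (funext fun i => by fin_cases i <;> simp [h'.1, h'.2.1, h'.2.2.1, h'.2.2.2]) hune
  · exact funext fun i => by fin_cases i <;> simp [h'.1, h'.2.1, h'.2.2.1, h'.2.2.2]

theorem exists_compat (A : M₄) (hA : A.det ≠ 0) :
    ∃ σ ∈ alternatingGroup (Fin 8), Compat A σ := by
  refine diagonal_transvection_induction_of_det_ne_zero
    (fun B => ∃ σ ∈ alternatingGroup (Fin 8), Compat B σ) A hA (fun D hD => ?_) (fun t => ?_) ?_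
  · have hD1 : D = fun _ => 1 := by
      funext i
      rw [det_diagonal] at hD
      have : ∀ a : F₂, a ≠ 0 → a = 1 := by decide
      exact this _ fun h0 => hD (Finset.prod_eq_zero (Finset.mem_univ i) h0)
    rw [hD1, Matrix.diagonal_one]
    exact ⟨1, one_mem _, compat_one⟩
  · obtain ⟨i, j, hij, c⟩ := t
    have hc : c = 0 ∨ c = 1 := by revert c; decide
    rcases hc with rfl | rfl
    · refine ⟨1, one_mem _, ?_⟩
      rw [TransvectionStruct.toMatrix_mk, transvection_zero]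
      exact compat_one
    · exact ⟨tv i j, Equiv.Perm.mem_alternatingGroup.2 (sign_tv i j), compat_tv i j hij⟩
  · rintro B C - - ⟨σ, hσ, h⟩ ⟨τ, hτ, h'⟩
    exact ⟨σ * τ, mul_mem hσ hτ, compat_mul h h'⟩

/-- `GL(4,2)` embeds in the alternating group of degree eight. -/
theorem exists_injective_gl_four_two :
    ∃ f : GL (Fin 4) F₂ →* alternatingGroup (Fin 8), Function.Injective f := by
  choose s hs hc using fun g : GL (Fin 4) F₂ =>
    exists_compat (g : M₄) (Matrix.isUnits_det_units g).ne_zero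
  have huniq : ∀ (g : GL (Fin 4) F₂) σ, Compat (g : M₄) σ → σ = s g := by
    intro g σ hσ
    obtain ⟨τ, -, hτ⟩ := exists_compat ((g⁻¹ : GL (Fin 4) F₂) : M₄) (Matrix.isUnits_det_units g⁻¹).ne_zero
    have e1 := compat_mul hτ hσ
    have e2 := compat_mul hτ (hc g)
    rw [Units.inv_mul] at e1 e2
    exact mul_left_cancel ((perm_eq_one e1).trans (perm_eq_one e2).symm)
  refine ⟨MonoidHom.mk' (fun g => ⟨s g, hs g⟩) fun g h => Subtype.ext
    (huniq _ _ (by rw [Units.val_mul]; exact compat_mul (hc g) (hc h))).symm, ?_⟩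
  rw [injective_iff_map_eq_one]
  intro g hg
  have hg' : s g = 1 := congrArg Subtype.val hg
  exact Units.ext (matrix_eq_one g.isUnit (hg' ▸ hc g))

/-- The automorphism group of an elementary abelian group of order at most sixteen embeds in
the alternating group of degree eight. -/
theorem exists_injective_mulAut {V : Type*} [CommGroup V] [Finite V] (he : ∀ v : V, v ^ 2 = 1)
    (hV : Nat.card V ≤ 16) : ∃ f : MulAut V →* alternatingGroup (Fin 8), Function.Injective f := by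
  classical
  letI : Module F₂ (Additive V) :=
    AddCommGroup.zmodModule (n := 2) fun x => he (Additive.toMul x)
  haveI : Finite (Additive V) := ‹Finite V›
  obtain ⟨d, hd⟩ : ∃ d, d = Module.finrank F₂ (Additive V) := ⟨_, rfl⟩
  have hd4 : d ≤ 4 := by
    have h1 := Module.natCard_eq_pow_finrank (K := F₂) (V := Additive V)
    rw [Nat.card_zmod, ← hd] at h1
    have h16 : 2 ^ d ≤ 2 ^ 4 := h1 ▸ hV
    exact (Nat.pow_le_pow_iff_right (le_refl 2)).1 h16
  obtain ⟨W, e⟩ : ∃ W : Type, W = (Fin (4 - d) → F₂) := ⟨_, rfl⟩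
  let L : (Additive V × (Fin (4 - d) → F₂)) ≃ₗ[F₂] (Fin 4 → F₂) :=
    LinearEquiv.ofFinrankEq _ _ (by rw [Module.finrank_prod, Module.finrank_pi, Module.finrank_pi, ← hd]; simp; omega)
  let ext : MulAut V →* ((Additive V × (Fin (4 - d) → F₂)) →ₗ[F₂] (Additive V × (Fin (4 - d) → F₂))) :=
    { toFun := fun a => LinearMap.prodMap (AddMonoidHom.toZModLinearMap 2 (MonoidHom.toAdditive a.toMonoidHom)) LinearMap.id
      map_one' := by ext <;> rfl
      map_mul' := fun a b => by ext <;> rfl }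
  let toM : MulAut V →* GL (Fin 4) F₂ :=
    ((LinearMap.toMatrixAlgEquiv'.toMonoidHom).comp ((L.conjRingEquiv.toMonoidHom).comp ext)).toHomUnits
  have hinj : Function.Injective toM := by
    intro a b h
    have h1 : ext a = ext b :=
      L.conjRingEquiv.injective (LinearMap.toMatrixAlgEquiv'.injective (congrArg Units.val h))
    refine MulEquiv.ext fun v => ?_
    have h2 := congrArg Prod.fst (LinearMap.congr_fun h1 (Additive.ofMul v, 0))
    exact h2
  obtain ⟨f, hf⟩ := exists_injective_gl_four_two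
  exact ⟨f.comp toM, hf.comp hinj⟩

end CfsgLib.Invol.A8
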