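import Cfsg.Agent.Lib.Invol.Lonely
import Cfsg.Agent.Lib.Invol.InvertedOdd
import Cfsg.Agent.Lib.Invol.TwoClasses

/-!
# Glauberman's argument: a second involution commuting with an isolated one
-/

open scoped ComplexConjugate

set_option autoImplicit false

namespace CfsgLib.Invol

open Cfsg CfsgLib.Block

universe u

variable {G : Type u} [Group G] [Fintype G]

/-- The values of the principal block at the products `u' * v`. -/
theorem irr_conj_mul_eq {M : Ideal AlgInt} [M.IsMaximal] (hM : IsPModular 2 M)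
    {z v : G} (IH : ZStarBelow.{u} (Nat.card G)) (hz : IsIsolatedInvolution z)
    (hZ : Subgroup.center G = ⊥) (hv : orderOf v = 2) (hvz : Commute z v) (hne : v ≠ z)
    {χ : IrrCharacter G} (hχ : χ ∈ principalBlock M G) (g : G) :
    (χ : G → ℂ) (g * z * g⁻¹ * v) = (χ : G → ℂ) (z * v) := by
  classical
  haveI : Fact (Nat.Prime 2) := ⟨Nat.prime_two⟩
  set u' := g * z * g⁻¹ with hu'
  have hu'o : orderOf u' = 2 := invol_conj hz.1 g
  have hnc : ¬ IsConj u' v := fun h =>
    not_isConj_of_commute hz hvz hne ((isConj_iff.2 ⟨g, rfl⟩).trans h)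
  set w := u' * v with hw
  obtain ⟨m, hm⟩ : Even (orderOf w) := even_of_not_isConj hu'o hv hnc
  have hevn : Even (orderOf w) := ⟨m, hm⟩
  have hmodd : Odd m := by
    have h1 : Odd (orderOf (w ^ 2)) := by
      have e : w ^ 2 = g * z * g⁻¹ * ((v * g) * z * (v * g)⁻¹) := by
        rw [hw, hu', pow_two, mul_inv_rev, invol_inv hv]
        group
      rw [e]; exact odd_conj_mul_conj hz g (v * g)
    rwa [orderOf_pow, Nat.gcd_eq_right (by omega : 2 ∣ orderOf w), show orderOf w / 2 = m by omega] at h1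
  set t := w ^ (orderOf w / 2) with ht
  have htm : t = w ^ m := by rw [ht, hm, show (m + m) / 2 = m by omega]
  have hto : orderOf t = 2 := orderOf_pow_half hevn
  have htu : Commute t u' := commute_pow_half (invol_conj_mul hu'o hv) hevn
  have htv : Commute t v := commute_pow_half (invol_conj_mul' hu'o hv) hevn
  set H := Subgroup.centralizer ({t} : Set G) with hH
  have hC : ∀ a : G, a ∈ H ↔ Commute a t := fun a => Subgroup.mem_centralizer_singleton_iff
  have hu'H : u' ∈ H := (hC _).2 htu.symm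
  have hvH : v ∈ H := (hC _).2 htv.symm
  have hHne : H ≠ ⊤ := fun e => invol_ne_one hto (Subgroup.mem_bot.1 (hZ ▸
    Subgroup.mem_center_iff.2 fun a => ((hC a).1 (e ▸ Subgroup.mem_top a)).eq))
  have hlt : Nat.card H < Nat.card G :=
    lt_of_le_of_ne (Nat.le_of_dvd Nat.card_pos (Subgroup.card_subgroup_dvd_card H))
      fun h => hHne (Subgroup.eq_top_of_card_eq H h)
  have hcom : (⟨w ^ 2, pow_mem (mul_mem hu'H hvH) 2⟩ : H) ∈ pPrimeCore 2 H := by
    have h := IH H hlt _ (isolated_subgroup (hu' ▸ isolated_conj hz g) H hu'H) ⟨v, hvH⟩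
    convert h using 1
    exact Subtype.ext (by simp only [Subgroup.coe_mul, InvMemClass.coe_inv, invol_inv hu'o,
      invol_inv hv, hw, pow_two, mul_assoc])
  obtain ⟨i, hi⟩ := hmodd
  set r := w ^ (m + 1) with hr
  have hrt : t * r = w := by
    rw [htm, hr, ← pow_add, show m + (m + 1) = orderOf w + 1 by omega, pow_succ, pow_orderOf_eq_one,
      one_mul]
  have hrH : r ∈ H := pow_mem (mul_mem hu'H hvH) _
  have hrO : (⟨r, hrH⟩ : H) ∈ pPrimeCore 2 H := by
    convert pow_mem hcom (i + 1) using 1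
    refine Subtype.ext ?_
    show r = (w ^ 2) ^ (i + 1)
    rw [← pow_mul, hr]
    congr 1
    omega
  have hrodd : Odd (orderOf r) := by
    refine (show Odd m from ⟨i, hi⟩).of_dvd_nat (orderOf_dvd_of_pow_eq_one ?_)
    rw [hr, ← pow_mul, show (m + 1) * m = orderOf w * (i + 1) by rw [hm, hi]; ring, pow_mul,
      pow_orderOf_eq_one, one_pow]
  have h1 : (χ : G → ℂ) w = (χ : G → ℂ) t := by
    haveI : (pPrimeCore 2 H).Normal :=
      haveI := Coprime.pPrimeCore_characteristic (G := H) 2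
      inferInstance
    have := Fintype.ofFinite (IrrCharacter H)
    have h := irr_secElt_mul hM (x := t) ⟨1, by rw [hto, pow_one]⟩ hC hχ (pPrimeCore 2 H)
      (Coprime.pPrimeCore_not_dvd Nat.prime_two) (y := 1) hrO
      (by rw [orderOf_one]; norm_num)
      (by
        rw [one_mul, Subgroup.orderOf_mk]
        exact hrodd.not_two_dvd_nat)
    simpa [hrt] using h
  rw [h1]
  -- `t` is conjugate to `z * v`
  obtain ⟨k, hk, hkk⟩ := exists_sqrt_of_odd hrodd
  obtain ⟨l, rfl⟩ := Subgroup.mem_zpowers_iff.1 hk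
  have hvr : v * r * v⁻¹ = r⁻¹ := by
    rw [hr, ← conj_pow, invol_conj_mul' hu'o hv, inv_pow]
  have hvk := conj_zpow_of_inverts hvr l
  rw [zpow_neg] at hvk
  have huz : u' * t = r * v := by
    calc u' * t = w * v * t := by rw [hw, mul_assoc u', invol_mul_self hv, mul_one]
      _ = w * (t * v) := by rw [mul_assoc, htv.eq]
      _ = r * v := by rw [← mul_assoc, htm, ← pow_succ']
  have hconj : (r ^ l)⁻¹ * (u' * t) * r ^ l = v := by
    rw [huz]
    have h2 : v * r ^ l = (r ^ l)⁻¹ * v := mul_inv_eq_iff_eq_mul.1 hvk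
    calc (r ^ l)⁻¹ * (r * v) * r ^ l = (r ^ l)⁻¹ * r * (v * r ^ l) := by group
      _ = (r ^ l)⁻¹ * (r ^ l * r ^ l) * ((r ^ l)⁻¹ * v) := by rw [h2, hkk]
      _ = v := by group
  set t' := g⁻¹ * t * g with ht'
  have ht'z : Commute t' z := by
    have := htu.map (MulAut.conj g⁻¹).toMonoidHom
    simpa [hu', ht', mul_assoc] using this
  have hxC : z * t' ∈ Subgroup.centralizer ({z} : Set G) :=
    Subgroup.mem_centralizer_singleton_iff.2 (((Commute.refl z).mul_left ht'z).eq)
  have heq : ((r ^ l)⁻¹ * g) * (z * t') * ((r ^ l)⁻¹ * g)⁻¹ = v := by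
    rw [← hconj, ht', hu']; group
  obtain ⟨h, hh, hhv⟩ := centralizer_control hz (a := (r ^ l)⁻¹ * g) hxC
    (by rw [heq]; exact Subgroup.mem_centralizer_singleton_iff.2 hvz.symm.eq)
  rw [heq] at hhv
  rw [Subgroup.mem_centralizer_singleton_iff] at hh
  refine Char.classFun_isConj (Char.isClassFunction_irr χ) (isConj_iff.2 ⟨h * g⁻¹, ?_⟩)
  calc h * g⁻¹ * t * (h * g⁻¹)⁻¹ = h * t' * h⁻¹ := by rw [ht']; group
    _ = z * (z * h * t' * h⁻¹) := by
      simp only [← mul_assoc, invol_mul_self hz.1, one_mul]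
    _ = z * (h * (z * t') * h⁻¹) := by rw [← hh]; group
    _ = z * v := by rw [hhv]

/-- With a second involution in its centralizer, an isolated involution is central. -/
theorem false_of_second_involution {z v : G} (IH : ZStarBelow.{u} (Nat.card G))
    (hz : IsIsolatedInvolution z) (hO : pPrimeCore 2 G = ⊥) (hZ : Subgroup.center G = ⊥)
    (hv : orderOf v = 2) (hvz : Commute z v) (hne : v ≠ z) : False := by
  classical
  have := Fintype.ofFinite (IrrCharacter G)
  obtain ⟨M, hM⟩ := exists_pModular Nat.prime_two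
  haveI := hM.2.1
  have hzZ : z ∉ Subgroup.center G := fun h =>
    invol_ne_one hz.1 (Subgroup.mem_bot.1 (hZ ▸ h))
  have hG : (Nat.card G : ℂ) ≠ 0 := Nat.cast_ne_zero.mpr Nat.card_pos.ne'
  have havg : ∀ w : G, orderOf w = 2 → Commute z w → w ≠ z → ∀ χ ∈ principalBlock M G,
      (χ : G → ℂ) (z * w) * (χ : G → ℂ) 1 = (χ : G → ℂ) z * (χ : G → ℂ) w := by
    intro w hw hwz hwne χ hχ
    have h := sum_conj_char χ w z
    rw [Finset.sum_congr rfl (g := fun _ => (χ : G → ℂ) (z * w)) fun a _ => by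
      rw [Char.classFun_mul_comm (Char.isClassFunction_irr χ),
        irr_conj_mul_eq hM IH hz hZ hw hwz hwne hχ a], Finset.sum_const, Finset.card_univ,
      nsmul_eq_mul, ← Nat.card_eq_fintype_card, mul_assoc (Nat.card G : ℂ), mul_div_assoc] at h
    rw [mul_left_cancel₀ hG h, div_mul_cancel₀ _ (Char.irr_one_ne_zero χ), mul_comm]
  have hzv : orderOf (z * v) = 2 := invol_iff.2 ⟨by
    rw [mul_assoc, ← mul_assoc v, ← hvz.eq, mul_assoc z v v, invol_mul_self hv, mul_one,
      invol_mul_self hz.1], fun h => hne (by rw [eq_inv_of_mul_eq_one_right h, invol_inv hz.1])⟩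
  have hzvne : z * v ≠ z := fun h => invol_ne_one hv (mul_eq_left.1 h)
  have hzvc : Commute z (z * v) := (Commute.refl z).mul_right hvz
  have hkey : ∀ χ ∈ principalBlock M G, χ ≠ oneChar G →
      (χ : G → ℂ) v + (χ : G → ℂ) (z * v) = 0 := by
    intro χ hχ hne1
    have h1 := havg v hv hvz hne χ hχ
    have h2 := havg (z * v) hzv hzvc hzvne χ hχ
    rw [← mul_assoc z z v, invol_mul_self hz.1, one_mul] at h2
    have hd := Char.irr_one_ne_zero χ
    have h3 : (χ : G → ℂ) v * (((χ : G → ℂ) 1 - (χ : G → ℂ) z) *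
        ((χ : G → ℂ) 1 + (χ : G → ℂ) z)) = 0 := by
      linear_combination (χ : G → ℂ) 1 * h2 + (χ : G → ℂ) z * h1
    rcases mul_eq_zero.1 h3 with h4 | h4
    · rw [h4, mul_zero] at h1
      rw [h4, (mul_eq_zero.1 h1).resolve_right hd, add_zero]
    rcases mul_eq_zero.1 h4 with h5 | h5
    · exact absurd (eq_oneChar_of_apply_eq IH hz hO hzZ χ (sub_eq_zero.1 h5).symm) hne1
    · have h6 : (χ : G → ℂ) 1 * ((χ : G → ℂ) v + (χ : G → ℂ) (z * v)) = 0 := by
        linear_combination h1 + (χ : G → ℂ) v * h5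
      exact (mul_eq_zero.1 h6).resolve_left hd
  have horth : ∀ w : G, orderOf w = 2 →
      ∑ χ ∈ Finset.univ.filter (· ∈ principalBlock M G),
        (χ : G → ℂ) 1 * conj ((χ : G → ℂ) w) = 0 := by
    intro w hw
    have h := blockUnion_orthogonal_regular_singular hM
      (.of_isPBlock (isPBlock_principalBlock (M := M) (G := G))) (g := 1) (h := w)
      (by rw [orderOf_one]; norm_num) (by rw [hw])
    rw [finsum_mem_eq_toFinset_sum] at h
    exact Eq.trans (Finset.sum_congr (by ext; simp) fun _ _ => rfl) h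
  have hsum : ∑ χ ∈ Finset.univ.filter (· ∈ principalBlock M G),
      (χ : G → ℂ) 1 * conj ((χ : G → ℂ) v + (χ : G → ℂ) (z * v)) = 0 := by
    simp only [map_add, mul_add, Finset.sum_add_distrib, horth v hv, horth (z * v) hzv, add_zero]
  rw [Finset.sum_eq_single (oneChar G) (fun χ hχ h => by
      rw [hkey χ (Finset.mem_filter.1 hχ).2 h, map_zero, mul_zero])
    (fun h => absurd (by simp [one_mem_principalBlock]) h)] at hsum
  norm_num [oneChar] at hsum

end CfsgLib.Invol
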