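import Cfsg.Agent.Lib.Classical.SLBasic
import Cfsg.Agent.Lib.Coprime.Solvable
import Mathlib.GroupTheory.SpecificGroups.Quaternion

/-!
# The Sylow 2-subgroup of `PSL(3, 4)` as the Heisenberg group over the field of four elements
-/

set_option autoImplicit false

namespace CfsgLib.Invol.HeisFour

open Subgroup

/-- Coordinates with respect to the basis `1, ω`. -/
abbrev V := ZMod 2 × ZMod 2

/-- Multiplication in the field of four elements. -/
def fm (a b : V) : V := (a.1 * b.1 + a.2 * b.2, a.1 * b.2 + a.2 * b.1 + a.2 * b.2)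

/-- The field automorphism. -/
def σ (a : V) : V := (a.1 + a.2, a.2)

theorem fm_add_left : ∀ a a' b : V, fm (a + a') b = fm a b + fm a' b := by decide +kernel

theorem fm_add_right : ∀ a b b' : V, fm a (b + b') = fm a b + fm a b' := by decide +kernel

theorem fm_zero_left : ∀ b : V, fm 0 b = 0 := by decide +kernel

theorem fm_zero_right : ∀ b : V, fm b 0 = 0 := by decide +kernel

theorem self_add : ∀ a : V, a + a = 0 := by decide +kernel

theorem v_cases : ∀ a : V, a = 0 ∨ a = (1, 0) ∨ a = (0, 1) ∨ a = (1, 0) + (0, 1) := by decide +kernel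

/-- Triples with the Heisenberg multiplication. -/
structure H4 where
  a : V
  b : V
  c : V
deriving DecidableEq

instance : Mul H4 := ⟨fun p q => ⟨p.a + q.a, p.b + q.b, p.c + q.c + fm p.a q.b⟩⟩
instance : One H4 := ⟨⟨0, 0, 0⟩⟩
instance : Inv H4 := ⟨fun p => ⟨p.a, p.b, p.c + fm p.a p.b⟩⟩

theorem mul_def (p q : H4) : p * q = ⟨p.a + q.a, p.b + q.b, p.c + q.c + fm p.a q.b⟩ := rfl

theorem one_def : (1 : H4) = ⟨0, 0, 0⟩ := rfl

theorem inv_def (p : H4) : p⁻¹ = ⟨p.a, p.b, p.c + fm p.a p.b⟩ := rfl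

theorem H4.ext' {p q : H4} (h1 : p.a = q.a) (h2 : p.b = q.b) (h3 : p.c = q.c) : p = q := by
  cases p; cases q; simp_all

instance : Group H4 := Group.ofLeftAxioms
  (fun p q r => by
    simp only [mul_def]
    refine H4.ext' (add_assoc _ _ _) (add_assoc _ _ _) ?_
    show p.c + q.c + fm p.a q.b + r.c + fm (p.a + q.a) r.b =
      p.c + (q.c + r.c + fm q.a r.b) + fm p.a (q.b + r.b)
    rw [fm_add_left, fm_add_right]
    abel)
  (fun p => by
    refine H4.ext' (zero_add _) (zero_add _) ?_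
    show (0 : V) + p.c + fm 0 p.b = p.c
    rw [fm_zero_left, zero_add, add_zero])
  (fun p => by
    refine H4.ext' (self_add _) (self_add _) ?_
    show p.c + fm p.a p.b + p.c + fm p.a p.b = 0
    rw [show p.c + fm p.a p.b + p.c + fm p.a p.b = (p.c + p.c) + (fm p.a p.b + fm p.a p.b) by abel,
      self_add, self_add, add_zero])

/-- The coordinates as a finite type. -/
def equivTriple : H4 ≃ V × V × V :=
  ⟨fun p => (p.a, p.b, p.c), fun t => ⟨t.1, t.2.1, t.2.2⟩, fun _ => rfl, fun _ => rfl⟩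

instance : Fintype H4 := Fintype.ofEquiv _ equivTriple.symm

theorem card_H4 : Nat.card H4 = 64 := by
  rw [Nat.card_congr equivTriple]; simp

theorem center_coords : ∀ p : H4, (∀ q : H4, q * p = p * q) → p.a = 0 ∧ p.b = 0 := by decide +kernel

theorem isPGroup_H4 : IsPGroup 2 H4 := IsPGroup.of_card (n := 6) (by rw [card_H4]; rfl)

/-- Recognition from three homomorphisms. -/
theorem exists_equiv {T : Type*} [Group T] [Finite T] (hT : Nat.card T = 64) (A B C : V → T)
    (hA : ∀ u v, A (u + v) = A u * A v) (hB : ∀ u v, B (u + v) = B u * B v)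
    (hC : ∀ u v, C (u + v) = C u * C v) (hCc : ∀ u t, t * C u = C u * t)
    (hCi : ∀ u, C u = 1 → u = 0) (hAB : ∀ u v, A u * B v = B v * A u * C (fm u v)) :
    ∃ e : H4 ≃* T, ∀ p, e p = B p.b * A p.a * C p.c := by
  let φ : H4 →* T := MonoidHom.mk' (fun p => B p.b * A p.a * C p.c) fun p q => by
    show B (p.b + q.b) * A (p.a + q.a) * C (p.c + q.c + fm p.a q.b) = _
    calc B (p.b + q.b) * A (p.a + q.a) * C (p.c + q.c + fm p.a q.b)
        = B p.b * (B q.b * A p.a * C (fm p.a q.b)) * A q.a * C p.c * C q.c := by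
          rw [hB, hA, hC, hC]
          simp only [mul_assoc]
          congr 2
          rw [← mul_assoc (C p.c), ← mul_assoc (A q.a), ← hCc (fm p.a q.b) (A q.a * (C p.c * C q.c))]
      _ = B p.b * A p.a * (B q.b * (A q.a * C p.c)) * C q.c := by
          rw [← hAB]; simp only [mul_assoc]
      _ = B p.b * A p.a * C p.c * (B q.b * A q.a * C q.c) := by
          rw [← mul_assoc (B q.b) (A q.a) (C p.c), hCc p.c (B q.b * A q.a)]
          simp only [mul_assoc]
  have hinj : Function.Injective φ := by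
    rw [← MonoidHom.ker_eq_bot_iff]
    by_contra hne
    haveI := isPGroup_H4.isNilpotent
    obtain ⟨⟨p, hp1, hp2⟩, hp⟩ := ne_bot_iff_exists_ne_one.1
      (CfsgLib.Coprime.nilpotent_inf_center_ne_bot φ.ker hne)
    obtain ⟨ha, hb⟩ := center_coords p (mem_center_iff.1 hp2)
    have h1 : B p.b * A p.a * C p.c = 1 := hp1
    have hA0 : A 0 = 1 := mul_eq_left.1 ((hA 0 0).symm.trans (by rw [add_zero]))
    have hB0 : B 0 = 1 := mul_eq_left.1 ((hB 0 0).symm.trans (by rw [add_zero]))
    rw [ha, hb, hA0, hB0, one_mul, one_mul] at h1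
    exact hp (Subtype.ext (H4.ext' ha hb (hCi _ h1)))
  exact ⟨MulEquiv.ofBijective φ ((Nat.bijective_iff_injective_and_card φ).2
    ⟨hinj, by rw [card_H4, hT]⟩), fun p => rfl⟩

/-- The unitriangular representation. -/
theorem exists_sylow_psl {F : Type*} [Field F] [Fintype F] (hF : Fintype.card F = 4)
    {T : Type*} [Group T] (e : H4 ≃* T) :
    ∃ S : Sylow 2 (Matrix.ProjectiveSpecialLinearGroup (Fin 3) F),
      Nonempty (T ≃* ↥(S : Subgroup (Matrix.ProjectiveSpecialLinearGroup (Fin 3) F))) := by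
  classical
  haveI : Fact (Nat.Prime 2) := ⟨Nat.prime_two⟩
  haveI : CharP F 2 := charP_of_card_eq_prime_pow (f := 2) (by rw [hF]; rfl)
  obtain ⟨w, hw0, hw1⟩ : ∃ w : F, w ≠ 0 ∧ w ≠ 1 := by
    by_contra h
    push Not at h
    have : Fintype.card F ≤ Fintype.card Bool := Fintype.card_le_of_injective
      (fun x => decide (x = 0)) fun x y hxy => by
        by_cases hx : x = 0
        · have hy : y = 0 := by simpa [hx] using hxy.symm
          rw [hx, hy]
        · have hy : y ≠ 0 := fun hy => hx (by simpa [hy] using hxy)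
          rw [h x hx, h y hy]
    rw [hF, Fintype.card_bool] at this
    omega
  have hw2 : w * w = 1 + w := by
    have h3 : w ^ 4 = w := hF ▸ FiniteField.pow_card w
    have h4 : (w * (w - 1)) * (w * w + w + 1) = 0 := by linear_combination h3
    rcases mul_eq_zero.1 h4 with h | h
    · exact absurd h (mul_ne_zero hw0 (sub_ne_zero.2 hw1))
    · linear_combination h - CharTwo.add_self_eq_zero (1 : F) - CharTwo.add_self_eq_zero w
  let ψ : V → F := fun a => (a.1.val : F) + (a.2.val : F) * w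
  have h2 : ∀ i j : ZMod 2, (((i + j).val : ℕ) : F) = (i.val : F) + (j.val : F) := by
    intro i j
    rw [ZMod.val_add, ← Nat.cast_add]
    exact (CharP.cast_eq_mod F 2 _).symm
  have h3 : ∀ i j : ZMod 2, (((i * j).val : ℕ) : F) = (i.val : F) * (j.val : F) := by
    intro i j
    rw [ZMod.val_mul, ← Nat.cast_mul]
    exact (CharP.cast_eq_mod F 2 _).symm
  have hadd : ∀ a b, ψ (a + b) = ψ a + ψ b := by
    intro a b
    simp only [ψ, Prod.fst_add, Prod.snd_add, h2]
    ring
  have hmul : ∀ a b, ψ (fm a b) = ψ a * ψ b := by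
    intro a b
    simp only [ψ, fm, h2, h3]
    linear_combination -((a.2.val : F) * (b.2.val : F)) * hw2
  let ρ : H4 →* Matrix.SpecialLinearGroup (Fin 3) F := MonoidHom.mk'
    (fun p => ⟨!![1, ψ p.a, ψ p.c; 0, 1, ψ p.b; 0, 0, 1], by simp [Matrix.det_fin_three]⟩)
    fun p q => Subtype.ext (by
      show (!![1, ψ (p.a + q.a), ψ (p.c + q.c + fm p.a q.b); 0, 1, ψ (p.b + q.b); 0, 0, 1] :
        Matrix (Fin 3) (Fin 3) F) = !![1, ψ p.a, ψ p.c; 0, 1, ψ p.b; 0, 0, 1] *
          !![1, ψ q.a, ψ q.c; 0, 1, ψ q.b; 0, 0, 1]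
      ext i j
      fin_cases i <;> fin_cases j <;>
        simp [hadd, hmul, Matrix.mul_apply, Fin.sum_univ_three, add_comm, add_left_comm])
  let π := QuotientGroup.mk' (Subgroup.center (Matrix.SpecialLinearGroup (Fin 3) F))
  have hψ0 : ∀ a, ψ a = 0 → a = 0 := by
    intro a ha
    by_contra hne
    rcases v_cases a with rfl | rfl | rfl | rfl
    · exact hne rfl
    · simp [ψ] at ha
    · simp [ψ, ZMod.val_one] at ha; exact hw0 ha
    · simp [ψ, hadd, ZMod.val_one] at ha
      exact hw1 (by linear_combination ha - CharTwo.add_self_eq_zero (1 : F))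
  have hinj : Function.Injective (π.comp ρ) := by
    refine (injective_iff_map_eq_one _).2 fun p hp => ?_
    obtain ⟨r, -, hr⟩ := Matrix.SpecialLinearGroup.mem_center_iff.1 ((QuotientGroup.eq_one_iff (ρ p)).1 hp)
    have e01 := congrFun (congrFun hr 0) 1
    have e02 := congrFun (congrFun hr 0) 2
    have e12 := congrFun (congrFun hr 1) 2
    simp [ρ] at e01 e02 e12
    exact H4.ext' (hψ0 _ e01.symm) (hψ0 _ e12.symm) (hψ0 _ e02.symm)
  have hcard : Nat.card (π.comp ρ).range = 64 :=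
    (Nat.card_congr (MonoidHom.ofInjective hinj).toEquiv).symm.trans card_H4
  have hG := CfsgLib.Classical.card_psl_mul (F := F) (n := 3) (by norm_num)
  rw [hF, show Nat.gcd 3 (4 - 1) = 3 from rfl] at hG
  simp [Fin.prod_univ_three] at hG
  have hidx : ¬ 2 ∣ (π.comp ρ).range.index := by
    have h4 := (π.comp ρ).range.index_mul_card
    rw [hcard] at h4
    intro ⟨k, hk⟩
    rw [hk] at h4
    have h5 : Nat.card (Matrix.ProjectiveSpecialLinearGroup (Fin 3) F) = 2 * k * 64 := h4.symm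
    rw [Nat.card_eq_fintype_card] at h5
    omega
  refine ⟨(IsPGroup.of_card (n := 6) (by rw [hcard]; rfl) :
    IsPGroup 2 (π.comp ρ).range).toSylow hidx, ⟨?_⟩⟩
  exact e.symm.trans (MonoidHom.ofInjective hinj)

/-- The automorphism fixing both root groups. -/
def τA (p : H4) : H4 := ⟨σ p.a, σ p.b, σ p.c⟩

/-- The automorphism exchanging the root groups. -/
def τB (p : H4) : H4 := ⟨σ p.b, σ p.a, σ p.c + fm (σ p.b) (σ p.a)⟩

/-- The dihedral fixed points. -/
def dihFix : DihedralGroup 4 → H4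
  | .r i => (⟨(1, 0), (1, 0), 0⟩ : H4) ^ i.val
  | .sr i => ⟨(1, 0), 0, 0⟩ * (⟨(1, 0), (1, 0), 0⟩ : H4) ^ i.val

theorem dihFix_mul : ∀ u v, dihFix (u * v) = dihFix u * dihFix v := by decide +kernel

theorem dihFix_inj : ∀ u, dihFix u = 1 → u = 1 := by decide +kernel

theorem dihFix_range : ∀ p, τA p = p ↔ ∃ u, dihFix u = p := by decide +kernel

/-- The quaternion fixed points. -/
def quatFix : QuaternionGroup 2 → H4
  | .a i => (⟨(1, 0), (1, 0), (0, 1)⟩ : H4) ^ i.val
  | .xa i => ⟨(0, 1), (1, 1), (0, 1)⟩ * (⟨(1, 0), (1, 0), (0, 1)⟩ : H4) ^ i.val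

theorem quatFix_mul : ∀ u v, quatFix (u * v) = quatFix u * quatFix v := by decide +kernel

theorem quatFix_inj : ∀ u, quatFix u = 1 → u = 1 := by decide +kernel

theorem quatFix_range : ∀ p, τB p = p ↔ ∃ u, quatFix u = p := by decide +kernel

theorem fixed_equiv {T : Type*} [Group T] {D : Type*} [Group D] (e : H4 ≃* T) (x : MulAut T)
    (τ : H4 → H4) (hx : ∀ p, x (e p) = e (τ p)) (f : D → H4) (hf : ∀ u v, f (u * v) = f u * f v)
    (hinj : ∀ u, f u = 1 → u = 1) (hr : ∀ p, τ p = p ↔ ∃ u, f u = p) (C : Subgroup T)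
    (hC : ∀ y : T, y ∈ C ↔ x y = y) : Nonempty (C ≃* D) := by
  let g : D →* T := e.toMonoidHom.comp (MonoidHom.mk' f hf)
  have hg : Function.Injective g :=
    e.injective.comp ((injective_iff_map_eq_one (MonoidHom.mk' f hf)).2 hinj)
  have hrange : g.range = C := by
    ext t
    obtain ⟨p, rfl⟩ := e.surjective t
    rw [hC, hx, e.injective.eq_iff, hr]
    exact ⟨fun ⟨u, hu⟩ => ⟨u, e.injective hu⟩, fun ⟨u, hu⟩ => ⟨u, congrArg e hu⟩⟩
  exact ⟨((MonoidHom.ofInjective hg).trans (MulEquiv.subgroupCongr hrange)).symm⟩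

end CfsgLib.Invol.HeisFour
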