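import Mathlib

/-!
# Transitive groups in which all derangements are involutions

The derangements together with the identity form a regular normal elementary abelian subgroup.
The key point: a subgroup containing more than half of the derangements is transitive.
-/

set_option autoImplicit false

namespace CfsgLib.Invol.InvDerange

open scoped Classical
open MulAction Finset

variable {G Ω : Type*} [Group G] [MulAction G Ω]

/-- `g` has no fixed point. -/
def Der (Ω : Type*) {G : Type*} [Group G] [MulAction G Ω] (g : G) : Prop := ∀ ω : Ω, g • ω ≠ ω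

variable [Fintype G] [Fintype Ω]

/-- The derangements. -/
noncomputable def derSet (G Ω : Type*) [Group G] [MulAction G Ω] [Fintype G] : Finset G :=
  univ.filter fun g => Der Ω g

/-- The number of fixed points. -/
noncomputable def fx (Ω : Type*) {G : Type*} [Group G] [MulAction G Ω] [Fintype Ω] (g : G) : ℕ :=
  (univ.filter fun ω : Ω => g • ω = ω).card

omit [Fintype Ω] in
theorem mem_derSet {g : G} : g ∈ derSet G Ω ↔ Der Ω g := by simp [derSet]

omit [Fintype G] in
theorem fx_pos {g : G} (h : ¬ Der Ω g) : 1 ≤ fx Ω g := by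
  simp only [Der, not_forall, not_not] at h
  obtain ⟨ω, hω⟩ := h
  exact Finset.card_pos.2 ⟨ω, by simp [hω]⟩

omit [Fintype G] in
theorem fx_zero {g : G} (h : Der Ω g) : fx Ω g = 0 :=
  Finset.card_eq_zero.2 (Finset.filter_eq_empty_iff.2 fun ω _ => h ω)

omit [Fintype G] in
theorem fx_one : fx Ω (1 : G) = Fintype.card Ω := by simp [fx]

omit [Fintype G] in
theorem not_der_one [Nonempty Ω] : ¬ Der Ω (1 : G) := fun h => h (Classical.arbitrary Ω) (one_smul _ _)

/-- The orbit counting lemma for a subgroup. -/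
theorem sum_fx (M : Subgroup G) :
    ∑ g ∈ univ.filter (fun g => g ∈ M), fx Ω g =
      Nat.card (Quotient (orbitRel M Ω)) * Nat.card M := by
  rw [Finset.sum_subtype (univ.filter fun g => g ∈ M) (p := fun g => g ∈ M) (fun g => by simp),
    Nat.card_eq_fintype_card, Nat.card_eq_fintype_card,
    ← sum_card_fixedBy_eq_card_orbits_mul_card_group]
  refine Finset.sum_congr rfl fun g _ => ?_
  rw [fx, ← Fintype.card_subtype]
  exact Fintype.card_congr (Equiv.refl _)

omit [Fintype G] [Fintype Ω] in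
theorem transitive_of_card_orbits (M : Subgroup G) [Finite Ω]
    (h : Nat.card (Quotient (orbitRel M Ω)) ≤ 1) : ∀ a b : Ω, ∃ m ∈ M, m • a = b := by
  intro a b
  have hs : Subsingleton (Quotient (orbitRel M Ω)) := Finite.card_le_one_iff_subsingleton.1 h
  have := Quotient.exact (hs.elim (Quotient.mk _ b) (Quotient.mk _ a))
  obtain ⟨m, hm⟩ := this
  exact ⟨m.1, m.2, hm⟩

theorem sum_fx_univ [IsPretransitive G Ω] [Nonempty Ω] : ∑ g : G, fx Ω g = Fintype.card G := by
  have h := sum_fx (Ω := Ω) (⊤ : Subgroup G)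
  rw [Subgroup.card_top, Nat.card_eq_fintype_card (α := G)] at h
  simp only [Subgroup.mem_top, Finset.filter_true] at h
  rw [h]
  have h1 : Nat.card (Quotient (orbitRel (⊤ : Subgroup G) Ω)) = 1 := by
    rw [Nat.card_eq_one_iff_unique]
    refine ⟨⟨fun a b => Quotient.inductionOn₂ a b fun x y => Quotient.sound ?_⟩,
      ⟨Quotient.mk _ (Classical.arbitrary Ω)⟩⟩
    obtain ⟨g, hg⟩ := exists_smul_eq G y x
    exact ⟨⟨g, Subgroup.mem_top g⟩, hg⟩
  rw [h1, one_mul]

/-- A subgroup with more than half of the derangements is transitive. -/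
theorem transitive_of_half [IsPretransitive G Ω] [Nonempty Ω] (M : Subgroup G)
    (h : (derSet G Ω).card < 2 * ((derSet G Ω).filter (fun g => g ∈ M)).card) :
    ∀ a b : Ω, ∃ m ∈ M, m • a = b := by
  refine transitive_of_card_orbits M (Nat.le_of_lt_succ ?_)
  by_contra hcon
  have htot := sum_fx_univ (G := G) (Ω := Ω)
  have hsplit := Finset.sum_filter_add_sum_filter_not (univ : Finset G) (fun g => g ∈ M) (fx Ω)
  have hM := sum_fx (Ω := Ω) M
  have h2 : 2 * Nat.card M ≤ Nat.card (Quotient (orbitRel M Ω)) * Nat.card M :=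
    Nat.mul_le_mul_right _ (by omega)
  have hout : (univ.filter fun g => ¬ g ∈ M).card ≤
      (∑ g ∈ univ.filter (fun g => ¬ g ∈ M), fx Ω g) +
        ((derSet G Ω).filter fun g => ¬ g ∈ M).card := by
    have : (derSet G Ω).filter (fun g => ¬ g ∈ M) =
        (univ.filter fun g => ¬ g ∈ M).filter (fun g => Der Ω g) := by
      ext g; simp [mem_derSet, and_comm]
    rw [this, Finset.card_filter (fun g => Der Ω g), ← Finset.sum_add_distrib, Finset.card_eq_sum_ones]
    refine Finset.sum_le_sum fun g _ => ?_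
    by_cases hg : Der Ω g
    · simp [hg]
    · simp only [hg, if_false, add_zero]; exact fx_pos hg
  have hcM : (univ.filter fun g => g ∈ M).card = Nat.card M := by
    rw [Nat.card_eq_fintype_card, Fintype.card_subtype]
  have hc := Finset.card_filter_add_card_filter_not (s := (univ : Finset G)) (fun g => g ∈ M)
  rw [Finset.card_univ] at hc
  have hd := Finset.card_filter_add_card_filter_not (s := derSet G Ω) (fun g => g ∈ M)
  have hle : ((derSet G Ω).filter fun g => g ∈ M).card ≤ Nat.card M := by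
    rw [← hcM]
    exact Finset.card_le_card fun g hg => by simp [(Finset.mem_filter.1 hg).2]
  omega

/-- The elements other than `1` with a fixed point. -/
noncomputable def fixSet (G Ω : Type*) [Group G] [MulAction G Ω] [Fintype G] : Finset G :=
  univ.filter fun g => g ≠ 1 ∧ ¬ Der Ω g

theorem count [IsPretransitive G Ω] [Nonempty Ω] :
    (∑ g ∈ fixSet G Ω, (fx Ω g - 1)) + Fintype.card Ω = (derSet G Ω).card + 1 := by
  have hsplit : (univ : Finset G) = insert 1 (derSet G Ω ∪ fixSet G Ω) := by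
    ext g; simp [mem_derSet, fixSet]; tauto
  have h1 : (1 : G) ∉ derSet G Ω ∪ fixSet G Ω := by
    simp [mem_derSet, fixSet, not_der_one]
  have hdis : Disjoint (derSet G Ω) (fixSet G Ω) := by
    rw [Finset.disjoint_left]
    intro g hg hg'
    simp [mem_derSet, fixSet] at hg hg'
    exact hg'.2 hg
  have htot := sum_fx_univ (G := G) (Ω := Ω)
  rw [hsplit, Finset.sum_insert h1, Finset.sum_union hdis,
    Finset.sum_eq_zero (s := derSet G Ω) (fun g hg => fx_zero (mem_derSet.1 hg)), zero_add, fx_one] at htot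
  rw [← Finset.card_univ (α := G), hsplit, Finset.card_insert_of_notMem h1, Finset.card_union_of_disjoint hdis] at htot
  have hE : ∀ g ∈ fixSet G Ω, fx Ω g = fx Ω g - 1 + 1 := by
    intro g hg
    have := fx_pos (Ω := Ω) (g := g) (by simp [fixSet] at hg; exact hg.2)
    omega
  rw [Finset.sum_congr rfl hE, Finset.sum_add_distrib, ← Finset.card_eq_sum_ones] at htot
  omega

/-- The derangements with `1` form a subgroup. -/
def Closed (G Ω : Type*) [Group G] [MulAction G Ω] : Prop :=
  ∀ x y : G, Der Ω x → Der Ω y → x * y = 1 ∨ Der Ω (x * y)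

omit [Fintype G] [Fintype Ω] in
theorem inv_eq_self {x : G} (hinv : ∀ g : G, Der Ω g → g * g = 1) (hx : Der Ω x) : x⁻¹ = x :=
  inv_eq_of_mul_eq_one_right (hinv x hx)

/-- For few derangements no product of two of them fixes a point. -/
theorem closed_of_card_le [IsPretransitive G Ω] [Nonempty Ω] (hinv : ∀ g : G, Der Ω g → g * g = 1)
    (h : (derSet G Ω).card < Fintype.card Ω) : Closed G Ω := by
  intro x y hx hy
  by_contra hno
  push Not at hno
  obtain ⟨hne, hnd⟩ := hno
  have hcount := count (G := G) (Ω := Ω)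
  have hzero : ∑ g ∈ fixSet G Ω, (fx Ω g - 1) = 0 := by omega
  have h1 : fx Ω (x * y) ≤ 1 := by
    have := (Finset.sum_eq_zero_iff.1 hzero) (x * y) (by simp [fixSet, hne, hnd])
    omega
  simp only [Der, not_forall, not_not] at hnd
  obtain ⟨ω, hω⟩ := hnd
  have hxω : (x * y) • (x • ω) = x • ω := by
    have e : x * y * x = x * (x * y)⁻¹ := by
      rw [mul_inv_rev, inv_eq_self hinv hy, inv_eq_self hinv hx, ← mul_assoc]
    rw [← mul_smul, e, mul_smul, inv_smul_eq_iff.2 hω.symm]
  have := Finset.card_le_one.1 h1 (x • ω) (by simp [hxω]) ω (by simp [hω])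
  exact hx ω this

/-- Some product of two derangements fixing a point is inverted by more than half of them. -/
theorem exists_half [IsPretransitive G Ω] [Nonempty Ω] (hinv : ∀ g : G, Der Ω g → g * g = 1)
    (h : Fintype.card Ω ≤ (derSet G Ω).card) :
    ∃ g ∈ fixSet G Ω,
      (derSet G Ω).card < 2 * ((derSet G Ω).filter fun y => g * y ∈ derSet G Ω).card := by
  by_contra hno
  push Not at hno
  set D := derSet G Ω with hD
  set n := Fintype.card Ω with hn
  set d := D.card with hd
  have hn0 : 0 < n := Fintype.card_pos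
  -- Cauchy--Schwarz at each point
  have hlow : ∀ ω : Ω, d * d ≤ (n - 1) * ((D ×ˢ D).filter fun q : G × G => q.1 • ω = q.2 • ω).card := by
    intro ω
    have hmap : ∀ y ∈ D, y • ω ∈ (univ : Finset Ω).erase ω := fun y hy =>
      Finset.mem_erase.2 ⟨(mem_derSet.1 hy) ω, Finset.mem_univ _⟩
    have hd' := Finset.card_eq_sum_card_fiberwise hmap
    have hcs := sq_sum_le_card_mul_sum_sq (s := (univ : Finset Ω).erase ω)
      (f := fun b => (D.filter fun y => y • ω = b).card)
    rw [← hd', Finset.card_erase_of_mem (Finset.mem_univ _), Finset.card_univ, pow_two, ← hd] at hcs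
    refine hcs.trans (Nat.mul_le_mul_left _ (le_of_eq ?_))
    rw [Finset.card_eq_sum_card_fiberwise (f := fun q : G × G => q.1 • ω)
      (t := (univ : Finset Ω).erase ω) (fun q hq =>
        hmap q.1 (Finset.mem_product.1 (Finset.mem_filter.1 hq).1).1)]
    refine Finset.sum_congr rfl fun b _ => ?_
    rw [pow_two, ← Finset.card_product]
    congr 1
    ext ⟨x, y⟩
    simp only [Finset.mem_product, Finset.mem_filter]
    constructor
    · rintro ⟨⟨hx, e1⟩, hy, e2⟩; exact ⟨⟨⟨hx, hy⟩, e1.trans e2.symm⟩, e1⟩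
    · rintro ⟨⟨⟨hx, hy⟩, e⟩, e1⟩; exact ⟨⟨hx, e1⟩, hy, e.symm.trans e1⟩
  have hswap : ∑ ω : Ω, ((D ×ˢ D).filter fun q : G × G => q.1 • ω = q.2 • ω).card =
      ∑ g : G, (D.filter fun y => g * y ∈ D).card * fx Ω g := by
    have h1 : ∑ ω : Ω, ((D ×ˢ D).filter fun q : G × G => q.1 • ω = q.2 • ω).card =
        ∑ q ∈ D ×ˢ D, fx Ω (q.1 * q.2) := by
      simp only [Finset.card_filter, fx]
      rw [Finset.sum_comm]
      refine Finset.sum_congr rfl fun q hq => Finset.sum_congr rfl fun ω _ => ?_
      refine if_congr ?_ rfl rfl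
      rw [mul_smul, ← eq_inv_smul_iff, inv_eq_self hinv (mem_derSet.1 (Finset.mem_product.1 hq).1)]
      exact eq_comm
    rw [h1, Finset.sum_product_right]
    have h2 : ∀ y ∈ D, ∑ x ∈ D, fx Ω (x * y) = ∑ g : G, if g * y ∈ D then fx Ω g else 0 := by
      intro y hy
      rw [← Finset.sum_filter]
      refine Finset.sum_nbij' (fun x => x * y) (fun g => g * y) ?_ ?_ ?_ ?_ ?_
      · intro x hx
        simp only [Finset.mem_filter, Finset.mem_univ, true_and, Finset.mem_coe] at hx ⊢
        rw [mul_assoc, hinv y (mem_derSet.1 hy), mul_one]; exact hx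
      · intro g hg
        simp only [Finset.mem_filter, Finset.mem_univ, true_and, Finset.mem_coe] at hg ⊢
        exact hg
      · intro x _; rw [mul_assoc, hinv y (mem_derSet.1 hy), mul_one]
      · intro g _; rw [mul_assoc, hinv y (mem_derSet.1 hy), mul_one]
      · intros; rfl
    rw [Finset.sum_congr rfl h2, Finset.sum_comm]
    refine Finset.sum_congr rfl fun g _ => ?_
    rw [← Finset.sum_filter, Finset.sum_const, smul_eq_mul]
  have hup : ∀ g : G, (D.filter fun y => g * y ∈ D).card * fx Ω g ≤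
      (if g = 1 then d * n else 0) + if g ∈ fixSet G Ω then d * (fx Ω g - 1) else 0 := by
    intro g
    by_cases hg1 : g = 1
    · subst hg1
      rw [if_pos rfl, fx_one, ← hn]
      exact le_add_right (Nat.mul_le_mul_right _ (Finset.card_filter_le _ _))
    rw [if_neg hg1, zero_add]
    by_cases hgd : Der Ω g
    · rw [fx_zero hgd, mul_zero]; exact Nat.zero_le _
    have hgE : g ∈ fixSet G Ω := by simp [fixSet, hg1, hgd]
    rw [if_pos hgE]
    rcases (D.filter fun y => g * y ∈ D).eq_empty_or_nonempty with he | ⟨y, hy⟩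
    · rw [he]; simp
    obtain ⟨hyD, hgy⟩ := Finset.mem_filter.1 hy
    have h2 : 2 ≤ fx Ω g := by
      simp only [Der, not_forall, not_not] at hgd
      obtain ⟨ω, hω⟩ := hgd
      refine Finset.one_lt_card.2 ⟨ω, by simp [hω], y • ω, ?_, fun e => mem_derSet.1 hyD ω e.symm⟩
      have e : g * y = y * g⁻¹ := by
        have hy' := inv_eq_self hinv (mem_derSet.1 hyD)
        have := inv_eq_self hinv (mem_derSet.1 hgy)
        rw [mul_inv_rev, hy'] at this
        exact this.symm
      simp only [Finset.mem_filter, Finset.mem_univ, true_and]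
      rw [← mul_smul, e, mul_smul, inv_smul_eq_iff.2 hω.symm]
    have hm := hno g hgE
    calc (D.filter fun y => g * y ∈ D).card * fx Ω g
        ≤ (D.filter fun y => g * y ∈ D).card * (2 * (fx Ω g - 1)) := Nat.mul_le_mul_left _ (by omega)
      _ = 2 * (D.filter fun y => g * y ∈ D).card * (fx Ω g - 1) := by ring
      _ ≤ _ := Nat.mul_le_mul_right _ hm
  have hsum : ∑ ω : Ω, d * d ≤ (n - 1) * (d * n + d * ∑ g ∈ fixSet G Ω, (fx Ω g - 1)) := by
    refine (Finset.sum_le_sum fun ω _ => hlow ω).trans ?_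
    rw [← Finset.mul_sum, hswap]
    refine Nat.mul_le_mul_left _ ((Finset.sum_le_sum fun g _ => hup g).trans (le_of_eq ?_))
    rw [Finset.sum_add_distrib, Finset.sum_ite_eq', if_pos (Finset.mem_univ _), ← Finset.sum_filter,
      Finset.mul_sum]
    simp
  rw [Finset.sum_const, Finset.card_univ, smul_eq_mul, ← hn, ← mul_add] at hsum
  have hc := count (G := G) (Ω := Ω)
  rw [← hn, ← hD, ← hd] at hc
  rw [add_comm n, hc] at hsum
  obtain ⟨m, hm⟩ : ∃ m, n = m + 1 := ⟨n - 1, by omega⟩
  rw [hm, Nat.add_sub_cancel] at hsum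
  rw [hm] at h
  nlinarith

/-- From closure: a regular elementary abelian subgroup. -/
theorem exists_kernel [IsPretransitive G Ω] [Nonempty Ω] [FaithfulSMul G Ω]
    (hinv : ∀ g : G, Der Ω g → g * g = 1) (hc : Closed G Ω) :
    ∃ K : Subgroup G, (∀ g, g ∈ K ↔ g = 1 ∨ Der Ω g) ∧ Nat.card K = Fintype.card Ω ∧
      (derSet G Ω).card + 1 = Fintype.card Ω := by
  let K : Subgroup G :=
    { carrier := {g | g = 1 ∨ Der Ω g}
      one_mem' := Or.inl rfl
      mul_mem' := by
        rintro a b (rfl | ha) (rfl | hb)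
        · simp
        · simpa using Or.inr hb
        · simpa using Or.inr ha
        · exact hc a b ha hb
      inv_mem' := by
        rintro a (rfl | ha)
        · simp
        · exact Or.inr (by rwa [inv_eq_self hinv ha]) }
  refine ⟨K, fun g => Iff.rfl, ?_⟩
  have hcard : Nat.card K = (derSet G Ω).card + 1 := by
    rw [Nat.card_eq_fintype_card, Fintype.card_subtype,
      show univ.filter (fun g => g ∈ K) = insert 1 (derSet G Ω) by ext g; simp [mem_derSet]; rfl,
      Finset.card_insert_of_notMem (by simp [mem_derSet, not_der_one])]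
  have htr : ∀ a b : Ω, ∃ m ∈ K, m • a = b := by
    rcases Nat.eq_zero_or_pos (derSet G Ω).card with h0 | h0
    · intro a b
      have := count (G := G) (Ω := Ω)
      have h1 : Fintype.card Ω ≤ 1 := by omega
      exact ⟨1, K.one_mem, Fintype.card_le_one_iff.1 h1 _ _⟩
    · refine transitive_of_half K ?_
      rw [Finset.filter_true_of_mem (p := fun g => g ∈ K) (fun g hg => Or.inr (mem_derSet.1 hg))]
      omega
  have hbij : Nat.card K = Fintype.card Ω := by
    rw [← Nat.card_eq_fintype_card]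
    refine Nat.card_congr (Equiv.ofBijective (fun k : K => k.1 • Classical.arbitrary Ω) ⟨?_, ?_⟩)
    · intro a b e
      rcases (K.mul_mem (K.inv_mem b.2) a.2 : (b.1⁻¹ * a.1 = 1 ∨ Der Ω (b.1⁻¹ * a.1))) with h | h
      · exact Subtype.ext (inv_mul_eq_one.1 h).symm
      · exfalso
        refine h (Classical.arbitrary Ω) ?_
        rw [mul_smul]; exact inv_smul_eq_iff.2 e
    · intro b
      obtain ⟨m, hm, e⟩ := htr (Classical.arbitrary Ω) b
      exact ⟨⟨m, hm⟩, e⟩
  exact ⟨hbij, by omega⟩

omit [Fintype Ω] in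
/-- The centraliser of a derangement is a `2`-group. -/
theorem centralizer_two_group (hinv : ∀ g : G, Der Ω g → g * g = 1) {y : G} (hy : Der Ω y) :
    IsPGroup 2 (Subgroup.centralizer ({y} : Set G)) := by
  rw [IsPGroup.iff_card]
  refine ⟨_, Nat.eq_prime_pow_of_unique_prime_dvd Nat.card_pos.ne' fun {q} hq hqd => ?_⟩
  by_contra hq2
  haveI : Fact q.Prime := ⟨hq⟩
  obtain ⟨c, hc⟩ := exists_prime_orderOf_dvd_card' q hqd
  have hcy : Commute y c.1 := (Subgroup.mem_centralizer_singleton_iff.1 c.2).symm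
  have hoc : orderOf c.1 = q := by rw [Subgroup.orderOf_coe, hc]
  obtain ⟨t, ht⟩ := hq.odd_of_ne_two hq2
  have hyq : (y * c.1) ^ q = y := by
    rw [hcy.mul_pow, ← hoc, pow_orderOf_eq_one, mul_one, hoc, ht, pow_succ, pow_mul, pow_two, hinv y hy,
      one_pow, one_mul]
  have hd : Der Ω (y * c.1) := by
    intro ω hω
    refine hy ω ?_
    have : ∀ i : ℕ, (y * c.1) ^ i • ω = ω := by
      intro i
      induction i with
      | zero => simp
      | succ i ih => rw [pow_succ, mul_smul, hω, ih]
    rw [← hyq]; exact this q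
  have h2 := hinv _ hd
  rw [← pow_two, hcy.mul_pow, pow_two, hinv y hy, one_mul] at h2
  have := Nat.le_of_dvd (by norm_num) (hoc ▸ orderOf_dvd_iff_pow_eq_one.2 h2)
  have := hq.two_le
  omega

/-- An element outside a normal regular elementary abelian group of derangements is no derangement. -/
theorem no_derangement_outside [IsPretransitive G Ω] [FaithfulSMul G Ω] [Nonempty Ω]
    (hinv : ∀ g : G, Der Ω g → g * g = 1) (K : Subgroup G) (hKn : K.Normal)
    (hfree : ∀ k ∈ K, k = 1 ∨ Der Ω k) (htr : ∀ a b : Ω, ∃ k ∈ K, k • a = b) (y : G) (hy : Der Ω y) :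
    y ∈ K := by
  by_contra hyK
  set ω₀ := Classical.arbitrary Ω
  have hsq : ∀ k ∈ K, k * k = 1 := by
    intro k hk
    rcases hfree k hk with rfl | h
    · simp
    · exact hinv k h
  have hcomm : ∀ a ∈ K, ∀ b ∈ K, a * b = b * a := by
    intro a ha b hb
    have h := hsq _ (K.mul_mem ha hb)
    rw [← inv_eq_of_mul_eq_one_right h, mul_inv_rev, inv_eq_of_mul_eq_one_right (hsq a ha),
      inv_eq_of_mul_eq_one_right (hsq b hb)]
  have hfree' : ∀ a ∈ K, ∀ b ∈ K, a • ω₀ = b • ω₀ → a = b := by
    intro a ha b hb e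
    rcases hfree _ (K.mul_mem (K.inv_mem hb) ha) with h | h
    · exact (inv_mul_eq_one.1 h).symm
    · exact absurd (by rw [mul_smul]; exact inv_smul_eq_iff.2 e) (h ω₀)
  obtain ⟨k₀, hk₀, ek₀⟩ := htr ω₀ (y • ω₀)
  set h := k₀ * y with hh
  have hy' : y = k₀ * h := by rw [hh, ← mul_assoc, hsq k₀ hk₀, one_mul]
  have hhω : h • ω₀ = ω₀ := by rw [hh, mul_smul, ← ek₀, ← mul_smul, hsq k₀ hk₀, one_smul]
  have hcK : ∀ k ∈ K, h * k * h⁻¹ ∈ K := fun k hk => hKn.conj_mem k hk h
  -- derangements of the coset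
  have hder : ∀ k ∈ K, (∀ a ∈ K, k ≠ a * (h * a * h⁻¹)) → Der Ω (k * h) := by
    intro k hk hne ω hω
    obtain ⟨a, ha, rfl⟩ := htr ω₀ ω
    have e : k * h * a = (k * (h * a * h⁻¹)) * h := by group
    rw [← mul_smul, e, mul_smul, hhω] at hω
    have := hfree' _ (K.mul_mem hk (hcK a ha)) a ha hω
    refine hne a ha (Eq.symm ?_)
    nth_rewrite 1 [← this]
    rw [mul_assoc, hsq _ (hcK a ha), mul_one]
  have hk₀ne : ∀ a ∈ K, k₀ ≠ a * (h * a * h⁻¹) := by
    intro a ha e
    refine hy (a • ω₀) ?_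
    rw [hy', ← mul_smul, show k₀ * h * a = (k₀ * (h * a * h⁻¹)) * h by group, mul_smul, hhω, e,
      mul_assoc, hsq _ (hcK a ha), mul_one]
  have hh2 : h * h ∈ K := by
    have h1 := hinv y hy
    rw [hy', show k₀ * h * (k₀ * h) = k₀ * (h * k₀ * h⁻¹) * (h * h) by group, mul_eq_one_iff_eq_inv] at h1
    have : (h * h) = (k₀ * (h * k₀ * h⁻¹))⁻¹ := by rw [h1, inv_inv]
    rw [this]
    exact K.inv_mem (K.mul_mem hk₀ (hcK _ hk₀))
  have hhh : h * h = 1 := hfree' _ hh2 1 K.one_mem (by rw [mul_smul, hhω, hhω, one_smul])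
  have hfixK : ∀ k ∈ K, (∀ a ∈ K, k ≠ a * (h * a * h⁻¹)) → h * k * h⁻¹ = k := by
    intro k hk hne
    have h1 := hinv _ (hder k hk hne)
    rw [show k * h * (k * h) = k * (h * k * h⁻¹) * (h * h) by group, hhh, mul_one, mul_eq_one_iff_inv_eq,
      inv_eq_of_mul_eq_one_right (hsq k hk)] at h1
    exact h1.symm
  have hall : ∀ k ∈ K, h * k * h⁻¹ = k := by
    intro k hk
    by_cases hne : ∀ a ∈ K, k ≠ a * (h * a * h⁻¹)
    · exact hfixK k hk hne
    push Not at hne
    obtain ⟨a, ha, e⟩ := hne
    have h2 : h * (k * k₀) * h⁻¹ = k * k₀ := by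
      refine hfixK _ (K.mul_mem hk hk₀) fun b hb e2 => hk₀ne (a * b) (K.mul_mem ha hb) ?_
      calc k₀ = k * (k * k₀) := by rw [← mul_assoc, hsq k hk, one_mul]
        _ = (a * (h * a * h⁻¹)) * (b * (h * b * h⁻¹)) := by rw [e2, e]
        _ = a * ((h * a * h⁻¹) * b) * (h * b * h⁻¹) := by group
        _ = a * (b * (h * a * h⁻¹)) * (h * b * h⁻¹) := by rw [hcomm _ (hcK a ha) b hb]
        _ = _ := by group
    have h3 := hfixK k₀ hk₀ hk₀ne
    have : h * (k * k₀) * h⁻¹ = (h * k * h⁻¹) * (h * k₀ * h⁻¹) := by group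
    rw [h2, h3] at this
    exact (mul_right_cancel this).symm
  have h1 : h = 1 := by
    refine eq_of_smul_eq_smul (α := Ω) fun ω => ?_
    obtain ⟨a, ha, rfl⟩ := htr ω₀ ω
    rw [one_smul, ← mul_smul, show h * a = (h * a * h⁻¹) * h by group, mul_smul, hhω, hall a ha]
  exact hyK (by rw [hy', h1, mul_one]; exact hk₀)

end CfsgLib.Invol.InvDerange
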