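import Mathlib
import Cfsg.Agent.Lib.Invol.InvDerange

/-!
# Transitive groups in which all derangements are involutions: the induction
-/

set_option autoImplicit false

namespace CfsgLib.Invol.InvDerange

open scoped Classical
open MulAction Finset

universe u

variable {Ω : Type*} [Fintype Ω] [Nonempty Ω]

/-- The fixed point free elements other than `1` of a subgroup of order `n` are its nonidentity elements. -/
theorem card_filter_succ {G : Type u} [Group G] [Fintype G] [MulAction G Ω] (K : Subgroup G)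
    (hK : ∀ k ∈ K, k = 1 ∨ Der Ω k) :
    ((derSet G Ω).filter fun g => g ∈ K).card + 1 = Nat.card K := by
  rw [Nat.card_eq_fintype_card, Fintype.card_subtype,
    show (univ.filter fun g => g ∈ K) = insert 1 ((derSet G Ω).filter fun g => g ∈ K) by
      ext g
      simp only [Finset.mem_filter, Finset.mem_univ, true_and, Finset.mem_insert, mem_derSet]
      exact ⟨fun h => (hK g h).imp id fun h' => ⟨h', h⟩, fun h => h.elim (fun e => e ▸ K.one_mem) And.right⟩,
    Finset.card_insert_of_notMem (by simp [mem_derSet, not_der_one])]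

/-- The derangements with `1` form a subgroup. -/
theorem closed_all : ∀ (N : ℕ) (G : Type u) [Group G] [Fintype G] [MulAction G Ω] [FaithfulSMul G Ω]
    [IsPretransitive G Ω], Fintype.card G = N → (∀ g : G, Der Ω g → g * g = 1) → Closed G Ω := by
  intro N
  induction N using Nat.strong_induction_on with
  | _ N IH =>
  intro G _ _ _ _ _ hN hinv
  rcases Nat.lt_or_ge (derSet G Ω).card (Fintype.card Ω) with hlt | hge
  · exact closed_of_card_le hinv hlt
  exfalso
  set n := Fintype.card Ω with hn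
  -- proper transitive subgroups
  have hsub : ∀ M : Subgroup G, M ≠ ⊤ → (∀ a b : Ω, ∃ m ∈ M, m • a = b) →
      ∃ K : Subgroup G, (∀ g, g ∈ K ↔ g = 1 ∨ (g ∈ M ∧ Der Ω g)) ∧ Nat.card K = n ∧
        ((derSet G Ω).filter fun g => g ∈ M).card + 1 = n ∧ ∀ s ∈ M, s ∉ K → fx Ω s = 1 := by
    intro M hM htr
    haveI : IsPretransitive M Ω := ⟨fun a b => by obtain ⟨m, hm, e⟩ := htr a b; exact ⟨⟨m, hm⟩, e⟩⟩
    haveI : FaithfulSMul M Ω := ⟨fun {a b} h => Subtype.ext (eq_of_smul_eq_smul (α := Ω) h)⟩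
    have hlt : Fintype.card M < N := by
      rw [← hN]
      refine Fintype.card_subtype_lt (x := (Classical.not_forall.1 (mt (Subgroup.eq_top_iff' M).2 hM)).choose) ?_
      exact (Classical.not_forall.1 (mt (Subgroup.eq_top_iff' M).2 hM)).choose_spec
    have hinv' : ∀ m : M, Der Ω m → m * m = 1 := fun m hm => Subtype.ext (hinv m.1 hm)
    obtain ⟨K', hK', hcard, hd⟩ := exists_kernel hinv' (IH _ hlt M rfl hinv')
    refine ⟨K'.map M.subtype, ?_, ?_, ?_, ?_⟩
    · intro g
      rw [Subgroup.mem_map]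
      constructor
      · rintro ⟨m, hm, rfl⟩
        rcases (hK' m).1 hm with rfl | h
        · exact Or.inl rfl
        · exact Or.inr ⟨m.2, h⟩
      · rintro (rfl | ⟨hg, hd'⟩)
        · exact ⟨1, K'.one_mem, rfl⟩
        · exact ⟨⟨g, hg⟩, (hK' _).2 (Or.inr hd'), rfl⟩
    · rw [Subgroup.card_map_of_injective M.subtype_injective]; exact hcard
    · rw [show ((derSet G Ω).filter fun g => g ∈ M) = (derSet M Ω).map ⟨Subtype.val, Subtype.val_injective⟩ by
        ext g
        simp only [Finset.mem_filter, mem_derSet, Finset.mem_map, Function.Embedding.coeFn_mk]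
        exact ⟨fun ⟨h1, h2⟩ => ⟨⟨g, h2⟩, h1, rfl⟩, fun ⟨m, h1, e⟩ => e ▸ ⟨h1, m.2⟩⟩, Finset.card_map]
      exact hd
    · intro s hs hsK
      have hnot : ¬ ((⟨s, hs⟩ : M) = 1 ∨ Der Ω (⟨s, hs⟩ : M)) := fun h =>
        hsK ⟨⟨s, hs⟩, (hK' _).2 h, rfl⟩
      push Not at hnot
      have hzero : ∑ g ∈ fixSet M Ω, (fx Ω g - 1) = 0 := by
        have := count (G := M) (Ω := Ω)
        omega
      have h1 := (Finset.sum_eq_zero_iff.1 hzero) ⟨s, hs⟩ (by simp [fixSet, hnot.1, hnot.2])
      have h2 := fx_pos hnot.2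
      show fx Ω (⟨s, hs⟩ : M) = 1
      omega
  -- a subgroup with more than half of the derangements
  obtain ⟨g, hgE, hg⟩ := exists_half hinv hge
  let M : Subgroup G :=
    { carrier := {c | c * g * c⁻¹ = g ∨ c * g * c⁻¹ = g⁻¹}
      one_mem' := Or.inl (by group)
      mul_mem' := by
        rintro a b ha (hb | hb)
        · rcases ha with ha | ha
          · exact Or.inl (by rw [show a * b * g * (a * b)⁻¹ = a * (b * g * b⁻¹) * a⁻¹ by group, hb, ha])
          · exact Or.inr (by rw [show a * b * g * (a * b)⁻¹ = a * (b * g * b⁻¹) * a⁻¹ by group, hb, ha])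
        · rcases ha with ha | ha
          · exact Or.inr (by rw [show a * b * g * (a * b)⁻¹ = a * (b * g * b⁻¹) * a⁻¹ by group, hb,
              show a * g⁻¹ * a⁻¹ = (a * g * a⁻¹)⁻¹ by group, ha])
          · exact Or.inl (by rw [show a * b * g * (a * b)⁻¹ = a * (b * g * b⁻¹) * a⁻¹ by group, hb,
              show a * g⁻¹ * a⁻¹ = (a * g * a⁻¹)⁻¹ by group, ha, inv_inv])
      inv_mem' := by
        rintro a (ha | ha)
        · left
          calc a⁻¹ * g * a⁻¹⁻¹ = a⁻¹ * (a * g * a⁻¹) * a⁻¹⁻¹ := by rw [ha]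
            _ = g := by group
        · right
          calc a⁻¹ * g * a⁻¹⁻¹ = a⁻¹ * (a * g * a⁻¹)⁻¹ * a⁻¹⁻¹ := by rw [ha, inv_inv g]
            _ = g⁻¹ := by group }
  have hgne : g ≠ 1 ∧ ¬ Der Ω g := by simpa [fixSet] using hgE
  have hMtop : M ≠ ⊤ := by
    intro e
    obtain ⟨hg1, hgd⟩ := hgne
    simp only [Der, not_forall, not_not] at hgd
    obtain ⟨ω, hω⟩ := hgd
    refine hg1 (eq_of_smul_eq_smul (α := Ω) fun ξ => ?_)
    obtain ⟨c, rfl⟩ := exists_smul_eq G ω ξ
    rw [one_smul]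
    have hc : c⁻¹ * g * c⁻¹⁻¹ = g ∨ c⁻¹ * g * c⁻¹⁻¹ = g⁻¹ := (e ▸ Subgroup.mem_top c⁻¹ : c⁻¹ ∈ M)
    rw [← mul_smul, show g * c = c * (c⁻¹ * g * c⁻¹⁻¹) by group, mul_smul]
    rcases hc with h | h
    · rw [h, hω]
    · rw [h, inv_smul_eq_iff.2 hω.symm]
  have hsubM : ((derSet G Ω).filter fun y => g * y ∈ derSet G Ω) ⊆ (derSet G Ω).filter fun y => y ∈ M := by
    intro y hy
    obtain ⟨hyD, hgy⟩ := Finset.mem_filter.1 hy
    refine Finset.mem_filter.2 ⟨hyD, Or.inr ?_⟩
    rw [eq_inv_iff_mul_eq_one, inv_eq_self hinv (mem_derSet.1 hyD)]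
    calc y * g * y * g = y * ((g * y) * (g * y)) * y⁻¹ := by group
      _ = 1 := by rw [hinv _ (mem_derSet.1 hgy), mul_one, mul_inv_cancel]
  have hMhalf : (derSet G Ω).card < 2 * ((derSet G Ω).filter fun y => y ∈ M).card :=
    lt_of_lt_of_le hg (Nat.mul_le_mul_left 2 (Finset.card_le_card hsubM))
  obtain ⟨K, hK, hKcard, hKd, -⟩ := hsub M hMtop (transitive_of_half M hMhalf)
  have hdn : (derSet G Ω).card + 2 < 2 * n := by omega
  have hn2 : 2 ≤ n := by omega
  have hKfree : ∀ k ∈ K, k = 1 ∨ Der Ω k := fun k hk => ((hK k).1 hk).imp id And.right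
  have hKtr : ∀ a b : Ω, ∃ k ∈ K, k • a = b := by
    intro a
    have hinj : Function.Injective (fun k : K => k.1 • a) := by
      intro x y e
      rcases hKfree _ (K.mul_mem (K.inv_mem y.2) x.2) with h | h
      · exact Subtype.ext (inv_mul_eq_one.1 h).symm
      · exact absurd (by rw [mul_smul]; exact inv_smul_eq_iff.2 e) (h a)
    have hbij := (Fintype.bijective_iff_injective_and_card (fun k : K => k.1 • a)).2
      ⟨hinj, by rw [← Nat.card_eq_fintype_card, hKcard]⟩
    intro b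
    obtain ⟨k, hk⟩ := hbij.2 b
    exact ⟨k.1, k.2, hk⟩
  have huniq : ∀ M' : Subgroup G, M' ≠ ⊤ → K ≤ M' → ∀ L : Subgroup G, L ≤ M' → Nat.card L = n →
      (∀ l ∈ L, l = 1 ∨ Der Ω l) → L = K := by
    intro M' hM' hKM' L hL hLc hLfree
    obtain ⟨K', hK', hK'c, -, -⟩ := hsub M' hM' fun a b => by
      obtain ⟨k, hk, e⟩ := hKtr a b
      exact ⟨k, hKM' hk, e⟩
    have h1 : ∀ L : Subgroup G, L ≤ M' → Nat.card L = n → (∀ l ∈ L, l = 1 ∨ Der Ω l) → L = K' := by
      intro L hL hLc hLfree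
      exact Subgroup.eq_of_le_of_card_ge (fun l hl => (hK' l).2 ((hLfree l hl).imp id fun h => ⟨hL hl, h⟩))
        (by rw [hK'c, hLc])
    rw [h1 L hL hLc hLfree, h1 K hKM' hKcard hKfree]
  -- a second conjugate
  have hnn : ¬ K.Normal := by
    intro hN'
    have hsub' : derSet G Ω ⊆ (derSet G Ω).filter fun y => y ∈ K := fun y hy =>
      Finset.mem_filter.2 ⟨hy, no_derangement_outside hinv K hN' hKfree hKtr y (mem_derSet.1 hy)⟩
    have := Finset.card_le_card hsub'
    have := card_filter_succ K hKfree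
    omega
  obtain ⟨x, hxK, c, hcx⟩ : ∃ x ∈ K, ∃ c : G, c * x * c⁻¹ ∉ K := by
    by_contra hno
    push Not at hno
    exact hnn ⟨fun x hx c => hno x hx c⟩
  set L : Subgroup G := K.map (MulAut.conj c).toMonoidHom with hL
  have hLne : L ≠ K := fun e => hcx (e ▸ ⟨x, hxK, rfl⟩)
  have hLcard : Nat.card L = n := by
    rw [hL, Subgroup.card_map_of_injective (MulAut.conj c).injective]; exact hKcard
  have hLfree : ∀ l ∈ L, l = 1 ∨ Der Ω l := by
    rintro l ⟨k, hk, rfl⟩
    rcases hKfree k hk with rfl | h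
    · exact Or.inl (map_one _)
    · refine Or.inr fun ω hω => h (c⁻¹ • ω) ?_
      change (c * k * c⁻¹) • ω = ω at hω
      rw [mul_smul, mul_smul] at hω
      exact eq_inv_smul_iff.2 hω
  -- `K` is a Sylow subgroup
  have hKp : IsPGroup 2 K := by
    intro k
    refine ⟨1, Subtype.ext ?_⟩
    rcases hKfree k.1 k.2 with h | h
    · simp [h]
    · simp [pow_two, hinv _ h]
  obtain ⟨P, hP⟩ := hKp.exists_le_sylow
  by_cases hPtop : (P : Subgroup G) = ⊤
  · have hG : IsPGroup 2 G := by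
      have := P.isPGroup'
      rw [hPtop] at this
      exact this.of_equiv Subgroup.topEquiv
    haveI : Group.IsNilpotent G := hG.isNilpotent
    rcases eq_top_or_exists_le_coatom K with e | ⟨M', hM', hKM'⟩
    · exact hnn (e ▸ inferInstanceAs (⊤ : Subgroup G).Normal)
    haveI : M'.Normal := Subgroup.NormalizerCondition.normal_of_coatom M' Group.normalizerCondition_of_isNilpotent hM'
    refine hLne (huniq M' hM'.1 hKM' L ?_ hLcard hLfree)
    rintro _ ⟨k, hk, rfl⟩
    exact ‹M'.Normal›.conj_mem k (hKM' hk) c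
  obtain ⟨K', hK', hK'c, -, hone⟩ := hsub P hPtop fun a b => by
    obtain ⟨k, hk, e⟩ := hKtr a b
    exact ⟨k, hP hk, e⟩
  have hKK' : K = K' := Subgroup.eq_of_le_of_card_ge
    (fun l hl => (hK' l).2 ((hKfree l hl).imp id fun h => ⟨hP hl, h⟩)) (by rw [hK'c, hKcard])
  subst hKK'
  have hPK : (P : Subgroup G) = K := by
    refine le_antisymm (fun s hs => ?_) hP
    set ω₀ := Classical.arbitrary Ω
    obtain ⟨k, hk, e⟩ := hKtr ω₀ (s • ω₀)
    by_contra hsK
    have htK : k⁻¹ * s ∉ K := fun h => hsK (by simpa using K.mul_mem hk h)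
    have htP : k⁻¹ * s ∈ (P : Subgroup G) := mul_mem (inv_mem (hP hk)) hs
    have h1 := hone _ htP htK
    set t := k⁻¹ * s with ht
    have hcyc : IsPGroup 2 (Subgroup.zpowers t) :=
      P.isPGroup'.to_le (Subgroup.zpowers_le.2 htP)
    haveI : Fact (Nat.Prime 2) := ⟨Nat.prime_two⟩
    have hmod := hcyc.card_modEq_card_fixedPoints Ω
    have hfix : Nat.card (fixedPoints (Subgroup.zpowers t) Ω) = 1 := by
      rw [← h1, fx, ← Fintype.card_subtype, ← Nat.card_eq_fintype_card]
      refine Nat.card_congr (Equiv.subtypeEquivRight fun ω => ?_)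
      constructor
      · intro h; exact h ⟨t, Subgroup.mem_zpowers t⟩
      · rintro h ⟨u, hu⟩
        exact ((Subgroup.zpowers_le.2 (show t ∈ stabilizer G ω from h)) hu :)
    rw [hfix, Nat.card_eq_fintype_card, ← hn] at hmod
    obtain ⟨j, hj⟩ := hKp.exists_card_eq
    rw [hKcard] at hj
    rcases Nat.eq_zero_or_pos j with rfl | hj0
    · rw [pow_zero] at hj; omega
    · have h0 : n % 2 = 0 := by rw [hj]; exact Nat.mod_eq_zero_of_dvd (dvd_pow_self 2 hj0.ne')
      rw [Nat.ModEq, h0] at hmod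
      norm_num at hmod
  -- trivial intersection
  have hKcomm : ∀ y ∈ K, ∀ z ∈ K, z * y = y * z := by
    intro y hy z hz
    have h2 : ∀ w ∈ K, w⁻¹ = w := fun w hw => by
      rcases hKfree w hw with rfl | h
      · simp
      · exact inv_eq_self hinv h
    rw [← h2 _ (K.mul_mem hy hz), mul_inv_rev, h2 y hy, h2 z hz]
  have hti : ∀ y ∈ K, y ∈ L → y = 1 := by
    intro y hy hyL
    by_contra hy1
    have hyd := (hKfree y hy).resolve_left hy1
    have hKC : K ≤ Subgroup.centralizer ({y} : Set G) := fun z hz =>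
      Subgroup.mem_centralizer_singleton_iff.2 (hKcomm y hy z hz)
    have hLC : L ≤ Subgroup.centralizer ({y} : Set G) := by
      obtain ⟨y₀, hy₀, rfl⟩ := hyL
      rintro _ ⟨z, hz, rfl⟩
      refine Subgroup.mem_centralizer_singleton_iff.2 ?_
      rw [← map_mul, ← map_mul, hKcomm y₀ hy₀ z hz]
    obtain ⟨Q, hQ⟩ := (centralizer_two_group hinv hyd).exists_le_sylow
    haveI : Fact (Nat.Prime 2) := ⟨Nat.prime_two⟩
    have hQc : Nat.card (Q : Subgroup G) = n := by
      rw [Q.card_eq_multiplicity, ← P.card_eq_multiplicity, hPK, hKcard]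
    have hQK : K = Q := Subgroup.eq_of_le_of_card_ge (hKC.trans hQ) (by rw [hQc, hKcard])
    have hQL : L = Q := Subgroup.eq_of_le_of_card_ge (hLC.trans hQ) (by rw [hQc, hLcard])
    exact hLne (hQL.trans hQK.symm)
  have hdis : Disjoint ((derSet G Ω).filter fun y => y ∈ K) ((derSet G Ω).filter fun y => y ∈ L) := by
    rw [Finset.disjoint_left]
    intro y h1 h2
    obtain ⟨hyD, hyK⟩ := Finset.mem_filter.1 h1
    exact not_der_one (Ω := Ω) ((hti y hyK (Finset.mem_filter.1 h2).2) ▸ mem_derSet.1 hyD)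
  have h1 := Finset.card_le_card (Finset.union_subset (Finset.filter_subset (fun y => y ∈ K) (derSet G Ω))
    (Finset.filter_subset (fun y => y ∈ L) (derSet G Ω)))
  rw [Finset.card_union_of_disjoint hdis] at h1
  have h2 := card_filter_succ K hKfree
  have h3 := card_filter_succ L hLfree
  omega

end CfsgLib.Invol.InvDerange
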