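import Cfsg.Prelude.Def_TwoFusion
import Cfsg.Agent.Lib.Invol.Basic

/-!
# Isolated involutions
-/

namespace CfsgLib.Invol

variable {G : Type*} [Group G]

/-- Two commuting conjugates of an isolated involution are equal. -/
theorem eq_of_commute_conj {z : G} (hz : Cfsg.IsIsolatedInvolution z) (g h : G)
    (hc : Commute (g * z * g⁻¹) (h * z * h⁻¹)) : g * z * g⁻¹ = h * z * h⁻¹ := by
  have h1 : Commute z ((g⁻¹ * h) * z * (g⁻¹ * h)⁻¹) := by
    have h2 := hc.map (MulAut.conj g⁻¹).toMonoidHom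
    simp only [MulEquiv.toMonoidHom_eq_coe, MonoidHom.coe_coe, MulAut.conj_apply, inv_inv] at h2
    have e1 : g⁻¹ * (g * z * g⁻¹) * g = z := by group
    have e2 : g⁻¹ * (h * z * h⁻¹) * g = (g⁻¹ * h) * z * (g⁻¹ * h)⁻¹ := by group
    rwa [e1, e2] at h2
  have h3 := hz.2 _ h1
  calc g * z * g⁻¹ = g * ((g⁻¹ * h) * z * (g⁻¹ * h)⁻¹) * g⁻¹ := by rw [h3]
    _ = h * z * h⁻¹ := by group

variable [Finite G]

/-- The product of an isolated involution with any of its conjugates has odd order. -/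
theorem odd_mul_conj {z : G} (hz : Cfsg.IsIsolatedInvolution z) (g : G) :
    Odd (orderOf (z * (g * z * g⁻¹))) := by
  set v := g * z * g⁻¹ with hv
  have hvo : orderOf v = 2 := invol_conj hz.1 g
  obtain ⟨d, -, hwo, hord⟩ := exists_conj_two_pow hz.1 hvo
  have hwe : d * v * d⁻¹ = (d * g) * z * (d * g)⁻¹ := by rw [hv]; group
  rcases Nat.eq_zero_or_pos ((orderOf (z * v)).factorization 2) with h0 | hpos
  · rw [Nat.odd_iff]
    by_contra h7
    have h8 : 2 ∣ orderOf (z * v) := by omega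
    exact (Nat.Prime.factorization_pos_of_dvd Nat.prime_two (orderOf_pos _).ne' h8).ne' h0
  exfalso
  obtain ⟨s, hs⟩ := Nat.exists_eq_succ_of_ne_zero hpos.ne'
  rw [hs] at hord
  set w := d * v * d⁻¹ with hw
  have hne : w ≠ z := by
    intro h
    rw [h, invol_mul_self hz.1, orderOf_one] at hord
    exact absurd hord.symm (Nat.ne_of_gt (Nat.one_lt_pow (by omega) (by norm_num)))
  rcases Nat.eq_zero_or_pos s with rfl | hspos
  · -- `z` and `w` commute
    have hsq : (z * w) * (z * w) = 1 := invol_mul_self hord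
    have hc : Commute z w := by
      have := inv_eq_of_mul_eq_one_left hsq
      rw [mul_inv_rev, invol_inv hz.1, invol_inv hwo] at this
      exact this.symm
    exact hne (hwe.symm ▸ (hz.2 _ (hwe ▸ hc)))
  · obtain ⟨t, rfl⟩ := Nat.exists_eq_succ_of_ne_zero hspos.ne'
    set a := z * w with ha
    have hinv : z * a * z⁻¹ = a⁻¹ := invol_conj_mul hz.1 hwo
    have heven : Even (orderOf a) := by rw [hord]; exact ⟨2 ^ (t + 1), by rw [show t.succ.succ = t + 1 + 1 from rfl, pow_succ, mul_two]⟩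
    have hc := commute_pow_half hinv heven
    have hhalf : orderOf a / 2 = 2 * 2 ^ t := by
      rw [hord, show t.succ.succ = t + 1 + 1 from rfl, pow_succ, pow_succ]; omega
    have hconj : a ^ (-(2 ^ t : ℤ)) * z * (a ^ (-(2 ^ t : ℤ)))⁻¹ = z * a ^ (orderOf a / 2) := by
      rw [ha, zpow_conj_invol hz.1 hwo, ← ha, ← zpow_natCast a (orderOf a / 2), hhalf]
      congr 2
      push_cast; ring
    have hcz : Commute z (z * a ^ (orderOf a / 2)) := (Commute.refl z).mul_right hc.symm
    have heq := hz.2 _ (hconj ▸ hcz)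
    rw [hconj, mul_eq_left] at heq
    exact invol_ne_one (orderOf_pow_half heven) heq

theorem odd_conj_mul_conj {z : G} (hz : Cfsg.IsIsolatedInvolution z) (g h : G) :
    Odd (orderOf (g * z * g⁻¹ * (h * z * h⁻¹))) := by
  have e : g * z * g⁻¹ * (h * z * h⁻¹)
      = MulAut.conj g (z * ((g⁻¹ * h) * z * (g⁻¹ * h)⁻¹)) := by
    simp only [MulAut.conj_apply]; group
  rw [e, MulEquiv.orderOf_eq]
  exact odd_mul_conj hz _

/-- A conjugate of an isolated `z` is reached by an element of `⟨z * v⟩`. -/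
theorem exists_conj_zpowers {z : G} (hz : Cfsg.IsIsolatedInvolution z) (g : G) :
    ∃ d ∈ Subgroup.zpowers (z * (g * z * g⁻¹)), d * z * d⁻¹ = g * z * g⁻¹ :=
  exists_conj_eq_of_odd hz.1 (invol_conj hz.1 g) (odd_mul_conj hz g)

end CfsgLib.Invol
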