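import Cfsg.Agent.Lib.Invol.IsolatedTransversal
import Cfsg.Agent.Lib.Invol.TransferPower
import Cfsg.Agent.Lib.Invol.TI

/-!
# `O²` and isolated involutions
-/

namespace CfsgLib.Invol

variable {G : Type*} [Group G] [Finite G] {z : G}

theorem residual_eq_top_iff (hz : Cfsg.IsIsolatedInvolution z) :
    Cfsg.pResidual 2 G = ⊤ ↔ Cfsg.pResidual 2 ↥(Subgroup.centralizer ({z} : Set G)) = ⊤ := by
  have : Fact (Nat.Prime 2) := ⟨Nat.prime_two⟩
  set C := Subgroup.centralizer ({z} : Set G) with hC
  constructor
  · intro hG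
    have hidx : Nat.Coprime 2 C.index :=
      Nat.prime_two.coprime_iff_not_dvd.2 (not_two_dvd_index_centralizer hz)
    have hctl := residual_inf_eq_of_control (p := 2) C hidx
      (fun g hg _ a ha => centralizer_control hz hg ha)
    rw [hG, top_sup_eq, top_inf_eq] at hctl
    have htop : Cfsg.pResidual 2 ↥C ⊔ commutator ↥C = ⊤ := by
      apply Subgroup.map_injective C.subtype_injective
      rw [← hctl, ← MonoidHom.range_eq_map, Subgroup.range_subtype]
    -- a 2-group equal to its commutator subgroup is trivial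
    have hn := Fusion.pResidual_normal (G := C) (p := 2)
    have hq : IsPGroup 2 (C ⧸ Cfsg.pResidual 2 ↥C) := Fusion.isPGroup_quotient_pResidual _ le_rfl
    have : Group.IsNilpotent (C ⧸ Cfsg.pResidual 2 ↥C) := hq.isNilpotent
    have hperf : commutator (C ⧸ Cfsg.pResidual 2 ↥C) = ⊤ := by
      have h1 := congrArg (Subgroup.map (QuotientGroup.mk' (Cfsg.pResidual 2 ↥C))) htop
      rw [Subgroup.map_sup, QuotientGroup.map_mk'_self, bot_sup_eq,
        Subgroup.map_top_of_surjective _ (QuotientGroup.mk'_surjective _), commutator_def,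
        Subgroup.map_commutator, Subgroup.map_top_of_surjective _ (QuotientGroup.mk'_surjective _)] at h1
      rw [commutator_def]; exact h1
    by_contra hne
    have : Nontrivial (C ⧸ Cfsg.pResidual 2 ↥C) := QuotientGroup.nontrivial_iff.2 hne
    exact (IsSolvable.commutator_lt_top_of_nontrivial _).ne hperf
  · intro hCtop
    rw [eq_top_iff]
    intro g _
    have hle : C ≤ Cfsg.pResidual 2 G := by
      have h : (Cfsg.pResidual 2 ↥C).map C.subtype ≤ Cfsg.pResidual 2 G := by
        rw [Cfsg.pResidual, MonoidHom.map_closure]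
        refine (Subgroup.closure_le _).2 ?_
        rintro _ ⟨y, hy, rfl⟩
        refine Fusion.mem_pResidual ?_
        rwa [Subgroup.subtype_apply, Subgroup.orderOf_coe]
      rwa [hCtop, ← MonoidHom.range_eq_map, Subgroup.range_subtype] at h
    obtain ⟨k, ⟨⟨hk, -⟩, hkC⟩, -⟩ := inverted_transversal hz g
    have h1 : k ∈ Cfsg.pResidual 2 G := Fusion.mem_pResidual (Nat.coprime_two_right.2 hk)
    have := mul_mem h1 (inv_mem (hle hkC))
    simpa using this

end CfsgLib.Invol
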