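import Cfsg.Agent.Lib.Invol.ZStar
import Cfsg.Agent.Lib.Coprime.Action

/-!
# Sylow subgroups invariant under an isolated involution
-/

open Subgroup
open scoped Pointwise

set_option autoImplicit false

namespace CfsgLib.Invol

open Cfsg

universe u

variable {G : Type u} [Group G] [Finite G]

theorem exists_sylow_normalized_odd {z : G} (hz : IsIsolatedInvolution z) {p : ℕ} [Fact p.Prime]
    (hp : p ≠ 2) : ∃ P : Sylow p G, z ∈ normalizer ((P : Subgroup G) : Set G) := by
  haveI : (pPrimeCore 2 G).Normal := by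
    haveI := Coprime.pPrimeCore_characteristic (G := G) 2
    infer_instance
  obtain ⟨P₀⟩ : Nonempty (Sylow p G) := inferInstance
  set H := (P₀ : Subgroup G) ⊔ pPrimeCore 2 G with hH
  have hstep : ∀ x ∈ H, z * x * z⁻¹ ∈ H := fun x hx => by
    have h := mul_mem ((le_sup_right : pPrimeCore 2 G ≤ H) (zstar hz x)) hx
    rwa [inv_mul_cancel_right] at h
  have hzH : z ∈ normalizer (H : Set G) := Subgroup.mem_set_normalizer_iff.2 fun x =>
    ⟨hstep x, fun h => by
      have h2 := hstep _ h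
      rwa [show z * (z * x * z⁻¹) * z⁻¹ = (z * z) * x * (z * z)⁻¹ by group, invol_mul_self hz.1,
        one_mul, inv_one, mul_one] at h2⟩
  obtain ⟨k, hk⟩ := P₀.2.exists_card_eq
  have hdvd : Nat.card H ∣ p ^ k * Nat.card (pPrimeCore 2 G) := hk ▸ Coprime.card_sup_dvd_of_normal _ _
  have hodd : ¬ 2 ∣ Nat.card H := fun h => by
    rcases (Nat.prime_two.dvd_mul).1 (h.trans hdvd) with h' | h'
    · exact hp ((Nat.prime_dvd_prime_iff_eq Nat.prime_two Fact.out).1
        (Nat.prime_two.dvd_of_dvd_pow h')).symm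
    · exact Coprime.pPrimeCore_not_dvd Nat.prime_two h'
  have hcop : (Nat.card (zpowers z)).Coprime (Nat.card H) := by
    rw [Nat.card_zpowers, hz.1]; exact (Nat.prime_two.coprime_iff_not_dvd).2 hodd
  obtain ⟨R, hR, hzR⟩ := Coprime.exists_invariant_sylow (zpowers_le.2 hzH) hcop
    (Or.inl (Coprime.isSolvable_of_isMulCommutative inferInstance)) p
  have hv : (Nat.card H).factorization p = (Nat.card G).factorization p := by
    refine le_antisymm ((Nat.factorization_le_iff_dvd Nat.card_pos.ne' Nat.card_pos.ne').2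
      (card_subgroup_dvd_card H) p) ?_
    have h1 : p ^ (Nat.card G).factorization p ∣ Nat.card H := by
      rw [← P₀.card_eq_multiplicity]; exact card_dvd_of_le le_sup_left
    exact ((Fact.out : p.Prime).pow_dvd_iff_le_factorization Nat.card_pos.ne').1 h1
  exact ⟨Sylow.ofCard R (by rw [hR.2, hv]), hzR (mem_zpowers z)⟩

/-- A maximal `z`-invariant `p`-subgroup is a Sylow subgroup. -/
theorem exists_sylow_eq_of_maximal {z : G} (hz : IsIsolatedInvolution z) {p : ℕ} [Fact p.Prime]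
    (Q : Subgroup G) (hQ : IsPGroup p Q) (hzQ : z ∈ normalizer (Q : Set G))
    (hmax : ∀ R : Subgroup G, IsPGroup p R → z ∈ normalizer (R : Set G) → Q ≤ R → R = Q) :
    ∃ P : Sylow p G, (P : Subgroup G) = Q := by
  by_cases hp : p = 2
  · subst hp
    have hzp : IsPGroup 2 (zpowers z) := IsPGroup.of_card (n := 1) (by rw [Nat.card_zpowers, hz.1, pow_one])
    have hsup : IsPGroup 2 ↥(zpowers z ⊔ Q) :=
      IsPGroup.to_sup_of_normal_right' hzp hQ (zpowers_le.2 hzQ)
    obtain ⟨P, hP⟩ := hsup.exists_le_sylow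
    exact ⟨P, hmax P P.2 (le_normalizer (hP ((le_sup_left : zpowers z ≤ zpowers z ⊔ Q) (mem_zpowers z))))
      (le_sup_right.trans hP)⟩
  · set N := normalizer (Q : Set G) with hN
    obtain ⟨R, hR⟩ := exists_sylow_normalized_odd (isolated_subgroup hz N hzQ) (p := p) hp
    have hle : Q.subgroupOf N ≤ R := by
      haveI : (Q.subgroupOf N).Normal :=
        (normal_subgroupOf_iff_le_normalizer le_normalizer).2 le_rfl
      have hQN : IsPGroup p (Q.subgroupOf N) :=
        hQ.of_injective (subgroupOfEquivOfLe le_normalizer).toMonoidHom (MulEquiv.injective _)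
      obtain ⟨R', hR'⟩ := hQN.exists_le_sylow
      obtain ⟨g, rfl⟩ := MulAction.exists_smul_eq N R' R
      intro x hx
      rw [Sylow.coe_subgroup_smul]
      refine Subgroup.mem_pointwise_smul_iff_inv_smul_mem.2 (hR' ?_)
      have := (inferInstance : (Q.subgroupOf N).Normal).conj_mem x hx g⁻¹
      simpa [MulAut.smul_def] using this
    have hRQ : (R : Subgroup N).map N.subtype = Q := by
      refine hmax _ (R.2.map _) (Subgroup.mem_set_normalizer_iff.2 fun x => ?_) ?_
      · simp only [SetLike.mem_coe, Subgroup.mem_map, Subgroup.coe_subtype]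
        constructor
        · rintro ⟨y, hy, rfl⟩
          exact ⟨_, (Subgroup.mem_set_normalizer_iff.1 hR y).1 hy, by simp⟩
        · rintro ⟨y, hy, hyx⟩
          refine ⟨(⟨z, hzQ⟩ : N)⁻¹ * y * ⟨z, hzQ⟩, ?_, ?_⟩
          · have := (Subgroup.mem_set_normalizer_iff.1 hR ((⟨z, hzQ⟩ : N)⁻¹ * y * ⟨z, hzQ⟩)).2
            refine this ?_
            rw [show (⟨z, hzQ⟩ : N) * ((⟨z, hzQ⟩ : N)⁻¹ * y * ⟨z, hzQ⟩) * (⟨z, hzQ⟩ : N)⁻¹ = y by group]
            exact hy
          · simp only [Subgroup.coe_mul, InvMemClass.coe_inv, hyx]; group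
      · intro x hx
        exact ⟨⟨x, le_normalizer hx⟩, hle (show (⟨x, _⟩ : N) ∈ Q.subgroupOf N from hx), rfl⟩
    obtain ⟨P, hQP⟩ := hQ.exists_le_sylow
    refine ⟨P, ?_⟩
    by_contra hne
    have hlt : Q < (P : Subgroup G) := lt_of_le_of_ne hQP (fun h => hne h.symm)
    -- normalizers grow in the `p`-group `P`
    haveI := P.2.isNilpotent
    have hgrow := (Group.normalizerCondition_of_isNilpotent (G := (P : Subgroup G)))
      (Q.subgroupOf (P : Subgroup G))
      (lt_top_iff_ne_top.2 (fun h => hlt.not_ge (subgroupOf_eq_top.1 h)))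
    obtain ⟨x, hxn, hxQ⟩ := SetLike.exists_of_lt hgrow
    set R' := Q.subgroupOf N with hR'
    -- the subgroup generated by `Q` and `x` is a `p`-subgroup of `N`
    have hxN : (x : G) ∈ N := by
      refine Subgroup.mem_set_normalizer_iff.2 fun y => ?_
      constructor
      · intro hy
        exact Subgroup.mem_subgroupOf.1 ((Subgroup.mem_normalizer_iff.1 hxn ⟨y, hQP hy⟩).1 hy)
      · intro hy
        have hyP : y ∈ (P : Subgroup G) := by
          have := mul_mem (mul_mem (inv_mem x.2) (hQP hy)) x.2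
          simpa [mul_assoc] using this
        exact (Subgroup.mem_normalizer_iff.1 hxn ⟨y, hyP⟩).2 (Subgroup.mem_subgroupOf.2 hy)
    have hpow : ∃ j, (⟨(x : G), hxN⟩ : N) ^ p ^ j = 1 := by
      obtain ⟨j, hj⟩ := P.2 x
      exact ⟨j, Subtype.ext (congrArg Subtype.val hj :)⟩
    obtain ⟨R'', hR''⟩ := (IsPGroup.of_card (p := p) (n := (orderOf (⟨(x : G), hxN⟩ : N)).factorization p)
      (by
        rw [Nat.card_zpowers]
        obtain ⟨j, hj⟩ := hpow
        obtain ⟨i, -, hi⟩ := (Nat.dvd_prime_pow (Fact.out : p.Prime)).1 (orderOf_dvd_of_pow_eq_one hj)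
        rw [hi, (Fact.out : p.Prime).factorization_pow, Finsupp.single_eq_same]) :
      IsPGroup p (zpowers (⟨(x : G), hxN⟩ : N))).exists_le_sylow
    obtain ⟨g, hg⟩ := MulAction.exists_smul_eq N R'' R
    have hgx : g * ⟨(x : G), hxN⟩ * g⁻¹ ∈ (R : Subgroup N) := by
      rw [← hg, Sylow.coe_subgroup_smul]
      exact Subgroup.smul_mem_pointwise_smul _ (MulAut.conj g) _ (hR'' (mem_zpowers _))
    have h : ((g * ⟨(x : G), hxN⟩ * g⁻¹ : N) : G) ∈ Q := hRQ ▸ Subgroup.mem_map_of_mem N.subtype hgx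
    refine hxQ (Subgroup.mem_subgroupOf.2 ?_)
    simpa [mul_assoc] using (Subgroup.mem_set_normalizer_iff.1 g.2 (x : G)).2 (by simpa using h)

/-- Inverted elements form a transversal of the centralizer in an invariant odd `p`-group. -/
theorem relIndex_inverted {z : G} (hz : IsIsolatedInvolution z) {p : ℕ} [Fact p.Prime] (hp : p ≠ 2)
    (P : Subgroup G) (hP : IsPGroup p P) (hzP : z ∈ normalizer (P : Set G)) :
    (P ⊓ centralizer ({z} : Set G)).relIndex P =
      Nat.card {x : G // x ∈ P ∧ z * x * z⁻¹ = x⁻¹} := by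
  classical
  set K := (P ⊓ centralizer ({z} : Set G)).subgroupOf P with hK
  have hodd : ∀ x ∈ P, Odd (orderOf x) := fun x hx => by
    obtain ⟨j, hj⟩ := (IsPGroup.iff_orderOf.1 hP) ⟨x, hx⟩
    rw [Subgroup.orderOf_mk] at hj
    rw [hj]
    exact ((Fact.out : p.Prime).odd_of_ne_two hp).pow
  show K.index = _
  rw [Subgroup.index, eq_comm]
  refine Nat.card_eq_of_bijective
    (fun x : {x : G // x ∈ P ∧ z * x * z⁻¹ = x⁻¹} => QuotientGroup.mk (s := K) ⟨x.1, x.2.1⟩) ⟨?_, ?_⟩
  · intro a b h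
    have h' : (a.1⁻¹ * b.1) * z = z * (a.1⁻¹ * b.1) := by
      have := (Subgroup.mem_subgroupOf.1 (QuotientGroup.eq.1 h)).2
      exact Subgroup.mem_centralizer_singleton_iff.1 this
    refine Subtype.ext (inverted_unique hz (hodd _ a.2.1) a.2.2 (hodd _ b.2.1) b.2.2 ?_)
    calc a.1 * z * a.1⁻¹ = a.1 * (z * (a.1⁻¹ * b.1)) * b.1⁻¹ := by group
      _ = b.1 * z * b.1⁻¹ := by rw [← h']; group
  · intro q
    induction q using QuotientGroup.induction_on with
    | _ x =>
      obtain ⟨d, hd, hdz⟩ := exists_conj_zpowers hz (x : G)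
      have hmem : z * ((x : G) * z * (x : G)⁻¹) ∈ P := by
        have h1 : z * (x : G) * z⁻¹ ∈ P := (Subgroup.mem_set_normalizer_iff.1 hzP _).1 x.2
        rw [show z * ((x : G) * z * (x : G)⁻¹) = z * (x : G) * z⁻¹ * (z * z) * (x : G)⁻¹ by group,
          invol_mul_self hz.1, mul_one]
        exact mul_mem h1 (inv_mem x.2)
      have hdP : d ∈ P := zpowers_le.2 hmem hd
      have hinv : z * d * z⁻¹ = d⁻¹ := by
        obtain ⟨i, rfl⟩ := Subgroup.mem_zpowers_iff.1 hd
        rw [conj_zpow_of_inverts (invol_conj_mul hz.1 (invol_conj hz.1 (x : G))), zpow_neg]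
      refine ⟨⟨d, hdP, hinv⟩, QuotientGroup.eq.2 ?_⟩
      refine Subgroup.mem_subgroupOf.2 (Subgroup.mem_inf.2 ⟨mul_mem (inv_mem hdP) x.2,
        Subgroup.mem_centralizer_singleton_iff.2 ?_⟩)
      show d⁻¹ * (x : G) * z = z * (d⁻¹ * (x : G))
      calc d⁻¹ * (x : G) * z = d⁻¹ * ((x : G) * z * (x : G)⁻¹) * x := by group
        _ = z * (d⁻¹ * (x : G)) := by rw [← hdz]; group

/-- The centralizer part of an invariant Sylow subgroup is a Sylow subgroup of the centralizer. -/
theorem not_dvd_relIndex_centralizer {z : G} (hz : IsIsolatedInvolution z) {p : ℕ} [Fact p.Prime]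
    (hp : p ≠ 2) (P : Sylow p G) (hzP : z ∈ normalizer ((P : Subgroup G) : Set G)) :
    ¬ p ∣ ((P : Subgroup G) ⊓ centralizer ({z} : Set G)).relIndex (centralizer ({z} : Set G)) := by
  classical
  set C := centralizer ({z} : Set G) with hC
  obtain ⟨R⟩ : Nonempty (Sylow p C) := inferInstance
  set R0 := (R : Subgroup C).map C.subtype with hR0
  -- a maximal invariant `p`-subgroup over `R0`
  let 𝒮 : Set (Subgroup G) := {Q | IsPGroup p Q ∧ z ∈ normalizer (Q : Set G) ∧ R0 ≤ Q}
  have hR0S : R0 ∈ 𝒮 := by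
    refine ⟨R.2.map _, Subgroup.mem_set_normalizer_iff.2 fun x => ?_, le_rfl⟩
    constructor
    · intro hx
      rwa [(Subgroup.mem_centralizer_singleton_iff.1 (Subgroup.map_subtype_le _ hx)).symm,
        mul_inv_cancel_right]
    · intro hx
      have h := (Subgroup.mem_centralizer_singleton_iff.1 (Subgroup.map_subtype_le _ hx))
      have : x = z * x * z⁻¹ := by
        have e : z⁻¹ * (z * x * z⁻¹ * z) = z⁻¹ * (z * (z * x * z⁻¹)) := by rw [h]
        simp only [inv_mul_cancel_right, inv_mul_cancel_left] at e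
        exact e
      exact this ▸ hx
  obtain ⟨Q, hQmax⟩ := (Set.toFinite 𝒮).exists_maximal ⟨R0, hR0S⟩
  obtain ⟨⟨hQp, hzQ, hR0Q⟩, hmax⟩ := hQmax
  obtain ⟨P', hP'⟩ := exists_sylow_eq_of_maximal hz Q hQp hzQ fun T hT hzT hle =>
    le_antisymm (hmax ⟨hT, hzT, hR0Q.trans hle⟩ hle) hle
  obtain ⟨g, hg⟩ := MulAction.exists_smul_eq G P P'
  have hcoe : (P' : Subgroup G) = MulAut.conj g • (P : Subgroup G) := by
    rw [← hg, Sylow.coe_subgroup_smul]
  have hconjmem : ∀ x : G, x ∈ (P' : Subgroup G) ↔ g⁻¹ * x * g ∈ (P : Subgroup G) := fun x => by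
    rw [hcoe, Subgroup.mem_pointwise_smul_iff_inv_smul_mem]; simp [MulAut.smul_def]
  set Np := normalizer ((P : Subgroup G) : Set G) with hNp
  have hzg : g⁻¹ * z * g ∈ Np := by
    refine Subgroup.mem_set_normalizer_iff.2 fun x => ?_
    have h := Subgroup.mem_set_normalizer_iff.1 (hP' ▸ hzQ : z ∈ normalizer ((P' : Subgroup G) : Set G))
      (g * x * g⁻¹)
    simp only [SetLike.mem_coe, hconjmem] at h ⊢
    rw [show g⁻¹ * (g * x * g⁻¹) * g = x by group] at h
    rw [h, show g⁻¹ * (z * (g * x * g⁻¹) * z⁻¹) * g = g⁻¹ * z * g * x * (g⁻¹ * z * g)⁻¹ by group]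
  obtain ⟨d, hd, hdz⟩ := exists_conj_zpowers hz g⁻¹
  rw [inv_inv] at hd hdz
  have hdN : d ∈ Np := zpowers_le.2 (mul_mem hzP hzg) hd
  set g' := g * d with hg'
  have hg'C : g' * z = z * g' := by
    calc g * d * z = g * (d * z * d⁻¹) * d := by group
      _ = z * (g * d) := by rw [hdz]; group
  set K := (P : Subgroup G) ⊓ C with hK
  have hle : ∀ x ∈ R0, g'⁻¹ * x * g' ∈ K := by
    intro x hx
    refine Subgroup.mem_inf.2 ⟨?_, ?_⟩
    · have h1 : g⁻¹ * x * g ∈ (P : Subgroup G) := (hconjmem x).1 (hP' ▸ hR0Q hx)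
      have h2 := (Subgroup.mem_set_normalizer_iff.1 (inv_mem hdN) _).1 h1
      rw [inv_inv] at h2
      rw [hg', show (g * d)⁻¹ * x * (g * d) = d⁻¹ * (g⁻¹ * x * g) * d by group]
      exact h2
    · have hgC : g' ∈ C := Subgroup.mem_centralizer_singleton_iff.2 hg'C
      exact mul_mem (mul_mem (inv_mem hgC) (Subgroup.map_subtype_le _ hx)) hgC
  have hcard : Nat.card R0 ≤ Nat.card K :=
    Nat.card_le_card_of_injective (fun x : R0 => (⟨_, hle x.1 x.2⟩ : K)) fun a b h =>
      Subtype.ext (mul_left_cancel (mul_right_cancel (congrArg Subtype.val h :)))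
  rw [hR0, Subgroup.card_map_of_injective C.subtype_injective, R.card_eq_multiplicity] at hcard
  have hK2 : IsPGroup p K := P.2.to_le inf_le_left
  obtain ⟨j, hj⟩ := hK2.exists_card_eq
  rw [hj] at hcard
  have hjle := (Nat.pow_le_pow_iff_right (Fact.out : p.Prime).one_lt).1 hcard
  have hprod := (K.subgroupOf C).card_mul_index
  rw [Nat.card_congr (subgroupOfEquivOfLe (inf_le_right : K ≤ C)).toEquiv, hj] at hprod
  intro hdvd
  have h1 : p ^ (j + 1) ∣ Nat.card C := by
    rw [← hprod, pow_succ]; exact mul_dvd_mul_left _ hdvd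
  have := ((Fact.out : p.Prime).pow_dvd_iff_le_factorization Nat.card_pos.ne').1 h1
  omega

end CfsgLib.Invol
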