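import Cfsg.Prelude.Def_Transfer
import Cfsg.Agent.Lib.Fusion.Residual
import Cfsg.Agent.Lib.Coprime.Core
import Cfsg.Agent.Lib.PGroup.ExtraspecialClassify
import Mathlib.GroupTheory.Transfer
import Mathlib.GroupTheory.IndexNormal
import Mathlib.GroupTheory.PGroup
import Mathlib.GroupTheory.Commutator.Basic

/-!
# A large extraspecial subgroup lies in each index two subgroup of the centralizer

The transfer into `C(z) / K` of an involution `e ∈ E \ K` is computed modulo two by letting
`C_E(e)` act on the cosets that contribute.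
-/

set_option autoImplicit false

open Subgroup MulAction

namespace CfsgLib.Invol.LargeExtra

variable {G : Type*} [Group G]

/-- Transfer of an involution into a subgroup with a quotient of order two. -/
theorem transfer_involution [Finite G] (C : Subgroup G) (φ : C →* ℤˣ) (e : G) (he : e ^ 2 = 1) :
    MonoidHom.transfer φ e = (-1) ^ Nat.card {q : G ⧸ C //
      ∃ h : q.out⁻¹ * e * q.out ∈ C, φ ⟨_, h⟩ = -1} := by
  classical
  letI : Fintype (Quotient (orbitRel (zpowers e) (G ⧸ C))) := Fintype.ofFinite _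
  have hfix : ∀ (q : G ⧸ C), e • q = q ↔ q.out⁻¹ * e * q.out ∈ C := fun q => by
    conv_lhs => rw [← q.out_eq']
    rw [MulAction.Quotient.smul_mk, eq_comm, QuotientGroup.eq, smul_eq_mul, ← mul_assoc]
  have hfactor : ∀ (q : Quotient (orbitRel (zpowers e) (G ⧸ C)))
      (h : q.out.out⁻¹ * e ^ Function.minimalPeriod (e • ·) q.out * q.out.out ∈ C),
      φ ⟨_, h⟩ = if (∃ h : q.out.out⁻¹ * e * q.out.out ∈ C, φ ⟨_, h⟩ = -1) then -1 else 1 := by
    intro q h
    have hper : Function.minimalPeriod (e • ·) q.out ∣ 2 := by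
      refine Function.IsPeriodicPt.minimalPeriod_dvd ?_
      show (e • ·)^[2] q.out = q.out
      rw [smul_iterate]
      show e ^ 2 • q.out = _
      rw [he, one_smul]
    rcases (Nat.dvd_prime Nat.prime_two).1 hper with h1 | h2
    · have h' : q.out.out⁻¹ * e * q.out.out ∈ C := by rw [h1, pow_one] at h; exact h
      have he' : φ ⟨_, h⟩ = φ ⟨_, h'⟩ := congrArg φ (Subtype.ext (by simp only [h1, pow_one]))
      rw [he']
      split_ifs with hc
      · exact hc.2
      · exact (Int.units_eq_one_or _).resolve_right fun hh => hc ⟨h', hh⟩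
    · rw [if_neg]
      · have h' : (⟨_, h⟩ : C) = 1 := Subtype.ext (by
          show q.out.out⁻¹ * e ^ Function.minimalPeriod (e • ·) q.out * q.out.out = 1
          simp only [h2, he, mul_one, inv_mul_cancel])
        rw [h', map_one]
      · rintro ⟨h', -⟩
        have h1 : Function.minimalPeriod (e • ·) q.out = 1 :=
          Function.minimalPeriod_eq_one_iff_isFixedPt.2 ((hfix _).2 h')
        omega
  rw [MonoidHom.transfer_eq_prod_quotient_orbitRel_zpowers_quot φ e,
    Finset.prod_congr rfl (fun q _ => hfactor q _), Finset.prod_ite, Finset.prod_const_one, mul_one,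
    Finset.prod_const, ← Fintype.card_subtype, ← Nat.card_eq_fintype_card]
  congr 1
  -- fixed cosets are singleton orbits
  have hrep : ∀ a : G ⧸ C, e • a = a →
      (Quotient.mk'' a : Quotient (orbitRel (zpowers e) (G ⧸ C))).out = a := by
    intro a ha
    obtain ⟨g, hg⟩ := (Quotient.mk_out (s := orbitRel (zpowers e) (G ⧸ C)) a :
      orbitRel (zpowers e) (G ⧸ C) _ a)
    obtain ⟨i, hi⟩ := Subgroup.mem_zpowers_iff.1 g.2
    refine hg.symm.trans ?_
    show (g : G) • a = a
    rw [← hi]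
    exact (zpow_mem (show e ∈ stabilizer G a from ha) i :)
  refine Nat.card_congr
    { toFun := fun q => ⟨q.1.out, q.2⟩
      invFun := fun a => ⟨Quotient.mk'' a.1, ?_⟩
      left_inv := fun q => Subtype.ext (Quotient.out_eq' q.1)
      right_inv := fun a => Subtype.ext (hrep a.1 ((hfix _).2 a.2.1)) }
  rw [hrep a.1 ((hfix _).2 a.2.1)]
  exact a.2

/-- The data of an extraspecial `2`-subgroup `E` of `C(z)`. -/
structure Setting (z : G) (E : Subgroup G) : Prop where
  zne : z ≠ 1
  zsq : z * z = 1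
  zmem : z ∈ E
  le : ∀ a ∈ E, a * z = z * a
  comm : ∀ a ∈ E, ∀ b ∈ E, a * b = b * a ∨ a * b = z * (b * a)
  sq : ∀ a ∈ E, a * a = 1 ∨ a * a = z
  cent : ∀ a : G, (∀ b ∈ E, a * b = b * a) → a = 1 ∨ a = z
  norm : ∀ c : G, c * z = z * c → ∀ a ∈ E, c * a * c⁻¹ ∈ E
  two : IsPGroup 2 E

namespace Setting

variable {z : G} {E : Subgroup G} (S : Setting z E)
include S

theorem comm_quot {a b x : G} (ha : a ∈ E) (hb : b ∈ E) (hx : x ∈ E)
    (h : a * x = x * a ↔ b * x = x * b) : a⁻¹ * b * x = x * (a⁻¹ * b) := by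
  by_cases h1 : a * x = x * a
  · exact ((show Commute a x from h1).inv_left.mul_left (h.1 h1) : Commute (a⁻¹ * b) x)
  · have ha' : a * x = z * (x * a) := (S.comm a ha x hx).resolve_left h1
    have hb' : b * x = z * (x * b) := (S.comm b hb x hx).resolve_left fun hh => h1 (h.2 hh)
    have hz' : a⁻¹ * z = z * a⁻¹ := ((show Commute a z from S.le a ha).inv_left :)
    have hc : z * (a⁻¹ * x) = x * a⁻¹ := by
      have h2 : x = a⁻¹ * z * x * a := by
        calc x = a⁻¹ * (a * x) := by group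
          _ = a⁻¹ * (z * (x * a)) := by rw [ha']
          _ = _ := by group
      calc z * (a⁻¹ * x) = a⁻¹ * z * x := by rw [← mul_assoc, hz']
        _ = a⁻¹ * z * x * a * a⁻¹ := by group
        _ = x * a⁻¹ := by rw [← h2]
    calc a⁻¹ * b * x = a⁻¹ * (b * x) := by group
      _ = a⁻¹ * (z * (x * b)) := by rw [hb']
      _ = a⁻¹ * z * x * b := by group
      _ = z * (a⁻¹ * x) * b := by rw [hz']; group
      _ = _ := by rw [hc]; group

/-- A large extraspecial group cannot be separated by two binary invariants. -/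
theorem card_le [Finite G] (f : E → Bool × Bool)
    (hf : ∀ a b : E, f a = f b → (a : G)⁻¹ * b = 1 ∨ (a : G)⁻¹ * b = z) : Nat.card E ≤ 8 := by
  classical
  let F : E → (Bool × Bool) × Bool := fun a => (f a, decide (a = Function.invFun f (f a)))
  have hinj : Function.Injective F := by
    intro a b h
    simp only [F, Prod.mk.injEq] at h
    obtain ⟨h1, h2⟩ := h
    have hr : f (Function.invFun f (f a)) = f a := Function.invFun_eq ⟨a, rfl⟩
    rw [← h1] at h2
    rcases hf _ a hr with ha | ha <;> rcases hf _ b (hr.trans h1) with hb | hb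
    · exact Subtype.ext (mul_left_cancel (ha.trans hb.symm))
    · have h3 : a = Function.invFun f (f a) := Subtype.ext (inv_mul_eq_one.1 ha).symm
      have h4 : b = Function.invFun f (f a) := by
        simpa [← h3] using h2
      exact h3.trans h4.symm
    · have h4 : b = Function.invFun f (f a) := Subtype.ext (inv_mul_eq_one.1 hb).symm
      have h3 : a = Function.invFun f (f a) := by
        simpa [← h4] using h2
      exact h3.trans h4.symm
    · exact Subtype.ext (mul_left_cancel (ha.trans hb.symm))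
  simpa [Nat.card_eq_fintype_card] using Nat.card_le_card_of_injective F hinj

end Setting

/-- The core of the theorem. -/
theorem le_of_index_two [Finite G] {z : G} {E : Subgroup G} (S : Setting z E)
    (hE8 : 8 < Nat.card E) (hres : Cfsg.pResidual 2 G = ⊤) (K : Subgroup G)
    (hKi : K.relIndex (centralizer ({z} : Set G)) = 2) : E ≤ K := by
  classical
  set C := centralizer ({z} : Set G) with hC
  have hCmem : ∀ {a : G}, a ∈ C ↔ a * z = z * a := fun {a} => mem_centralizer_singleton_iff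
  have hEC : E ≤ C := fun a ha => hCmem.2 (S.le a ha)
  have hK2 : (K.subgroupOf C).index = 2 := hKi
  let φ : C →* ℤˣ := MonoidHom.mk' (fun s => if s ∈ K.subgroupOf C then 1 else -1) (fun a b => by
    by_cases ha : a ∈ K.subgroupOf C <;> by_cases hb : b ∈ K.subgroupOf C <;>
      simp [ha, hb, Subgroup.mul_mem_iff_of_index_two hK2])
  have hφ : ∀ (g : G) (h : g ∈ C), φ ⟨g, h⟩ = -1 ↔ g ∉ K := by
    intro g h
    show (if (⟨g, h⟩ : C) ∈ K.subgroupOf C then (1 : ℤˣ) else -1) = -1 ↔ _
    by_cases hg : g ∈ K <;> simp [Subgroup.mem_subgroupOf, hg]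
  -- commutators of elements of `C` lie in `K`
  have hcommK : ∀ a ∈ C, ∀ b ∈ C, ∀ w : G, a * b = w * (b * a) → w ∈ K := by
    intro a ha b hb w hw
    have hw' : w = a * b * a⁻¹ * b⁻¹ := by rw [hw]; group
    by_contra hn
    have hwC : w ∈ C := hw' ▸ C.mul_mem (C.mul_mem (C.mul_mem ha hb) (C.inv_mem ha)) (C.inv_mem hb)
    have h2 : φ ⟨w, hwC⟩ = 1 := by
      rw [show (⟨w, hwC⟩ : C) = ⟨a, ha⟩ * ⟨b, hb⟩ * ⟨a, ha⟩⁻¹ * ⟨b, hb⟩⁻¹ from Subtype.ext hw',
        map_mul, map_mul, map_mul, map_inv, map_inv, mul_comm (φ ⟨a, ha⟩), mul_inv_cancel_right,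
        mul_inv_cancel]
    rw [(hφ w hwC).2 hn] at h2
    exact absurd h2 (by decide)
  by_contra hle
  obtain ⟨x, hx, hxK⟩ := SetLike.not_le_iff_exists.1 hle
  -- `E` modulo `E ⊓ K`
  have hmulK : ∀ a ∈ E, ∀ b ∈ E, (a * b ∈ K ↔ (a ∈ K ↔ b ∈ K)) := fun a ha b hb => by
    simpa [Subgroup.mem_subgroupOf] using
      Subgroup.mul_mem_iff_of_index_two hK2 (a := ⟨a, hEC ha⟩) (b := ⟨b, hEC hb⟩)
  have hE0 : ¬ ∀ a ∈ E, a ∈ K → ∀ b ∈ E, b ∈ K → a * b = b * a := by
    intro hab
    refine absurd (S.card_le (fun a => (decide ((a : G) ∈ K), decide ((a : G) * x = x * a)))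
      fun a b h => ?_) (not_le.2 hE8)
    simp only [Prod.mk.injEq, decide_eq_decide] at h
    have hm : (a : G)⁻¹ * b ∈ E := E.mul_mem (E.inv_mem a.2) b.2
    have hk : (a : G)⁻¹ * b ∈ K := by
      rw [hmulK _ (E.inv_mem a.2) _ b.2, inv_mem_iff]; exact h.1
    have hc := S.comm_quot a.2 b.2 hx h.2
    refine S.cent _ fun d hd => ?_
    by_cases hdK : d ∈ K
    · exact hab _ hm hk d hd hdK
    · have h3 : d * x⁻¹ ∈ K := by
        rw [hmulK _ hd _ (E.inv_mem hx), inv_mem_iff]; exact iff_of_false hdK hxK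
      have h4 : Commute ((a : G)⁻¹ * b) (d * x⁻¹) :=
        hab _ hm hk _ (E.mul_mem hd (E.inv_mem hx)) h3
      have h5 := h4.mul_right (show Commute ((a : G)⁻¹ * b) x from hc)
      rw [inv_mul_cancel_right] at h5
      exact h5
  -- an involution outside `K`
  obtain ⟨e, he, heK, hee⟩ : ∃ e ∈ E, e ∉ K ∧ e * e = 1 := by
    by_contra hno
    push Not at hno
    have hsq : ∀ a ∈ E, a ∉ K → a * a = z := fun a ha hak =>
      (S.sq a ha).resolve_left (hno a ha hak)
    have hinv : ∀ a ∈ E, a ∈ K → x * a * x⁻¹ = a⁻¹ := by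
      intro a ha hak
      have h1 : a * x * (a * x) = z := hsq _ (E.mul_mem ha hx) fun hh => hxK
        (((hmulK a ha x hx).1 hh).1 hak)
      calc x * a * x⁻¹ = a⁻¹ * (a * x * (a * x)) * (x * x)⁻¹ := by group
        _ = a⁻¹ := by rw [h1, hsq x hx hxK, mul_inv_cancel_right]
    refine hE0 fun a ha hak b hb hbk => ?_
    have h1 := hinv _ (E.mul_mem ha hb) (K.mul_mem hak hbk)
    have h2 : x * (a * b) * x⁻¹ = a⁻¹ * b⁻¹ := by
      calc x * (a * b) * x⁻¹ = (x * a * x⁻¹) * (x * b * x⁻¹) := by group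
        _ = _ := by rw [hinv a ha hak, hinv b hb hbk]
    have h3 := congrArg (·⁻¹) (h1.symm.trans h2)
    simpa using h3
  have he1 : e ≠ 1 := fun h => heK (h ▸ K.one_mem)
  have hzK : z ∈ K := by
    by_contra hzK
    refine hE0 fun a ha _ b hb _ => (S.comm a ha b hb).resolve_right fun h => hzK ?_
    exact hcommK a (hEC ha) b (hEC hb) z h
  have hez : e ≠ z := fun h => heK (h ▸ hzK)
  obtain ⟨y, hy, hye⟩ : ∃ y ∈ E, y * e ≠ e * y := by
    by_contra hno
    push Not at hno
    rcases S.cent e (fun b hb => (hno b hb).symm) with h | h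
    · exact he1 h
    · exact hez h
  -- two elements of `C_E(e)` with commutator `z`
  obtain ⟨r₁, hr₁, hr₁e, r₂, hr₂, hr₂e, hr₁₂⟩ : ∃ r₁ ∈ E, r₁ * e = e * r₁ ∧ ∃ r₂ ∈ E,
      r₂ * e = e * r₂ ∧ r₁ * r₂ = z * (r₂ * r₁) := by
    by_contra hno
    push Not at hno
    refine absurd (S.card_le (fun a => (decide ((a : G) * e = e * a), decide ((a : G) * y = y * a)))
      fun a b h => ?_) (not_le.2 hE8)
    simp only [Prod.mk.injEq, decide_eq_decide] at h
    have hm : (a : G)⁻¹ * b ∈ E := E.mul_mem (E.inv_mem a.2) b.2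
    have hce : (a : G)⁻¹ * b * e = e * ((a : G)⁻¹ * b) := S.comm_quot a.2 b.2 he h.1
    have hcy : Commute ((a : G)⁻¹ * b) y := S.comm_quot a.2 b.2 hy h.2
    have hR : ∀ d ∈ E, d * e = e * d → Commute ((a : G)⁻¹ * b) d := fun d hd hde =>
      (S.comm _ hm d hd).resolve_right (hno _ hm hce d hd hde)
    refine S.cent _ fun d hd => ?_
    by_cases hde : d * e = e * d
    · exact hR d hd hde
    · have h5 : Commute ((a : G)⁻¹ * b) (y⁻¹ * d) := hR _ (E.mul_mem (E.inv_mem hy) hd)
        (S.comm_quot hy hd he (iff_of_false hye hde))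
      have h6 := hcy.mul_right h5
      rw [mul_inv_cancel_left] at h6
      exact h6
  let R : Subgroup G := E ⊓ centralizer {e}
  have hR : ∀ {a : G}, a ∈ R ↔ a ∈ E ∧ a * e = e * a := fun {a} => by
    simp [R, Subgroup.mem_inf, mem_centralizer_singleton_iff]
  have hzR : z ∈ R := hR.2 ⟨S.zmem, (S.le e he).symm⟩
  -- the centralizer of `R` in `E`
  have hCER : ∀ w ∈ E, (∀ r ∈ R, w * r = r * w) → w = 1 ∨ w = z ∨ w = e ∨ w = z * e := by
    intro w hw hwR
    have hall : ∀ v : G, (∀ r ∈ R, Commute v r) → Commute v y → v = 1 ∨ v = z := by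
      intro v hv hvy
      refine S.cent v fun d hd => ?_
      by_cases hde : d * e = e * d
      · exact hv d (hR.2 ⟨hd, hde⟩)
      · have h5 : Commute v (y⁻¹ * d) := hv _ (hR.2 ⟨E.mul_mem (E.inv_mem hy) hd,
          S.comm_quot hy hd he (iff_of_false hye hde)⟩)
        have h6 := hvy.mul_right h5
        rw [mul_inv_cancel_left] at h6
        exact h6
    by_cases hwy : w * y = y * w
    · rcases hall w hwR hwy with h | h <;> simp [h]
    · have hev : w⁻¹ * e * y = y * (w⁻¹ * e) := S.comm_quot hw he hy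
        (iff_of_false hwy fun h => hye h.symm)
      have heR : ∀ r ∈ R, Commute (w⁻¹ * e) r := fun r hr =>
        (show Commute w r from hwR r hr).inv_left.mul_left (hR.1 hr).2.symm
      rcases hall _ heR hev with h | h
      · exact Or.inr (Or.inr (Or.inl (inv_mul_eq_one.1 h)))
      · refine Or.inr (Or.inr (Or.inr ?_))
        have h7 : e = w * z := by rw [← h]; group
        rw [h7, ← mul_assoc, ← S.le w hw, mul_assoc, S.zsq, mul_one]
  -- the centralizer of `R` in `C(z)`
  have hCR : ∀ a : G, a * z = z * a → (∀ r ∈ R, a * r = r * a) → a ∈ E := by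
    intro a haz haR
    have hay : a * y * a⁻¹ ∈ E := S.norm a haz y hy
    have hay' : ∀ r ∈ R, (a * y * a⁻¹) * r * (a * y * a⁻¹)⁻¹ = y * r * y⁻¹ := by
      intro r hr
      have h1 : y * r * y⁻¹ ∈ R := by
        rcases S.comm y hy r (hR.1 hr).1 with h | h
        · rwa [h, mul_inv_cancel_right]
        · rw [h, mul_assoc, mul_inv_cancel_right]; exact R.mul_mem hzR hr
      calc (a * y * a⁻¹) * r * (a * y * a⁻¹)⁻¹ = a * (y * (a⁻¹ * r * a) * y⁻¹) * a⁻¹ := by group
        _ = a * (y * r * y⁻¹) * a⁻¹ := by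
          rw [mul_assoc a⁻¹ r a, ← haR r hr, inv_mul_cancel_left]
        _ = y * r * y⁻¹ := by rw [haR _ h1, mul_inv_cancel_right]
    have hw : ∀ r ∈ R, y⁻¹ * (a * y * a⁻¹) * r = r * (y⁻¹ * (a * y * a⁻¹)) := by
      intro r hr
      calc y⁻¹ * (a * y * a⁻¹) * r
          = y⁻¹ * ((a * y * a⁻¹) * r * (a * y * a⁻¹)⁻¹) * (a * y * a⁻¹) := by group
        _ = _ := by rw [hay' r hr]; group
    have hwE : y⁻¹ * (a * y * a⁻¹) ∈ E := E.mul_mem (E.inv_mem hy) hay
    -- the squares agree
    have hyy : a * (y * y) * a⁻¹ = y * y := by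
      rcases S.sq y hy with h | h <;> rw [h]
      · group
      · rw [haz, mul_inv_cancel_right]
    have hsq : ∀ w : G, y⁻¹ * (a * y * a⁻¹) = w → y * w * (y * w) = y * y := by
      intro w h
      rw [← h, mul_inv_cancel_left]
      calc a * y * a⁻¹ * (a * y * a⁻¹) = a * (y * y) * a⁻¹ := by group
        _ = y * y := hyy
    have hfin : ∀ b : G, (∀ r ∈ R, b * r = r * b) → b * y = y * b → b ∈ E := by
      intro b hbR hby
      have hcent : ∀ d ∈ E, b * d = d * b := by
        intro d hd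
        by_cases hde : d * e = e * d
        · exact hbR d (hR.2 ⟨hd, hde⟩)
        · have h5 : Commute b (y⁻¹ * d) := hbR _ (hR.2 ⟨E.mul_mem (E.inv_mem hy) hd,
            S.comm_quot hy hd he (iff_of_false hye hde)⟩)
          have h6 := (show Commute b y from hby).mul_right h5
          rw [mul_inv_cancel_left] at h6
          exact h6
      rcases S.cent b hcent with h | h <;> rw [h]
      exacts [E.one_mem, S.zmem]
    rcases hCER _ hwE hw with h | h | h | h
    · refine hfin a haR ?_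
      have h8 : a * y * a⁻¹ = y := (inv_mul_eq_one.1 h).symm
      calc a * y = a * y * a⁻¹ * a := by group
        _ = y * a := by rw [h8]
    · have h8 : a * y * a⁻¹ = y * z := by rw [← h, mul_inv_cancel_left]
      have heR : ∀ r ∈ R, e * a * r = r * (e * a) := fun r hr =>
        (show Commute e r from (hR.1 hr).2.symm).mul_left (haR r hr)
      have hey : e * y = z * (y * e) :=
        (S.comm e he y hy).resolve_left fun h' => hye h'.symm
      have hea : e * a * y = y * (e * a) := by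
        calc e * a * y = e * (a * y * a⁻¹) * a := by group
          _ = e * y * z * a := by rw [h8]; group
          _ = z * (y * e * z) * a := by rw [hey]; group
          _ = z * z * (y * e) * a := by
            rw [S.le _ (E.mul_mem hy he)]; group
          _ = y * (e * a) := by rw [S.zsq, one_mul, mul_assoc]
      have := E.mul_mem (E.inv_mem he) (hfin _ heR hea)
      rwa [inv_mul_cancel_left] at this
    · refine absurd ?_ hye
      have h9 := hsq _ h
      rw [mul_assoc, mul_left_cancel_iff, ← mul_assoc] at h9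
      calc y * e = e⁻¹ * (e * y * e) := by group
        _ = e * y := by rw [h9, inv_eq_of_mul_eq_one_right hee]
    · refine absurd ?_ hye
      have h9 := hsq _ h
      have hz1 : ∀ v ∈ E, v * (z * e) = z * (v * e) := fun v hv => by
        rw [← mul_assoc, S.le v hv, mul_assoc]
      rw [mul_assoc, mul_left_cancel_iff, ← mul_assoc, hz1 _ (E.mul_mem (E.mul_mem S.zmem he) hy),
        mul_assoc z e y, mul_assoc z (e * y) e, ← mul_assoc z z, S.zsq, one_mul] at h9
      calc y * e = e⁻¹ * (e * y * e) := by group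
        _ = e * y := by rw [h9, inv_eq_of_mul_eq_one_right hee]
  -- the transfer is trivial
  have hV : MonoidHom.transfer φ e = 1 := by
    have h := CfsgLib.Fusion.pResidual_le_ker (p := 2) (MonoidHom.transfer φ)
      (IsPGroup.of_card (n := 1) (by simp [Nat.card_eq_fintype_card, Fintype.card_units_int]))
    rw [hres] at h
    exact MonoidHom.mem_ker.1 (h (mem_top e))
  -- the contributing cosets
  let P : G → Prop := fun g => ∃ h : g⁻¹ * e * g ∈ C, φ ⟨_, h⟩ = -1
  have hP1 : ∀ g g' : G, (g : G ⧸ C) = g' → P g → P g' := by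
    rintro g g' hgg ⟨h, hh⟩
    have hc : g⁻¹ * g' ∈ C := QuotientGroup.eq.1 hgg
    have hid : g'⁻¹ * e * g' = (g⁻¹ * g')⁻¹ * (g⁻¹ * e * g) * (g⁻¹ * g') := by group
    have h' : g'⁻¹ * e * g' ∈ C := hid ▸ C.mul_mem (C.mul_mem (C.inv_mem hc) h) hc
    refine ⟨h', ?_⟩
    rw [show (⟨_, h'⟩ : C) = (⟨_, hc⟩ : C)⁻¹ * ⟨_, h⟩ * ⟨_, hc⟩ from Subtype.ext hid,
      map_mul, map_mul, map_inv, hh, mul_comm (φ ⟨_, hc⟩)⁻¹, inv_mul_cancel_right]
  let X : SubMulAction R (G ⧸ C) :=
    { carrier := {q | P q.out}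
      smul_mem' := by
        intro r q hq
        refine hP1 ((r : G) * q.out) _ ?_ ?_
        · rw [QuotientGroup.out_eq']
          show (r : G) • (q.out : G ⧸ C) = (r : G) • q
          rw [QuotientGroup.out_eq']
        · have hid : ((r : G) * q.out)⁻¹ * e * ((r : G) * q.out) = q.out⁻¹ * e * q.out := by
            calc ((r : G) * q.out)⁻¹ * e * ((r : G) * q.out)
                = q.out⁻¹ * ((r : G)⁻¹ * (e * r)) * q.out := by group
              _ = _ := by rw [← (hR.1 r.2).2, inv_mul_cancel_left]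
          obtain ⟨h, hh⟩ := hq
          exact ⟨hid ▸ h, by rw [← hh]; exact congrArg φ (Subtype.ext hid)⟩ }
  have hone : P 1 := ⟨by simpa using hEC he, (hφ _ _).2 (by simpa using heK)⟩
  have hX : Nat.card X = Nat.card {q : G ⧸ C //
      ∃ h : q.out⁻¹ * e * q.out ∈ C, φ ⟨_, h⟩ = -1} := rfl
  have hfp : ∀ q : X, q ∈ fixedPoints R X ↔ (q : G ⧸ C) = ((1 : G) : G ⧸ C) := by
    intro q
    constructor
    · intro hq
      have hg : ∀ r ∈ R, q.1.out⁻¹ * r * q.1.out ∈ C := by
        intro r hr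
        have h1 : r • (q.1.out : G ⧸ C) = q.1.out := by
          rw [QuotientGroup.out_eq']
          exact congrArg Subtype.val (hq ⟨r, hr⟩)
        rw [MulAction.Quotient.smul_mk, eq_comm, QuotientGroup.eq, smul_eq_mul, ← mul_assoc] at h1
        exact h1
      obtain ⟨hgE, hgφ⟩ := q.2
      set g := q.1.out with hgdef
      have hcomm : ∀ r ∈ R, g * z * g⁻¹ * r = r * (g * z * g⁻¹) := by
        intro r hr
        have h := hCmem.1 (hg r hr)
        calc g * z * g⁻¹ * r = g * (z * (g⁻¹ * r * g)) * g⁻¹ := by group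
          _ = g * (g⁻¹ * r * g * z) * g⁻¹ := by rw [h]
          _ = _ := by group
      have haE : g * z * g⁻¹ ∈ E := hCR _ (hcomm z hzR) hcomm
      rcases hCER _ haE hcomm with h | h | h | h
      · exact absurd (conj_eq_one_iff.1 h) S.zne
      · rw [← QuotientGroup.out_eq' q.1, ← hgdef, QuotientGroup.eq, mul_one]
        refine C.inv_mem (hCmem.2 ?_)
        calc g * z = g * z * g⁻¹ * g := by group
          _ = z * g := by rw [h]
      · exfalso
        have h1 : g⁻¹ * e * g = z := by rw [← h]; group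
        exact (hφ _ hgE).1 hgφ (h1 ▸ hzK)
      · exfalso
        have h1 : g⁻¹ * z * g ∈ K := hcommK _ (hg r₁ (hR.2 ⟨hr₁, hr₁e⟩))
          _ (hg r₂ (hR.2 ⟨hr₂, hr₂e⟩)) _ (by
          calc g⁻¹ * r₁ * g * (g⁻¹ * r₂ * g) = g⁻¹ * (r₁ * r₂) * g := by group
            _ = _ := by rw [hr₁₂]; group)
        have h2 : g⁻¹ * e * g = (g⁻¹ * z * g)⁻¹ * z := by
          calc g⁻¹ * e * g = (g⁻¹ * z * g)⁻¹ * (g⁻¹ * (z * e) * g) := by group
            _ = _ := by rw [← h]; group
        exact (hφ _ hgE).1 hgφ (h2 ▸ K.mul_mem (K.inv_mem h1) hzK)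
    · intro hq r
      refine Subtype.ext ?_
      show (r : G) • (q : G ⧸ C) = q
      rw [hq, MulAction.Quotient.smul_mk, eq_comm, QuotientGroup.eq, smul_eq_mul, inv_one, one_mul,
        mul_one]
      exact hEC (hR.1 r.2).1
  have hcard1 : Nat.card (fixedPoints R X) = 1 := by
    rw [Nat.card_eq_one_iff_unique]
    refine ⟨⟨fun a b => Subtype.ext (Subtype.ext ?_)⟩,
      ⟨⟨⟨((1 : G) : G ⧸ C), hP1 1 _ (QuotientGroup.out_eq' _).symm hone⟩, (hfp _).2 rfl⟩⟩⟩
    rw [(hfp _).1 a.2, (hfp _).1 b.2]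
  have hodd : Odd (Nat.card X) := by
    have hm := (S.two.to_le (inf_le_left : R ≤ E)).card_modEq_card_fixedPoints X
    rw [hcard1] at hm
    exact Nat.odd_iff.2 hm
  rw [transfer_involution C φ e (by rw [pow_two]; exact hee), ← hX, hodd.neg_one_pow] at hV
  exact absurd hV (by decide)

open scoped commutatorElement in
/-- The hypotheses of the theorems about large extraspecial subgroups give the setting. -/
theorem setting_of_pCore [Finite G] {z : G} {E : Subgroup G} (hz : orderOf z = 2)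
    (hE : E = (Cfsg.pCore 2 (centralizer ({z} : Set G))).map (centralizer ({z} : Set G)).subtype)
    (hext : Cfsg.IsExtraspecial 2 E) (hcent : centralizer (E : Set G) ≤ E) : Setting z E := by
  have : Fact (Nat.Prime 2) := ⟨Nat.prime_two⟩
  have hz1 : z ≠ 1 := fun h => by rw [h, orderOf_one] at hz; omega
  have hzsq : z * z = 1 := by rw [← pow_two, ← hz, pow_orderOf_eq_one]
  have hle : ∀ a ∈ E, a * z = z * a := fun a ha => by
    rw [hE] at ha
    exact mem_centralizer_singleton_iff.1 (map_subtype_le _ ha)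
  have hzE : z ∈ E := hcent (mem_centralizer_iff.2 fun a ha => hle a ha)
  obtain ⟨hsc, -⟩ := CfsgLib.PGroup.smallCenter_of_extraspecial (p := 2) hext
  have hcen : ∀ a : E, a ∈ center E → (a : G) = 1 ∨ (a : G) = z := by
    intro a ha
    have hzc : (⟨z, hzE⟩ : E) ∈ center E :=
      mem_center_iff.2 fun b => Subtype.ext (hle b b.2)
    obtain ⟨-, h2⟩ := hext
    rw [Nat.card_eq_two_iff' (1 : center E)] at h2
    obtain ⟨w, -, hw⟩ := h2
    by_cases ha1 : (a : G) = 1
    · exact Or.inl ha1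
    · refine Or.inr ?_
      have e1 := hw ⟨a, ha⟩ fun h => ha1 (congrArg (fun q : center E => ((q : E) : G)) h)
      have e2 := hw ⟨⟨z, hzE⟩, hzc⟩ fun h => hz1 (congrArg (fun q : center E => ((q : E) : G)) h)
      exact congrArg (fun q : center E => ((q : E) : G)) (e1.trans e2.symm)
  refine ⟨hz1, hzsq, hzE, hle, ?_, ?_, ?_, ?_, hext.1.1⟩
  · intro a ha b hb
    have h := hsc.comm_mem ⟨a, ha⟩ ⟨b, hb⟩
    have hv : ((⁅(⟨a, ha⟩ : E), ⟨b, hb⟩⁆ : E) : G) = a * b * a⁻¹ * b⁻¹ := rfl
    rcases hcen _ h with h' | h' <;> rw [hv] at h'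
    · exact Or.inl (calc a * b = a * b * a⁻¹ * b⁻¹ * (b * a) := by group
        _ = b * a := by rw [h', one_mul])
    · exact Or.inr (calc a * b = a * b * a⁻¹ * b⁻¹ * (b * a) := by group
        _ = z * (b * a) := by rw [h'])
  · intro a ha
    have h := hsc.pow_mem ⟨a, ha⟩
    simpa [pow_two] using hcen _ h
  · intro a ha
    have haE : a ∈ E := hcent (mem_centralizer_iff.2 fun b hb => (ha b hb).symm)
    exact hcen ⟨a, haE⟩ (mem_center_iff.2 fun b => Subtype.ext (ha b b.2).symm)
  · intro c hc a ha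
    rw [hE] at ha ⊢
    obtain ⟨a', ha', rfl⟩ := ha
    exact ⟨_, CfsgLib.Coprime.pCore_normal' 2 |>.conj_mem _ ha' ⟨c, mem_centralizer_singleton_iff.2 hc⟩, rfl⟩

end CfsgLib.Invol.LargeExtra
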