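import Cfsg.Agent.Lib.Invol.Taussky

/-!
A 2-group with no elementary abelian quotient of order 8 and a maximal subgroup of maximal class is
itself of maximal class.
-/
set_option autoImplicit false

namespace CfsgLib.Invol

open Subgroup
open scoped commutatorElement

universe u

theorem maxClass_step {S : Type u} [Group S] [Finite S] (h2 : IsPGroup 2 S)
    (hq : ∀ N : Subgroup S, N.Normal → (∀ x : S, x * x ∈ N) → N.index ≤ 4)
    (T : Subgroup S) (hidx : T.index = 2) (hna : ¬ IsMulCommutative T)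
    (hT : Nat.card T ≤ 4 * Nat.card (commutator T)) :
    Nat.card S ≤ 4 * Nat.card (commutator S) := by
  by_contra hlt
  push Not at hlt
  haveI : Fact (Nat.Prime 2) := ⟨Nat.prime_two⟩
  haveI : T.Normal := T.normal_of_index_eq_two hidx
  set D := ⁅T, T⁆ with hD
  have hDT : D ≤ T := commutator_le_self T
  have hDmap : (commutator T).map T.subtype = D := by
    rw [_root_.commutator_def, map_commutator, ← MonoidHom.range_eq_map, range_subtype]
  have hDcard : Nat.card D = Nat.card (commutator T) := by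
    rw [← hDmap, card_map_of_injective T.subtype_injective]
  have hcyc : IsCyclic (commutator T) := by
    obtain ⟨k, r, e, a, b, -, F⟩ := exists_std_frame (h2.to_subgroup T) hna hT
    exact isCyclic_of_le (commutator_le_zpowers_frame F)
  obtain ⟨c', hc'⟩ := isCyclic_iff_exists_zpowers_eq_top.1 hcyc
  set c : S := ((c' : T) : S) with hc
  have hDc : D = zpowers c := by
    have := congrArg (fun H => (H.map (commutator T).subtype).map T.subtype) hc'
    simp only [MonoidHom.map_zpowers, ← MonoidHom.range_eq_map, range_subtype] at this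
    rw [hDmap] at this
    exact this.symm
  have hcD : c ∈ D := hDc ▸ mem_zpowers c
  haveI hDn : D.Normal := inferInstance
  set N := zpowers (c * c) with hN
  have hND : N ≤ D := zpowers_le.2 (mul_mem hcD hcD)
  haveI hNn : N.Normal := ⟨fun n hn g => by
    obtain ⟨i, hi⟩ := mem_zpowers_iff.1 hn
    obtain ⟨j, hj⟩ := mem_zpowers_iff.1 (hDc ▸ hDn.conj_mem c hcD g)
    rw [← hi, ← conj_zpow]
    refine zpow_mem ?_ i
    rw [show g * (c * c) * g⁻¹ = g * c * g⁻¹ * (g * c * g⁻¹) by group, ← hj, ← zpow_add,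
      ← two_mul, zpow_mul, zpow_two]
    exact zpow_mem (mem_zpowers _) j⟩
  have hcN : c ∉ N := by
    intro h
    obtain ⟨j, hj⟩ := mem_zpowers_iff.1 h
    obtain ⟨k, hk⟩ := IsPGroup.iff_orderOf.1 h2 c
    have h1 : c ^ (2 * j - 1) = 1 := by
      rw [zpow_sub_one, zpow_mul, zpow_two, hj, mul_inv_cancel]
    rw [← orderOf_dvd_iff_zpow_eq_one, hk] at h1
    rcases k with _ | k
    · rw [pow_zero, orderOf_eq_one_iff] at hk
      refine hna ?_
      have hDbot : D = ⊥ := by rw [hDc, hk, zpowers_one_eq_bot]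
      exact le_centralizer_iff_isMulCommutative.1
        (commutator_eq_bot_iff_le_centralizer.1 hDbot)
    · have : (2 : ℤ) ∣ 2 * j - 1 := dvd_trans (by push_cast; exact dvd_pow_self 2 (by omega)) h1
      omega
  -- the derived group is `D`
  have hS' : commutator S = D := by
    have hle : D ≤ commutator S := by
      rw [_root_.commutator_def]; exact commutator_mono le_top le_top
    refine (eq_of_le_of_card_ge hle ?_).symm
    have hTS : Nat.card S = 2 * Nat.card T := by rw [← hidx, mul_comm, card_mul_index]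
    obtain ⟨i, hi⟩ := (h2.to_subgroup (commutator S)).exists_card_eq
    obtain ⟨j, hj⟩ := (h2.to_subgroup D).exists_card_eq
    have h1 : 2 ^ i < 2 ^ (j + 1) := by rw [← hi, pow_succ, ← hj]; omega
    have := (Nat.pow_lt_pow_iff_right (by norm_num : 1 < 2)).1 h1
    rw [hi, hj]
    exact Nat.pow_le_pow_right (by norm_num) (by omega)
  have hcom : ∀ x y : S, ⁅x, y⁆ ∈ D := fun x y => by
    rw [← hS']; exact commutator_mem_commutator (mem_top x) (mem_top y)
  let q := QuotientGroup.mk' N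
  have q1 : ∀ {u : S}, q u = 1 ↔ u ∈ N := fun {u} => QuotientGroup.eq_one_iff u
  set z := q c with hzdef
  have hz1 : z ≠ 1 := fun h => hcN (q1.1 h)
  have hzz : z * z = 1 := by rw [hzdef, ← map_mul]; exact q1.2 (mem_zpowers _)
  have hval : ∀ u ∈ D, q u = 1 ∨ q u = z := by
    intro u hu
    obtain ⟨i, rfl⟩ := mem_zpowers_iff.1 (hDc ▸ hu)
    rw [map_zpow, ← hzdef]
    obtain ⟨m, rfl⟩ | ⟨m, rfl⟩ := Int.even_or_odd i
    · left; rw [← two_mul, zpow_mul, zpow_two, hzz, one_zpow]
    · right; rw [zpow_add_one, zpow_mul, zpow_two, hzz, one_zpow, one_mul]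
  have hzc : ∀ g : S, Commute (q g) z := by
    intro g
    rcases hval _ (hDn.conj_mem c hcD g) with h | h
    · exfalso
      rw [map_mul, map_mul, map_inv] at h
      exact hz1 (by rw [hzdef]; calc q c = (q g)⁻¹ * (q g * q c * (q g)⁻¹) * q g := by group
                                    _ = 1 := by rw [h]; group)
    · rw [map_mul, map_mul, map_inv, mul_inv_eq_iff_eq_mul] at h
      exact h
  have hcentral : ∀ u ∈ D, ∀ g : S, Commute (q g) (q u) := by
    intro u hu g
    rcases hval u hu with h | h <;> rw [h]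
    · exact Commute.one_right _
    · exact hzc g
  have bil : ∀ x y t : S, q ⁅x * y, t⁆ = q ⁅x, t⁆ * q ⁅y, t⁆ := by
    intro x y t
    rw [show ⁅x * y, t⁆ = x * ⁅y, t⁆ * x⁻¹ * ⁅x, t⁆ by simp only [commutatorElement_def]; group,
      map_mul, map_mul, map_mul, map_inv, (hcentral _ (hcom y t) x).eq, mul_inv_cancel_right,
      (hcentral _ (hcom x t) _).eq]
  have bilD : ∀ u ∈ D, ∀ g : S, q ⁅u, g⁆ = 1 := fun u hu g => by
    rw [map_commutatorElement, commutatorElement_eq_one_iff_mul_comm]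
    exact ((hcentral u hu g).eq).symm
  obtain ⟨t₁, ht₁, t₂, ht₂, h12⟩ : ∃ t₁ ∈ T, ∃ t₂ ∈ T, q ⁅t₁, t₂⁆ = z := by
    by_contra hnone
    push Not at hnone
    refine hcN ((commutator_le.2 fun a ha b hb => ?_ : D ≤ N) hcD)
    exact q1.1 ((hval _ (hcom a b)).resolve_right (hnone a ha b hb))
  have hzi : z⁻¹ = z := inv_eq_of_mul_eq_one_left hzz
  have h21 : q ⁅t₂, t₁⁆ = z := by rw [← commutatorElement_inv, map_inv, h12, hzi]
  have self1 : ∀ t : S, q ⁅t, t⁆ = 1 := fun t => by rw [commutatorElement_self, map_one]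
  -- an element of `T` commuting modulo `N` with `t₁`, `t₂` lies in `D`
  have key : ∀ s ∈ T, q ⁅s, t₁⁆ = 1 → q ⁅s, t₂⁆ = 1 → s ∈ D := by
    intro s hs hs1 hs2
    let f : Fin 4 → T ⧸ D.subgroupOf T :=
      fun i => QuotientGroup.mk ((![1, ⟨t₁, ht₁⟩, ⟨t₂, ht₂⟩, ⟨t₁, ht₁⟩ * ⟨t₂, ht₂⟩] : Fin 4 → T) i)
    have hrep : ∀ u v : T, (QuotientGroup.mk u : T ⧸ D.subgroupOf T) = QuotientGroup.mk v →
        ∀ g : S, q ⁅(u : S), g⁆ = q ⁅(v : S), g⁆ := by
      intro u v h g
      have hm : ((u : S)⁻¹ * v) ∈ D := mem_subgroupOf.1 (QuotientGroup.eq.1 h)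
      conv_rhs => rw [show (v : S) = u * ((u : S)⁻¹ * v) by group]
      rw [bil, bilD _ hm, mul_one]
    have one_t : ∀ t : S, q ⁅(1 : S), t⁆ = 1 := fun t => by
      rw [commutatorElement_one_left, map_one]
    have e : ∀ i, q ⁅(((![1, ⟨t₁, ht₁⟩, ⟨t₂, ht₂⟩, ⟨t₁, ht₁⟩ * ⟨t₂, ht₂⟩] : Fin 4 → T) i) : S),
        t₁⁆ = ![1, 1, z, z] i ∧ q ⁅(((![1, ⟨t₁, ht₁⟩, ⟨t₂, ht₂⟩, ⟨t₁, ht₁⟩ * ⟨t₂, ht₂⟩] :
          Fin 4 → T) i) : S), t₂⁆ = ![1, z, 1, z] i := by
      intro i
      fin_cases i
      · exact ⟨one_t t₁, one_t t₂⟩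
      · exact ⟨self1 t₁, h12⟩
      · exact ⟨h21, self1 t₂⟩
      · refine ⟨?_, ?_⟩
        · show q ⁅t₁ * t₂, t₁⁆ = z
          rw [bil, self1, h21, one_mul]
        · show q ⁅t₁ * t₂, t₂⁆ = z
          rw [bil, self1, h12, mul_one]
    have hf : Function.Injective f := by
      intro i j h
      have h1 := hrep _ _ h t₁
      have h2' := hrep _ _ h t₂
      rw [(e i).1, (e j).1] at h1
      rw [(e i).2, (e j).2] at h2'
      fin_cases i <;> fin_cases j <;> simp_all
    have hsurj : Function.Surjective f := by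
      refine (Function.Injective.bijective_of_nat_card_le hf ?_).2
      rw [Nat.card_fin, ← index_eq_card, ← relIndex]
      have hm : Nat.card D * D.relIndex T = Nat.card T := by
        rw [← relIndex_bot_left, relIndex_mul_relIndex _ _ _ bot_le hDT, relIndex_bot_left]
      rw [hDcard] at hm
      by_contra hgt
      push Not at hgt
      have := Nat.mul_lt_mul_of_pos_left hgt (Nat.card_pos (α := commutator T))
      omega
    obtain ⟨i, hi⟩ := hsurj (QuotientGroup.mk ⟨s, hs⟩)
    have h1 := hrep _ _ hi t₁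
    have h2' := hrep _ _ hi t₂
    rw [(e i).1, hs1] at h1
    rw [(e i).2, hs2] at h2'
    fin_cases i
    · have hi' : (QuotientGroup.mk (1 : T) : T ⧸ D.subgroupOf T) = QuotientGroup.mk ⟨s, hs⟩ := hi
      have hm : (((1 : T) : S))⁻¹ * s ∈ D := mem_subgroupOf.1 (QuotientGroup.eq.1 hi')
      simpa using hm
    all_goals simp_all
  have hsqT : ∀ t ∈ T, t * t ∈ D := fun t ht => by
    refine key _ (mul_mem ht ht) ?_ ?_ <;>
    · rw [bil]
      rcases hval _ (hcom t _) with h | h <;> rw [h] <;> simp [hzz]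
  have hall : ∀ x : S, x * x ∈ D := by
    intro x
    obtain ⟨w, hw, hw1, hw2⟩ : ∃ w ∈ T, q ⁅x * w, t₁⁆ = 1 ∧ q ⁅x * w, t₂⁆ = 1 := by
      rcases hval _ (hcom x t₁) with h | h <;> rcases hval _ (hcom x t₂) with h' | h'
      · exact ⟨1, one_mem T, by simp [h], by simp [h']⟩
      · exact ⟨t₁, ht₁, by simp [bil, h], by simp [bil, h', h12, hzz]⟩
      · exact ⟨t₂, ht₂, by simp [bil, h, h21, hzz], by simp [bil, h']⟩
      · exact ⟨t₁ * t₂, mul_mem ht₁ ht₂, by simp [bil, h, h21, hzz],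
          by simp [bil, h', h12, hzz]⟩
    have hy : x * w * (x * w) ∈ D :=
      key _ (mul_self_mem_of_index_two hidx _) (by rw [bil, hw1, one_mul]) (by rw [bil, hw2, one_mul])
    set y := x * w with hydef
    rw [show x * x = y * y * (y⁻¹ * w⁻¹ * (y⁻¹)⁻¹ * (w⁻¹)⁻¹) * (w⁻¹ * w⁻¹) by
      rw [hydef]; group, ← commutatorElement_def]
    exact mul_mem (mul_mem hy (hcom _ _)) (hsqT _ (inv_mem hw))
  have hle := hq D hDn hall
  have hcard : Nat.card S = Nat.card D * D.index := (card_mul_index D).symm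
  rw [hS'] at hlt
  have := Nat.mul_le_mul_left (Nat.card D) hle
  omega

end CfsgLib.Invol
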