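import Cfsg.Agent.Lib.Coprime.LBalance.Main
import Cfsg.Agent.Lib.Coprime.Terminal
import Cfsg.Agent.Lib.Invol.BLayer.General
import Cfsg.Prelude.Def_Balance
import Mathlib.Tactic.Group

/-!
# A component of the centralizer of an involution inside a larger group

If no component of `Y` is larger than `K`, then `K` is a component of `Y` or diagonal in a pair of components.
-/

set_option autoImplicit false
set_option linter.style.haveILetI false
set_option linter.unusedSectionVars false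

namespace CfsgLib.Invol.MaxComp

open Subgroup CfsgLib.Coprime
open scoped commutatorElement

variable {Y : Type*} [Group Y] [Finite Y]

/-- The diagonal alternative: `K = {t (a t a⁻¹) : t ∈ L}`. -/
structure DiagTwo (a : Y) (K L : Subgroup Y) : Prop where
  comp : Cfsg.IsComponent L
  comp' : Cfsg.IsComponent (L.map (MulAut.conj a).toMonoidHom)
  card_eq : Nat.card L = Nat.card K
  moved : L.map (MulAut.conj a).toMonoidHom ≠ L
  not_central : ¬ K ≤ centralizer (L : Set Y)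
  mem : ∀ t ∈ L, t * (a * t * a⁻¹) ∈ K
  surj : ∀ k ∈ K, ∃ t ∈ L, t * (a * t * a⁻¹) = k
  inj : ∀ s ∈ L, ∀ t ∈ L, s * (a * s * a⁻¹) = t * (a * t * a⁻¹) → s = t

theorem exists_mul_of_layer {L : Subgroup Y} (hL : Cfsg.IsComponent L) {k : Y}
    (hk : k ∈ Cfsg.layer Y) : ∃ j ∈ L, ∃ c ∈ centralizer (L : Set Y), k = j * c := by
  have hle : Cfsg.layer Y ≤ L ⊔ centralizer (L : Set Y) := sSup_le fun M hM => by
    by_cases h : M = L
    · rw [h]; exact le_sup_left
    · exact (commutator_eq_bot_iff_le_centralizer.1 (components_commute hM hL h)).trans le_sup_right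
  obtain ⟨c, hc, j, hj, rfl⟩ := mem_sup_exists
    ((le_normalizer (H := L)).trans (normalizer_le_normalizer_centralizer L))
    (sup_comm L (centralizer (L : Set Y)) ▸ hle hk)
  exact ⟨j, hj, c, hc, (mem_centralizer_iff.1 hc j hj).symm⟩

theorem comm_central {L : Subgroup Y} {z z' j j' : Y} (hz : ∀ y ∈ L, Commute z y)
    (hz' : ∀ y ∈ L, Commute z' y) (hzL' : z' ∈ L) (hj : j ∈ L) (hj' : j' ∈ L) :
    ⁅z * j, z' * j'⁆ = ⁅j, j'⁆ := by
  simp only [commutatorElement_def, mul_inv_rev]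
  calc z * j * (z' * j') * (j⁻¹ * z⁻¹) * (j'⁻¹ * z'⁻¹)
      = z * (j * (z' * j') * j⁻¹) * z⁻¹ * j'⁻¹ * z'⁻¹ := by group
    _ = (j * (z' * j') * j⁻¹) * j'⁻¹ * z'⁻¹ := by
        rw [(hz _ (mul_mem (mul_mem hj (mul_mem hzL' hj')) (inv_mem hj))).eq, mul_inv_cancel_right]
    _ = (j * z') * j' * j⁻¹ * j'⁻¹ * z'⁻¹ := by group
    _ = z' * (j * j' * j⁻¹ * j'⁻¹) * z'⁻¹ := by rw [← (hz' j hj).eq]; group
    _ = j * j' * j⁻¹ * j'⁻¹ := by
        rw [(hz' _ (mul_mem (mul_mem (mul_mem hj hj') (inv_mem hj)) (inv_mem hj'))).eq,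
          mul_inv_cancel_right]

theorem comm_mul {j c j' c' : Y} (h1 : Commute j' c) (h2 : Commute j c') (h3 : Commute j c)
    (h4 : Commute j' c') : ⁅j * c, j' * c'⁆ = ⁅j, j'⁆ * ⁅c, c'⁆ := by
  simp only [commutatorElement_def, mul_inv_rev]
  calc j * c * (j' * c') * (c⁻¹ * j⁻¹) * (c'⁻¹ * j'⁻¹)
      = j * (c * j') * c' * c⁻¹ * (j⁻¹ * c'⁻¹) * j'⁻¹ := by group
    _ = j * (j' * c) * c' * c⁻¹ * (c'⁻¹ * j⁻¹) * j'⁻¹ := by rw [h1.eq, h2.inv_inv.eq]
    _ = j * j' * ((c * c' * c⁻¹ * c'⁻¹) * (j⁻¹ * j'⁻¹)) := by group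
    _ = j * j' * ((j⁻¹ * j'⁻¹) * (c * c' * c⁻¹ * c'⁻¹)) := by
        rw [(show Commute (c * c' * c⁻¹ * c'⁻¹) (j⁻¹ * j'⁻¹) from
          ((((h3.symm.mul_left h2.symm).mul_left h3.symm.inv_left).mul_left h2.symm.inv_left).inv_right).mul_right
            ((((h1.symm.mul_left h4.symm).mul_left h1.symm.inv_left).mul_left h4.symm.inv_left).inv_right)).eq]
    _ = j * j' * j⁻¹ * j'⁻¹ * (c * c' * c⁻¹ * c'⁻¹) := by group

/-- An element commuting with a perfect group modulo its centre centralizes it. -/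
theorem mem_centralizer_of_central_commutators {L : Subgroup Y} (hL : ⁅L, L⁆ = L) {k : Y}
    (h : ∀ t ∈ L, ∃ z ∈ centralizer (L : Set Y), z ∈ L ∧ k * t * k⁻¹ = z * t) :
    k ∈ centralizer (L : Set Y) := by
  rw [← zpowers_le, le_centralizer_iff]
  nth_rw 1 [← hL]
  rw [commutator_le]
  intro t ht s hs
  obtain ⟨z, hz, -, ez⟩ := h t ht
  obtain ⟨z', hz', hzL', ez'⟩ := h s hs
  have h1 : k * ⁅t, s⁆ * k⁻¹ = ⁅z * t, z' * s⁆ := by
    rw [← ez, ← ez']; exact map_commutatorElement (MulAut.conj k) t s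
  have c1 : ∀ u ∈ L, u * z = z * u := fun u hu => mem_centralizer_iff.1 hz u hu
  have c2 : ∀ u ∈ L, u * z' = z' * u := fun u hu => mem_centralizer_iff.1 hz' u hu
  have h2 : ⁅z * t, z' * s⁆ = ⁅t, s⁆ := by
    simp only [commutatorElement_def, mul_inv_rev]
    calc z * t * (z' * s) * (t⁻¹ * z⁻¹) * (s⁻¹ * z'⁻¹)
        = z * (t * z') * s * t⁻¹ * z⁻¹ * s⁻¹ * z'⁻¹ := by group
      _ = z * (z' * t) * s * t⁻¹ * z⁻¹ * s⁻¹ * z'⁻¹ := by rw [c2 t ht]
      _ = z * (z' * (t * s * t⁻¹)) * z⁻¹ * s⁻¹ * z'⁻¹ := by group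
      _ = ((z' * (t * s * t⁻¹)) * z) * z⁻¹ * s⁻¹ * z'⁻¹ := by
          rw [c1 _ (mul_mem hzL' (mul_mem (mul_mem ht hs) (inv_mem ht)))]
      _ = z' * (t * s * t⁻¹ * s⁻¹) * z'⁻¹ := by group
      _ = t * s * t⁻¹ * s⁻¹ := by
          rw [← c2 _ (mul_mem (mul_mem (mul_mem ht hs) (inv_mem ht)) (inv_mem hs)), mul_inv_cancel_right]
  rw [h2, mul_inv_eq_iff_eq_mul] at h1
  refine mem_centralizer_iff.2 fun q hq => ?_
  obtain ⟨n, rfl⟩ := mem_zpowers_iff.1 hq
  exact ((show Commute k ⁅t, s⁆ from h1).zpow_left n).eq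

theorem pump_two {a : Y} (ha : a * a = 1) {K : Subgroup Y} (hKH : K ≤ centralizer ({a} : Set Y))
    (hK : Cfsg.IsComponent (K.subgroupOf (centralizer ({a} : Set Y)))) (hKE : K ≤ Cfsg.layer Y)
    (hm : ∀ L : Subgroup Y, Cfsg.IsComponent L → Nat.card L ≤ Nat.card K) :
    Cfsg.IsComponent K ∨ ∃ L, DiagTwo a K L := by
  set H := centralizer ({a} : Set Y) with hH
  have hperf : ⁅K, K⁆ = K := by
    have := congrArg (Subgroup.map H.subtype) (commutator_self_of_isComponent hK)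
    rwa [map_commutator, map_subgroupOf_eq_of_le hKH] at this
  have hKne : K ≠ ⊥ := fun e => by
    haveI := nontrivial_of_isQuasisimple hK.2
    exact (Subgroup.nontrivial_iff_ne_bot _).1 (inferInstance : Nontrivial (K.subgroupOf H))
      (by rw [e, bot_subgroupOf])
  have hsplit : ∀ U : Subgroup Y, (U.subgroupOf H).IsSubnormal → U ≤ H →
      K ≤ U ∨ ∀ k ∈ K, ∀ u ∈ U, k * u = u * k := by
    intro U hU hUH
    rcases component_le_or_commutator_eq_bot hK hU with h | h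
    · exact Or.inl fun x hx => mem_subgroupOf.1 (h (mem_subgroupOf.2 hx :
        (⟨x, hKH hx⟩ : H) ∈ K.subgroupOf H))
    · exact Or.inr fun k hk u hu => congrArg Subtype.val (commutator_eq_bot_iff_forall.1 h
        ⟨k, hKH hk⟩ (mem_subgroupOf.2 hk) ⟨u, hUH hu⟩ (mem_subgroupOf.2 hu))
  obtain ⟨L, hL, hLK⟩ : ∃ L : Subgroup Y, Cfsg.IsComponent L ∧ ¬ K ≤ centralizer (L : Set Y) := by
    by_contra hc
    push Not at hc
    have h1 : K ≤ centralizer (Cfsg.layer Y : Set Y) :=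
      le_centralizer_iff.1 (sSup_le fun J hJ => le_centralizer_iff.1 (hc J hJ))
    refine hKne ?_
    rw [← hperf, commutator_eq_bot_iff_le_centralizer]
    exact h1.trans (centralizer_le hKE)
  have hLperf := commutator_self_of_isComponent hL
  have hKnL : K ≤ normalizer (L : Set Y) := hKE.trans (layer_le_normalizer_component hL)
  set La := L.map (MulAut.conj a).toMonoidHom with hLa
  by_cases hmv : La = L
  · left
    set U := L ⊓ H with hU
    have hUs : (U.subgroupOf H).IsSubnormal := by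
      rw [hU, inf_subgroupOf_right]; exact hL.1.subgroupOf
    rcases hsplit U hUs inf_le_right with h | h
    · have e : K = L := eq_of_le_of_card_ge (h.trans inf_le_left) (hm L hL)
      exact e ▸ hL
    exfalso
    refine hLK ?_
    have hCn : K ≤ normalizer (centralizer (L : Set Y) : Set Y) :=
      hKnL.trans (normalizer_le_normalizer_centralizer L)
    have hfix : ∀ k ∈ K, ∀ j ∈ L, ∀ c ∈ centralizer (L : Set Y), k = j * c →
        ∃ z ∈ centralizer (L : Set Y), z ∈ L ∧ a * j * a⁻¹ = z * j := by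
      intro k hk j hj c hc e
      have hamem : a ∈ normalizer (L : Set Y) := by rw [← conjBy_eq_self_iff]; exact hmv
      have e1 : a * k * a⁻¹ = k := by
        rw [mul_inv_eq_iff_eq_mul]; exact (mem_centralizer_singleton_iff.1 (hKH hk)).symm
      rw [e] at e1
      have hca : a * c * a⁻¹ ∈ centralizer (L : Set Y) :=
        (mem_normalizer_iff.1 (normalizer_le_normalizer_centralizer L hamem) c).1 hc
      have hja : a * j * a⁻¹ ∈ L := (mem_normalizer_iff.1 hamem j).1 hj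
      refine ⟨a * j * a⁻¹ * j⁻¹, ?_, mul_mem hja (inv_mem hj), by group⟩
      have e2 : a * j * a⁻¹ * j⁻¹ = j * (c * (a * c * a⁻¹)⁻¹) * j⁻¹ := by
        calc a * j * a⁻¹ * j⁻¹ = a * (j * c) * a⁻¹ * (a * c * a⁻¹)⁻¹ * j⁻¹ := by group
          _ = j * (c * (a * c * a⁻¹)⁻¹) * j⁻¹ := by rw [e1]; group
      rw [e2, mem_centralizer_iff.1 (mul_mem hc (inv_mem hca)) j hj, mul_inv_cancel_right]
      exact mul_mem hc (inv_mem hca)
    have key : ∀ k₁ ∈ K, ∀ k₂ ∈ K, ∀ k₃ ∈ K, ⁅⁅k₁, k₂⁆, k₃⁆ ∈ centralizer (L : Set Y) := by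
      intro k₁ h₁ k₂ h₂ k₃ h₃
      obtain ⟨j, hj, c, hc, e⟩ := exists_mul_of_layer hL (hKE h₁)
      obtain ⟨j', hj', c', hc', e'⟩ := exists_mul_of_layer hL (hKE h₂)
      obtain ⟨z, hz, hzL, ez⟩ := hfix k₁ h₁ j hj c hc e
      obtain ⟨z', hz', hzL', ez'⟩ := hfix k₂ h₂ j' hj' c' hc' e'
      have hj2 : ⁅j, j'⁆ ∈ L := by
        rw [commutatorElement_def]; exact mul_mem (mul_mem (mul_mem hj hj') (inv_mem hj)) (inv_mem hj')
      have hcent : ∀ x ∈ centralizer (L : Set Y), ∀ y ∈ L, Commute x y := fun x hx y hy =>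
        (mem_centralizer_iff.1 hx y hy).symm
      have hu : ⁅j, j'⁆ ∈ U := by
        refine mem_inf.2 ⟨hj2, mem_centralizer_singleton_iff.2 ?_⟩
        have h1 : a * ⁅j, j'⁆ * a⁻¹ = ⁅z * j, z' * j'⁆ := by
          rw [← ez, ← ez']; exact map_commutatorElement (MulAut.conj a) j j'
        rw [comm_central (hcent z hz) (hcent z' hz') hzL' hj hj', mul_inv_eq_iff_eq_mul] at h1
        exact h1.symm
      have e3 : ⁅k₁, k₂⁆ = ⁅j, j'⁆ * ⁅c, c'⁆ := by
        rw [e, e']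
        exact comm_mul (hcent c hc _ hj').symm (hcent c' hc' _ hj).symm (hcent c hc _ hj).symm
          (hcent c' hc' _ hj').symm
      have hcc : ⁅c, c'⁆ ∈ centralizer (L : Set Y) := by
        rw [commutatorElement_def]; exact mul_mem (mul_mem (mul_mem hc hc') (inv_mem hc)) (inv_mem hc')
      rw [e3, show ⁅⁅j, j'⁆ * ⁅c, c'⁆, k₃⁆ =
        ⁅j, j'⁆ * ⁅⁅c, c'⁆, k₃⁆ * ⁅j, j'⁆⁻¹ * ⁅⁅j, j'⁆, k₃⁆ by
          simp only [commutatorElement_def]; group,
        commutatorElement_eq_one_iff_mul_comm.2 (h k₃ h₃ _ hu).symm, mul_one]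
      have h4 : ⁅⁅c, c'⁆, k₃⁆ ∈ centralizer (L : Set Y) := by
        rw [commutatorElement_def, mul_assoc, mul_assoc, ← mul_assoc k₃]
        exact mul_mem hcc ((mem_normalizer_iff.1 (hCn h₃) _).1 (inv_mem hcc))
      rw [mem_centralizer_iff.1 h4 _ hj2, mul_inv_cancel_right]
      exact h4
    conv_lhs => rw [← hperf]
    conv_lhs => arg 1; rw [← hperf]
    rw [commutator_le]
    intro x hx z hz
    refine closure_induction ?_ ?_ ?_ ?_ hx
    · rintro g ⟨g₁, hg₁, g₂, hg₂, rfl⟩; exact key g₁ hg₁ g₂ hg₂ z hz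
    · rw [commutatorElement_one_left]; exact one_mem _
    · intro s t hs _ h1 h2
      rw [show ⁅s * t, z⁆ = s * ⁅t, z⁆ * s⁻¹ * ⁅s, z⁆ by simp only [commutatorElement_def]; group]
      exact mul_mem ((mem_normalizer_iff.1 (hCn (commutator_le_self _ hs)) _).1 h2) h1
    · intro s hs h1
      rw [show ⁅s⁻¹, z⁆ = s⁻¹ * ⁅s, z⁆⁻¹ * s by simp only [commutatorElement_def]; group]
      exact (mem_normalizer_iff''.1 (hCn (commutator_le_self _ hs)) _).1 (inv_mem h1)
  right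
  have hLac : Cfsg.IsComponent La := isComponent_map_equiv _ hL
  have hcom : ∀ s ∈ L, ∀ t ∈ La, Commute s t := fun s hs t ht =>
    commutator_eq_bot_iff_forall.1 (components_commute hL hLac (Ne.symm hmv)) s hs t ht
  have hcon : ∀ t ∈ L, a * t * a⁻¹ ∈ La := fun t ht => ⟨t, ht, rfl⟩
  let Δ : L →* Y :=
    { toFun := fun t => (t : Y) * (a * t * a⁻¹)
      map_one' := by simp
      map_mul' := fun s t => by
        have e := (hcom t t.2 _ (hcon s s.2)).eq
        show (s : Y) * t * (a * (s * t) * a⁻¹) = s * (a * s * a⁻¹) * (t * (a * t * a⁻¹))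
        calc (s : Y) * t * (a * (s * t) * a⁻¹) = s * ((t : Y) * (a * s * a⁻¹)) * (a * t * a⁻¹) := by
              group
          _ = s * (a * s * a⁻¹) * (t * (a * t * a⁻¹)) := by rw [e]; group }
  have hΔH : Δ.range ≤ H := by
    rintro _ ⟨t, rfl⟩
    refine mem_centralizer_singleton_iff.2 ?_
    show (t : Y) * (a * t * a⁻¹) * a = a * (t * (a * t * a⁻¹))
    have hi : a⁻¹ = a := inv_eq_of_mul_eq_one_right ha
    have e := (hcom t t.2 _ (hcon t t.2)).eq
    rw [hi] at e ⊢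
    calc (t : Y) * (a * t * a) * a = (a * t * a) * t * a := by rw [e]
      _ = a * (t * (a * t * a)) := by group
  have hΔE : Δ.range ≤ Cfsg.layer Y := by
    rintro _ ⟨t, rfl⟩
    exact mul_mem (component_le_layer hL t.2) (component_le_layer hLac (hcon t t.2))
  have hconj : ∀ x : Y, Commute x a → ∀ hx : x ∈ normalizer (L : Set Y), ∀ t : L,
      x * Δ t * x⁻¹ = Δ ⟨x * t * x⁻¹, (mem_normalizer_iff.1 hx t).1 t.2⟩ := by
    intro x hxa hx t
    show x * ((t : Y) * (a * t * a⁻¹)) * x⁻¹ = x * t * x⁻¹ * (a * (x * t * x⁻¹) * a⁻¹)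
    calc x * ((t : Y) * (a * t * a⁻¹)) * x⁻¹ = x * t * x⁻¹ * ((x * a) * t * (x * a)⁻¹) := by group
      _ = x * t * x⁻¹ * (a * (x * t * x⁻¹) * a⁻¹) := by rw [hxa.eq]; group
  have hΔs : (Δ.range.subgroupOf H).IsSubnormal := by
    haveI := layer_normal (G := Y)
    haveI hn : ((Cfsg.layer Y).subgroupOf H).Normal := inferInstance
    refine IsSubnormal.trans (comap_mono hΔE : Δ.range.subgroupOf H ≤ _) (Normal.isSubnormal ?_)
      (Normal.isSubnormal hn)
    refine ⟨fun x hx g => ?_⟩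
    rw [mem_subgroupOf, mem_subgroupOf] at hx ⊢
    obtain ⟨t, ht⟩ := hx
    rw [coe_mul, coe_mul, coe_inv, coe_mul, coe_mul, coe_inv, ← ht,
      hconj _ (mem_centralizer_singleton_iff.1 (g : H).2)
        (layer_le_normalizer_component hL (mem_subgroupOf.1 g.2))]
    exact ⟨_, rfl⟩
  have hKR : K ≤ Δ.range := by
    refine (hsplit _ hΔs hΔH).resolve_right fun h => hLK fun k hk =>
      mem_centralizer_of_central_commutators hLperf fun t ht => ?_
    have h1 := hconj k (mem_centralizer_singleton_iff.1 (hKH hk)) (hKnL hk) ⟨t, ht⟩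
    rw [h k hk _ ⟨⟨t, ht⟩, rfl⟩, mul_inv_cancel_right] at h1
    have hkt : k * t * k⁻¹ ∈ L := (mem_normalizer_iff.1 (hKnL hk) t).1 ht
    have hs : (t * (a * t * a⁻¹) : Y) = k * t * k⁻¹ * (a * (k * t * k⁻¹) * a⁻¹) := h1
    set w := (k * t * k⁻¹)⁻¹ * t with hw
    have hwL : w ∈ L := mul_mem (inv_mem hkt) ht
    have hwa : w ∈ La := by
      have e : w = a * (k * t * k⁻¹) * a⁻¹ * (a * t * a⁻¹)⁻¹ := by
        rw [eq_mul_inv_iff_mul_eq, hw, mul_assoc, hs, inv_mul_cancel_left]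
      rw [e]
      exact mul_mem (hcon _ hkt) (inv_mem (hcon _ ht))
    have hwc : w ∈ centralizer (L : Set Y) :=
      mem_centralizer_iff.2 fun u hu => hcom u hu w hwa
    refine ⟨w⁻¹, inv_mem hwc, inv_mem hwL, ?_⟩
    have hc1 : t * w⁻¹ = w⁻¹ * t := mem_centralizer_iff.1 (inv_mem hwc) t ht
    rw [← hc1, hw]
    group
  have hle : Nat.card Δ.range ≤ Nat.card L :=
    Nat.card_le_card_of_surjective _ Δ.rangeRestrict_surjective
  have hKeq : K = Δ.range := eq_of_le_of_card_ge hKR (hle.trans (hm L hL))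
  have hcard : Nat.card L = Nat.card K := le_antisymm (hm L hL) (hKeq ▸ hle)
  have hinj : Function.Injective Δ.rangeRestrict :=
    ((Nat.bijective_iff_surjective_and_card _).2
      ⟨Δ.rangeRestrict_surjective, by rw [hcard, hKeq]⟩).1
  refine ⟨L, hL, hLac, hcard, hmv, hLK, fun t ht => hKeq ▸ ⟨⟨t, ht⟩, rfl⟩, fun k hk => ?_,
    fun s hs t ht e => congrArg Subtype.val (hinj (a₁ := ⟨s, hs⟩) (a₂ := ⟨t, ht⟩) (Subtype.ext e))⟩
  obtain ⟨t, ht⟩ := (hKeq ▸ hk : k ∈ Δ.range)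
  exact ⟨t, t.2, ht⟩

end CfsgLib.Invol.MaxComp
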