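import Cfsg.Agent.Lib.Walter.Consumers.Defs
import Cfsg.Agent.Lib.Bender.Suzuki.Consumers
import Cfsg.Agent.Lib.Bender.Suzuki.Classified
import Cfsg.Agent.Lib.Bender.Binary.Models
import Cfsg.Prelude.Def_TwoFusion

/-!
# Simple groups in which the only inverted `2`-elements are involutions

If no cyclic `2`-subgroup has a nontrivial automizer, two involutions of a Sylow `2`-subgroup commute, so the
involutions of the subgroup with the identity form a strongly closed elementary abelian subgroup. By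
Goldschmidt's theorem the Sylow subgroup is abelian or there is a strongly embedded subgroup, and `PSU(3, 2 ^ n)`
has an inverted element of order four.
-/

set_option autoImplicit false
set_option linter.style.haveILetI false

namespace CfsgLib.NoRealTwo

open Subgroup CfsgLib.SU CfsgLib.Invol

universe u

/-- `PSU(3, 2 ^ n)` has an inverted element of order four. -/
theorem psu_inverted {F : Type} [Field F] [Fintype F] {n : ℕ} (hn : 2 ≤ n)
    (hF : Fintype.card F = (2 ^ n) ^ 2) :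
    ∃ x y : Cfsg.PSU 3 F (2 ^ n), x * x ≠ 1 ∧ x * x * (x * x) = 1 ∧ y * x * y⁻¹ = x⁻¹ := by
  classical
  haveI : Fact (Nat.Prime 2) := ⟨Nat.prime_two⟩
  haveI : CharP F 2 := charP_of_card_eq_prime_pow (f := n * 2) (by rw [hF, ← pow_mul])
  obtain ⟨C⟩ := CfsgLib.Classical.uctx_exists hF
  obtain ⟨P⟩ := C.exists_pair (n := 3) (by norm_num)
  obtain ⟨b, hb, hbb, -⟩ := P.exists_basis
  have huu : C.form (b 0) (b 0) = 1 := by rw [hbb, if_pos rfl]
  obtain ⟨a, ha⟩ := C.exists_trace (c := 1) (map_one _)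
  obtain ⟨s, hs⟩ := C.exists_trace (c := C.bar a * a) (by rw [map_mul, C.bar_bar, mul_comm])
  have h2 : ∀ z : F, z + z = 0 := CharTwo.add_self_eq_zero
  have hneg : ∀ z : F, -z = z := CharTwo.neg_eq
  have hX : a + C.bar a + C.form (b 0) (b 0) = 0 := by rw [huu, ha, h2]
  have hY : s + C.bar s + C.form (a • b 0) (a • b 0) = 0 := by
    rw [C.form_smul_left, C.form_smul_right, huu, mul_one, hs, mul_comm a, h2]
  set X := P.eich (b 0) (hb 0) a hX
  set Y := P.eich (a • b 0) (P.perp.smul_mem a (hb 0)) s hY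
  have hw0 : b 0 + b 0 = 0 := funext fun i => h2 _
  have hsq : ∃ ht, X * X = P.eich 0 P.perp.zero_mem (1 : F) ht := by
    refine ⟨by rw [map_one, C.form_zero_left, h2, add_zero], ?_⟩
    rw [P.eich_mul]
    exact P.eich_congr hw0 (by rw [h2, huu, zero_sub, hneg])
  obtain ⟨ht1, hsq⟩ := hsq
  have hone : ∀ (ht : (0 : F) + C.bar 0 + C.form (0 : Fin 3 → F) 0 = 0),
      P.eich 0 P.perp.zero_mem 0 ht = 1 := fun ht => su_ext fun x => by
    rw [P.eich_mulVec, su_one_mulVec, C.form_zero_right]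
    simp
  have h4 : X * X * (X * X) = 1 := by
    rw [hsq, P.eich_mul]
    exact (P.eich_congr (add_zero 0) (by rw [h2, C.form_zero_left, sub_zero])).trans
      (hone (by rw [map_zero, C.form_zero_left, add_zero, add_zero]))
  have hinv : X * (Y * X) = Y := by
    rw [P.eich_mul, P.eich_mul]
    refine P.eich_congr ?_ ?_
    · rw [← add_assoc, add_comm (b 0), add_assoc, hw0, add_zero]
    · simp only [C.form_add_left, C.form_smul_left, C.form_smul_right, huu, mul_one]
      linear_combination (h2 a) - (h2 (C.bar a)) + ha - h2 1 + (1 - a) * h2 1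
  refine ⟨pr X, pr Y, fun h => ?_, by rw [← map_mul, ← map_mul, h4, map_one], ?_⟩
  · rw [← map_mul, hsq, ← map_one pr,
      ← hone (by rw [map_zero, C.form_zero_left, add_zero, add_zero])] at h
    exact one_ne_zero (UPair.pr_eich_inj le_rfl h).2
  · rw [← map_inv, ← map_inv, ← map_mul, ← map_mul]
    refine congrArg pr (mul_inv_eq_iff_eq_mul.2 ?_)
    rw [eq_inv_mul_iff_mul_eq]
    exact hinv

variable {G : Type u} [Group G] [Finite G]

/-- A `2`-element with trivial automizer. -/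
def InertTwo (G : Type u) [Group G] : Prop :=
  ∀ x : G, (∀ r : ℕ, r.Prime → r ∣ orderOf x → r = 2) →
    normalizer ((zpowers x : Subgroup G) : Set G) ≤ centralizer {x}

theorem invol_of_inverted (hirr : InertTwo G) {x y : G} {k : ℕ} (hx : orderOf x ∣ 2 ^ k)
    (h : y * x * y⁻¹ = x⁻¹) : x * x = 1 := by
  have hy : y ∈ normalizer ((zpowers x : Subgroup G) : Set G) := by
    refine mem_normalizer_fintype fun z hz => ?_
    obtain ⟨j, rfl⟩ := mem_zpowers_iff.1 hz
    rw [SetLike.mem_coe, ← conj_zpow, h, inv_zpow, ← zpow_neg]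
    exact zpow_mem (mem_zpowers x) _
  have hc := mem_centralizer_singleton_iff.1
    (hirr x (fun r hr hd => (Nat.prime_dvd_prime_iff_eq hr Nat.prime_two).1
      (hr.dvd_of_dvd_pow (hd.trans hx))) hy)
  rw [hc, mul_inv_cancel_right] at h
  nth_rewrite 1 [h]
  exact inv_mul_cancel x

/-- S4030, given Goldschmidt's theorem and the classification with abelian Sylow `2`-subgroups. -/
theorem S4030_of_gold
    (hgold : ∀ (H : Type u) [Group H] [Finite H] [IsSimpleGroup H] (S : Sylow 2 H) (A : Subgroup H),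
      A ≠ ⊥ → IsMulCommutative A → Cfsg.IsStronglyClosed A (S : Subgroup H) →
      IsMulCommutative (S : Subgroup H) ∨ ∃ K : Subgroup H, Cfsg.IsStronglyEmbedded K)
    (hW : CfsgLib.Walter.Classified.{u}) [IsSimpleGroup G] (hna : ¬ IsMulCommutative G)
    (hirr : InertTwo G) :
    (∃ (F : Type) (_ : Field F) (_ : Fintype F), 4 ≤ Fintype.card F ∧
        (Fintype.card F % 8 = 0 ∨ Fintype.card F % 8 = 3 ∨ Fintype.card F % 8 = 5) ∧
        Nonempty (G ≃* Matrix.ProjectiveSpecialLinearGroup (Fin 2) F)) ∨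
      Cfsg.IsSuzuki G ∨ Cfsg.IsRee G ∨ Cfsg.IsJ1 G := by
  classical
  haveI : Fact (Nat.Prime 2) := ⟨Nat.prime_two⟩
  have heven : ∀ (F : Type) [Field F] [Fintype F] (n : ℕ), 2 ≤ n → Fintype.card F = 2 ^ n →
      Nonempty (G ≃* Matrix.ProjectiveSpecialLinearGroup (Fin 2) F) →
      ∃ (F : Type) (_ : Field F) (_ : Fintype F), 4 ≤ Fintype.card F ∧
        (Fintype.card F % 8 = 0 ∨ Fintype.card F % 8 = 3 ∨ Fintype.card F % 8 = 5) ∧
        Nonempty (G ≃* Matrix.ProjectiveSpecialLinearGroup (Fin 2) F) := by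
    intro F _ _ n hn hF he
    rcases hn.eq_or_lt with h | h
    · obtain ⟨e⟩ := he
      haveI : Fact (Nat.Prime 5) := ⟨by norm_num⟩
      exact ⟨ZMod 5, inferInstance, inferInstance, by simp [ZMod.card], Or.inr (Or.inr (by simp [ZMod.card])),
        CfsgLib.Walter.Consumers.iso_psl_five (by rw [hF, ← h]; norm_num) e⟩
    · obtain ⟨j, rfl⟩ : ∃ j, n = j + 3 := ⟨n - 3, by omega⟩
      refine ⟨F, inferInstance, inferInstance, ?_, Or.inl ?_, he⟩
      · rw [hF, pow_add]
        have := Nat.one_le_two_pow (n := j)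
        omega
      · rw [hF, pow_add]
        omega
  obtain ⟨S⟩ : Nonempty (Sylow 2 G) := inferInstance
  have habel : IsMulCommutative (S : Subgroup G) →
      (∃ (F : Type) (_ : Field F) (_ : Fintype F), 4 ≤ Fintype.card F ∧
          (Fintype.card F % 8 = 0 ∨ Fintype.card F % 8 = 3 ∨ Fintype.card F % 8 = 5) ∧
          Nonempty (G ≃* Matrix.ProjectiveSpecialLinearGroup (Fin 2) F)) ∨
        Cfsg.IsSuzuki G ∨ Cfsg.IsRee G ∨ Cfsg.IsJ1 G := by
    intro hS
    have hab : CfsgLib.Walter.AbTwo G := CfsgLib.Walter.abTwo_of_sylow S hS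
    rcases hW G inferInstance hna hab with ⟨F, iF, iF', hF, he⟩ | hr
    · rcases hF with ⟨n, hn, hF⟩ | ⟨h5, hm⟩
      · exact Or.inl (heven F n hn hF he)
      · exact Or.inl ⟨F, iF, iF', by omega, Or.inr hm, he⟩
    · rcases CfsgLib.Walter.Consumers.ree_cases hab hr with ⟨h, -⟩ | h
      · exact Or.inr (Or.inr (Or.inr h))
      · exact Or.inr (Or.inr (Or.inl h))
  by_cases hS : IsMulCommutative (S : Subgroup G)
  · exact habel hS
  have hcm : ∀ u ∈ (S : Subgroup G), ∀ v ∈ (S : Subgroup G), u * u = 1 → v * v = 1 → u * v = v * u := by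
    intro u hu v hv hu2 hv2
    obtain ⟨k, hk⟩ := IsPGroup.iff_orderOf.1 S.2 ⟨u * v, mul_mem hu hv⟩
    rw [Subgroup.orderOf_mk] at hk
    have hui : u⁻¹ = u := inv_eq_of_mul_eq_one_right hu2
    have hvi : v⁻¹ = v := inv_eq_of_mul_eq_one_right hv2
    have hsq := invol_of_inverted hirr (k := k) (hk ▸ dvd_rfl) (y := u)
      (show u * (u * v) * u⁻¹ = (u * v)⁻¹ by rw [← mul_assoc, hu2, one_mul, mul_inv_rev, hui, hvi])
    have e : u * v = (u * v)⁻¹ := eq_inv_of_mul_eq_one_left hsq
    rw [mul_inv_rev, hui, hvi] at e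
    exact e
  let A : Subgroup G :=
    { carrier := {x | x ∈ S ∧ x * x = 1}
      one_mem' := ⟨one_mem (S : Subgroup G), mul_one 1⟩
      mul_mem' := fun {a b} ha hb => ⟨mul_mem ha.1 hb.1, by
        calc a * b * (a * b) = a * (b * a) * b := by simp [mul_assoc]
          _ = a * a * (b * b) := by rw [← hcm a ha.1 b hb.1 ha.2 hb.2]; simp [mul_assoc]
          _ = 1 := by rw [ha.2, hb.2, mul_one]⟩
      inv_mem' := fun {a} ha => by rw [← eq_inv_of_mul_eq_one_left ha.2]; exact ha }
  have hA : A ≠ ⊥ := by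
    intro hbot
    obtain ⟨k, hk⟩ := S.2.exists_card_eq
    have hk0 : k ≠ 0 := fun h => hS (isMulCommutative_iff.2 fun a b => by
      haveI : Subsingleton (S : Subgroup G) :=
        (Nat.card_eq_one_iff_unique.1 (by rw [hk, h, pow_zero])).1
      exact Subsingleton.elim _ _)
    obtain ⟨x, hx⟩ := exists_prime_orderOf_dvd_card' (G := (S : Subgroup G)) 2 (hk ▸ dvd_pow_self 2 hk0)
    have hxo : orderOf (x : G) = 2 := by rwa [orderOf_coe]
    have hxA : (x : G) ∈ A := ⟨x.2, invol_mul_self hxo⟩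
    rw [hbot, Subgroup.mem_bot] at hxA
    exact invol_ne_one hxo hxA
  rcases hgold G S A hA
      (isMulCommutative_iff.2 fun a b => Subtype.ext (hcm a a.2.1 b b.2.1 a.2.2 b.2.2))
      ⟨fun x hx => hx.1, fun x hx g hg => ⟨hg, by
        rw [show g * x * g⁻¹ * (g * x * g⁻¹) = g * (x * x) * g⁻¹ by group, hx.2, mul_one,
          mul_inv_cancel]⟩⟩ with h | ⟨K, hK⟩
  · exact absurd h hS
  rcases CfsgLib.Bender.Suzuki.families_of_se CfsgLib.Bender.Suzuki.classified hK with
    ⟨F, iF, iF', ⟨n, hn, hF⟩, he⟩ | h | ⟨F, iF, iF', n, hn, hF, ⟨e⟩⟩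
  · exact Or.inl (heven F n hn hF he)
  · exact Or.inr (Or.inl h)
  · obtain ⟨x, y, hne, h4, hinv⟩ := psu_inverted hn hF
    refine absurd (invol_of_inverted hirr (x := e.symm x) (y := e.symm y) (k := 2) ?_ ?_) ?_
    · rw [MulEquiv.orderOf_eq]
      refine orderOf_dvd_of_pow_eq_one ?_
      rw [show (2 : ℕ) ^ 2 = 2 + 2 from rfl, pow_add, pow_two]
      exact h4
    · rw [← map_inv, ← map_inv, ← map_mul, ← map_mul, hinv]
    · rw [← map_mul]
      exact fun h => hne (e.symm.injective (h.trans (map_one _).symm))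

end CfsgLib.NoRealTwo
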