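import Cfsg.Agent.Lib.Invol.Taussky
import Mathlib.NumberTheory.Multiplicity
import Mathlib.Algebra.Order.Ring.Nat

/-!
# p-groups all of whose abelian normal subgroups are cyclic
-/

set_option autoImplicit false

namespace CfsgLib.Invol

open Subgroup
open scoped commutatorElement

universe u

variable {P : Type u} [Group P] {p : ℕ}

/-- A cyclic normal subgroup of a `p`-group is self-centralizing if it is maximal normal abelian. -/
theorem centralizer_le_of_maximal [Finite P] [Fact p.Prime] (hP : IsPGroup p P) {A : Subgroup P}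
    (hA : A.Normal) (hab : IsMulCommutative A)
    (hmax : ∀ B : Subgroup P, B.Normal → IsMulCommutative B → A ≤ B → B = A) :
    Subgroup.centralizer (A : Set P) ≤ A := by
  haveI := hA
  haveI : (Subgroup.centralizer (A : Set P)).Normal := Subgroup.normal_centralizer
  by_contra hne
  set π := QuotientGroup.mk' A with hπ
  set C := (Subgroup.centralizer (A : Set P)).map π with hC
  haveI : C.Normal := Subgroup.Normal.map inferInstance π (QuotientGroup.mk'_surjective A)
  have hCne : C ≠ ⊥ := by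
    rw [Ne, hC, Subgroup.map_eq_bot_iff, QuotientGroup.ker_mk']
    exact hne
  obtain ⟨x', hx', hxo, hxc⟩ := exists_fixed_of_normalized (p := p) (P := (⊤ : Subgroup (P ⧸ A)))
    ((hP.to_quotient A).to_subgroup ⊤) ((hP.to_quotient A).to_subgroup C) hCne
    (le_of_le_of_eq le_top (Subgroup.normalizer_eq_top_iff.2 inferInstance).symm)
  obtain ⟨x, hx, rfl⟩ := hx'
  have hxA : x ∉ A := fun h => by
    rw [show π x = 1 from (QuotientGroup.eq_one_iff _).2 h, orderOf_one] at hxo
    exact (Fact.out : p.Prime).ne_one hxo.symm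
  set B := (Subgroup.zpowers (π x)).comap π with hB
  have hBn : B.Normal := by
    haveI : (Subgroup.zpowers (π x)).Normal := ⟨fun n hn g => by
      obtain ⟨i, rfl⟩ := Subgroup.mem_zpowers_iff.1 hn
      have hc : Commute g (π x) :=
        Subgroup.mem_centralizer_singleton_iff.1 (hxc (Subgroup.mem_top g))
      rw [(hc.zpow_right i).eq, mul_inv_cancel_right]
      exact zpow_mem (Subgroup.mem_zpowers _) i⟩
    exact Subgroup.normal_comap π
  have hmem : ∀ y ∈ B, ∃ (i : ℤ), ∃ c ∈ A, y = x ^ i * c := by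
    intro y hy
    obtain ⟨i, hi⟩ := Subgroup.mem_zpowers_iff.1 (Subgroup.mem_comap.1 hy)
    refine ⟨i, (x ^ i)⁻¹ * y, ?_, by rw [mul_inv_cancel_left]⟩
    rw [← QuotientGroup.eq_one_iff, ← QuotientGroup.mk'_apply, map_mul, map_inv, map_zpow, ← hπ, hi,
      inv_mul_cancel]
  have hcomm : IsMulCommutative B := isMulCommutative_iff.2 fun y w => Subtype.ext (by
    obtain ⟨i, c, hc, hy⟩ := hmem y y.2
    obtain ⟨j, d, hd, hw⟩ := hmem w w.2
    have hxa : ∀ a ∈ A, Commute x a := fun a ha =>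
      (Subgroup.mem_centralizer_iff.1 hx a ha).symm
    have hcd : Commute c d :=
      congrArg Subtype.val (hab.is_comm.comm ⟨c, hc⟩ ⟨d, hd⟩)
    show (y : P) * w = w * y
    rw [hy, hw]
    exact ((((Commute.refl x).zpow_zpow i j).mul_right ((hxa d hd).zpow_left i)).mul_left
      ((((hxa c hc).zpow_left j).symm).mul_right hcd)).eq)
  have hle : A ≤ B := fun y hy => by
    rw [hB, Subgroup.mem_comap, show π y = 1 from (QuotientGroup.eq_one_iff _).2 hy]
    exact one_mem _
  exact hxA ((hmax B hBn hcomm hle).le (Subgroup.mem_comap.2 (Subgroup.mem_zpowers _)))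

theorem pow_mul_conj {a g w : P} (hconj : g * a * g⁻¹ = w * a) (hw : Commute w a) (i : ℤ) :
    g * a ^ i = w ^ i * a ^ i * g := by
  rw [← hw.mul_zpow, ← hconj, conj_zpow, inv_mul_cancel_right]

/-- Power formula `(a^i g)^n` when `g a g⁻¹ = w a` with `w` central in `⟨a, g⟩`. -/
theorem mul_pow_of_central {a g w : P} (hconj : g * a * g⁻¹ = w * a) (hwa : Commute w a)
    (hwg : Commute w g) (i : ℤ) (n : ℕ) :
    (a ^ i * g) ^ n = a ^ (i * n) * w ^ (i * (n.choose 2 : ℕ)) * g ^ n := by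
  induction n with
  | zero => simp
  | succ n ih =>
    have h1 : g ^ n * a ^ i = w ^ (i * n) * a ^ i * g ^ n := by
      clear ih
      induction n with
      | zero => simp
      | succ n ihn =>
        rw [pow_succ, mul_assoc, pow_mul_conj hconj hwa, ← mul_assoc (g ^ n), ← mul_assoc (g ^ n),
          ((hwg.zpow_left i).pow_right n).symm.eq, mul_assoc (w ^ i), ihn, ← mul_assoc,
          ← mul_assoc, ← zpow_add, mul_assoc _ (g ^ n)]
        congr 3; push_cast; ring
    rw [pow_succ, ih, mul_assoc _ (g ^ n), ← mul_assoc (g ^ n), h1, mul_assoc _ (g ^ n) g,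
      ← pow_succ, ← mul_assoc, ← mul_assoc]
    congr 1
    rw [Nat.choose_succ_succ, Nat.choose_one_right, mul_assoc _ (w ^ _) (w ^ _), ← zpow_add,
      mul_assoc, (hwa.zpow_zpow _ i).eq, ← mul_assoc, ← zpow_add]
    congr 1 <;> (congr 1; push_cast; ring)

/-- The main step: an element of a `p`-group acting on a self-centralizing cyclic normal subgroup
`⟨a⟩` as an automorphism of order `p` trivial on `a^p` gives a noncyclic normal abelian subgroup. -/
theorem exists_noncyclic_of_elt [Finite P] [Fact p.Prime] {a g : P} {k : ℕ}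
    (ha : orderOf a = p ^ k) (hk : p ≠ 2 ∨ 3 ≤ k) (hAn : (Subgroup.zpowers a).Normal)
    (hC : Subgroup.centralizer (Subgroup.zpowers a : Set P) ≤ Subgroup.zpowers a)
    (hg : g ∉ Subgroup.zpowers a) (hgp : g ^ p ∈ Subgroup.zpowers a)
    (hga : g * a ^ p * g⁻¹ = a ^ p) :
    ∃ B : Subgroup P, B.Normal ∧ IsMulCommutative B ∧ ¬ IsCyclic B := by
  have hp : p.Prime := Fact.out
  have hp0 : (p : ℤ) ≠ 0 := by exact_mod_cast hp.ne_zero
  have hAC : ∀ x : P, Commute x a → x ∈ Subgroup.zpowers a := fun x hx =>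
    hC (Subgroup.mem_centralizer_iff.2 fun y hy => by
      obtain ⟨i, rfl⟩ := Subgroup.mem_zpowers_iff.1 hy
      exact (hx.zpow_right i).eq.symm)
  obtain ⟨r, hr⟩ := Subgroup.mem_zpowers_iff.1 (hAn.conj_mem a (Subgroup.mem_zpowers a) g)
  set w := a ^ (r - 1) with hw
  have hconj : g * a * g⁻¹ = w * a := by rw [← hr, hw, ← zpow_add_one, sub_add_cancel]
  have hwa : Commute w a := (Commute.refl a).zpow_left _
  have hwp : w ^ p = 1 := by
    have h : (w * a) ^ p = a ^ p := by rw [← hconj, conj_pow, hga]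
    rw [hwa.mul_pow, mul_eq_right] at h
    exact h
  have hw1 : w ≠ 1 := fun h => hg (hAC g (by
    rw [h, one_mul] at hconj; exact mul_inv_eq_iff_eq_mul.1 hconj))
  have hk1 : 1 ≤ k := by
    by_contra h
    rw [show k = 0 by omega, pow_zero, orderOf_eq_one_iff] at ha
    exact hw1 (by rw [hw, ha, one_zpow])
  have hpk : ((p : ℤ) ^ k) = p * (p : ℤ) ^ (k - 1) := by rw [← pow_succ', Nat.sub_add_cancel hk1]
  obtain ⟨t, ht⟩ : (p : ℤ) ^ (k - 1) ∣ r - 1 := by
    have h : ((p ^ k : ℕ) : ℤ) ∣ (r - 1) * p := by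
      rw [← ha, orderOf_dvd_iff_zpow_eq_one, zpow_mul, ← hw, zpow_natCast, hwp]
    push_cast at h
    rw [hpk, mul_comm (r - 1)] at h
    exact (mul_dvd_mul_iff_left hp0).1 h
  -- k is at least two
  have hk2 : 2 ≤ k := by
    by_contra h
    obtain rfl : k = 1 := by omega
    refine hg (hAC g ?_)
    have hwa' : ∀ i : ℤ, g ^ (1 : ℕ) * a ^ i = (w ^ i) * a ^ i * g := fun i => by
      rw [pow_one]; exact pow_mul_conj hconj hwa i
    -- g^p commutes with a, so r^p = 1 mod p, so r = 1 mod p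
    have hrp : a ^ (r ^ p) = a := by
      have key : ∀ n : ℕ, g ^ n * a * (g ^ n)⁻¹ = a ^ (r ^ n) := by
        intro n
        induction n with
        | zero => simp
        | succ n ih =>
          rw [pow_succ g, pow_succ' r, show g ^ n * g * a * (g ^ n * g)⁻¹ =
            g ^ n * (g * a * g⁻¹) * (g ^ n)⁻¹ by group, ← hr, ← conj_zpow, ih, ← zpow_mul, mul_comm]
      obtain ⟨j, hj⟩ := Subgroup.mem_zpowers_iff.1 hgp
      rw [← key p, ← hj, ((Commute.refl a).zpow_left j).eq, mul_inv_cancel_right]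
    have h2 : ((p : ℤ)) ∣ r ^ p - 1 := by
      have h3 : a ^ (r ^ p - 1) = 1 := by rw [zpow_sub_one, hrp, mul_inv_cancel]
      rw [← orderOf_dvd_iff_zpow_eq_one, ha, pow_one] at h3
      exact h3
    have h4 : (p : ℤ) ∣ r - 1 := by
      rw [← ZMod.intCast_zmod_eq_zero_iff_dvd] at h2 ⊢
      push_cast at h2 ⊢
      rwa [ZMod.pow_card] at h2
    have h5 : w = 1 := by
      rw [hw, ← orderOf_dvd_iff_zpow_eq_one, ha, pow_one]; exact h4
    exact absurd h5 hw1
  have hwg : Commute w g := by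
    have h : Commute g (a ^ p) := mul_inv_eq_iff_eq_mul.1 hga
    obtain ⟨m, hm⟩ : (p : ℤ) ∣ r - 1 := ⟨(p : ℤ) ^ (k - 2) * t, by
      rw [ht, ← mul_assoc, ← pow_succ']; congr 2; omega⟩
    rw [hw, hm, zpow_mul, zpow_natCast]
    exact (h.zpow_right m).symm
  -- arithmetic unit
  set u : ℤ := 1 + (p : ℤ) ^ (k - 2) * t * ((p.choose 2 : ℕ) : ℤ) with hu
  have hucop : IsCoprime ((p : ℤ) ^ (k - 1)) u := by
    refine IsCoprime.pow_left ?_
    have hd : (p : ℤ) ∣ (p : ℤ) ^ (k - 2) * t * ((p.choose 2 : ℕ) : ℤ) := by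
      rcases hk with h | h
      · exact dvd_mul_of_dvd_right (Int.natCast_dvd_natCast.2 (hp.dvd_choose_self (by norm_num)
          (lt_of_le_of_ne hp.two_le (Ne.symm h)))) _
      · exact dvd_mul_of_dvd_left (dvd_mul_of_dvd_left (dvd_pow_self _ (by omega)) _) _
    obtain ⟨m, hm⟩ := hd
    exact ⟨-m, 1, by rw [hu, hm]; ring⟩
  have hpow : ∀ i : ℤ, (a ^ i * g) ^ p = a ^ (i * p * u) * g ^ p := by
    intro i
    rw [mul_pow_of_central hconj hwa hwg, hw, ← zpow_mul, ← zpow_add]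
    congr 2
    rw [hu, ht, show (p : ℤ) ^ (k - 1) = p * (p : ℤ) ^ (k - 2) by rw [← pow_succ']; congr 1; omega]
    ring
  obtain ⟨j, hj⟩ := Subgroup.mem_zpowers_iff.1 hgp
  obtain ⟨j', rfl⟩ : (p : ℤ) ∣ j := by
    have h1 : g * a ^ j = w ^ j * a ^ j * g := pow_mul_conj hconj hwa j
    rw [hj, ← pow_succ', mul_assoc, ← pow_succ, eq_comm, mul_eq_right, ← orderOf_dvd_iff_zpow_eq_one,
      orderOf_eq_prime hwp hw1] at h1
    exact h1
  obtain ⟨c, d, hcd⟩ := hucop
  set v := a ^ (-j' * d) * g with hv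
  have hvp : v ^ p = 1 := by
    rw [hv, hpow, ← hj, ← zpow_add, ← orderOf_dvd_iff_zpow_eq_one, ha]
    push_cast
    rw [hpk]
    exact ⟨j' * c, by linear_combination (j' * (p : ℤ)) * (hcd.symm)⟩
  have hvA : v ∉ Subgroup.zpowers a := fun h => hg (by
    have := mul_mem (inv_mem (zpow_mem (Subgroup.mem_zpowers a) (-j' * d))) h
    rwa [hv, inv_mul_cancel_left] at this)
  have hvconj : v * a * v⁻¹ = w * a := by
    rw [hv, show a ^ (-j' * d) * g * a * (a ^ (-j' * d) * g)⁻¹ =
      a ^ (-j' * d) * (g * a * g⁻¹) * (a ^ (-j' * d))⁻¹ by group, hconj,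
      (((hwa.mul_left (Commute.refl a)).symm).zpow_left (-j' * d)).eq, mul_inv_cancel_right]
  have hwv : Commute w v := (hwa.zpow_right _).mul_right hwg
  set z := a ^ ((p : ℤ) ^ (k - 1)) with hz
  have hzp : z ^ p = 1 := by
    rw [hz, ← zpow_natCast, ← zpow_mul, mul_comm, ← hpk, ← orderOf_dvd_iff_zpow_eq_one, ha]
    push_cast; exact dvd_rfl
  have hz1 : z ≠ 1 := fun h => by
    rw [hz, ← orderOf_dvd_iff_zpow_eq_one, ha] at h
    push_cast at h
    have := Int.natCast_dvd_natCast.1 (by exact_mod_cast h : ((p ^ k : ℕ) : ℤ) ∣ ((p ^ (k - 1) : ℕ) : ℤ))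
    have := (Nat.pow_dvd_pow_iff_le_right hp.one_lt).1 this
    omega
  have hvz : Commute v z := by
    refine mul_inv_eq_iff_eq_mul.1 ?_
    rw [hz, ← conj_zpow, hvconj, hwa.mul_zpow, mul_eq_right, hw, ← zpow_mul,
      ← orderOf_dvd_iff_zpow_eq_one, ha]
    push_cast
    rw [hpk, ht, show (p : ℤ) ^ (k - 1) = p * (p : ℤ) ^ (k - 2) by rw [← pow_succ']; congr 1; omega]
    exact ⟨t * (p : ℤ) ^ (k - 2), by ring⟩
  let B : Subgroup P := Subgroup.closure ({z, v} : Set P)
  have hzB : z ∈ B := Subgroup.subset_closure (by simp)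
  have hvB : v ∈ B := Subgroup.subset_closure (by simp)
  -- `B` is the set of elements of order dividing `p` in the centralizer of `a ^ p`
  have hchar : ∀ x : P, x * a ^ p * x⁻¹ = a ^ p → x ^ p = 1 → x ∈ B := by
    intro x hxa hxp
    obtain ⟨s, hs⟩ := Subgroup.mem_zpowers_iff.1 (hAn.conj_mem a (Subgroup.mem_zpowers a) x)
    have hsd : (p : ℤ) ^ (k - 1) ∣ s - 1 := by
      have h2 : a ^ ((s - 1) * p) = 1 := by
        rw [sub_mul, one_mul, zpow_sub, zpow_mul, hs, zpow_natCast, zpow_natCast, conj_pow, hxa,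
          mul_inv_cancel]
      rw [← orderOf_dvd_iff_zpow_eq_one, ha] at h2
      push_cast at h2
      rw [hpk, mul_comm (s - 1)] at h2
      exact (mul_dvd_mul_iff_left hp0).1 h2
    obtain ⟨s', hs'⟩ := hsd
    have htp : ¬ (p : ℤ) ∣ t := fun ⟨m, hm⟩ => hw1 (by
      rw [hw, ← orderOf_dvd_iff_zpow_eq_one, ha]
      push_cast
      rw [ht, hm, hpk]; exact ⟨m, by ring⟩)
    obtain ⟨e, f, hef⟩ := ((Nat.prime_iff_prime_int.1 hp).coprime_iff_not_dvd.2 htp)
    -- `x * v ^ (-f * s')` centralizes `a`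
    have hkey : ∀ n : ℤ, v ^ n * a * (v ^ n)⁻¹ = w ^ n * a := by
      intro n
      induction n using Int.induction_on with
      | zero => simp
      | succ n ih =>
        rw [zpow_add_one, show v ^ (n : ℤ) * v * a * (v ^ (n : ℤ) * v)⁻¹ =
          v ^ (n : ℤ) * (v * a * v⁻¹) * (v ^ (n : ℤ))⁻¹ by group, hvconj, ← conj_mul, ih,
          (hwv.symm.zpow_left (n : ℤ)).eq, mul_inv_cancel_right, zpow_add_one, ← mul_assoc,
          ((Commute.refl w).zpow_right (n : ℤ)).eq]
      | pred n ih =>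
        have hv' : v⁻¹ * a * v = w⁻¹ * a := by
          have h := congrArg (fun y => v⁻¹ * (w⁻¹ * y) * v) hvconj
          simp only [inv_mul_cancel_left] at h
          rw [← h, ← mul_assoc v⁻¹ w⁻¹, (hwv.inv_left.inv_right).symm.eq]
          group
        rw [zpow_sub_one, show v ^ (-(n : ℤ)) * v⁻¹ * a * (v ^ (-(n : ℤ)) * v⁻¹)⁻¹ =
          v ^ (-(n : ℤ)) * (v⁻¹ * a * v) * (v ^ (-(n : ℤ)))⁻¹ by group, hv', ← conj_mul, ih,
          (hwv.inv_left.symm.zpow_left (-(n : ℤ))).eq, mul_inv_cancel_right, zpow_sub_one,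
          ← mul_assoc, ((Commute.refl w).inv_left.zpow_right (-(n : ℤ))).eq]
    obtain ⟨i, hi⟩ : ∃ i : ℤ, x * v ^ (-(f * s')) = a ^ i := by
      obtain ⟨i, hi⟩ := Subgroup.mem_zpowers_iff.1 (hAC (x * v ^ (-(f * s'))) (by
        refine mul_inv_eq_iff_eq_mul.1 ?_
        rw [show x * v ^ (-(f * s')) * a * (x * v ^ (-(f * s')))⁻¹ =
          x * (v ^ (-(f * s')) * a * (v ^ (-(f * s')))⁻¹) * x⁻¹ by group, hkey, hw, ← zpow_mul,
          ← zpow_add_one, ← conj_zpow, ← hs, ← zpow_mul]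
        conv_rhs => rw [← zpow_one a]
        rw [zpow_eq_zpow_iff_modEq, ha, Int.modEq_iff_dvd]
        have h : s = (p : ℤ) ^ (k - 1) * s' + 1 := by linarith
        push_cast
        rw [hpk, ht, h, show (p : ℤ) ^ (k - 1) = p * (p : ℤ) ^ (k - 2) by
          rw [← pow_succ']; congr 1; omega]
        exact ⟨(p : ℤ) ^ (k - 2) * t * f * s' * s' - s' * e, by
          linear_combination ((p : ℤ) * (p : ℤ) ^ (k - 2) * s') * hef⟩))
      exact ⟨i, hi.symm⟩
    have hx : x = a ^ i * v ^ (f * s') := by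
      rw [← hi, mul_assoc, ← zpow_add, neg_add_cancel, zpow_zero, mul_one]
    set l := f * s' with hl
    have hconjl : v ^ l * a * (v ^ l)⁻¹ = w ^ l * a := hkey l
    have h1 : (a ^ i * v ^ l) ^ p =
        a ^ (i * p) * (w ^ l) ^ (i * ((p.choose 2 : ℕ) : ℤ)) * (v ^ l) ^ p :=
      mul_pow_of_central hconjl (hwa.zpow_left l) ((hwv.zpow_left l).zpow_right l) i p
    have hvl : (v ^ l) ^ p = 1 := by
      rw [← zpow_natCast, ← zpow_mul, mul_comm, zpow_mul, zpow_natCast, hvp, one_zpow]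
    rw [← hx, hxp, hvl, mul_one, hw, ← zpow_mul, ← zpow_mul, ← zpow_add, eq_comm,
      ← orderOf_dvd_iff_zpow_eq_one, ha] at h1
    push_cast at h1
    have hu2 : IsCoprime ((p : ℤ) ^ (k - 1))
        (1 + (p : ℤ) ^ (k - 2) * t * l * ((p.choose 2 : ℕ) : ℤ)) := by
      refine IsCoprime.pow_left ?_
      have hd : (p : ℤ) ∣ (p : ℤ) ^ (k - 2) * t * l * ((p.choose 2 : ℕ) : ℤ) := by
        rcases hk with h | h
        · exact dvd_mul_of_dvd_right (Int.natCast_dvd_natCast.2 (hp.dvd_choose_self (by norm_num)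
            (lt_of_le_of_ne hp.two_le (Ne.symm h)))) _
        · exact dvd_mul_of_dvd_left (dvd_mul_of_dvd_left (dvd_mul_of_dvd_left
            (dvd_pow_self _ (by omega)) _) _) _
      obtain ⟨m, hm⟩ := hd
      exact ⟨-m, 1, by rw [hm]; ring⟩
    obtain ⟨i', hi'⟩ : (p : ℤ) ^ (k - 1) ∣ i := by
      refine hu2.dvd_of_dvd_mul_right ((mul_dvd_mul_iff_left hp0).1 ?_)
      have h2 : (i : ℤ) * p + (r - 1) * (l * (i * ((p.choose 2 : ℕ) : ℤ))) =
          p * (i * (1 + (p : ℤ) ^ (k - 2) * t * l * ((p.choose 2 : ℕ) : ℤ))) := by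
        rw [ht, show (p : ℤ) ^ (k - 1) = p * (p : ℤ) ^ (k - 2) by rw [← pow_succ']; congr 1; omega]
        ring
      rw [h2, hpk] at h1
      exact h1
    rw [hx, hi', zpow_mul, ← hz]
    exact mul_mem (zpow_mem hzB _) (zpow_mem hvB _)
  have hcomm : ∀ x ∈ B, ∀ y ∈ B, x * y = y * x := by
    intro x hx y hy
    have h1 : B ≤ Subgroup.centralizer ({z, v} : Set P) := (Subgroup.closure_le _).2 (by
      intro c hc
      refine Subgroup.mem_centralizer_iff.2 fun d hd => ?_
      rcases hc with rfl | rfl <;> rcases hd with rfl | rfl <;>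
        first | rfl | exact hvz.eq | exact hvz.symm.eq)
    have h2 : B ≤ Subgroup.centralizer (B : Set P) := (Subgroup.closure_le _).2 (fun c hc =>
      Subgroup.mem_centralizer_iff.2 fun d hd =>
        (Subgroup.mem_centralizer_iff.1 (h1 hd) c hc).symm)
    exact (Subgroup.mem_centralizer_iff.1 (h2 hx) y hy).symm
  have hBp : ∀ x ∈ B, x ^ p = 1 := by
    intro x hx
    induction hx using Subgroup.closure_induction with
    | mem y hy => rcases hy with rfl | rfl <;> assumption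
    | one => exact one_pow p
    | mul y y' hy hy' h h' =>
      rw [show (y * y') ^ p = y ^ p * y' ^ p from (show Commute y y' from hcomm y hy y' hy').mul_pow p,
        h, h', one_mul]
    | inv y _ h => rw [inv_pow, h, inv_one]
  have hBM : ∀ x ∈ B, x * a ^ p * x⁻¹ = a ^ p := by
    have : B ≤ Subgroup.centralizer ({a ^ p} : Set P) := (Subgroup.closure_le _).2 (by
      intro c hc
      refine Subgroup.mem_centralizer_singleton_iff.2 ?_
      rcases hc with rfl | rfl
      · exact ((Commute.refl a).zpow_left _).pow_right p |>.eq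
      · refine mul_inv_eq_iff_eq_mul.1 ?_
        rw [← conj_pow, hvconj, hwa.mul_pow, hwp, one_mul])
    exact fun x hx => mul_inv_eq_iff_eq_mul.2 (Subgroup.mem_centralizer_singleton_iff.1 (this hx))
  refine ⟨B, ⟨fun x hx y => hchar _ ?_ ?_⟩, isMulCommutative_iff.2 fun x y =>
    Subtype.ext (hcomm x x.2 y y.2), ?_⟩
  · obtain ⟨s, hs⟩ := Subgroup.mem_zpowers_iff.1 (hAn.conj_mem a (Subgroup.mem_zpowers a) y⁻¹)
    rw [inv_inv] at hs
    have h1 : y⁻¹ * a ^ p * y = (a ^ p) ^ s := by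
      have h : (y⁻¹ * a * (y⁻¹)⁻¹) ^ p = y⁻¹ * a ^ p * (y⁻¹)⁻¹ := conj_pow
      rw [inv_inv, ← hs] at h
      rw [← h, ← zpow_natCast, ← zpow_natCast, ← zpow_mul, ← zpow_mul, mul_comm]
    calc y * x * y⁻¹ * a ^ p * (y * x * y⁻¹)⁻¹
        = y * (x * (y⁻¹ * a ^ p * y) * x⁻¹) * y⁻¹ := by group
      _ = y * (y⁻¹ * a ^ p * y) * y⁻¹ := by rw [h1, ← conj_zpow, hBM x hx]
      _ = a ^ p := by group
  · rw [conj_pow, hBp x hx, mul_one, mul_inv_cancel]
  · intro hcyc
    obtain ⟨⟨q, hq⟩, hgen⟩ := IsCyclic.exists_generator (α := B)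
    have hcard : Nat.card B ≤ p := by
      rw [← orderOf_eq_card_of_forall_mem_zpowers hgen]
      exact Nat.le_of_dvd hp.pos (orderOf_dvd_of_pow_eq_one (Subtype.ext (hBp q hq)))
    have heq : Subgroup.zpowers z = B :=
      Subgroup.eq_of_le_of_card_ge (Subgroup.zpowers_le.2 hzB)
        (by rw [Nat.card_zpowers, orderOf_eq_prime hzp hz1]; exact hcard)
    exact hvA ((Subgroup.zpowers_le.2 (zpow_mem (Subgroup.mem_zpowers a) _)) (heq.ge hvB))

end CfsgLib.Invol
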