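import Cfsg.Prelude.Def_Local
import Cfsg.Agent.Lib.Block.KleinOrder
import Cfsg.Agent.Lib.Invol.Taussky
import Cfsg.Agent.Lib.Invol.TwoClasses
import Cfsg.Agent.Lib.Invol.KleinSylow
import Cfsg.Agent.Lib.Invol.PrincipalBlock
import Cfsg.Agent.Lib.Fusion.Tate
import Cfsg.Agent.Lib.Invol.SmallSimple
import Cfsg.Agent.Lib.Invol.SimpleSixty

/-!
# Simple groups with a normal Klein four Sylow 2-subgroup in an involution centralizer
-/

set_option autoImplicit false
set_option linter.unusedSectionVars false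

open Cfsg CfsgLib.Block
open Subgroup

namespace CfsgLib.Invol.NormalKlein

universe u

variable {G : Type u} [Group G] [Finite G]

/-- The hypothesis. -/
structure Hyp (x : G) (V : Subgroup G) : Prop where
  ord : orderOf x = 2
  le : V ≤ centralizer ({x} : Set G)
  klein : IsKleinFour V
  odd : ¬ 2 ∣ V.relIndex (centralizer ({x} : Set G))
  normal : (V.subgroupOf (centralizer ({x} : Set G))).Normal

theorem Hyp.mem_of_two_elt {x : G} {V : Subgroup G} (h : Hyp x V) {R : Subgroup G}
    (hR : IsPGroup 2 R) (hRC : R ≤ centralizer ({x} : Set G)) : R ≤ V := by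
  haveI : Fact (Nat.Prime 2) := ⟨Nat.prime_two⟩
  set C := centralizer ({x} : Set G) with hC
  have hV2 : IsPGroup 2 V := IsPGroup.of_card (n := 2) (by rw [h.klein.card_four]; norm_num)
  let Q : Sylow 2 C := (hV2.of_equiv (subgroupOfEquivOfLe h.le).symm).toSylow h.odd
  have hQ : (Q : Subgroup C) = V.subgroupOf C := IsPGroup.toSylow_coe _ _
  haveI : (Q : Subgroup C).Normal := hQ ▸ h.normal
  obtain ⟨Q', hQ'⟩ := (hR.of_equiv (subgroupOfEquivOfLe hRC).symm).exists_le_sylow
  haveI := Sylow.unique_of_normal Q inferInstance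
  have he : Q' = Q := Subsingleton.elim _ _
  intro r hr
  have h1 : (⟨r, hRC hr⟩ : C) ∈ (Q : Subgroup C) := he ▸ hQ' (mem_subgroupOf.2 hr)
  rw [hQ] at h1
  exact mem_subgroupOf.1 h1

theorem Hyp.mem_self {x : G} {V : Subgroup G} (h : Hyp x V) : x ∈ V :=
  h.mem_of_two_elt (IsPGroup.of_card (n := 1) (by rw [Nat.card_zpowers, h.ord, pow_one]))
    ((zpowers_le).2 (mem_centralizer_singleton_iff.2 rfl)) (mem_zpowers x)

/-- In a group without subgroups of index 2, `V` is a Sylow 2-subgroup. -/
theorem Hyp.sylow_eq {x : G} {V : Subgroup G} (h : Hyp x V)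
    (hres : ∀ M : Subgroup G, M.index ≠ 2) (P : Sylow 2 G) (hVP : V ≤ (P : Subgroup G)) :
    (P : Subgroup G) = V := by
  haveI : Fact (Nat.Prime 2) := ⟨Nat.prime_two⟩
  by_contra hne
  have hxP : x ∈ (P : Subgroup G) := hVP h.mem_self
  set x' : (P : Subgroup G) := ⟨x, hxP⟩ with hx'
  have hCP : centralizer ({x'} : Set (P : Subgroup G)) = V.subgroupOf (P : Subgroup G) := by
    ext a
    rw [mem_centralizer_singleton_iff, mem_subgroupOf]
    refine ⟨fun ha => h.mem_of_two_elt (R := (P : Subgroup G) ⊓ centralizer ({x} : Set G))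
      (P.2.to_le inf_le_left) inf_le_right ⟨a.2, ?_⟩, fun ha => ?_⟩
    · exact mem_centralizer_singleton_iff.2 (congrArg Subtype.val ha)
    · exact Subtype.ext (mem_centralizer_singleton_iff.1 (h.le ha))
  have hC4 : Nat.card (centralizer ({x'} : Set (P : Subgroup G))) = 4 := by
    rw [hCP, Nat.card_congr (subgroupOfEquivOfLe hVP).toEquiv]
    exact h.klein.card_four
  have hxnc : ¬ ∀ a : (P : Subgroup G), a * x' = x' * a := fun hc => hne
    (le_antisymm (fun a ha => by
      have h1 : (⟨a, ha⟩ : (P : Subgroup G)) ∈ centralizer ({x'} : Set (P : Subgroup G)) :=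
        mem_centralizer_singleton_iff.2 (hc _)
      rw [hCP] at h1
      exact mem_subgroupOf.1 h1) hVP)
  have hna : ¬ IsMulCommutative (P : Subgroup G) := fun hc => hxnc fun a => hc.is_comm.comm a x'
  have hab : Nat.card (P : Subgroup G) ≤ 4 * Nat.card (commutator (P : Subgroup G)) := by
    have h1 := CfsgLib.Invol.card_isConj_mul x'
    rw [hC4] at h1
    have h2 : Nat.card {y : (P : Subgroup G) // IsConj x' y} ≤
        Nat.card (commutator (P : Subgroup G)) := by
      refine Nat.card_le_card_of_injective (fun y => ⟨y.1 * x'⁻¹, ?_⟩) fun y z e =>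
        Subtype.ext (mul_right_cancel (congrArg Subtype.val e))
      obtain ⟨g, hg⟩ := isConj_iff.1 y.2
      rw [← hg, commutator_def]
      exact commutator_mem_commutator (mem_top g) (mem_top x')
    omega
  obtain ⟨a, ha⟩ := CfsgLib.Invol.exists_cyclic_index_two _ _ rfl P.2 hna hab
  set A := zpowers a with hA
  haveI : A.Normal := normal_of_index_eq_two ha
  set Q := A.map (P : Subgroup G).subtype with hQ
  have hQi : Q.relIndex (P : Subgroup G) = 2 := by
    show (Q.subgroupOf (P : Subgroup G)).index = 2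
    rw [hQ, subgroupOf, comap_map_eq_self_of_injective (P : Subgroup G).subtype_injective A]
    exact ha
  -- an involution of `A` is central in `P`
  have hcent : ∀ v ∈ A, orderOf v = 2 → ∀ b : (P : Subgroup G), b * v = v * b := by
    intro v hv hv2 b
    have h1 : b * v * b⁻¹ = v := CfsgLib.Invol.invol_zpowers_unique (w := a)
      ((MulEquiv.orderOf_eq (MulAut.conj b) v).trans hv2) hv2 (Normal.conj_mem inferInstance v hv b) hv
    exact mul_inv_eq_iff_eq_mul.1 h1
  have hno : ∀ g : G, g * x * g⁻¹ ∉ Q := by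
    rintro g ⟨v, hv, hvg⟩
    have hv2 : orderOf v = 2 := by
      rw [← Subgroup.orderOf_coe, show (v : G) = g * x * g⁻¹ from hvg, ← h.ord]
      exact (MulEquiv.orderOf_eq (MulAut.conj g) x)
    have hPle : (P : Subgroup G) ≤ centralizer ({(v : G)} : Set G) := fun b hb =>
      mem_centralizer_singleton_iff.2 (congrArg Subtype.val (hcent v hv hv2 ⟨b, hb⟩))
    -- transport to `x`
    have hPle' : (P : Subgroup G).map (MulAut.conj g⁻¹).toMonoidHom ≤
        centralizer ({x} : Set G) := by
      rintro _ ⟨b, hb, rfl⟩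
      have h1 := mem_centralizer_singleton_iff.1 (hPle hb)
      rw [show (v : G) = g * x * g⁻¹ from hvg] at h1
      refine mem_centralizer_singleton_iff.2 ?_
      show g⁻¹ * b * g⁻¹⁻¹ * x = x * (g⁻¹ * b * g⁻¹⁻¹)
      calc g⁻¹ * b * g⁻¹⁻¹ * x = g⁻¹ * (b * (g * x * g⁻¹)) * g := by group
        _ = g⁻¹ * (g * x * g⁻¹ * b) * g := by rw [h1]
        _ = x * (g⁻¹ * b * g⁻¹⁻¹) := by group
    have h4 := card_le_of_le (h.mem_of_two_elt (P.2.map _) hPle')
    rw [card_map_of_injective (MulAut.conj g⁻¹).injective] at h4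
    exact hne (eq_of_le_of_card_ge hVP h4).symm
  obtain ⟨M, -, hM, -⟩ := CfsgLib.Fusion.thompson_transfer P (map_subtype_le A) hQi
    (by rw [← h.ord, pow_orderOf_eq_one]) hno
  exact hres M hM

/-- A semiregular action gives divisibility. -/
theorem four_dvd_of_free {α : Type*} [Finite α] {W : Type*} [Group W] [MulAction W α]
    (hfree : ∀ b : α, MulAction.stabilizer W b = ⊥) : Nat.card W ∣ Nat.card α := by
  rw [Nat.card_congr (MulAction.selfEquivOrbitsQuotientProd hfree), Nat.card_prod]
  exact dvd_mul_left _ _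

theorem perm_bound [IsSimpleGroup G] {H : Subgroup G} (hH : H ≠ ⊤) :
    Nat.card G ∣ H.index.factorial := by
  classical
  haveI : Fintype (G ⧸ H) := Fintype.ofFinite _
  have hk : (MulAction.toPermHom G (G ⧸ H)).ker = ⊥ := by
    rcases (MulAction.toPermHom G (G ⧸ H)).normal_ker.eq_bot_or_eq_top with h | h
    · exact h
    · refine absurd ?_ hH
      rw [eq_top_iff]
      intro g _
      have h1 : g • ((1 : G) : G ⧸ H) = ((1 : G) : G ⧸ H) := by
        have h2 : MulAction.toPermHom G (G ⧸ H) g = 1 := MonoidHom.mem_ker.1 (h ▸ mem_top g)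
        exact congrArg (fun σ : Equiv.Perm (G ⧸ H) => σ ((1 : G) : G ⧸ H)) h2
      rw [MulAction.Quotient.smul_coe, smul_eq_mul, mul_one, QuotientGroup.eq, mul_one,
        inv_mem_iff] at h1
      exact h1
  have h1 := card_dvd_of_injective _ ((MonoidHom.ker_eq_bot_iff _).1 hk)
  rwa [Nat.card_perm, ← index_eq_card] at h1

/-- The arithmetic of the order formula. -/
theorem sum_bound {a b c : ℕ} {e f g : ℤ} (ha : 3 ≤ a) (hb : 3 ≤ b) (hc : 3 ≤ c)
    (he : e = 1 ∨ e = -1) (hf : f = 1 ∨ f = -1) (hg : g = 1 ∨ g = -1)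
    (horth : (1 : ℤ) + e * a + f * b + g * c = 0) :
    (1 : ℝ) / 3 < 1 + (e : ℝ) / a + (f : ℝ) / b + (g : ℝ) / c := by
  have hA : (1 : ℝ) / a ≤ 1 / 3 := one_div_le_one_div_of_le (by norm_num) (by exact_mod_cast ha)
  have hB : (1 : ℝ) / b ≤ 1 / 3 := one_div_le_one_div_of_le (by norm_num) (by exact_mod_cast hb)
  have hC : (1 : ℝ) / c ≤ 1 / 3 := one_div_le_one_div_of_le (by norm_num) (by exact_mod_cast hc)
  have hA0 : (0 : ℝ) < 1 / a := by positivity
  have hB0 : (0 : ℝ) < 1 / b := by positivity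
  have hC0 : (0 : ℝ) < 1 / c := by positivity
  rcases he with rfl | rfl <;> rcases hf with rfl | rfl <;> rcases hg with rfl | rfl <;>
    first
      | (exfalso; omega)
      | (push_cast; simp only [neg_div]; linarith)

theorem iso_alt_five [IsSimpleGroup G] {x : G} {V : Subgroup G} (h : Hyp x V) :
    Nonempty (G ≃* alternatingGroup (Fin 5)) := by
  classical
  haveI : Fact (Nat.Prime 2) := ⟨Nat.prime_two⟩
  have hV4 : Nat.card V = 4 := h.klein.card_four
  have h4dvd : 4 ∣ Nat.card G := hV4 ▸ card_subgroup_dvd_card V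
  have hres : ∀ M : Subgroup G, M.index ≠ 2 := by
    intro M hM
    rcases (normal_of_index_eq_two hM).eq_bot_or_eq_top with e | e
    · rw [e, index_bot] at hM; rw [hM] at h4dvd; omega
    · rw [e, index_top] at hM; omega
  have hncomm : ¬ IsMulCommutative G := by
    intro hc
    rcases (Normal.eq_bot_or_eq_top (H := zpowers x) ⟨fun n hn g => by
      rw [hc.is_comm.comm g n, mul_inv_cancel_right]; exact hn⟩) with e | e
    · rw [zpowers_eq_bot] at e
      exact invol_ne_one h.ord e
    · have := congrArg (fun H : Subgroup G => Nat.card H) e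
      simp only [card_top, Nat.card_zpowers, h.ord] at this
      rw [← this] at h4dvd
      omega
  -- the Sylow subgroup
  have hV2 : IsPGroup 2 V := IsPGroup.of_card (n := 2) (by rw [hV4]; norm_num)
  obtain ⟨P, hP⟩ := hV2.exists_le_sylow
  have hPV : (P : Subgroup G) = V := h.sylow_eq hres P hP
  have hxP : x ∈ (P : Subgroup G) := hPV ▸ h.mem_self
  have hP4 : Nat.card (P : Subgroup G) = 4 := by rw [hPV, hV4]
  -- no normal subgroup of index four
  obtain ⟨g₀, hg₀⟩ := h4dvd
  have hg₀odd : Odd g₀ := by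
    rw [← Nat.not_even_iff_odd, even_iff_two_dvd]
    rintro ⟨r, hr⟩
    have h8 : 2 ^ 3 ∣ Nat.card G := ⟨r, by rw [hg₀, hr]; ring⟩
    have := Nat.le_of_dvd Nat.card_pos (P.pow_dvd_card_of_pow_dvd_card h8)
    rw [hP4] at this
    omega
  have hnc : ¬ ∃ N : Subgroup G, N.Normal ∧ Nat.card N = g₀ := by
    rintro ⟨N, hN, hcard⟩
    rcases hN.eq_bot_or_eq_top with e | e
    · rw [e, card_bot] at hcard
      subst hcard
      exact hncomm ((IsPGroup.isMulCommutative_of_card_eq_prime_sq (p := 2)) (by rw [hg₀]; norm_num))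
    · rw [e, card_top, hg₀] at hcard
      have := hg₀odd.pos
      omega
  obtain ⟨hK, hone⟩ := klein_of_no_complement g₀ hg₀odd hg₀ hnc P
  -- block data
  obtain ⟨M, hM⟩ := exists_pModular Nat.prime_two
  have := hM.2.1
  letI := Fintype.ofFinite G
  have := Fintype.ofFinite (IrrCharacter G)
  have hexp : ∀ v ∈ (P : Subgroup G), v * v = 1 := fun v hv => by
    have h1 := Monoid.pow_exponent_eq_one (⟨v, hv⟩ : (P : Subgroup G))
    rw [hK.exponent_two, pow_two] at h1
    exact congrArg Subtype.val h1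
  obtain ⟨u, -, s, hs⟩ := exists_kleinData hM P hP4 hexp hone
  have hm0 : oneChar G ∈ principalBlock M G := one_mem_principalBlock
  set B := Finset.univ.filter (· ∈ principalBlock M G) with hBdef
  have hB4 : B.card = 4 := by
    rw [hBdef, ← Fintype.card_subtype, ← Nat.card_eq_fintype_card]
    exact hs.card
  have hB3 : (B.erase (oneChar G)).card = 3 := by
    rw [Finset.card_erase_of_mem (by simp [hBdef, hm0]), hB4]
  obtain ⟨χ₁, χ₂, χ₃, h12, h13, h23, hB'⟩ := Finset.card_eq_three.1 hB3
  have hmem : ∀ χ, χ ∈ principalBlock M G ↔ χ = oneChar G ∨ χ = χ₁ ∨ χ = χ₂ ∨ χ = χ₃ := by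
    intro χ
    have h1 := Finset.ext_iff.1 hB' χ
    simp only [Finset.mem_erase, hBdef, Finset.mem_filter, Finset.mem_univ, true_and,
      Finset.mem_insert, Finset.mem_singleton] at h1
    rcases eq_or_ne χ (oneChar G) with rfl | hne
    · simp [hm0]
    · simp only [hne, false_or]
      exact ⟨fun hh => h1.1 ⟨hne, hh⟩, fun hh => (h1.2 hh).2⟩
  have hB : principalBlock M G = {χ : IrrCharacter G | (χ : G → ℂ) = (fun _ => 1) ∨ χ = χ₁ ∨
      χ = χ₂ ∨ χ = χ₃} := Set.ext fun χ => (hmem χ).trans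
        (or_congr_left ⟨fun e => by rw [e]; rfl, fun e => Subtype.ext e⟩)
  have hne1 : ∀ χ, χ = χ₁ ∨ χ = χ₂ ∨ χ = χ₃ → χ ∈ principalBlock M G ∧ χ ≠ oneChar G := by
    intro χ hχ
    have h1 : χ ∈ B.erase (oneChar G) := by rw [hB']; simpa using hχ
    simp only [Finset.mem_erase, hBdef, Finset.mem_filter, Finset.mem_univ, true_and] at h1
    exact ⟨h1.2, h1.1⟩
  obtain ⟨hm1, n1⟩ := hne1 χ₁ (Or.inl rfl)
  obtain ⟨hm2, n2⟩ := hne1 χ₂ (Or.inr (Or.inl rfl))
  obtain ⟨hm3, n3⟩ := hne1 χ₃ (Or.inr (Or.inr rfl))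
  have hxev : 2 ∣ orderOf x := by rw [h.ord]
  have hsums := exists_kleinSums hM P hK hone hxP h.ord hB (fun e => n1 (Subtype.ext e))
    (fun e => n2 (Subtype.ext e)) (fun e => n3 (Subtype.ext e)) h12 h13 h23
    (hs.sing _ hm1 x hxev) (hs.sing _ hm2 x hxev) (hs.sing _ hm3 x hxev)
  -- degrees
  have hdeg : ∀ χ ∈ principalBlock M G, χ ≠ oneChar G → 3 ≤ charDegree (χ : G → ℂ) := by
    intro χ hχ hne
    have h4 := hs.congr χ hχ
    have hd0 := (charDegree_eq χ).2
    have hd1 : charDegree (χ : G → ℂ) ≠ 1 := by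
      intro hd
      obtain ⟨N, hNn, hNmem⟩ := CfsgLib.Invol.exists_charKernel χ
      rcases hNn.eq_bot_or_eq_top with e | e
      · refine hncomm ⟨⟨fun a b => ?_⟩⟩
        obtain ⟨n, ρ, hρ, hρχ⟩ := χ.2
        have hn : n = 1 := by
          have h1 := (charDegree_eq χ).1
          rw [← hρχ, Representation.char_one, Module.finrank_fin_fun] at h1
          rw [hρχ] at h1
          rw [hd] at h1
          exact_mod_cast h1
        subst hn
        have hcomm : ∀ A B : Module.End ℂ (Fin 1 → ℂ), A * B = B * A := by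
          intro A B
          obtain ⟨α, hα⟩ : ∃ α : ℂ, A = α • (1 : Module.End ℂ (Fin 1 → ℂ)) :=
            ⟨A (fun _ => 1) 0, LinearMap.ext fun v => funext fun i => by
              have hv : v = v 0 • (fun _ => (1 : ℂ)) := funext fun j => by
                rw [Subsingleton.elim j 0]; simp
              rw [Subsingleton.elim i 0]
              conv_lhs => rw [hv, map_smul]
              simp [mul_comm]⟩
          rw [hα, smul_mul_assoc, one_mul, mul_smul_comm, mul_one]
        have hab : a * b * (b * a)⁻¹ ∈ N := by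
          rw [hNmem, ← hρχ]
          have hρab : ρ (a * b) = ρ (b * a) := by rw [map_mul, map_mul, hcomm]
          show ρ.character _ = ρ.character 1
          simp only [Representation.character, map_mul ρ (a * b)]
          rw [hρab, ← map_mul ρ, mul_inv_cancel]
        rw [e, mem_bot] at hab
        exact mul_inv_eq_one.1 hab
      · exact hne (CfsgLib.Invol.eq_oneChar_of_constant χ fun g =>
          (hNmem g).1 (e ▸ mem_top g))
    rcases Int.isUnit_iff.mp (IsUnit.of_mul_eq_one _ (hs.sq χ hχ)) with hh | hh <;>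
      rw [hh] at h4 <;> omega
  have hsgn : ∀ χ ∈ principalBlock M G, s χ = 1 ∨ s χ = -1 := fun χ hχ =>
    Int.isUnit_iff.mp (IsUnit.of_mul_eq_one _ (hs.sq χ hχ))
  have hS := sum_bound (hdeg _ hm1 n1) (hdeg _ hm2 n2) (hdeg _ hm3 n3) (hsgn _ hm1) (hsgn _ hm2)
    (hsgn _ hm3) hsums.orth
  have horder := hsums.order
  rw [(charDegree_eq χ₁).1, (charDegree_eq χ₂).1, (charDegree_eq χ₃).1] at horder
  set C := centralizer ({x} : Set G) with hC
  -- `C` centralizes `V`
  have hCP : centralizer ((P : Subgroup G) : Set G) = C := by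
    refine le_antisymm (centralizer_le (Set.singleton_subset_iff.2 hxP)) fun c hc => ?_
    have hPC : (P : Subgroup G) ≤ C := klein_le_centralizer hK hxP
    rw [mem_centralizer_iff]
    intro v hv
    by_contra hne
    have hnorm : ∀ d ∈ C, ∀ w ∈ (P : Subgroup G), d * w * d⁻¹ ∈ (P : Subgroup G) := by
      intro d hd w hw
      rw [hPV] at hw ⊢
      exact mem_subgroupOf.1 (h.normal.conj_mem ⟨w, h.le hw⟩ (mem_subgroupOf.2 hw) ⟨d, hd⟩)
    have hcompl := hasNormalPComplement_klein_central hK hxP h.ord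
    obtain ⟨Q, N, hN, hcc⟩ := hcompl
    have hQe : (Q : Subgroup C) = (P : Subgroup G).subgroupOf C := by
      have hle : (Q : Subgroup C).map C.subtype ≤ (P : Subgroup G) := hPV ▸
        h.mem_of_two_elt (Q.2.map _) (map_subtype_le _)
      refine eq_of_le_of_card_ge (fun q hq => mem_subgroupOf.2 (hle ⟨q, hq, rfl⟩)) (le_of_eq ?_)
      rw [Q.card_eq_multiplicity, ← (P.subtype hPC).card_eq_multiplicity]
      rfl
    obtain ⟨⟨n, q⟩, hnq⟩ := hcc.2 (⟨c, hc⟩ : C)
    have hcomm : ∀ w : C, (w : G) ∈ (P : Subgroup G) → (n : C) * w = w * n := by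
      intro w hw
      have h1 : (n : C) * w * (n : C)⁻¹ * w⁻¹ ∈ N := by
        rw [mul_assoc, mul_assoc]
        refine mul_mem n.2 ?_
        rw [← mul_assoc]
        exact hN.conj_mem _ (inv_mem n.2) w
      have h2 : (n : C) * w * (n : C)⁻¹ * w⁻¹ ∈ (Q : Subgroup C) := by
        rw [hQe, mem_subgroupOf]
        exact mul_mem (hnorm _ (n : C).2 _ hw) (inv_mem hw)
      have h3 : (n : C) * w * (n : C)⁻¹ * w⁻¹ = 1 :=
        (Subgroup.mem_bot).1 (hcc.disjoint.le_bot ⟨h1, h2⟩)
      exact mul_inv_eq_iff_eq_mul.1 (mul_inv_eq_one.1 h3)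
    have hqP : ((q : C) : G) ∈ (P : Subgroup G) := mem_subgroupOf.1 (hQe ▸ q.2)
    have h4 := congrArg (fun z : C => (z : G)) (hcomm ⟨v, hPC hv⟩ hv)
    have h5 : ((q : C) : G) * v = v * ((q : C) : G) :=
      congrArg Subtype.val ((Invol.klein_comm P hK).is_comm.comm
        (⟨_, hqP⟩ : (P : Subgroup G)) ⟨v, hv⟩)
    have h6 : c = ((n : C) : G) * ((q : C) : G) := (congrArg (fun z : C => (z : G)) hnq).symm
    refine hne ?_
    simp only [Subgroup.coe_mul] at h4
    rw [h6, mul_assoc, h5, ← mul_assoc, ← h4, mul_assoc]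
  rw [hCP] at horder
  set S : ℝ := 1 + (s χ₁ : ℝ) / charDegree (χ₁ : G → ℂ) + (s χ₂ : ℝ) / charDegree (χ₂ : G → ℂ) +
      (s χ₃ : ℝ) / charDegree (χ₃ : G → ℂ) with hSdef
  have hord' : (Nat.card G : ℝ) * S * (Nat.card C : ℝ) ^ 2 = 8 * (Nat.card C : ℝ) ^ 3 := by
    have h1 : (((Nat.card G : ℝ) * S * (Nat.card C : ℝ) ^ 2 : ℝ) : ℂ) =
        ((8 * (Nat.card C : ℝ) ^ 3 : ℝ) : ℂ) := by
      rw [hSdef]
      push_cast
      exact horder
    exact_mod_cast h1
  have hG24 : Nat.card G < 24 * Nat.card C := by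
    have hc0 : (0 : ℝ) < Nat.card C := by exact_mod_cast Nat.card_pos
    have hG0 : (0 : ℝ) < Nat.card G := by exact_mod_cast Nat.card_pos
    have h1 : (Nat.card G : ℝ) * S = 8 * Nat.card C :=
      mul_right_cancel₀ (pow_ne_zero 2 hc0.ne') (by rw [hord']; ring)
    have h2 : (Nat.card G : ℝ) < 24 * Nat.card C := by nlinarith
    exact_mod_cast h2
  -- the normalizer
  set N := normalizer ((P : Subgroup G) : Set G) with hN
  have hCN : C ≤ N := fun c hc => Subgroup.mem_normalizer_iff.2 fun w => by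
    have hPle : ∀ w ∈ (P : Subgroup G), c * w * c⁻¹ = w := fun w hw => by
      rw [mul_inv_eq_iff_eq_mul]
      exact ((mem_centralizer_iff.1 (hCP.symm ▸ hc)) w hw).symm
    refine ⟨fun hw => (hPle w hw).symm ▸ hw, fun hw => ?_⟩
    have h1 := hPle _ hw
    have h2 : c * w * c⁻¹ = w := mul_left_cancel (mul_right_cancel h1)
    exact h2 ▸ hw
  have hN3 : 3 * Nat.card C ≤ Nat.card N := by
    set x' : N := ⟨x, (P : Subgroup G).le_normalizer hxP⟩ with hx'
    have h1 := CfsgLib.Invol.card_isConj_mul x'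
    have h2 : Nat.card (centralizer ({x'} : Set N)) = Nat.card C := by
      rw [show centralizer ({x'} : Set N) = C.subgroupOf N from by
        ext a
        rw [mem_centralizer_singleton_iff, mem_subgroupOf, hC, mem_centralizer_singleton_iff]
        exact ⟨fun e => congrArg Subtype.val e, fun e => Subtype.ext e⟩]
      exact Nat.card_congr (subgroupOfEquivOfLe hCN).toEquiv
    have h3 : Nat.card {y : (P : Subgroup G) // y ≠ 1} ≤ Nat.card {y : N // IsConj x' y} := by
      refine Nat.card_le_card_of_injective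
        (fun y => ⟨⟨y.1, (P : Subgroup G).le_normalizer y.1.2⟩, ?_⟩) fun y z e =>
          Subtype.ext (Subtype.ext (congrArg (fun w => ((w.1 : N) : G)) e))
      obtain ⟨g, hg⟩ := isConj_iff.1 (hone x y.1 h.ord
        (CfsgLib.Invol.klein_invol P hK y.1.2 fun e => y.2 (Subtype.ext e)))
      obtain ⟨n, hn, hn'⟩ := CfsgLib.Fusion.abelian_sylow_control P (Invol.klein_comm P hK) hxP g
        (by rw [hg]; exact y.1.2)
      exact isConj_iff.2 ⟨⟨n, hn⟩, Subtype.ext (hn'.trans hg)⟩
    have h4 : Nat.card {y : (P : Subgroup G) // y ≠ 1} = 3 := by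
      haveI := Fintype.ofFinite (P : Subgroup G)
      rw [Nat.card_eq_fintype_card, Fintype.card_subtype_compl, Fintype.card_subtype_eq,
        ← Nat.card_eq_fintype_card, hP4]
    rw [h2] at h1
    rw [← h1]
    exact Nat.mul_le_mul_right _ (h4 ▸ h3)
  have hN8 : N.index < 8 := by
    by_contra hcon
    push Not at hcon
    have := Nat.mul_le_mul hN3 hcon
    rw [N.card_mul_index] at this
    omega
  have hNtop : N ≠ ⊤ := by
    intro e
    haveI : (P : Subgroup G).Normal := normalizer_eq_top_iff.1 e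
    rcases Normal.eq_bot_or_eq_top (H := (P : Subgroup G)) inferInstance with e' | e'
    · rw [e', card_bot] at hP4; omega
    · refine hncomm (IsPGroup.isMulCommutative_of_card_eq_prime_sq (p := 2) ?_)
      rw [← card_top (G := G), ← e', hP4]; norm_num
  -- semiregularity on the other Sylow subgroups
  have hmod : 4 ∣ N.index - 1 := by
    let X := {T : Sylow 2 G // T ≠ P}
    have hinv : ∀ v : (P : Subgroup G), ∀ T : Sylow 2 G, T ≠ P → (v : G) • T ≠ P := by
      intro v T hT e
      refine hT ?_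
      have h1 : (v : G)⁻¹ • P = P :=
        Sylow.smul_eq_iff_mem_normalizer.2 (inv_mem ((P : Subgroup G).le_normalizer v.2))
      exact ((smul_eq_iff_eq_inv_smul (v : G)).1 e).trans h1
    letI : MulAction (P : Subgroup G) X :=
      { smul := fun v T => ⟨(v : G) • T.1, hinv v T.1 T.2⟩
        one_smul := fun T => Subtype.ext (one_smul G T.1)
        mul_smul := fun v w T => Subtype.ext (mul_smul (v : G) (w : G) T.1) }
    have hfree : ∀ T : X, MulAction.stabilizer (P : Subgroup G) T = ⊥ := by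
      intro T
      rw [eq_bot_iff]
      intro v hv
      rw [mem_bot]
      by_contra hv1
      have hv' : (v : G) • T.1 = T.1 := congrArg Subtype.val hv
      have hvN := Sylow.smul_eq_iff_mem_normalizer.1 hv'
      have hv2 : orderOf (v : G) = 2 :=
        CfsgLib.Invol.klein_invol P hK v.2 fun e => hv1 (Subtype.ext e)
      -- `v` lies in `T`
      have hvT : (v : G) ∈ (T.1 : Subgroup G) := by
        have hz : IsPGroup 2 (zpowers (v : G)) :=
          IsPGroup.of_card (n := 1) (by rw [Nat.card_zpowers, hv2, pow_one])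
        have h1 := hz.inf_normalizer_sylow T.1
        exact (inf_le_right : zpowers (v : G) ⊓ (T.1 : Subgroup G) ≤ _)
          (h1 ▸ (⟨mem_zpowers _, hvN⟩ : (v : G) ∈ zpowers (v : G) ⊓
            normalizer ((T.1 : Subgroup G) : Set G)))
      -- transport to `x`
      obtain ⟨g, hg⟩ := isConj_iff.1 (hone (v : G) x hv2 h.ord)
      have hT4 : Nat.card (T.1 : Subgroup G) = 4 := by
        rw [T.1.card_eq_multiplicity, ← P.card_eq_multiplicity, hP4]
      have hcommT : ∀ a ∈ (T.1 : Subgroup G), a * v = v * a := fun a ha =>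
        congrArg Subtype.val
          ((IsPGroup.isMulCommutative_of_card_eq_prime_sq (p := 2) (by rw [hT4]; norm_num) :
            IsMulCommutative (T.1 : Subgroup G)).is_comm.comm ⟨a, ha⟩ ⟨v, hvT⟩)
      have hcommP : ∀ a ∈ (P : Subgroup G), a * v = v * a := fun a ha =>
        congrArg Subtype.val ((Invol.klein_comm P hK).is_comm.comm ⟨a, ha⟩ v)
      have hkey : ∀ R : Subgroup G, IsPGroup 2 R → (∀ a ∈ R, a * v = v * a) →
          R.map (MulAut.conj g).toMonoidHom ≤ V := by
        intro R hR hRc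
        refine h.mem_of_two_elt (hR.map _) ?_
        rintro _ ⟨a, ha, rfl⟩
        refine mem_centralizer_singleton_iff.2 ?_
        show g * a * g⁻¹ * x = x * (g * a * g⁻¹)
        rw [← hg]
        calc g * a * g⁻¹ * (g * v * g⁻¹) = g * (a * v) * g⁻¹ := by group
          _ = g * (v * a) * g⁻¹ := by rw [hRc a ha]
          _ = g * v * g⁻¹ * (g * a * g⁻¹) := by group
      have e1 := eq_of_le_of_card_ge (hkey _ T.1.2 hcommT) (by
        rw [card_map_of_injective (MulAut.conj g).injective, hT4, hV4])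
      have e2 := eq_of_le_of_card_ge (hkey _ P.2 hcommP) (by
        rw [card_map_of_injective (MulAut.conj g).injective, hP4, hV4])
      exact T.2 (Sylow.ext (map_injective (MulAut.conj g).injective (e1.trans e2.symm)))
    have h1 := four_dvd_of_free hfree
    rw [hP4] at h1
    haveI := Fintype.ofFinite (Sylow 2 G)
    have h2 : Nat.card X = N.index - 1 := by
      rw [hN, show (normalizer ((P : Subgroup G) : Set G)).index = Nat.card (Sylow 2 G) from (P.card_eq_index_normalizer).symm, Nat.card_eq_fintype_card, Fintype.card_subtype_compl,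
        Fintype.card_subtype_eq, Nat.card_eq_fintype_card]
    rwa [h2] at h1
  have hNpos : N.index ≠ 0 := index_ne_zero_of_finite
  have hN1 : N.index ≠ 1 := fun e => hNtop (index_eq_one.1 e)
  have h5 : N.index = 5 := by
    obtain ⟨r, hr⟩ := hmod
    omega
  have h120 := perm_bound hNtop
  rw [h5] at h120
  have hC4 : 4 ≤ Nat.card C := hP4 ▸ card_le_of_le (klein_le_centralizer hK hxP)
  have hG60 : Nat.card G = 60 := by
    have h1 := N.card_mul_index
    rw [h5] at h1
    have h60 : 60 ≤ Nat.card G := by omega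
    obtain ⟨r, hr⟩ := h120
    have h120' : Nat.card G ≤ 120 := Nat.le_of_dvd (by norm_num) ⟨r, hr⟩
    have hr2 : r ≤ 2 := by
      by_contra hc
      push Not at hc
      have := Nat.mul_le_mul h60 hc
      rw [← hr] at this
      norm_num [Nat.factorial] at this
    have : r ≠ 0 := by rintro rfl; norm_num [Nat.factorial] at hr
    have hodd := Nat.odd_iff.1 hg₀odd
    have h120e : (5 : ℕ).factorial = 120 := rfl
    rw [h120e] at hr
    interval_cases r <;> omega
  exact CfsgLib.Invol.mulEquiv_alternating_five hG60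

end CfsgLib.Invol.NormalKlein
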