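import Cfsg.Prelude.Def_Transfer
import Cfsg.Agent.Lib.Coprime.Action
import Cfsg.Agent.Lib.Coprime.UniqueOrderP
import Cfsg.Agent.Lib.Coprime.PGroupFrattini
import Cfsg.Agent.Lib.PGroup.FrattiniLe
import Cfsg.Agent.Lib.PGroup.CentralizerCount
import Cfsg.Agent.Lib.Invol.QuaternionSection
import Cfsg.Agent.Lib.Invol.DihedralSubgroup

/-!
# Abelian odd groups acting on a 2-group with one fixed involution for each element
-/

set_option autoImplicit false
set_option linter.style.haveILetI false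
set_option linter.unusedSectionVars false

open Subgroup
open scoped commutatorElement

namespace CfsgLib.OneFixed

variable {G : Type*} [Group G] [Finite G] {p : ℕ} [hp : Fact p.Prime]

/-- The setting. -/
structure Setup (W E : Subgroup G) (p : ℕ) : Prop where
  two : IsPGroup 2 W
  odd : p ≠ 2
  pgrp : IsPGroup p E
  comm : ∀ a ∈ E, ∀ b ∈ E, Commute a b
  norm : E ≤ normalizer (W : Set G)
  faith : ∀ e ∈ E, (∀ x ∈ W, Commute e x) → e = 1
  fix : ∀ e ∈ E, e ≠ 1 → ∀ x ∈ W, ∀ y ∈ W, orderOf x = 2 → orderOf y = 2 →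
    Commute e x → Commute e y → x = y

/-- Fixed points of one element. -/
def fx (W : Subgroup G) (e : G) : Subgroup G := W ⊓ centralizer ({e} : Set G)

variable {W E : Subgroup G}

theorem mem_fx {e x : G} : x ∈ fx W e ↔ x ∈ W ∧ Commute e x :=
  and_congr_right fun _ => mem_centralizer_singleton_iff.trans ⟨fun h => h.symm, fun h => h.symm⟩

theorem Setup.conj_fx (h : Setup W E p) {e σ : G} (he : e ∈ E) (hσ : σ ∈ E) {x : G} (hx : x ∈ fx W e) :
    σ * x * σ⁻¹ ∈ fx W e := by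
  obtain ⟨hxW, hxc⟩ := mem_fx.1 hx
  refine mem_fx.2 ⟨(mem_normalizer_iff.1 (h.norm hσ) x).1 hxW, ?_⟩
  have h1 := h.comm e he σ hσ
  exact (h1.mul_right hxc).mul_right h1.inv_right

theorem Setup.norm_fx (h : Setup W E p) {e : G} (he : e ∈ E) : E ≤ normalizer (fx W e : Set G) :=
  fun σ hσ => mem_normalizer_iff.2 fun x => ⟨h.conj_fx he hσ, fun hx => by
    simpa [mul_assoc] using h.conj_fx he (inv_mem hσ) hx⟩

/-- The action on the fixed points of one element. -/
theorem Setup.act (h : Setup W E p) {e σ : G} (he : e ∈ E) (he1 : e ≠ 1) (hσ : σ ∈ E)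
    (hmove : ¬ ∀ x ∈ fx W e, Commute σ x) :
    Nat.card (fx W e) = 8 ∧ (∃ u ∈ fx W e, ∃ v ∈ fx W e, u * v ≠ v * u) ∧
      ∀ x ∈ fx W e, Commute (σ ^ 3) x := by
  set Q := fx W e with hQ
  have hQ2 : IsPGroup 2 Q := h.two.to_le inf_le_left
  have hu : CfsgLib.Coprime.UniqueOrderP 2 Q := by
    intro x y hx hy hx1
    by_cases hy1 : y = 1
    · exact hy1 ▸ one_mem _
    have ox : orderOf (x : G) = 2 := (orderOf_coe x).trans (orderOf_eq_prime hx hx1)
    have oy : orderOf (y : G) = 2 := (orderOf_coe y).trans (orderOf_eq_prime hy hy1)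
    have := h.fix e he he1 x x.2.1 y y.2.1 ox oy (mem_fx.1 x.2).2 (mem_fx.1 y.2).2
    exact Subtype.ext this ▸ mem_zpowers x
  set τ : MulAut Q := Q.normalizerMonoidHom ⟨σ, h.norm_fx he hσ⟩ with hτ
  have hτval : ∀ x : Q, ((τ x : Q) : G) = σ * x * σ⁻¹ := fun x => rfl
  have hτne : τ ≠ 1 := fun e1 => hmove fun x hx => by
    have := hτval ⟨x, hx⟩
    rw [e1] at this
    exact eq_mul_inv_iff_mul_eq.1 (show x = σ * x * σ⁻¹ from this) |>.symm
  obtain ⟨k, hk⟩ := h.pgrp ⟨σ, hσ⟩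
  have hτk : τ ^ p ^ k = 1 := by
    rw [hτ, ← map_pow]
    have h1 : (⟨σ, h.norm_fx he hσ⟩ : normalizer (Q : Set G)) ^ p ^ k = 1 :=
      Subtype.ext (congrArg Subtype.val hk : σ ^ p ^ k = 1)
    rw [h1, map_one]
  have hodd : Odd (p ^ k) := (hp.out.odd_of_ne_two h.odd).pow
  rcases CfsgLib.Coprime.cyclic_or_quaternion_of_unique_two hQ2 hu with hc | ⟨n, ⟨φ⟩⟩
  · haveI := hc
    exact absurd (CfsgLib.Invol.aut_eq_one_of_cyclic_two_group hQ2 τ hodd hτk) hτne
  obtain ⟨h8, ⟨u, v, huv⟩, h3⟩ :=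
    CfsgLib.Invol.quaternion_subgroup_of_aut hQ2 φ.toMonoidHom φ.injective τ hodd hτk hτne
  refine ⟨h8, ⟨u, u.2, v, v.2, fun e1 => huv (Subtype.ext e1)⟩, fun x hx => ?_⟩
  have h1 : ((τ ^ 3) ⟨x, hx⟩ : Q) = ⟨x, hx⟩ := by rw [h3]; rfl
  rw [hτ, ← map_pow] at h1
  exact (eq_mul_inv_iff_mul_eq.1 (congrArg Subtype.val h1).symm).symm

/-- There is a common fixed involution. -/
theorem Setup.exists_common (h : Setup W E p) {E₁ : Subgroup G} (hE₁ : E₁ ≤ E) (hnc : ¬ IsCyclic E₁) :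
    ∃ z ∈ W, orderOf z = 2 ∧ ∀ a ∈ E, Commute a z := by
  haveI : IsMulCommutative E₁ := ⟨⟨fun a b => Subtype.ext (h.comm a (hE₁ a.2) b (hE₁ b.2))⟩⟩
  have hcop : (Nat.card E₁).Coprime (Nat.card W) :=
    IsPGroup.coprime_card_of_ne p 2 h.odd E₁ W (h.pgrp.to_le hE₁) h.two
  obtain ⟨a, ha, ha1, hne⟩ : ∃ a ∈ E₁, a ≠ 1 ∧ fx W a ≠ ⊥ := by
    by_contra hcon
    push Not at hcon
    have hW := CfsgLib.Coprime.le_of_centralizers_le (W := (⊥ : Subgroup G)) hnc (hE₁.trans h.norm) hcop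
      (fun a ha ha1 => (hcon a ha ha1).le)
    refine hnc ?_
    have hb : E₁ = ⊥ := (eq_bot_iff_forall _).2 fun e he => h.faith e (hE₁ he) fun x hx => by
      rw [mem_bot.1 (hW hx)]; exact Commute.one_right e
    subst hb
    infer_instance
  haveI : Nontrivial (fx W a) := (nontrivial_iff_ne_bot _).2 hne
  obtain ⟨m, hm0, hm⟩ := (h.two.to_le (inf_le_left : fx W a ≤ W)).nontrivial_iff_card.1 ‹_›
  haveI : Fact (Nat.Prime 2) := ⟨Nat.prime_two⟩
  obtain ⟨z, hz⟩ := exists_prime_orderOf_dvd_card' (G := fx W a) 2 (hm ▸ dvd_pow_self 2 (by omega))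
  have hzo : orderOf (z : G) = 2 := (orderOf_coe z).trans hz
  refine ⟨z, z.2.1, hzo, fun b hb => ?_⟩
  have h1 := h.conj_fx (hE₁ ha) hb z.2
  have h2 : orderOf (b * z * b⁻¹) = 2 :=
    (MulAut.conj b).orderOf_eq (z : G) |>.trans hzo
  exact eq_mul_inv_iff_mul_eq.1 (h.fix a (hE₁ ha) ha1 z z.2.1 _ (mem_fx.1 h1).1 hzo h2 (mem_fx.1 z.2).2
    (mem_fx.1 h1).2) |>.symm

theorem Setup.mem_zpow_or (h : Setup W E p) {z : G} (hzW : z ∈ W) (hz : orderOf z = 2)
    (hzE : ∀ a ∈ E, Commute a z) {e : G} (he : e ∈ E) (he1 : e ≠ 1) {x : G} (hx : x ∈ fx W e)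
    (hx2 : x ^ 2 = 1) : x ∈ zpowers z := by
  by_cases hx1 : x = 1
  · exact hx1 ▸ one_mem _
  haveI : Fact (Nat.Prime 2) := ⟨Nat.prime_two⟩
  rw [h.fix e he he1 x hx.1 z hzW (orderOf_eq_prime hx2 hx1) hz (mem_fx.1 hx).2 (hzE e he)]
  exact mem_zpowers z

theorem Setup.z_mem (h : Setup W E p) {z : G} (hzW : z ∈ W) (hzE : ∀ a ∈ E, Commute a z) {e : G}
    (he : e ∈ E) : z ∈ fx W e := mem_fx.2 ⟨hzW, hzE e he⟩

/-- An element moved in a fixed-point group is not moved inside its own cyclic group. -/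
theorem Setup.moved (h : Setup W E p) {z : G} (hzW : z ∈ W) (hz : orderOf z = 2)
    (hzE : ∀ a ∈ E, Commute a z) {e σ : G} (he : e ∈ E) (he1 : e ≠ 1) (hσ : σ ∈ E)
    (hmove : ¬ ∀ x ∈ fx W e, Commute σ x) {F : Subgroup G} (hF : F ≤ fx W e) (hzF : z ∈ F)
    (hFσ : ∀ x ∈ F, σ * x * σ⁻¹ ∈ F) (hFne : ¬ F ≤ zpowers z) :
    F = fx W e ∧ (∀ x ∈ fx W e, Commute σ x → x ∈ zpowers z) := by
  obtain ⟨h8, ⟨u, hu, v, hv, huv⟩, h3⟩ := h.act he he1 hσ hmove
  set Q := fx W e with hQ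
  haveI : Fact (Nat.Prime 2) := ⟨Nat.prime_two⟩
  have hord : ∀ x ∈ Q, x ∉ zpowers z → orderOf x = 4 := by
    intro x hx hxz
    have hd : orderOf x ∣ 2 ^ 3 := by
      have := Subgroup.orderOf_dvd_natCard Q hx
      rwa [h8] at this
    obtain ⟨k, hk, hkx⟩ := (Nat.dvd_prime_pow Nat.prime_two).1 hd
    interval_cases k
    · exact absurd (orderOf_eq_one_iff.1 hkx ▸ one_mem _) hxz
    · exact absurd (h.mem_zpow_or hzW hz hzE he he1 hx (by
        have := pow_orderOf_eq_one x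
        rwa [hkx, pow_one] at this)) hxz
    · exact hkx
    · exfalso
      have hc : zpowers x = Q := eq_of_le_of_card_ge (zpowers_le.2 hx) (by rw [Nat.card_zpowers, hkx, h8]; norm_num)
      rw [← hc] at hu hv
      obtain ⟨i, rfl⟩ := mem_zpowers_iff.1 hu
      obtain ⟨j, rfl⟩ := mem_zpowers_iff.1 hv
      exact huv (Commute.zpow_zpow_self x i j).eq
  -- an invariant cyclic group of order four is fixed pointwise
  have hcyc : ∀ a ∈ Q, a ∉ zpowers z → σ * a * σ⁻¹ ∈ zpowers a → Commute σ a := by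
    intro a ha haz hmem
    have ho := hord a ha haz
    obtain ⟨i, hi⟩ := mem_zpowers_iff.1 hmem
    have e3 : σ ^ 3 * a * (σ ^ 3)⁻¹ = a := by rw [(h3 a ha).eq, mul_inv_cancel_right]
    have hpow : σ ^ 3 * a * (σ ^ 3)⁻¹ = a ^ (i * i * i) := by
      have e1 : ∀ n : ℤ, σ * a ^ n * σ⁻¹ = a ^ (i * n) := fun n => by rw [← conj_zpow, ← hi, zpow_mul]
      calc σ ^ 3 * a * (σ ^ 3)⁻¹ = σ * (σ * (σ * a * σ⁻¹) * σ⁻¹) * σ⁻¹ := by
            simp only [pow_succ, pow_zero, one_mul, mul_inv_rev, mul_assoc]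
        _ = a ^ (i * i * i) := by rw [← hi, e1, e1, mul_assoc]
    rw [e3] at hpow
    have hdiv : (4 : ℤ) ∣ i * i * i - 1 := by
      rw [show (4 : ℤ) = ((orderOf a : ℕ) : ℤ) by rw [ho]; rfl, orderOf_dvd_iff_zpow_eq_one, zpow_sub,
        zpow_one, ← hpow, mul_inv_cancel]
    have hi1 : (4 : ℤ) ∣ i - 1 := by
      have h0 : ∀ r : ZMod 4, r * r * r = 1 → r = 1 := by decide
      have h1 : ((i * i * i - 1 : ℤ) : ZMod 4) = 0 := (ZMod.intCast_zmod_eq_zero_iff_dvd _ 4).2 hdiv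
      push_cast at h1
      refine (ZMod.intCast_zmod_eq_zero_iff_dvd _ 4).1 ?_
      push_cast
      rw [h0 (i : ZMod 4) (sub_eq_zero.1 h1), sub_self]
    have hai : a ^ i = a := by
      rw [show i = (i - 1) + 1 by ring, zpow_add, zpow_one,
        orderOf_dvd_iff_zpow_eq_one.1 (by rw [ho]; exact_mod_cast hi1), one_mul]
    exact (eq_mul_inv_iff_mul_eq.1 (hai.symm.trans hi)).symm
  have hfixed : ∀ x ∈ Q, Commute σ x → x ∈ zpowers z := by
    intro x hx hσx
    by_contra hxz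
    have ho := hord x hx hxz
    have hidx : ((zpowers x).subgroupOf Q).index = 2 := by
      have e1 := ((zpowers x).subgroupOf Q).card_mul_index
      rw [Nat.card_congr (subgroupOfEquivOfLe (zpowers_le.2 hx)).toEquiv, Nat.card_zpowers, ho, h8] at e1
      omega
    refine hmove fun y hy => ?_
    by_cases hyx : y ∈ zpowers x
    · obtain ⟨i, rfl⟩ := mem_zpowers_iff.1 hyx
      exact hσx.zpow_right i
    have hy' : σ * y * σ⁻¹ ∈ Q := h.conj_fx he hσ hy
    have hnot : σ * y * σ⁻¹ ∉ zpowers x := fun hm => hyx (by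
      obtain ⟨i, hi⟩ := mem_zpowers_iff.1 hm
      rw [show y = σ⁻¹ * (σ * y * σ⁻¹) * σ by group, ← hi, mul_assoc, ← (hσx.zpow_right i).eq,
        inv_mul_cancel_left]
      exact zpow_mem (mem_zpowers x) i)
    obtain ⟨i, hi⟩ : ∃ i : ℤ, x ^ i = y⁻¹ * (σ * y * σ⁻¹) := mem_zpowers_iff.1 (by
      have := (Subgroup.mul_mem_iff_of_index_two hidx (a := (⟨y, hy⟩ : Q)⁻¹) (b := ⟨_, hy'⟩)).2
        ⟨fun h1 => absurd (by simpa [mem_subgroupOf] using h1) hyx,
          fun h1 => absurd (mem_subgroupOf.1 h1) hnot⟩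
      exact mem_subgroupOf.1 this)
    -- `σ` multiplies `y` by a fixed element of order dividing four and three
    have e1 : σ * y * σ⁻¹ = y * x ^ i := by rw [hi, mul_inv_cancel_left]
    have hc : σ * x ^ i * σ⁻¹ = x ^ i := by rw [(hσx.zpow_right i).eq, mul_inv_cancel_right]
    have e3 : σ ^ 3 * y * (σ ^ 3)⁻¹ = y * x ^ (3 * i) := by
      have cm : ∀ u v : G, σ * (u * v) * σ⁻¹ = (σ * u * σ⁻¹) * (σ * v * σ⁻¹) := fun u v => by group
      calc σ ^ 3 * y * (σ ^ 3)⁻¹ = σ * (σ * (σ * y * σ⁻¹) * σ⁻¹) * σ⁻¹ := by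
            simp only [pow_succ, pow_zero, one_mul, mul_inv_rev, mul_assoc]
        _ = y * x ^ i * x ^ i * x ^ i := by rw [e1, cm y, e1, hc, cm, cm, e1, hc]
        _ = y * x ^ (3 * i) := by
            rw [show 3 * i = i + i + i by ring, zpow_add, zpow_add, mul_assoc, mul_assoc, mul_assoc]
    rw [(h3 y hy).eq, mul_inv_cancel_right, left_eq_mul] at e3
    rw [← orderOf_dvd_iff_zpow_eq_one, ho] at e3
    have hxi : x ^ i = 1 := orderOf_dvd_iff_zpow_eq_one.1 (by rw [ho]; omega)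
    rw [hxi, mul_one] at e1
    exact (eq_mul_inv_iff_mul_eq.1 e1.symm).symm
  refine ⟨?_, hfixed⟩
  obtain ⟨a, ha, haz⟩ := SetLike.not_le_iff_exists.1 hFne
  by_contra hne
  have hc4 : zpowers a = F := by
    refine eq_of_le_of_card_ge (zpowers_le.2 ha) ?_
    rw [Nat.card_zpowers, hord a (hF ha) haz]
    have hdF : Nat.card F ∣ 2 ^ 3 := by
      have := card_dvd_of_le hF
      rwa [h8] at this
    obtain ⟨k, hk, hkF⟩ := (Nat.dvd_prime_pow Nat.prime_two).1 hdF
    by_contra h4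
    have hk3 : k = 3 := by
      rw [hkF] at h4
      by_contra hk3
      exact h4 (le_trans (Nat.pow_le_pow_right (by norm_num) (show k ≤ 2 by omega)) (by norm_num))
    exact hne (eq_of_le_of_card_ge hF (by rw [h8, hkF, hk3]; norm_num))
  exact haz (hfixed a (hF ha) (hcyc a (hF ha) haz (hc4.ge (hFσ a ha))))

/-- Data for one subgroup of order `p²`. -/
theorem Setup.pair_data (h : Setup W E p) {E₁ : Subgroup G} (hE₁ : E₁ ≤ E) (hnc : ¬ IsCyclic E₁)
    {z : G} (hzW : z ∈ W) (hz : orderOf z = 2) (hzE : ∀ a ∈ E, Commute a z) :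
    W ⊓ centralizer (E₁ : Set G) = zpowers z ∧ p = 3 := by
  haveI : IsMulCommutative E₁ := ⟨⟨fun a b => Subtype.ext (h.comm a (hE₁ a.2) b (hE₁ b.2))⟩⟩
  have hcop : (Nat.card E₁).Coprime (Nat.card W) :=
    IsPGroup.coprime_card_of_ne p 2 h.odd E₁ W (h.pgrp.to_le hE₁) h.two
  obtain ⟨a, ha, ha1, b, hb, hmove⟩ :
      ∃ a ∈ E₁, a ≠ 1 ∧ ∃ b ∈ E₁, ¬ ∀ x ∈ fx W a, Commute b x := by
    by_contra hcon
    push Not at hcon
    have hW := CfsgLib.Coprime.le_of_centralizers_le (W := centralizer (E₁ : Set G)) hnc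
      (hE₁.trans h.norm) hcop (fun a ha ha1 x hx => mem_centralizer_iff.2 fun b hb =>
        (hcon a ha ha1 b hb x hx).eq)
    refine hnc ?_
    have hbot : E₁ = ⊥ := (eq_bot_iff_forall _).2 fun e he => h.faith e (hE₁ he) fun x hx =>
      mem_centralizer_iff.1 (hW hx) e he
    subst hbot
    infer_instance
  obtain ⟨-, hfixed⟩ := h.moved hzW hz hzE (hE₁ ha) ha1 (hE₁ hb) hmove (F := fx W a) le_rfl
    (h.z_mem hzW hzE (hE₁ ha)) (fun x hx => h.conj_fx (hE₁ ha) (hE₁ hb) hx)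
    (fun hle => hmove fun x hx => by
      obtain ⟨i, rfl⟩ := mem_zpowers_iff.1 (hle hx)
      exact (hzE b (hE₁ hb)).zpow_right i)
  refine ⟨le_antisymm (fun x hx => hfixed x (mem_fx.2 ⟨hx.1, hx.2 a ha⟩) (hx.2 b hb))
    (zpowers_le.2 ⟨hzW, mem_centralizer_iff.2 fun c hc => (hzE c (hE₁ hc)).eq⟩), ?_⟩
  by_contra hp3
  obtain ⟨-, -, h3⟩ := h.act (hE₁ ha) ha1 (hE₁ hb) hmove
  obtain ⟨k, hk⟩ := h.pgrp ⟨b, hE₁ hb⟩
  refine hmove fun x hx => ?_
  have hb3 : orderOf b ∣ p ^ k := orderOf_dvd_of_pow_eq_one (congrArg Subtype.val hk)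
  have hco : (orderOf b).Coprime 3 := Nat.Coprime.coprime_dvd_left hb3
    ((Nat.coprime_primes hp.out Nat.prime_three).2 hp3 |>.pow_left k)
  obtain ⟨m, hm⟩ := exists_pow_eq_self_of_coprime hco.symm
  rw [← hm]
  exact (h3 x hx).pow_left m

/-- The elements commuting with a subgroup modulo another. -/
theorem exists_central_mod {U Z : Subgroup G} (hU : IsPGroup 2 U) (hZ : Z ≤ U)
    (hZc : U ≤ centralizer (Z : Set G)) (hne : ¬ U ≤ Z) :
    ∃ Y : Subgroup G, Y ≤ U ∧ ¬ Y ≤ Z ∧ (∀ y ∈ Y, ∀ w ∈ U, ⁅y, w⁆ ∈ Z) ∧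
      ∀ a ∈ normalizer (U : Set G), a ∈ centralizer (Z : Set G) → ∀ y ∈ Y, a * y * a⁻¹ ∈ Y := by
  haveI : (Z.subgroupOf U).Normal := ⟨fun n hn g => by
    rw [mem_subgroupOf] at hn ⊢
    show (g : G) * n * (g : G)⁻¹ ∈ Z
    rw [← mem_centralizer_iff.1 (hZc g.2) n hn, mul_inv_cancel_right]
    exact hn⟩
  set q := QuotientGroup.mk' (Z.subgroupOf U)
  haveI : Nontrivial (U ⧸ Z.subgroupOf U) := (QuotientGroup.nontrivial_iff).2 fun e =>
    hne (subgroupOf_eq_top.1 e)
  haveI : Fact (Nat.Prime 2) := ⟨Nat.prime_two⟩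
  haveI := (hU.to_quotient (Z.subgroupOf U)).center_nontrivial
  refine ⟨((center (U ⧸ Z.subgroupOf U)).comap q).map U.subtype, map_subtype_le _, fun hle => ?_, ?_, ?_⟩
  · obtain ⟨c, hc⟩ := exists_ne (1 : center (U ⧸ Z.subgroupOf U))
    obtain ⟨y, hy⟩ := QuotientGroup.mk'_surjective _ (c : U ⧸ Z.subgroupOf U)
    refine hc (Subtype.ext ?_)
    rw [← hy, OneMemClass.coe_one, QuotientGroup.mk'_apply, QuotientGroup.eq_one_iff, mem_subgroupOf]
    exact hle ⟨y, by rw [SetLike.mem_coe, mem_comap, hy]; exact c.2, rfl⟩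
  · rintro _ ⟨y, hy, rfl⟩ w hw
    have h1 : q ⁅y, ⟨w, hw⟩⁆ = 1 := by
      rw [map_commutatorElement, commutatorElement_eq_one_iff_mul_comm]
      exact (mem_center_iff.1 hy _).symm
    rw [QuotientGroup.mk'_apply, QuotientGroup.eq_one_iff, mem_subgroupOf] at h1
    simpa [commutatorElement_def] using h1
  · rintro a haN haZ _ ⟨y, hy, rfl⟩
    refine ⟨⟨_, (mem_normalizer_iff.1 haN _).1 y.2⟩, ?_, rfl⟩
    refine mem_center_iff.2 fun r => ?_
    obtain ⟨w, rfl⟩ := QuotientGroup.mk'_surjective _ r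
    have hw' : a⁻¹ * w * a ∈ U := (mem_normalizer_iff''.1 haN _).1 w.2
    have h1 : q ⁅y, ⟨_, hw'⟩⁆ = 1 := by
      rw [map_commutatorElement, commutatorElement_eq_one_iff_mul_comm]
      exact (mem_center_iff.1 hy _).symm
    rw [QuotientGroup.mk'_apply, QuotientGroup.eq_one_iff, mem_subgroupOf] at h1
    refine (commutatorElement_eq_one_iff_mul_comm.1 ?_).symm
    rw [← map_commutatorElement, QuotientGroup.mk'_apply, QuotientGroup.eq_one_iff, mem_subgroupOf]
    have h2 : ((⁅(⟨_, (mem_normalizer_iff.1 haN _).1 y.2⟩ : U), w⁆ : U) : G) =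
        a * ((⁅y, ⟨_, hw'⟩⁆ : U) : G) * a⁻¹ := by
      simp [commutatorElement_def, mul_assoc]
    rw [h2, ← mem_centralizer_iff.1 haZ _ h1, mul_inv_cancel_right]
    exact h1

/-- The structure of the group. -/
theorem Setup.main (h : Setup W E p) (hnc : ¬ IsCyclic E) :
    Nat.card E = 9 ∧ Cfsg.IsExtraspecial 2 W ∧
      (Nat.card W = 2 ^ 5 ∨ Nat.card W = 2 ^ 7 ∨ Nat.card W = 2 ^ 9) ∧
      ∀ x : W, ((∀ e ∈ E, Commute e (x : G)) ↔ x ∈ center W) := by
  classical
  haveI : IsMulCommutative E := ⟨⟨fun a b => Subtype.ext (h.comm a a.2 b b.2)⟩⟩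
  obtain ⟨r, ⟨y0, hy0⟩, ⟨z0, hz0⟩, hr, hyr, hzr, hz1, hyz⟩ :=
    CfsgLib.Coprime.exists_elementary_pair_of_not_cyclic hnc
  have hyr' : y0 ^ r = 1 := congrArg Subtype.val hyr
  have hzr' : z0 ^ r = 1 := congrArg Subtype.val hzr
  have hzne : z0 ≠ 1 := fun e => hz1 (Subtype.ext e)
  haveI : Fact r.Prime := ⟨hr⟩
  have hyz' : y0 ∉ zpowers z0 := fun hm => hyz (by
    obtain ⟨i, hi⟩ := mem_zpowers_iff.1 hm
    exact mem_zpowers_iff.2 ⟨i, Subtype.ext (by simpa using hi)⟩)
  have hrp : r = p := by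
    obtain ⟨k, hk⟩ := h.pgrp ⟨z0, hz0⟩
    have h1 : orderOf z0 = r := orderOf_eq_prime hzr' hzne
    exact (Nat.prime_dvd_prime_iff_eq hr hp.out).1
      (hr.dvd_of_dvd_pow (h1 ▸ orderOf_dvd_of_pow_eq_one (congrArg Subtype.val hk)))
  subst hrp
  set E₁ := zpowers y0 ⊔ zpowers z0 with hE₁def
  have hE₁ : E₁ ≤ E := sup_le (zpowers_le.2 hy0) (zpowers_le.2 hz0)
  haveI hab₁ : IsMulCommutative E₁ := ⟨⟨fun a b => Subtype.ext (h.comm a (hE₁ a.2) b (hE₁ b.2))⟩⟩
  have hexp₁ : ∀ x ∈ E₁, x ^ r = 1 := by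
    intro x hx
    let T : Subgroup G :=
      { carrier := {g | g ∈ E ∧ g ^ r = 1}
        one_mem' := ⟨one_mem E, one_pow r⟩
        mul_mem' := fun {a b} ha hb => ⟨mul_mem ha.1 hb.1, by
          rw [(h.comm a ha.1 b hb.1).mul_pow, ha.2, hb.2, one_mul]⟩
        inv_mem' := fun {a} ha => ⟨inv_mem ha.1, by rw [inv_pow, ha.2, inv_one]⟩ }
    have hle : E₁ ≤ T := sup_le (zpowers_le.2 ⟨hy0, hyr'⟩) (zpowers_le.2 ⟨hz0, hzr'⟩)
    exact (hle hx).2
  have hnc₁ : ¬ IsCyclic E₁ := fun hc => hyz' (by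
    have h1 : zpowers z0 = E₁ := eq_of_le_of_card_ge le_sup_right (by
      obtain ⟨g, hg⟩ := IsCyclic.exists_ofOrder_eq_natCard (α := E₁)
      rw [Nat.card_zpowers, orderOf_eq_prime hzr' hzne, ← hg]
      exact Nat.le_of_dvd hr.pos (orderOf_dvd_of_pow_eq_one (Subtype.ext (hexp₁ g g.2))))
    exact h1.ge (mem_sup_left (mem_zpowers y0)))
  obtain ⟨z, hzW, hz, hzE⟩ := h.exists_common hE₁ hnc₁
  set Z := zpowers z with hZdef
  have hZc : Nat.card Z = 2 := by rw [hZdef, Nat.card_zpowers, hz]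
  obtain ⟨hC₁, hp3⟩ := h.pair_data hE₁ hnc₁ hzW hz hzE
  subst hp3
  have hcop : ∀ {Y : Subgroup G}, Y ≤ W → (Nat.card E₁).Coprime (Nat.card Y) := fun {Y} hY =>
    IsPGroup.coprime_card_of_ne 3 2 (by norm_num) E₁ Y (h.pgrp.to_le hE₁) (h.two.to_le hY)
  -- the members
  set Mem : Subgroup G → Prop := fun Q => ∃ a ∈ E₁, a ≠ 1 ∧ fx W a = Q ∧ ¬ Q ≤ Z with hMem
  have hmove : ∀ {a}, a ∈ E₁ → a ≠ 1 → ¬ fx W a ≤ Z → ∃ b ∈ E₁, ¬ ∀ x ∈ fx W a, Commute b x := by
    intro a ha ha1 hne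
    by_contra hcon
    push Not at hcon
    exact hne fun x hx => hC₁.le ⟨hx.1, mem_centralizer_iff.2 fun b hb => (hcon b hb x hx).eq⟩
  have hfull : ∀ {a}, a ∈ E₁ → a ≠ 1 → ∀ {F : Subgroup G}, F ≤ fx W a → z ∈ F →
      (∀ b ∈ E₁, ∀ x ∈ F, b * x * b⁻¹ ∈ F) → ¬ F ≤ Z → F = fx W a := by
    intro a ha ha1 F hF hzF hinv hne
    obtain ⟨b, hb, hmv⟩ := hmove ha ha1 fun hle => hne (hF.trans hle)
    exact (h.moved hzW hz hzE (hE₁ ha) ha1 (hE₁ hb) hmv hF hzF (hinv b hb) hne).1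
  have hgen : ∀ {Y T : Subgroup G}, Y ≤ W → E₁ ≤ normalizer (Y : Set G) →
      (∀ a ∈ E₁, a ≠ 1 → Y ⊓ centralizer ({a} : Set G) ≤ T) → Y ≤ T := fun {Y T} hY hN hT =>
    CfsgLib.Coprime.le_of_centralizers_le hnc₁ hN (hcop hY) hT
  have hzc : W ≤ centralizer (Z : Set G) := by
    rw [hZdef, zpowers_eq_closure, centralizer_closure]
    refine hgen le_rfl (hE₁.trans h.norm) fun a ha ha1 x hx => mem_centralizer_singleton_iff.2 ?_
    have h1 : x * z * x⁻¹ ∈ fx W a := mul_mem (mul_mem hx (h.z_mem hzW hzE (hE₁ ha))) (inv_mem hx)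
    have h2 : orderOf (x * z * x⁻¹) = 2 := (MulAut.conj x).orderOf_eq z |>.trans hz
    exact mul_inv_eq_iff_eq_mul.1
      (h.fix a (hE₁ ha) ha1 _ h1.1 z hzW h2 hz (mem_fx.1 h1).2 (hzE a (hE₁ ha)))
  have hmemfacts : ∀ {Q}, Mem Q → Nat.card Q = 8 ∧ Q ≤ W ∧ z ∈ Q ∧ E₁ ≤ normalizer (Q : Set G) ∧
      Q ⊓ centralizer (Q : Set G) = Z := by
    rintro Q ⟨a, ha, ha1, rfl, hne⟩
    obtain ⟨b, hb, hmv⟩ := hmove ha ha1 hne
    obtain ⟨h8, ⟨u, hu, v, hv, huv⟩, -⟩ := h.act (hE₁ ha) ha1 (hE₁ hb) hmv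
    have hzQ := h.z_mem hzW hzE (hE₁ ha)
    refine ⟨h8, inf_le_left, hzQ, hE₁.trans (h.norm_fx (hE₁ ha)), ?_⟩
    refine le_antisymm ?_ (zpowers_le.2 ⟨hzQ, (le_centralizer_iff.1 (inf_le_left.trans hzc)) (mem_zpowers z)⟩)
    by_contra hne'
    have hinv : ∀ c ∈ E₁, ∀ x ∈ fx W a ⊓ centralizer (fx W a : Set G),
        c * x * c⁻¹ ∈ fx W a ⊓ centralizer (fx W a : Set G) := by
      intro c hc x hx
      refine ⟨h.conj_fx (hE₁ ha) (hE₁ hc) hx.1, mem_centralizer_iff.2 fun w hw => ?_⟩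
      have h1 := mem_centralizer_iff.1 hx.2 _ (h.conj_fx (hE₁ ha) (inv_mem (hE₁ hc)) hw)
      rw [inv_inv] at h1
      calc w * (c * x * c⁻¹) = c * ((c⁻¹ * w * c) * x) * c⁻¹ := by group
        _ = c * x * c⁻¹ * w := by rw [h1]; group
    have := hfull ha ha1 inf_le_left
      ⟨hzQ, (le_centralizer_iff.1 (inf_le_left.trans hzc)) (mem_zpowers z)⟩ hinv hne'
    exact huv (mem_centralizer_iff.1 (this.ge hv).2 u hu)
  -- commuting
  have hpair : ∀ {Q Q'}, Mem Q → Mem Q' → Q ≠ Q' → (∀ q ∈ Q, ∀ a ∈ Q', ⁅q, a⁆ ∈ Z) →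
      Q' ≤ centralizer (Q : Set G) := by
    intro Q Q' hQ hQ' hne hcom
    obtain ⟨h8, -, -, -, -⟩ := hmemfacts hQ
    obtain ⟨h8', hQW', hzQ', -, -⟩ := hmemfacts hQ'
    obtain ⟨e, he, he1, rfl, -⟩ := hQ
    obtain ⟨e', he', he1', rfl, hne'⟩ := hQ'
    have hmv : ¬ ∀ x ∈ fx W e', Commute e x := fun hall => hne
      (eq_of_le_of_card_ge (H := fx W e') (K := fx W e) (fun x hx => mem_fx.2 ⟨hx.1, hall x hx⟩) (by rw [h8, h8'])).symm
    intro a ha
    refine mem_centralizer_iff.2 fun q hq => ?_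
    obtain ⟨-, heq⟩ := mem_fx.1 hq
    set D := fx W e' ⊓ centralizer ({q} : Set G)
    have hzD : z ∈ D := ⟨hzQ', mem_centralizer_singleton_iff.2
      (mem_centralizer_iff.1 (hzc hq.1) z (mem_zpowers z))⟩
    have hD : D = fx W e' := by
      refine (h.moved hzW hz hzE (hE₁ he') he1' (hE₁ he) hmv inf_le_left hzD (fun x hx => ?_) ?_).1
      · refine ⟨h.conj_fx (hE₁ he') (hE₁ he) hx.1, mem_centralizer_singleton_iff.2 ?_⟩
        have h1 : Commute x q := mem_centralizer_singleton_iff.1 hx.2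
        calc e * x * e⁻¹ * q = e * (x * q) * e⁻¹ := by
              rw [mul_assoc (e * x), heq.inv_left.eq]; group
          _ = e * (q * x) * e⁻¹ := by rw [h1.eq]
          _ = q * (e * x * e⁻¹) := by rw [← mul_assoc e q x, heq.eq]; group
      · intro hle
        -- some commutator with `e` lies outside `Z`
        obtain ⟨b, hb, hbz⟩ := SetLike.not_le_iff_exists.1 hne'
        have hb' := h.conj_fx (hE₁ he') (hE₁ he) hb
        have hd : b⁻¹ * (e * b * e⁻¹) ∈ D := by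
          refine mem_inf.2 ⟨mul_mem (inv_mem hb) hb', mem_centralizer_singleton_iff.2 ?_⟩
          have hc0 := mem_centralizer_iff.1 (hzc hq.1)
          have h1 := hcom q hq b hb
          have h2 : ⁅q, e * b * e⁻¹⁆ = ⁅q, b⁆ := by
            have hec : e * ⁅q, b⁆ * e⁻¹ = ⁅q, b⁆ := by
              obtain ⟨i, hi⟩ := mem_zpowers_iff.1 h1
              rw [← hi, ((hzE e (hE₁ he)).zpow_right i).eq, mul_inv_cancel_right]
            conv_rhs => rw [← hec, show ∀ u v : G, e * ⁅u, v⁆ * e⁻¹ = ⁅e * u * e⁻¹, e * v * e⁻¹⁆ from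
              fun u v => by simp only [commutatorElement_def]; group]
            rw [heq.eq, mul_inv_cancel_right]
          have h3 : q * b * q⁻¹ = ⁅q, b⁆ * b := by rw [commutatorElement_def]; group
          have h4 : q * (e * b * e⁻¹) * q⁻¹ = ⁅q, b⁆ * (e * b * e⁻¹) := by
            rw [← h2, commutatorElement_def]; group
          have h5 : q * (b⁻¹ * (e * b * e⁻¹)) * q⁻¹ = b⁻¹ * (e * b * e⁻¹) := by
            calc q * (b⁻¹ * (e * b * e⁻¹)) * q⁻¹ = (q * b * q⁻¹)⁻¹ * (q * (e * b * e⁻¹) * q⁻¹) := by group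
              _ = b⁻¹ * (e * b * e⁻¹) := by rw [h3, h4]; group
          exact (mul_inv_eq_iff_eq_mul.1 h5).symm
        have h6 := hle hd
        obtain ⟨hzb, -⟩ := h.moved hzW hz hzE (hE₁ he') he1' (hE₁ he) hmv
          (F := Z ⊔ zpowers b) (sup_le (zpowers_le.2 hzQ') (zpowers_le.2 hb))
          (mem_sup_left (mem_zpowers z)) (fun x hx => by
            have hsub : Z ⊔ zpowers b ≤ (Z ⊔ zpowers b).comap (MulAut.conj e).toMonoidHom := by
              refine sup_le ?_ (zpowers_le.2 ?_)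
              · refine zpowers_le.2 (mem_sup_left ?_)
                show e * z * e⁻¹ ∈ Z
                rw [(hzE e (hE₁ he)).eq, mul_inv_cancel_right]; exact mem_zpowers z
              · show e * b * e⁻¹ ∈ Z ⊔ zpowers b
                rw [show e * b * e⁻¹ = b * (b⁻¹ * (e * b * e⁻¹)) by group]
                exact mul_mem (mem_sup_right (mem_zpowers b)) (mem_sup_left h6)
            exact hsub hx)
          (fun hle' => hbz (hle' (mem_sup_right (mem_zpowers b))))
        obtain ⟨-, -, -, -, hcent⟩ := hmemfacts ⟨e', he', he1', rfl, hne'⟩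
        refine hne' fun x hx => hcent.le ⟨hx, mem_centralizer_iff.2 fun w hw => ?_⟩
        have hcm : Z ⊔ zpowers b ≤ centralizer ((Z ⊔ zpowers b : Subgroup G) : Set G) := by
          have hzb' : Commute z b := mem_centralizer_iff.1 (hzc hb.1) z (mem_zpowers z)
          rw [hZdef, zpowers_eq_closure, zpowers_eq_closure, ← Subgroup.closure_union,
            centralizer_closure, closure_le]
          rintro u (rfl | rfl) <;> refine mem_centralizer_iff.2 ?_ <;> rintro v (rfl | rfl)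
          exacts [rfl, hzb'.eq.symm, hzb'.eq, rfl]
        exact mem_centralizer_iff.1 (hcm (hzb.ge hx)) w (hzb.ge hw)
    exact (mem_centralizer_singleton_iff.1 (hD.ge ha).2).symm
  let M : Finset (Subgroup G) := (Set.toFinite {Q | Mem Q}).toFinset
  have hMm : ∀ {Q}, Q ∈ M ↔ Mem Q := fun {Q} => by simp [M]
  have hZW : Z ≤ W := zpowers_le.2 hzW
  have hUW : ∀ I ⊆ M, Z ⊔ I.sup id ≤ W := fun I hI =>
    sup_le hZW (Finset.sup_le fun Q hQ => (hmemfacts (hMm.1 (hI hQ))).2.1)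
  have hUN : ∀ I ⊆ M, E₁ ≤ normalizer ((Z ⊔ I.sup id : Subgroup G) : Set G) := by
    intro I hI
    induction I using Finset.induction_on with
    | empty =>
      rw [Finset.sup_empty, sup_bot_eq]
      refine le_trans ?_ (centralizer_le_normalizer _)
      rw [le_centralizer_iff]
      exact zpowers_le.2 (mem_centralizer_iff.2 fun a ha => (hzE a (hE₁ ha)).eq)
    | insert Q J hQJ ih =>
      rw [Finset.sup_insert, id_eq, sup_left_comm]
      exact CfsgLib.Coprime.sup_le_normalizer (hmemfacts (hMm.1 (hI (Finset.mem_insert_self _ _)))).2.2.2.1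
        (ih ((Finset.subset_insert _ _).trans hI))
  have hcommute : ∀ I ⊆ M, ∀ Q ∈ I, ∀ Q' ∈ I, Q ≠ Q' → Q' ≤ centralizer (Q : Set G) := by
    intro I
    induction I using Finset.strongInduction with
    | H I ih =>
      intro hI Q hQ Q' hQ' hne
      set U := Z ⊔ I.sup id with hU
      have hUnot : ¬ U ≤ Z := fun hle => by
        obtain ⟨h8, -, -, -, -⟩ := hmemfacts (hMm.1 (hI hQ))
        have h1 : Nat.card Q ≤ Nat.card Z :=
          card_le_of_le (((Finset.le_sup (f := id) hQ).trans le_sup_right).trans hle)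
        rw [h8, hZc] at h1
        omega
      obtain ⟨Y, hYU, hYne, hYc, hYinv⟩ := exists_central_mod (h.two.to_le (hUW I hI)) le_sup_left
        ((hUW I hI).trans hzc) hUnot
      have hYn : E₁ ≤ normalizer (Y : Set G) := by
        have hEZ : ∀ a ∈ E₁, a ∈ centralizer (Z : Set G) := fun a ha => by
          refine mem_centralizer_iff.2 fun w hw => ?_
          obtain ⟨i, rfl⟩ := mem_zpowers_iff.1 hw
          exact ((hzE a (hE₁ ha)).zpow_right i).eq.symm
        exact fun a ha => mem_normalizer_iff.2 fun y => ⟨hYinv a (hUN I hI ha) (hEZ a ha) y, fun hy => by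
          simpa [mul_assoc] using hYinv a⁻¹ (inv_mem (hUN I hI ha)) (inv_mem (hEZ a ha)) _ hy⟩
      obtain ⟨a, ha, ha1, hYa⟩ : ∃ a ∈ E₁, a ≠ 1 ∧ ¬ Y ⊓ centralizer ({a} : Set G) ≤ Z := by
        by_contra hcon
        push Not at hcon
        exact hYne (hgen (hYU.trans (hUW I hI)) hYn hcon)
      have hF : (Y ⊓ centralizer ({a} : Set G)) ⊔ Z = fx W a := by
        refine hfull ha ha1 ?_ (mem_sup_right (mem_zpowers z)) ?_ fun hle => hYa (le_sup_left.trans hle)
        · exact sup_le (inf_le_inf_right _ (hYU.trans (hUW I hI))) (zpowers_le.2 (h.z_mem hzW hzE (hE₁ ha)))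
        · intro b hb x hx
          have hn : E₁ ≤ normalizer (((Y ⊓ centralizer ({a} : Set G)) ⊔ Z : Subgroup G) : Set G) := by
            refine CfsgLib.Coprime.sup_le_normalizer (CfsgLib.Coprime.inf_le_normalizer hYn ?_) ?_
            · rw [← centralizer_closure, ← zpowers_eq_closure]
              refine fun c hc => CfsgLib.Coprime.normalizer_le_normalizer_centralizer _ ?_
              refine centralizer_le_normalizer _ (mem_centralizer_iff.2 fun w hw => ?_)
              obtain ⟨i, rfl⟩ := mem_zpowers_iff.1 hw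
              exact ((h.comm c (hE₁ hc) a (hE₁ ha)).zpow_right i).eq.symm
            · refine le_trans ?_ (centralizer_le_normalizer _)
              rw [le_centralizer_iff]
              exact zpowers_le.2 (mem_centralizer_iff.2 fun c hc => (hzE c (hE₁ hc)).eq)
          exact (mem_normalizer_iff.1 (hn hb) x).1 hx
      have hQ0M : Mem (fx W a) := ⟨a, ha, ha1, rfl, fun hle =>
        hYa (le_trans (le_sup_left.trans hF.le) hle)⟩
      have hQ0U : fx W a ≤ U := hF.ge.trans (sup_le (inf_le_left.trans hYU) le_sup_left)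
      have hzc' : ∀ w ∈ U, Commute z w := fun w hw =>
        mem_centralizer_iff.1 (hzc (hUW I hI hw)) z (mem_zpowers z)
      have hQ0Z : ∀ q ∈ fx W a, ∀ w ∈ U, ⁅q, w⁆ ∈ Z := by
        intro q hq w hw
        rw [← hF] at hq
        have hle : (Y ⊓ centralizer ({a} : Set G)) ⊔ Z ≤ Y ⊔ Z := sup_le_sup_right inf_le_left _
        have hq' : q ∈ ((Z ⊔ Y : Subgroup G) : Set G) := by rw [sup_comm]; exact hle hq
        rw [coe_mul_of_left_le_normalizer_right _ _ (le_trans (show Z ≤ centralizer (Y : Set G) from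
          zpowers_le.2 (mem_centralizer_iff.2 fun y hy => (hzc' y (hYU hy)).eq.symm))
          (centralizer_le_normalizer _))] at hq'
        obtain ⟨s, hs, y, hy, rfl⟩ := Set.mem_mul.1 hq'
        have hsw : ∀ t ∈ U, Commute s t := fun t ht => by
          obtain ⟨i, rfl⟩ := mem_zpowers_iff.1 hs
          exact (hzc' t ht).zpow_left i
        have e1 : ⁅s * y, w⁆ = s * ⁅y, w⁆ * s⁻¹ * ⁅s, w⁆ := by simp only [commutatorElement_def]; group
        rw [e1, commutatorElement_eq_one_iff_mul_comm.2 (hsw w hw).eq, mul_one]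
        exact mul_mem (mul_mem hs (hYc y hy w hw)) (inv_mem hs)
      have hcen : ∀ R ∈ I, fx W a ≠ R → R ≤ centralizer (fx W a : Set G) := fun R hR hne' =>
        hpair hQ0M (hMm.1 (hI hR)) hne' fun q hq b hb =>
          hQ0Z q hq b (mem_sup_right (Finset.le_sup (f := id) hR hb))
      by_cases hin : fx W a ∈ I
      · by_cases hQa : fx W a = Q
        · exact hQa ▸ hcen Q' hQ' (hQa ▸ hne)
        by_cases hQa' : fx W a = Q'
        · exact hQa' ▸ le_centralizer_iff.1 (hcen Q hQ hQa)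
        exact ih (I.erase (fx W a)) (Finset.erase_ssubset hin) ((Finset.erase_subset _ _).trans hI)
          Q (Finset.mem_erase.2 ⟨Ne.symm hQa, hQ⟩) Q' (Finset.mem_erase.2 ⟨Ne.symm hQa', hQ'⟩) hne
      · exfalso
        obtain ⟨h8, -, -, -, hcent⟩ := hmemfacts hQ0M
        have hall : U ≤ centralizer (fx W a : Set G) := sup_le
          (zpowers_le.2 (mem_centralizer_iff.2 fun q hq => (hzc' q (hQ0U hq)).eq.symm))
          (Finset.sup_le fun R hR => hcen R hR fun e => hin (e ▸ hR))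
        have h1 : fx W a ≤ Z := (le_inf le_rfl (hQ0U.trans hall)).trans hcent.le
        have := card_le_of_le h1
        rw [h8, hZc] at this
        omega
  -- generation
  have hW : W = Z ⊔ M.sup id := by
    refine le_antisymm (hgen le_rfl (hE₁.trans h.norm) fun a ha ha1 => ?_) (hUW M subset_rfl)
    by_cases hle : fx W a ≤ Z
    · exact le_sup_of_le_left hle
    · exact le_sup_of_le_right (Finset.le_sup (f := id) (hMm.2 ⟨a, ha, ha1, rfl, hle⟩))
  have hcard : ∀ I ⊆ M, Nat.card ↥(Z ⊔ I.sup id) = 2 ^ (2 * I.card + 1) := by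
    intro I hI
    induction I using Finset.induction_on with
    | empty => rw [Finset.sup_empty, sup_bot_eq, hZc, Finset.card_empty]; rfl
    | insert Q J hQJ ih =>
      have hJ := (Finset.subset_insert Q J).trans hI
      obtain ⟨h8, hQW, hzQ, -, hcent⟩ := hmemfacts (hMm.1 (hI (Finset.mem_insert_self _ _)))
      have hc : Q ≤ centralizer ((Z ⊔ J.sup id : Subgroup G) : Set G) := by
        rw [le_centralizer_iff]
        refine sup_le (le_centralizer_iff.1 (hQW.trans hzc)) (Finset.sup_le fun R hR => ?_)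
        exact hcommute _ hI Q (Finset.mem_insert_self _ _) R (Finset.mem_insert_of_mem hR)
          fun e => hQJ (e ▸ hR)
      have hinf : (Z ⊔ J.sup id) ⊓ Q = Z :=
        le_antisymm ((le_inf inf_le_right (inf_le_left.trans (le_centralizer_iff.1 hc))).trans hcent.le)
          (le_inf le_sup_left (zpowers_le.2 hzQ))
      rw [Finset.card_insert_of_notMem hQJ, Finset.sup_insert, id_eq, sup_left_comm, sup_comm Q]
      set U := Z ⊔ J.sup id
      have hmul : Nat.card ↥(U ⊔ Q) * Nat.card ↥(U ⊓ Q) = Nat.card U * Nat.card Q := by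
        have hQn : (Q.subgroupOf (U ⊔ Q)).Normal := normal_subgroupOf_of_le_normalizer
          (sup_le ((le_centralizer_iff.1 hc).trans (centralizer_le_normalizer _)) le_normalizer)
        have h1 := CfsgLib.PGroup.card_sup_mul_card_inf (U.subgroupOf (U ⊔ Q)) (Q.subgroupOf (U ⊔ Q))
        rw [← subgroupOf_sup le_sup_left le_sup_right, subgroupOf_self, card_top,
          show U.subgroupOf (U ⊔ Q) ⊓ Q.subgroupOf (U ⊔ Q) = (U ⊓ Q).subgroupOf (U ⊔ Q) from
            (comap_inf _ _ _).symm,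
          Nat.card_congr (subgroupOfEquivOfLe (inf_le_left.trans le_sup_left : U ⊓ Q ≤ U ⊔ Q)).toEquiv,
          Nat.card_congr (subgroupOfEquivOfLe (le_sup_left : U ≤ U ⊔ Q)).toEquiv,
          Nat.card_congr (subgroupOfEquivOfLe (le_sup_right : Q ≤ U ⊔ Q)).toEquiv] at h1
        exact h1
      rw [hinf, hZc, ih hJ, h8] at hmul
      rw [show 2 ^ (2 * (J.card + 1) + 1) = 2 ^ (2 * J.card + 1) * 4 by ring]
      omega
  have hle4 : M.card * 2 ≤ 8 := by
    have hcE : Nat.card E₁ ≤ 9 := by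
      have hc : E₁ ≤ centralizer (E₁ : Set G) := fun x hx => mem_centralizer_iff.2 fun y hy =>
        (h.comm y (hE₁ hy) x (hE₁ hx)).eq
      rw [hE₁def]
      haveI : Finite G := inferInstance
      have h1 : Nat.card ↥(zpowers y0 ⊔ zpowers z0) ≤ Nat.card (zpowers y0) * Nat.card (zpowers z0) := by
        rw [← Nat.card_prod]
        refine Nat.card_le_card_of_surjective (fun x => ⟨(x.1 : G) * x.2,
          mul_mem (mem_sup_left x.1.2) (mem_sup_right x.2.2)⟩) fun x => ?_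
        have hx : (x : G) ∈ ((zpowers y0 ⊔ zpowers z0 : Subgroup G) : Set G) := x.2
        rw [coe_mul_of_left_le_normalizer_right _ _ ((show zpowers y0 ≤ centralizer (zpowers z0 : Set G) from
          (le_sup_left.trans hc).trans (centralizer_le (SetLike.coe_subset_coe.2 le_sup_right))).trans
            (centralizer_le_normalizer _))] at hx
        obtain ⟨u, hu, v, hv, he⟩ := Set.mem_mul.1 hx
        exact ⟨(⟨u, hu⟩, ⟨v, hv⟩), Subtype.ext he⟩
      refine h1.trans ?_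
      rw [Nat.card_zpowers, Nat.card_zpowers]
      exact Nat.mul_le_mul (Nat.le_of_dvd (by norm_num) (orderOf_dvd_of_pow_eq_one hyr'))
        (Nat.le_of_dvd (by norm_num) (orderOf_dvd_of_pow_eq_one hzr'))
    haveI : Fintype G := Fintype.ofFinite G
    have hch : ∀ Q : M, ∃ a ∈ E₁, a ≠ 1 ∧ fx W a = Q.1 := fun Q => by
      obtain ⟨a, ha, ha1, he, -⟩ := hMm.1 Q.2
      exact ⟨a, ha, ha1, he⟩
    choose g hg hg1 hgf using hch
    have hinv : ∀ a : G, fx W a⁻¹ = fx W a := fun a => Subgroup.ext fun x => by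
      rw [mem_fx, mem_fx]
      exact and_congr_right fun _ => Commute.inv_left_iff
    let ψ : (M × Bool) → {x : E₁ // x ≠ 1} := fun q =>
      if q.2 then ⟨⟨g q.1, hg q.1⟩, fun e => hg1 q.1 (congrArg Subtype.val e)⟩
      else ⟨⟨(g q.1)⁻¹, inv_mem (hg q.1)⟩, fun e => hg1 q.1 (inv_eq_one.1 (congrArg Subtype.val e))⟩
    have hψ : Function.Injective ψ := by
      rintro ⟨Q, b⟩ ⟨Q', b'⟩ he
      have hf : fx W (((ψ (Q, b)).1 : E₁) : G) = fx W (((ψ (Q', b')).1 : E₁) : G) := by rw [he]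
      have hQQ : Q = Q' := by
        refine Subtype.ext ?_
        cases b <;> cases b' <;> simp [ψ, hinv, hgf] at hf <;> exact congrArg Subtype.val hf
      subst hQQ
      refine Prod.ext rfl ?_
      have he' := congrArg (fun x : {x : E₁ // x ≠ 1} => ((x.1 : E₁) : G)) he
      have h3 := hexp₁ (g Q) (hg Q)
      cases b <;> cases b' <;> simp [ψ] at he' ⊢
      · exact hg1 Q (by rw [pow_succ, pow_succ, pow_one] at h3; nth_rw 2 [← he'] at h3; rwa [mul_inv_cancel, one_mul] at h3)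
      · exact hg1 Q (by rw [pow_succ, pow_succ, pow_one] at h3; nth_rw 2 [he'] at h3; rwa [mul_inv_cancel, one_mul] at h3)
    have h1 := Nat.card_le_card_of_injective ψ hψ
    have h2 : Nat.card {x : E₁ // x ≠ 1} < Nat.card E₁ :=
      Finite.card_subtype_lt (p := fun x : E₁ => x ≠ 1) (x := 1) (not_not.2 rfl)
    rw [Nat.card_prod, Nat.card_eq_fintype_card (α := Bool), Fintype.card_bool,
      Nat.card_eq_fintype_card (α := M), Fintype.card_coe] at h1
    omega
  have hne1 : y0 ≠ 1 := fun e => hyz' (e ▸ one_mem _)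
  have hge2 : 2 ≤ M.card := by
    by_contra hlt
    rcases Nat.eq_zero_or_pos M.card with h0 | h0
    · rw [Finset.card_eq_zero] at h0
      rw [h0, Finset.sup_empty, sup_bot_eq] at hW
      refine hne1 (h.faith y0 hy0 fun x hx => ?_)
      obtain ⟨i, rfl⟩ := mem_zpowers_iff.1 (hW.le hx)
      exact (hzE y0 hy0).zpow_right i
    · obtain ⟨Q, hQ⟩ := Finset.card_eq_one.1 (show M.card = 1 by omega)
      obtain ⟨a, ha, ha1, he, -⟩ := hMm.1 (hQ ▸ Finset.mem_singleton_self Q)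
      rw [hQ, Finset.sup_singleton, id_eq] at hW
      refine ha1 (h.faith a (hE₁ ha) fun x hx => ?_)
      have hx' := hW.le hx
      have hzQ : Z ≤ Q := he ▸ zpowers_le.2 (h.z_mem hzW hzE (hE₁ ha))
      rw [sup_eq_right.2 hzQ, ← he] at hx'
      exact (mem_fx.1 hx').2
  -- centre and derived group
  have hcentral : ∀ x ∈ W, x ∈ centralizer (W : Set G) → x ∈ Z := by
    intro x hx hxc
    have hle : W ⊓ centralizer (W : Set G) ≤ Z := by
      refine hgen inf_le_left (CfsgLib.Coprime.inf_le_normalizer (hE₁.trans h.norm)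
        ((hE₁.trans h.norm).trans (CfsgLib.Coprime.normalizer_le_normalizer_centralizer _))) fun a ha ha1 => ?_
      by_cases hle : fx W a ≤ Z
      · exact (inf_le_inf_right _ inf_le_left).trans hle
      · obtain ⟨-, -, -, -, hcent⟩ := hmemfacts ⟨a, ha, ha1, rfl, hle⟩
        exact fun y hy => hcent.le ⟨⟨hy.1.1, hy.2⟩, centralizer_le (fun w hw => hw.1) hy.1.2⟩
    exact hle ⟨hx, hxc⟩
  have hcenterW : center W = Z.subgroupOf W := by
    ext x
    rw [mem_subgroupOf]
    refine ⟨fun hx => hcentral x x.2 (mem_centralizer_iff.2 fun w hw =>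
      congrArg Subtype.val (mem_center_iff.1 hx ⟨w, hw⟩)), fun hx => mem_center_iff.2 fun w => Subtype.ext ?_⟩
    exact (mem_centralizer_iff.1 (hzc w.2) _ hx).symm
  have hsq : ∀ w : W, w ^ 2 ∈ center W ∧ ∀ v : W, ⁅w, v⁆ ∈ center W := by
    haveI : (center W).Normal := inferInstance
    set q := QuotientGroup.mk' (center W)
    have hone : ∀ (Q : Subgroup G), Q ∈ M → ∀ u : W, (u : G) ∈ Q →
        u ^ 2 ∈ center W ∧ ∀ v : W, (v : G) ∈ Q → ⁅u, v⁆ ∈ center W := by
      intro Q hQ u hu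
      obtain ⟨h8, hQW, hzQ, -, hcent⟩ := hmemfacts (hMm.1 hQ)
      rw [hcenterW]
      haveI hnorm : (Z.subgroupOf Q).Normal := ⟨fun n hn g => by
        rw [mem_subgroupOf] at hn ⊢
        show (g : G) * n * (g : G)⁻¹ ∈ Z
        rw [← mem_centralizer_iff.1 (hzc (hQW g.2)) _ hn, mul_inv_cancel_right]
        exact hn⟩
      have hq4 : Nat.card (Q ⧸ Z.subgroupOf Q) = 2 ^ 2 := by
        have h1 := (Z.subgroupOf Q).card_mul_index
        rw [Nat.card_congr (subgroupOfEquivOfLe (zpowers_le.2 hzQ)).toEquiv, hZc, h8, index_eq_card] at h1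
        omega
      haveI : IsMulCommutative (Q ⧸ Z.subgroupOf Q) := IsPGroup.isMulCommutative_of_card_eq_prime_sq hq4
      have hd : ∀ a b : Q, ((⁅a, b⁆ : Q) : G) ∈ Z := fun a b => by
        have h1 : QuotientGroup.mk' (Z.subgroupOf Q) ⁅a, b⁆ = 1 := by
          rw [map_commutatorElement, commutatorElement_eq_one_iff_mul_comm]; exact mul_comm' _ _
        rwa [QuotientGroup.mk'_apply, QuotientGroup.eq_one_iff, mem_subgroupOf] at h1
      refine ⟨?_, fun v hv => ?_⟩
      · obtain ⟨a, ha, ha1, he, -⟩ := hMm.1 hQ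
        have h4 : ((u : G) ^ 2) ^ 2 = 1 := by
          rw [← pow_mul]
          have hd8 : orderOf (u : G) ∣ 2 ^ 3 := by
            have := Subgroup.orderOf_dvd_natCard Q hu
            rwa [h8] at this
          obtain ⟨k, hk, hku⟩ := (Nat.dvd_prime_pow Nat.prime_two).1 hd8
          refine orderOf_dvd_iff_pow_eq_one.1 ?_
          rw [hku]
          refine (pow_dvd_pow 2 ?_ : 2 ^ k ∣ 2 ^ 2)
          by_contra hk3
          have hc : zpowers (u : G) = Q := eq_of_le_of_card_ge (zpowers_le.2 hu) (by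
            rw [Nat.card_zpowers, hku, h8, show k = 3 by omega]; norm_num)
          have hle : Q ≤ centralizer (Q : Set G) := by
            rw [← hc, le_centralizer_iff]
            exact fun w hw => mem_centralizer_iff.2 fun t ht => by
              obtain ⟨i, rfl⟩ := mem_zpowers_iff.1 hw
              obtain ⟨j, rfl⟩ := mem_zpowers_iff.1 ht
              exact (Commute.zpow_zpow_self (u : G) j i).eq
          have := card_le_of_le ((le_inf le_rfl hle).trans hcent.le)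
          rw [h8, hZc] at this
          omega
        rw [mem_subgroupOf, SubgroupClass.coe_pow]
        exact h.mem_zpow_or hzW hz hzE (hE₁ ha) ha1 (he ▸ pow_mem hu 2) h4
      · rw [mem_subgroupOf]
        exact hd ⟨u, hu⟩ ⟨v, hv⟩
    let A : Subgroup (W ⧸ center W) := closure (q '' {u : W | ∃ Q ∈ M, (u : G) ∈ Q})
    have hA : A = ⊤ := by
      rw [eq_top_iff]
      rintro x -
      obtain ⟨w, rfl⟩ := QuotientGroup.mk'_surjective _ x
      have hle : Z ⊔ M.sup id ≤ (A.comap q).map W.subtype := by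
        refine sup_le (fun t ht => ⟨⟨t, hZW ht⟩, ?_, rfl⟩) (Finset.sup_le fun Q hQ t ht => ?_)
        · rw [SetLike.mem_coe, mem_comap, show q ⟨t, hZW ht⟩ = 1 from
            (QuotientGroup.eq_one_iff _).2 (by rw [hcenterW]; exact ht)]
          exact one_mem _
        · exact ⟨⟨t, (hmemfacts (hMm.1 hQ)).2.1 ht⟩,
            subset_closure (Set.mem_image_of_mem q
              (show (⟨t, (hmemfacts (hMm.1 hQ)).2.1 ht⟩ : W) ∈ {u : W | ∃ Q ∈ M, (u : G) ∈ Q} from
                ⟨Q, hQ, ht⟩)), rfl⟩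
      obtain ⟨w', hw', he⟩ := hle (hW.le w.2)
      rw [← show w' = w from Subtype.ext he]
      exact hw'
    have hAc : A ≤ centralizer (A : Set (W ⧸ center W)) := by
      rw [centralizer_closure, closure_le]
      rintro _ ⟨u, ⟨Q, hQ, hu⟩, rfl⟩
      refine mem_centralizer_iff.2 ?_
      rintro _ ⟨v, ⟨Q', hQ', hv⟩, rfl⟩
      refine commutatorElement_eq_one_iff_mul_comm.1 ?_
      rw [← map_commutatorElement, QuotientGroup.mk'_apply, QuotientGroup.eq_one_iff]
      by_cases hQQ : Q' = Q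
      · exact (hone Q hQ v (hQQ ▸ hv)).2 u hu
      · rw [show ⁅v, u⁆ = 1 from commutatorElement_eq_one_iff_mul_comm.2 (Subtype.ext
          (mem_centralizer_iff.1 (hcommute M subset_rfl Q' hQ' Q hQ hQQ hu) v hv))]
        exact one_mem _
    have hcommq : ∀ a b : W ⧸ center W, Commute a b := fun a b =>
      mem_centralizer_iff.1 (hAc (hA ▸ mem_top b)) a (hA ▸ mem_top a)
    intro w
    refine ⟨?_, fun v => ?_⟩
    · let S : Subgroup (W ⧸ center W) :=
        { carrier := {a | a ^ 2 = 1}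
          one_mem' := one_pow 2
          mul_mem' := fun {a b} ha hb => by
            show (a * b) ^ 2 = 1
            rw [(hcommq a b).mul_pow, ha, hb, one_mul]
          inv_mem' := fun {a} ha => by show a⁻¹ ^ 2 = 1; rw [inv_pow, ha, inv_one] }
      have hS : A ≤ S := by
        refine (closure_le _).2 ?_
        rintro _ ⟨u, ⟨Q, hQ, hu⟩, rfl⟩
        show q u ^ 2 = 1
        rw [← map_pow]
        exact (QuotientGroup.eq_one_iff _).2 (hone Q hQ u hu).1
      have h1 : q w ^ 2 = 1 := hS (hA ▸ mem_top _)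
      rw [← map_pow] at h1
      exact (QuotientGroup.eq_one_iff _).1 h1
    · refine (QuotientGroup.eq_one_iff _).1 ?_
      show q ⁅w, v⁆ = 1
      rw [map_commutatorElement, commutatorElement_eq_one_iff_mul_comm]
      exact (hcommq _ _).eq
  haveI : Fact (Nat.Prime 2) := ⟨Nat.prime_two⟩
  have hcardc : Nat.card (center W) = 2 := by
    rw [hcenterW, Nat.card_congr (subgroupOfEquivOfLe hZW).toEquiv, hZc]
  have hcardW : Nat.card W = 2 ^ (2 * M.card + 1) := by
    rw [← hcard M subset_rfl]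
    exact congrArg (fun S : Subgroup G => Nat.card S) hW
  have hcomm : commutator W = center W := by
    have hle : commutator W ≤ center W := by
      rw [_root_.commutator_def]; exact commutator_le.2 fun a _ b _ => (hsq a).2 b
    refine eq_of_le_of_card_ge hle ?_
    rw [hcardc]
    refine (one_lt_card_iff_ne_bot _).2 fun hb => ?_
    have htop : center W = ⊤ := (commutator_eq_bot_iff_center_eq_top _).1 hb
    rw [htop, card_top, hcardW] at hcardc
    have : 2 ^ 5 ≤ 2 ^ (2 * M.card + 1) := Nat.pow_le_pow_right (by norm_num) (by omega)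
    omega
  have hfrat : frattini W = center W :=
    le_antisymm (CfsgLib.FrattiniLe.frattini_le_of_pow_of_commutator (p := 2) (fun a => (hsq a).1) hcomm.le)
      (hcomm.ge.trans (CfsgLib.Coprime.commutator_le_frattini h.two))
  -- the order of the acting group
  have hE9 : Nat.card E = 9 := by
    have h3 : ∀ e ∈ E, e ^ 3 = 1 := by
      intro e he
      refine h.faith _ (pow_mem he 3) fun x hx => ?_
      have hle : W ≤ centralizer ({e ^ 3} : Set G) := by
        refine hgen le_rfl (hE₁.trans h.norm) fun a ha ha1 x hx => ?_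
        refine mem_centralizer_singleton_iff.2 ?_
        by_cases hall : ∀ y ∈ fx W a, Commute e y
        · exact ((hall x hx).pow_left 3).eq.symm
        · exact ((h.act (hE₁ ha) ha1 he hall).2.2 x hx).eq.symm
      exact (mem_centralizer_singleton_iff.1 (hle hx)).symm
    obtain ⟨Q, hQ⟩ := Finset.card_pos.1 (show 0 < M.card by omega)
    obtain ⟨a, ha, ha1, hfa, hQZ⟩ := hMm.1 hQ
    obtain ⟨b0, hb0⟩ := SetLike.not_le_iff_exists.1 hQZ
    obtain ⟨h8, hQW, hzQ, -, -⟩ := hmemfacts (hMm.1 hQ)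
    set K := E ⊓ centralizer (Q : Set G) with hK
    have hstab : ∀ e ∈ E, Commute e b0 → e ∈ K := by
      intro e he hc
      refine ⟨he, mem_centralizer_iff.2 fun y hy => ?_⟩
      by_contra hne
      have hmv : ¬ ∀ x ∈ fx W a, Commute e x := fun hall => hne (hall y (hfa ▸ hy)).eq.symm
      obtain ⟨-, hfixed⟩ := h.moved hzW hz hzE (hE₁ ha) ha1 he hmv (F := fx W a) le_rfl
        (h.z_mem hzW hzE (hE₁ ha)) (fun x hx => h.conj_fx (hE₁ ha) he hx)
        (fun hle => hQZ (hfa ▸ hle))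
      exact hb0.2 (hfixed b0 (hfa ▸ hb0.1) hc)
    have hKcyc : IsCyclic K := by
      by_contra hK'
      obtain ⟨hKC, -⟩ := h.pair_data inf_le_left hK' hzW hz hzE
      exact hQZ fun x hx => hKC.le ⟨hQW hx, le_centralizer_iff.1 inf_le_right hx⟩
    have hK3 : Nat.card K ≤ 3 := by
      obtain ⟨g, hg⟩ := IsCyclic.exists_ofOrder_eq_natCard (α := K)
      rw [← hg]
      exact Nat.le_of_dvd (by norm_num) (orderOf_dvd_of_pow_eq_one (Subtype.ext (h3 g g.2.1)))
    have horb : (K.subgroupOf E).index ≤ 6 := by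
      have hcb : ∀ x : E, (x : G) * b0 * (x : G)⁻¹ ∈ Q ∧ (x : G) * b0 * (x : G)⁻¹ ∉ Z := by
        refine fun x => ⟨hfa ▸ h.conj_fx (hE₁ ha) x.2 (hfa ▸ hb0.1), fun hm => hb0.2 ?_⟩
        obtain ⟨i, hi⟩ := mem_zpowers_iff.1 hm
        have : b0 = z ^ i := by
          rw [show b0 = (x : G)⁻¹ * ((x : G) * b0 * (x : G)⁻¹) * x by group, ← hi, mul_assoc,
            ← ((hzE x x.2).zpow_right i).eq, inv_mul_cancel_left]
        exact this ▸ zpow_mem (mem_zpowers z) i
      have hwd : ∀ x y : E, (x⁻¹ * y ∈ K.subgroupOf E) →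
          (x : G) * b0 * (x : G)⁻¹ = (y : G) * b0 * (y : G)⁻¹ := by
        intro x y hxy
        have hc : Commute ((x : G)⁻¹ * y) b0 := (mem_centralizer_iff.1 hxy.2 b0 hb0.1).symm
        calc (x : G) * b0 * (x : G)⁻¹ = x * (b0 * ((x : G)⁻¹ * y)) * (y : G)⁻¹ := by group
          _ = (y : G) * b0 * (y : G)⁻¹ := by rw [← hc.eq]; group
      let o : E ⧸ K.subgroupOf E → {y : Q // y ∉ Z.subgroupOf Q} := Quotient.lift
        (fun x => ⟨⟨_, (hcb x).1⟩, fun hm => (hcb x).2 hm⟩)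
        fun x y hxy => Subtype.ext (Subtype.ext (hwd x y (QuotientGroup.leftRel_apply.1 hxy)))
      have hinj : Function.Injective o := by
        intro u v
        obtain ⟨x, rfl⟩ := QuotientGroup.mk_surjective u
        obtain ⟨y, rfl⟩ := QuotientGroup.mk_surjective v
        intro he
        have he' : (x : G) * b0 * (x : G)⁻¹ = (y : G) * b0 * (y : G)⁻¹ :=
          congrArg (fun t : {y : Q // y ∉ Z.subgroupOf Q} => ((t.1 : Q) : G)) he
        refine QuotientGroup.eq.2 (hstab _ (x⁻¹ * y).2 ?_)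
        show (x : G)⁻¹ * y * b0 = b0 * ((x : G)⁻¹ * y)
        calc (x : G)⁻¹ * y * b0 = (x : G)⁻¹ * ((y : G) * b0 * (y : G)⁻¹) * y := by group
          _ = b0 * ((x : G)⁻¹ * y) := by rw [← he']; group
      rw [index_eq_card]
      refine (Nat.card_le_card_of_injective o hinj).trans (le_of_eq ?_)
      have h1 : Nat.card {y : Q // y ∈ Z.subgroupOf Q} = 2 := by
        rw [← hZc]; exact Nat.card_congr (subgroupOfEquivOfLe (zpowers_le.2 hzQ)).toEquiv
      haveI : Fintype Q := Fintype.ofFinite Q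
      rw [Nat.card_eq_fintype_card] at h1 h8 ⊢
      rw [Fintype.card_subtype_compl, h1, h8]
    have hEle : Nat.card E ≤ 18 := by
      rw [← (K.subgroupOf E).card_mul_index, Nat.card_congr (subgroupOfEquivOfLe inf_le_left).toEquiv]
      calc _ ≤ 3 * 6 := Nat.mul_le_mul hK3 horb
        _ = 18 := by norm_num
    obtain ⟨n, hn⟩ := IsPGroup.iff_card.1 h.pgrp
    have hn2 : 2 ≤ n := by
      by_contra hlt
      refine hnc ?_
      interval_cases n
      · haveI := (Nat.card_eq_one_iff_unique.1 (hn.trans (pow_zero 3))).1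
        infer_instance
      · exact isCyclic_of_prime_card (hn.trans (pow_one 3))
    rcases Nat.lt_or_ge n 3 with h3' | h3'
    · rw [hn, show n = 2 by omega]; norm_num
    · have : 3 ^ 3 ≤ 3 ^ n := Nat.pow_le_pow_right (by norm_num) h3'
      omega
  refine ⟨hE9, ⟨⟨h.two, hfrat, hcomm⟩, hcardc⟩, ?_, fun x => ⟨fun hx => ?_, fun hx e he => ?_⟩⟩
  · rw [hcardW]
    have h4 : M.card ≤ 4 := by omega
    interval_cases hM : M.card
    · exact Or.inl rfl
    · exact Or.inr (Or.inl rfl)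
    · exact Or.inr (Or.inr rfl)
  · rw [hcenterW, mem_subgroupOf]
    exact hC₁.le ⟨x.2, mem_centralizer_iff.2 fun e he => (hx e (hE₁ he)).eq⟩
  · rw [hcenterW, mem_subgroupOf] at hx
    obtain ⟨i, hi⟩ := mem_zpowers_iff.1 hx
    rw [← hi]
    exact (hzE e he).zpow_right i

end CfsgLib.OneFixed
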