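/-!
# Certificates for the orders of simple groups up to 1092 (generated)
-/

set_option autoImplicit false

namespace CfsgLib.Invol.Thousand

/-- A reason why no simple group has a given order. -/
structure Cert where
  kind : Nat
  p : Nat
  a : Nat
  q : Nat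
  b : Nat

set_option maxRecDepth 4000 in
/-- The `g`-th entry is the reason for the order `g`. -/
def certs : List Cert := [
  ⟨0,0,0,0,0⟩, ⟨1,2,0,2,0⟩, ⟨1,2,1,2,0⟩, ⟨1,3,1,2,0⟩, ⟨1,2,2,2,0⟩,
  ⟨1,5,1,2,0⟩, ⟨1,2,1,3,1⟩, ⟨1,7,1,2,0⟩, ⟨1,2,3,2,0⟩, ⟨1,3,2,2,0⟩,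
  ⟨1,2,1,5,1⟩, ⟨1,11,1,2,0⟩, ⟨1,2,2,3,1⟩, ⟨1,13,1,2,0⟩, ⟨1,2,1,7,1⟩,
  ⟨1,3,1,5,1⟩, ⟨1,2,4,2,0⟩, ⟨1,17,1,2,0⟩, ⟨1,2,1,3,2⟩, ⟨1,19,1,2,0⟩,
  ⟨1,2,2,5,1⟩, ⟨1,3,1,7,1⟩, ⟨1,2,1,11,1⟩, ⟨1,23,1,2,0⟩, ⟨1,2,3,3,1⟩,
  ⟨1,5,2,2,0⟩, ⟨1,2,1,13,1⟩, ⟨1,3,3,2,0⟩, ⟨1,2,2,7,1⟩, ⟨1,29,1,2,0⟩,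
  ⟨3,0,0,0,0⟩, ⟨1,31,1,2,0⟩, ⟨1,2,5,2,0⟩, ⟨1,3,1,11,1⟩, ⟨1,2,1,17,1⟩,
  ⟨1,5,1,7,1⟩, ⟨1,2,2,3,2⟩, ⟨1,37,1,2,0⟩, ⟨1,2,1,19,1⟩, ⟨1,3,1,13,1⟩,
  ⟨1,2,3,5,1⟩, ⟨1,41,1,2,0⟩, ⟨3,0,0,0,0⟩, ⟨1,43,1,2,0⟩, ⟨1,2,2,11,1⟩,
  ⟨1,3,2,5,1⟩, ⟨1,2,1,23,1⟩, ⟨1,47,1,2,0⟩, ⟨1,2,4,3,1⟩, ⟨1,7,2,2,0⟩,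
  ⟨1,2,1,5,2⟩, ⟨1,3,1,17,1⟩, ⟨1,2,2,13,1⟩, ⟨1,53,1,2,0⟩, ⟨1,2,1,3,3⟩,
  ⟨1,5,1,11,1⟩, ⟨1,2,3,7,1⟩, ⟨1,3,1,19,1⟩, ⟨1,2,1,29,1⟩, ⟨1,59,1,2,0⟩,
  ⟨2,0,0,0,0⟩, ⟨1,61,1,2,0⟩, ⟨1,2,1,31,1⟩, ⟨1,3,2,7,1⟩, ⟨1,2,6,2,0⟩,
  ⟨1,5,1,13,1⟩, ⟨3,0,0,0,0⟩, ⟨1,67,1,2,0⟩, ⟨1,2,2,17,1⟩, ⟨1,3,1,23,1⟩,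
  ⟨3,0,0,0,0⟩, ⟨1,71,1,2,0⟩, ⟨1,2,3,3,2⟩, ⟨1,73,1,2,0⟩, ⟨1,2,1,37,1⟩,
  ⟨1,3,1,5,2⟩, ⟨1,2,2,19,1⟩, ⟨1,7,1,11,1⟩, ⟨3,0,0,0,0⟩, ⟨1,79,1,2,0⟩,
  ⟨1,2,4,5,1⟩, ⟨1,3,4,2,0⟩, ⟨1,2,1,41,1⟩, ⟨1,83,1,2,0⟩, ⟨4,7,1,0,0⟩,
  ⟨1,5,1,17,1⟩, ⟨1,2,1,43,1⟩, ⟨1,3,1,29,1⟩, ⟨1,2,3,11,1⟩, ⟨1,89,1,2,0⟩,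
  ⟨3,0,0,0,0⟩, ⟨1,7,1,13,1⟩, ⟨1,2,2,23,1⟩, ⟨1,3,1,31,1⟩, ⟨1,2,1,47,1⟩,
  ⟨1,5,1,19,1⟩, ⟨1,2,5,3,1⟩, ⟨1,97,1,2,0⟩, ⟨1,2,1,7,2⟩, ⟨1,3,2,11,1⟩,
  ⟨1,2,2,5,2⟩, ⟨1,101,1,2,0⟩, ⟨3,0,0,0,0⟩, ⟨1,103,1,2,0⟩, ⟨1,2,3,13,1⟩,
  ⟨5,7,11,0,0⟩, ⟨1,2,1,53,1⟩, ⟨1,107,1,2,0⟩, ⟨1,2,2,3,3⟩, ⟨1,109,1,2,0⟩,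
  ⟨3,0,0,0,0⟩, ⟨1,3,1,37,1⟩, ⟨1,2,4,7,1⟩, ⟨1,113,1,2,0⟩, ⟨3,0,0,0,0⟩,
  ⟨1,5,1,23,1⟩, ⟨1,2,2,29,1⟩, ⟨1,3,2,13,1⟩, ⟨1,2,1,59,1⟩, ⟨1,7,1,17,1⟩,
  ⟨5,5,11,0,0⟩, ⟨1,11,2,2,0⟩, ⟨1,2,1,61,1⟩, ⟨1,3,1,41,1⟩, ⟨1,2,2,31,1⟩,
  ⟨1,5,3,2,0⟩, ⟨3,0,0,0,0⟩, ⟨1,127,1,2,0⟩, ⟨1,2,7,2,0⟩, ⟨1,3,1,43,1⟩,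
  ⟨3,0,0,0,0⟩, ⟨1,131,1,2,0⟩, ⟨5,11,12,0,0⟩, ⟨1,7,1,19,1⟩, ⟨1,2,1,67,1⟩,
  ⟨1,3,3,5,1⟩, ⟨1,2,3,17,1⟩, ⟨1,137,1,2,0⟩, ⟨3,0,0,0,0⟩, ⟨1,139,1,2,0⟩,
  ⟨4,7,1,0,0⟩, ⟨1,3,1,47,1⟩, ⟨1,2,1,71,1⟩, ⟨1,11,1,13,1⟩, ⟨1,2,4,3,2⟩,
  ⟨1,5,1,29,1⟩, ⟨1,2,1,73,1⟩, ⟨1,3,1,7,2⟩, ⟨1,2,2,37,1⟩, ⟨1,149,1,2,0⟩,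
  ⟨3,0,0,0,0⟩, ⟨1,151,1,2,0⟩, ⟨1,2,3,19,1⟩, ⟨1,3,2,17,1⟩, ⟨3,0,0,0,0⟩,
  ⟨1,5,1,31,1⟩, ⟨4,13,1,0,0⟩, ⟨1,157,1,2,0⟩, ⟨1,2,1,79,1⟩, ⟨1,3,1,53,1⟩,
  ⟨1,2,5,5,1⟩, ⟨1,7,1,23,1⟩, ⟨1,2,1,3,4⟩, ⟨1,163,1,2,0⟩, ⟨1,2,2,41,1⟩,
  ⟨4,11,1,0,0⟩, ⟨1,2,1,83,1⟩, ⟨1,167,1,2,0⟩, ⟨2,0,0,0,0⟩, ⟨1,13,2,2,0⟩,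
  ⟨3,0,0,0,0⟩, ⟨1,3,2,19,1⟩, ⟨1,2,2,43,1⟩, ⟨1,173,1,2,0⟩, ⟨3,0,0,0,0⟩,
  ⟨1,5,2,7,1⟩, ⟨1,2,4,11,1⟩, ⟨1,3,1,59,1⟩, ⟨1,2,1,89,1⟩, ⟨1,179,1,2,0⟩,
  ⟨5,5,14,0,0⟩, ⟨1,181,1,2,0⟩, ⟨3,0,0,0,0⟩, ⟨1,3,1,61,1⟩, ⟨1,2,3,23,1⟩,
  ⟨1,5,1,37,1⟩, ⟨3,0,0,0,0⟩, ⟨1,11,1,17,1⟩, ⟨1,2,2,47,1⟩, ⟨1,3,3,7,1⟩,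
  ⟨3,0,0,0,0⟩, ⟨1,191,1,2,0⟩, ⟨1,2,6,3,1⟩, ⟨1,193,1,2,0⟩, ⟨1,2,1,97,1⟩,
  ⟨4,13,1,0,0⟩, ⟨1,2,2,7,2⟩, ⟨1,197,1,2,0⟩, ⟨3,0,0,0,0⟩, ⟨1,199,1,2,0⟩,
  ⟨1,2,3,5,2⟩, ⟨1,3,1,67,1⟩, ⟨1,2,1,101,1⟩, ⟨1,7,1,29,1⟩, ⟨4,17,1,0,0⟩,
  ⟨1,5,1,41,1⟩, ⟨1,2,1,103,1⟩, ⟨1,3,2,23,1⟩, ⟨1,2,4,13,1⟩, ⟨1,11,1,19,1⟩,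
  ⟨3,0,0,0,0⟩, ⟨1,211,1,2,0⟩, ⟨1,2,2,53,1⟩, ⟨1,3,1,71,1⟩, ⟨1,2,1,107,1⟩,
  ⟨1,5,1,43,1⟩, ⟨1,2,3,3,3⟩, ⟨1,7,1,31,1⟩, ⟨1,2,1,109,1⟩, ⟨1,3,1,73,1⟩,
  ⟨4,11,1,0,0⟩, ⟨1,13,1,17,1⟩, ⟨3,0,0,0,0⟩, ⟨1,223,1,2,0⟩, ⟨1,2,5,7,1⟩,
  ⟨1,3,2,5,2⟩, ⟨1,2,1,113,1⟩, ⟨1,227,1,2,0⟩, ⟨4,19,1,0,0⟩, ⟨1,229,1,2,0⟩,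
  ⟨3,0,0,0,0⟩, ⟨4,11,1,0,0⟩, ⟨1,2,3,29,1⟩, ⟨1,233,1,2,0⟩, ⟨3,0,0,0,0⟩,
  ⟨1,5,1,47,1⟩, ⟨1,2,2,59,1⟩, ⟨1,3,1,79,1⟩, ⟨3,0,0,0,0⟩, ⟨1,239,1,2,0⟩,
  ⟨5,5,16,0,0⟩, ⟨1,241,1,2,0⟩, ⟨1,2,1,11,2⟩, ⟨1,3,5,2,0⟩, ⟨1,2,2,61,1⟩,
  ⟨1,5,1,7,2⟩, ⟨3,0,0,0,0⟩, ⟨1,13,1,19,1⟩, ⟨1,2,3,31,1⟩, ⟨1,3,1,83,1⟩,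
  ⟨1,2,1,5,3⟩, ⟨1,251,1,2,0⟩, ⟨5,7,16,0,0⟩, ⟨1,11,1,23,1⟩, ⟨1,2,1,127,1⟩,
  ⟨4,17,1,0,0⟩, ⟨1,2,8,2,0⟩, ⟨1,257,1,2,0⟩, ⟨3,0,0,0,0⟩, ⟨1,7,1,37,1⟩,
  ⟨4,13,1,0,0⟩, ⟨1,3,2,29,1⟩, ⟨1,2,1,131,1⟩, ⟨1,263,1,2,0⟩, ⟨5,11,17,0,0⟩,
  ⟨1,5,1,53,1⟩, ⟨3,0,0,0,0⟩, ⟨1,3,1,89,1⟩, ⟨1,2,2,67,1⟩, ⟨1,269,1,2,0⟩,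
  ⟨3,0,0,0,0⟩, ⟨1,271,1,2,0⟩, ⟨1,2,4,17,1⟩, ⟨4,13,1,0,0⟩, ⟨1,2,1,137,1⟩,
  ⟨1,5,2,11,1⟩, ⟨4,23,1,0,0⟩, ⟨1,277,1,2,0⟩, ⟨1,2,1,139,1⟩, ⟨1,3,2,31,1⟩,
  ⟨5,7,17,0,0⟩, ⟨1,281,1,2,0⟩, ⟨3,0,0,0,0⟩, ⟨1,283,1,2,0⟩, ⟨1,2,2,71,1⟩,
  ⟨4,19,1,0,0⟩, ⟨3,0,0,0,0⟩, ⟨1,7,1,41,1⟩, ⟨1,2,5,3,2⟩, ⟨1,17,2,2,0⟩,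
  ⟨3,0,0,0,0⟩, ⟨1,3,1,97,1⟩, ⟨1,2,2,73,1⟩, ⟨1,293,1,2,0⟩, ⟨3,0,0,0,0⟩,
  ⟨1,5,1,59,1⟩, ⟨1,2,3,37,1⟩, ⟨1,3,3,11,1⟩, ⟨1,2,1,149,1⟩, ⟨1,13,1,23,1⟩,
  ⟨4,5,2,0,0⟩, ⟨1,7,1,43,1⟩, ⟨1,2,1,151,1⟩, ⟨1,3,1,101,1⟩, ⟨1,2,4,19,1⟩,
  ⟨1,5,1,61,1⟩, ⟨3,0,0,0,0⟩, ⟨1,307,1,2,0⟩, ⟨4,11,1,0,0⟩, ⟨1,3,1,103,1⟩,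
  ⟨3,0,0,0,0⟩, ⟨1,311,1,2,0⟩, ⟨4,13,1,0,0⟩, ⟨1,313,1,2,0⟩, ⟨1,2,1,157,1⟩,
  ⟨5,7,18,0,0⟩, ⟨1,2,2,79,1⟩, ⟨1,317,1,2,0⟩, ⟨3,0,0,0,0⟩, ⟨1,11,1,29,1⟩,
  ⟨1,2,6,5,1⟩, ⟨1,3,1,107,1⟩, ⟨3,0,0,0,0⟩, ⟨1,17,1,19,1⟩, ⟨1,2,2,3,4⟩,
  ⟨1,5,2,13,1⟩, ⟨1,2,1,163,1⟩, ⟨1,3,1,109,1⟩, ⟨1,2,3,41,1⟩, ⟨1,7,1,47,1⟩,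
  ⟨3,0,0,0,0⟩, ⟨1,331,1,2,0⟩, ⟨1,2,2,83,1⟩, ⟨1,3,2,37,1⟩, ⟨1,2,1,167,1⟩,
  ⟨1,5,1,67,1⟩, ⟨5,7,19,0,0⟩, ⟨1,337,1,2,0⟩, ⟨1,2,1,13,2⟩, ⟨1,3,1,113,1⟩,
  ⟨4,17,1,0,0⟩, ⟨1,11,1,31,1⟩, ⟨3,0,0,0,0⟩, ⟨1,7,3,2,0⟩, ⟨1,2,3,43,1⟩,
  ⟨4,23,1,0,0⟩, ⟨1,2,1,173,1⟩, ⟨1,347,1,2,0⟩, ⟨4,29,1,0,0⟩, ⟨1,349,1,2,0⟩,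
  ⟨3,0,0,0,0⟩, ⟨1,3,3,13,1⟩, ⟨1,2,5,11,1⟩, ⟨1,353,1,2,0⟩, ⟨3,0,0,0,0⟩,
  ⟨1,5,1,71,1⟩, ⟨1,2,2,89,1⟩, ⟨4,17,1,0,0⟩, ⟨1,2,1,179,1⟩, ⟨1,359,1,2,0⟩,
  ⟨2,0,0,0,0⟩, ⟨1,19,2,2,0⟩, ⟨1,2,1,181,1⟩, ⟨1,3,1,11,2⟩, ⟨4,7,1,0,0⟩,
  ⟨1,5,1,73,1⟩, ⟨3,0,0,0,0⟩, ⟨1,367,1,2,0⟩, ⟨1,2,4,23,1⟩, ⟨1,3,2,41,1⟩,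
  ⟨3,0,0,0,0⟩, ⟨1,7,1,53,1⟩, ⟨4,31,1,0,0⟩, ⟨1,373,1,2,0⟩, ⟨3,0,0,0,0⟩,
  ⟨1,3,1,5,3⟩, ⟨1,2,3,47,1⟩, ⟨1,13,1,29,1⟩, ⟨3,0,0,0,0⟩, ⟨1,379,1,2,0⟩,
  ⟨5,19,20,0,0⟩, ⟨1,3,1,127,1⟩, ⟨1,2,1,191,1⟩, ⟨1,383,1,2,0⟩, ⟨1,2,7,3,1⟩,
  ⟨4,11,1,0,0⟩, ⟨1,2,1,193,1⟩, ⟨1,3,2,43,1⟩, ⟨1,2,2,97,1⟩, ⟨1,389,1,2,0⟩,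
  ⟨3,0,0,0,0⟩, ⟨1,17,1,23,1⟩, ⟨1,2,3,7,2⟩, ⟨1,3,1,131,1⟩, ⟨1,2,1,197,1⟩,
  ⟨1,5,1,79,1⟩, ⟨5,11,20,0,0⟩, ⟨1,397,1,2,0⟩, ⟨1,2,1,199,1⟩, ⟨4,19,1,0,0⟩,
  ⟨1,2,4,5,2⟩, ⟨1,401,1,2,0⟩, ⟨3,0,0,0,0⟩, ⟨1,13,1,31,1⟩, ⟨1,2,2,101,1⟩,
  ⟨1,3,4,5,1⟩, ⟨3,0,0,0,0⟩, ⟨1,11,1,37,1⟩, ⟨4,17,1,0,0⟩, ⟨1,409,1,2,0⟩,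
  ⟨3,0,0,0,0⟩, ⟨1,3,1,137,1⟩, ⟨1,2,2,103,1⟩, ⟨1,7,1,59,1⟩, ⟨3,0,0,0,0⟩,
  ⟨1,5,1,83,1⟩, ⟨1,2,5,13,1⟩, ⟨1,3,1,139,1⟩, ⟨3,0,0,0,0⟩, ⟨1,419,1,2,0⟩,
  ⟨5,7,21,0,0⟩, ⟨1,421,1,2,0⟩, ⟨1,2,1,211,1⟩, ⟨1,3,2,47,1⟩, ⟨1,2,3,53,1⟩,
  ⟨1,5,2,17,1⟩, ⟨3,0,0,0,0⟩, ⟨1,7,1,61,1⟩, ⟨1,2,2,107,1⟩, ⟨4,13,1,0,0⟩,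
  ⟨3,0,0,0,0⟩, ⟨1,431,1,2,0⟩, ⟨1,2,4,3,3⟩, ⟨1,433,1,2,0⟩, ⟨3,0,0,0,0⟩,
  ⟨4,29,1,0,0⟩, ⟨1,2,2,109,1⟩, ⟨1,19,1,23,1⟩, ⟨3,0,0,0,0⟩, ⟨1,439,1,2,0⟩,
  ⟨4,11,1,0,0⟩, ⟨1,3,2,7,2⟩, ⟨3,0,0,0,0⟩, ⟨1,443,1,2,0⟩, ⟨4,37,1,0,0⟩,
  ⟨1,5,1,89,1⟩, ⟨1,2,1,223,1⟩, ⟨1,3,1,149,1⟩, ⟨1,2,6,7,1⟩, ⟨1,449,1,2,0⟩,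
  ⟨3,0,0,0,0⟩, ⟨1,11,1,41,1⟩, ⟨1,2,2,113,1⟩, ⟨1,3,1,151,1⟩, ⟨1,2,1,227,1⟩,
  ⟨4,13,1,0,0⟩, ⟨4,19,1,0,0⟩, ⟨1,457,1,2,0⟩, ⟨1,2,1,229,1⟩, ⟨1,3,3,17,1⟩,
  ⟨4,23,1,0,0⟩, ⟨1,461,1,2,0⟩, ⟨3,0,0,0,0⟩, ⟨1,463,1,2,0⟩, ⟨1,2,4,29,1⟩,
  ⟨4,31,1,0,0⟩, ⟨1,2,1,233,1⟩, ⟨1,467,1,2,0⟩, ⟨4,13,1,0,0⟩, ⟨1,7,1,67,1⟩,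
  ⟨3,0,0,0,0⟩, ⟨1,3,1,157,1⟩, ⟨1,2,3,59,1⟩, ⟨1,11,1,43,1⟩, ⟨3,0,0,0,0⟩,
  ⟨1,5,2,19,1⟩, ⟨4,17,1,0,0⟩, ⟨1,3,2,53,1⟩, ⟨1,2,1,239,1⟩, ⟨1,479,1,2,0⟩,
  ⟨5,5,22,0,0⟩, ⟨1,13,1,37,1⟩, ⟨1,2,1,241,1⟩, ⟨4,23,1,0,0⟩, ⟨1,2,2,11,2⟩,
  ⟨1,5,1,97,1⟩, ⟨1,2,1,3,5⟩, ⟨1,487,1,2,0⟩, ⟨1,2,3,61,1⟩, ⟨1,3,1,163,1⟩,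
  ⟨3,0,0,0,0⟩, ⟨1,491,1,2,0⟩, ⟨4,41,1,0,0⟩, ⟨1,17,1,29,1⟩, ⟨3,0,0,0,0⟩,
  ⟨5,11,23,0,0⟩, ⟨1,2,4,31,1⟩, ⟨1,7,1,71,1⟩, ⟨3,0,0,0,0⟩, ⟨1,499,1,2,0⟩,
  ⟨1,2,2,5,3⟩, ⟨1,3,1,167,1⟩, ⟨1,2,1,251,1⟩, ⟨1,503,1,2,0⟩, ⟨2,0,0,0,0⟩,
  ⟨1,5,1,101,1⟩, ⟨3,0,0,0,0⟩, ⟨1,3,1,13,2⟩, ⟨1,2,2,127,1⟩, ⟨1,509,1,2,0⟩,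
  ⟨3,0,0,0,0⟩, ⟨1,7,1,73,1⟩, ⟨1,2,9,2,0⟩, ⟨1,3,3,19,1⟩, ⟨1,2,1,257,1⟩,
  ⟨1,5,1,103,1⟩, ⟨4,43,1,0,0⟩, ⟨1,11,1,47,1⟩, ⟨3,0,0,0,0⟩, ⟨1,3,1,173,1⟩,
  ⟨5,13,23,0,0⟩, ⟨1,521,1,2,0⟩, ⟨3,0,0,0,0⟩, ⟨1,523,1,2,0⟩, ⟨1,2,2,131,1⟩,
  ⟨5,7,23,0,0⟩, ⟨1,2,1,263,1⟩, ⟨1,17,1,31,1⟩, ⟨5,11,23,0,0⟩, ⟨1,23,2,2,0⟩,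
  ⟨3,0,0,0,0⟩, ⟨1,3,2,59,1⟩, ⟨4,19,1,0,0⟩, ⟨1,13,1,41,1⟩, ⟨3,0,0,0,0⟩,
  ⟨1,5,1,107,1⟩, ⟨1,2,3,67,1⟩, ⟨1,3,1,179,1⟩, ⟨1,2,1,269,1⟩, ⟨1,7,2,11,1⟩,
  ⟨5,5,24,0,0⟩, ⟨1,541,1,2,0⟩, ⟨1,2,1,271,1⟩, ⟨1,3,1,181,1⟩, ⟨1,2,5,17,1⟩,
  ⟨1,5,1,109,1⟩, ⟨3,0,0,0,0⟩, ⟨1,547,1,2,0⟩, ⟨1,2,2,137,1⟩, ⟨1,3,2,61,1⟩,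
  ⟨3,0,0,0,0⟩, ⟨1,19,1,29,1⟩, ⟨5,23,24,0,0⟩, ⟨1,7,1,79,1⟩, ⟨1,2,1,277,1⟩,
  ⟨4,37,1,0,0⟩, ⟨1,2,2,139,1⟩, ⟨1,557,1,2,0⟩, ⟨3,0,0,0,0⟩, ⟨1,13,1,43,1⟩,
  ⟨5,7,24,0,0⟩, ⟨4,17,1,0,0⟩, ⟨1,2,1,281,1⟩, ⟨1,563,1,2,0⟩, ⟨4,47,1,0,0⟩,
  ⟨1,5,1,113,1⟩, ⟨1,2,1,283,1⟩, ⟨1,3,4,7,1⟩, ⟨1,2,3,71,1⟩, ⟨1,569,1,2,0⟩,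
  ⟨3,0,0,0,0⟩, ⟨1,571,1,2,0⟩, ⟨4,13,1,0,0⟩, ⟨1,3,1,191,1⟩, ⟨3,0,0,0,0⟩,
  ⟨1,5,2,23,1⟩, ⟨1,2,6,3,2⟩, ⟨1,577,1,2,0⟩, ⟨1,2,1,17,2⟩, ⟨1,3,1,193,1⟩,
  ⟨4,29,1,0,0⟩, ⟨1,7,1,83,1⟩, ⟨3,0,0,0,0⟩, ⟨1,11,1,53,1⟩, ⟨1,2,3,73,1⟩,
  ⟨4,13,1,0,0⟩, ⟨1,2,1,293,1⟩, ⟨1,587,1,2,0⟩, ⟨4,7,2,0,0⟩, ⟨1,19,1,31,1⟩,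
  ⟨3,0,0,0,0⟩, ⟨1,3,1,197,1⟩, ⟨1,2,4,37,1⟩, ⟨1,593,1,2,0⟩, ⟨3,0,0,0,0⟩,
  ⟨4,5,1,0,0⟩, ⟨1,2,2,149,1⟩, ⟨1,3,1,199,1⟩, ⟨3,0,0,0,0⟩, ⟨1,599,1,2,0⟩,
  ⟨4,5,2,0,0⟩, ⟨1,601,1,2,0⟩, ⟨3,0,0,0,0⟩, ⟨1,3,2,67,1⟩, ⟨1,2,2,151,1⟩,
  ⟨1,5,1,11,2⟩, ⟨3,0,0,0,0⟩, ⟨1,607,1,2,0⟩, ⟨1,2,5,19,1⟩, ⟨4,29,1,0,0⟩,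
  ⟨3,0,0,0,0⟩, ⟨1,13,1,47,1⟩, ⟨5,17,25,0,0⟩, ⟨1,613,1,2,0⟩, ⟨1,2,1,307,1⟩,
  ⟨4,41,1,0,0⟩, ⟨5,11,25,0,0⟩, ⟨1,617,1,2,0⟩, ⟨3,0,0,0,0⟩, ⟨1,619,1,2,0⟩,
  ⟨4,31,1,0,0⟩, ⟨1,3,3,23,1⟩, ⟨1,2,1,311,1⟩, ⟨1,7,1,89,1⟩, ⟨4,13,1,0,0⟩,
  ⟨1,5,4,2,0⟩, ⟨1,2,1,313,1⟩, ⟨4,19,1,0,0⟩, ⟨1,2,2,157,1⟩, ⟨1,17,1,37,1⟩,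
  ⟨3,0,0,0,0⟩, ⟨1,631,1,2,0⟩, ⟨1,2,3,79,1⟩, ⟨1,3,1,211,1⟩, ⟨1,2,1,317,1⟩,
  ⟨1,5,1,127,1⟩, ⟨4,53,1,0,0⟩, ⟨1,7,2,13,1⟩, ⟨3,0,0,0,0⟩, ⟨1,3,2,71,1⟩,
  ⟨1,2,7,5,1⟩, ⟨1,641,1,2,0⟩, ⟨3,0,0,0,0⟩, ⟨1,643,1,2,0⟩, ⟨4,23,1,0,0⟩,
  ⟨4,43,1,0,0⟩, ⟨3,0,0,0,0⟩, ⟨1,647,1,2,0⟩, ⟨1,2,3,3,4⟩, ⟨1,11,1,59,1⟩,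
  ⟨3,0,0,0,0⟩, ⟨4,31,1,0,0⟩, ⟨1,2,2,163,1⟩, ⟨1,653,1,2,0⟩, ⟨3,0,0,0,0⟩,
  ⟨1,5,1,131,1⟩, ⟨1,2,4,41,1⟩, ⟨1,3,2,73,1⟩, ⟨3,0,0,0,0⟩, ⟨1,659,1,2,0⟩,
  ⟨2,0,0,0,0⟩, ⟨1,661,1,2,0⟩, ⟨1,2,1,331,1⟩, ⟨4,17,1,0,0⟩, ⟨1,2,3,83,1⟩,
  ⟨4,19,1,0,0⟩, ⟨3,0,0,0,0⟩, ⟨1,23,1,29,1⟩, ⟨1,2,2,167,1⟩, ⟨1,3,1,223,1⟩,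
  ⟨3,0,0,0,0⟩, ⟨1,11,1,61,1⟩, ⟨5,7,26,0,0⟩, ⟨1,673,1,2,0⟩, ⟨1,2,1,337,1⟩,
  ⟨1,3,3,5,2⟩, ⟨1,2,2,13,2⟩, ⟨1,677,1,2,0⟩, ⟨3,0,0,0,0⟩, ⟨1,7,1,97,1⟩,
  ⟨4,17,1,0,0⟩, ⟨1,3,1,227,1⟩, ⟨3,0,0,0,0⟩, ⟨1,683,1,2,0⟩, ⟨4,19,1,0,0⟩,
  ⟨1,5,1,137,1⟩, ⟨1,2,1,7,3⟩, ⟨1,3,1,229,1⟩, ⟨1,2,4,43,1⟩, ⟨1,13,1,53,1⟩,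
  ⟨3,0,0,0,0⟩, ⟨1,691,1,2,0⟩, ⟨1,2,2,173,1⟩, ⟨4,11,1,0,0⟩, ⟨1,2,1,347,1⟩,
  ⟨1,5,1,139,1⟩, ⟨4,29,1,0,0⟩, ⟨1,17,1,41,1⟩, ⟨1,2,1,349,1⟩, ⟨1,3,1,233,1⟩,
  ⟨4,5,2,0,0⟩, ⟨1,701,1,2,0⟩, ⟨3,0,0,0,0⟩, ⟨1,19,1,37,1⟩, ⟨1,2,6,11,1⟩,
  ⟨4,47,1,0,0⟩, ⟨1,2,1,353,1⟩, ⟨1,7,1,101,1⟩, ⟨4,59,1,0,0⟩, ⟨1,709,1,2,0⟩,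
  ⟨3,0,0,0,0⟩, ⟨1,3,2,79,1⟩, ⟨1,2,3,89,1⟩, ⟨1,23,1,31,1⟩, ⟨3,0,0,0,0⟩,
  ⟨4,13,1,0,0⟩, ⟨1,2,2,179,1⟩, ⟨1,3,1,239,1⟩, ⟨1,2,1,359,1⟩, ⟨1,719,1,2,0⟩,
  ⟨6,5,27,16,0⟩, ⟨1,7,1,103,1⟩, ⟨1,2,1,19,2⟩, ⟨1,3,1,241,1⟩, ⟨1,2,2,181,1⟩,
  ⟨1,5,2,29,1⟩, ⟨3,0,0,0,0⟩, ⟨1,727,1,2,0⟩, ⟨4,7,1,0,0⟩, ⟨1,3,6,2,0⟩,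
  ⟨3,0,0,0,0⟩, ⟨1,17,1,43,1⟩, ⟨4,61,1,0,0⟩, ⟨1,733,1,2,0⟩, ⟨1,2,1,367,1⟩,
  ⟨5,5,28,0,0⟩, ⟨1,2,5,23,1⟩, ⟨1,11,1,67,1⟩, ⟨3,0,0,0,0⟩, ⟨1,739,1,2,0⟩,
  ⟨4,37,1,0,0⟩, ⟨4,13,1,0,0⟩, ⟨3,0,0,0,0⟩, ⟨1,743,1,2,0⟩, ⟨4,31,1,0,0⟩,
  ⟨1,5,1,149,1⟩, ⟨1,2,1,373,1⟩, ⟨1,3,2,83,1⟩, ⟨4,17,1,0,0⟩, ⟨1,7,1,107,1⟩,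
  ⟨3,0,0,0,0⟩, ⟨1,751,1,2,0⟩, ⟨1,2,4,47,1⟩, ⟨1,3,1,251,1⟩, ⟨3,0,0,0,0⟩,
  ⟨1,5,1,151,1⟩, ⟨5,7,28,0,0⟩, ⟨1,757,1,2,0⟩, ⟨1,2,1,379,1⟩, ⟨4,23,1,0,0⟩,
  ⟨5,19,28,0,0⟩, ⟨1,761,1,2,0⟩, ⟨3,0,0,0,0⟩, ⟨1,7,1,109,1⟩, ⟨1,2,2,191,1⟩,
  ⟨4,17,1,0,0⟩, ⟨1,2,1,383,1⟩, ⟨1,13,1,59,1⟩, ⟨1,2,8,3,1⟩, ⟨1,769,1,2,0⟩,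
  ⟨3,0,0,0,0⟩, ⟨1,3,1,257,1⟩, ⟨1,2,2,193,1⟩, ⟨1,773,1,2,0⟩, ⟨3,0,0,0,0⟩,
  ⟨1,5,2,31,1⟩, ⟨1,2,3,97,1⟩, ⟨4,37,1,0,0⟩, ⟨1,2,1,389,1⟩, ⟨1,19,1,41,1⟩,
  ⟨4,13,1,0,0⟩, ⟨1,11,1,71,1⟩, ⟨3,0,0,0,0⟩, ⟨1,3,3,29,1⟩, ⟨1,2,4,7,2⟩,
  ⟨1,5,1,157,1⟩, ⟨3,0,0,0,0⟩, ⟨1,787,1,2,0⟩, ⟨1,2,2,197,1⟩, ⟨1,3,1,263,1⟩,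
  ⟨3,0,0,0,0⟩, ⟨1,7,1,113,1⟩, ⟨5,11,29,0,0⟩, ⟨1,13,1,61,1⟩, ⟨1,2,1,397,1⟩,
  ⟨4,53,1,0,0⟩, ⟨1,2,2,199,1⟩, ⟨1,797,1,2,0⟩, ⟨3,0,0,0,0⟩, ⟨1,17,1,47,1⟩,
  ⟨1,2,5,5,2⟩, ⟨1,3,2,89,1⟩, ⟨1,2,1,401,1⟩, ⟨1,11,1,73,1⟩, ⟨4,67,1,0,0⟩,
  ⟨4,23,1,0,0⟩, ⟨3,0,0,0,0⟩, ⟨1,3,1,269,1⟩, ⟨1,2,3,101,1⟩, ⟨1,809,1,2,0⟩,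
  ⟨3,0,0,0,0⟩, ⟨1,811,1,2,0⟩, ⟨4,29,1,0,0⟩, ⟨1,3,1,271,1⟩, ⟨3,0,0,0,0⟩,
  ⟨1,5,1,163,1⟩, ⟨4,17,1,0,0⟩, ⟨1,19,1,43,1⟩, ⟨1,2,1,409,1⟩, ⟨4,13,1,0,0⟩,
  ⟨4,41,1,0,0⟩, ⟨1,821,1,2,0⟩, ⟨3,0,0,0,0⟩, ⟨1,823,1,2,0⟩, ⟨1,2,3,103,1⟩,
  ⟨4,11,1,0,0⟩, ⟨3,0,0,0,0⟩, ⟨1,827,1,2,0⟩, ⟨4,23,1,0,0⟩, ⟨1,829,1,2,0⟩,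
  ⟨3,0,0,0,0⟩, ⟨1,3,1,277,1⟩, ⟨1,2,6,13,1⟩, ⟨1,7,2,17,1⟩, ⟨3,0,0,0,0⟩,
  ⟨1,5,1,167,1⟩, ⟨4,19,1,0,0⟩, ⟨1,3,3,31,1⟩, ⟨1,2,1,419,1⟩, ⟨1,839,1,2,0⟩,
  ⟨5,7,29,0,0⟩, ⟨1,29,2,2,0⟩, ⟨1,2,1,421,1⟩, ⟨1,3,1,281,1⟩, ⟨1,2,2,211,1⟩,
  ⟨1,5,1,13,2⟩, ⟨3,0,0,0,0⟩, ⟨1,7,1,11,2⟩, ⟨1,2,4,53,1⟩, ⟨1,3,1,283,1⟩,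
  ⟨3,0,0,0,0⟩, ⟨1,23,1,37,1⟩, ⟨4,71,1,0,0⟩, ⟨1,853,1,2,0⟩, ⟨3,0,0,0,0⟩,
  ⟨4,19,1,0,0⟩, ⟨1,2,3,107,1⟩, ⟨1,857,1,2,0⟩, ⟨3,0,0,0,0⟩, ⟨1,859,1,2,0⟩,
  ⟨4,43,1,0,0⟩, ⟨4,41,1,0,0⟩, ⟨1,2,1,431,1⟩, ⟨1,863,1,2,0⟩, ⟨1,2,5,3,3⟩,
  ⟨1,5,1,173,1⟩, ⟨1,2,1,433,1⟩, ⟨1,3,1,17,2⟩, ⟨4,31,1,0,0⟩, ⟨1,11,1,79,1⟩,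
  ⟨3,0,0,0,0⟩, ⟨1,13,1,67,1⟩, ⟨1,2,3,109,1⟩, ⟨1,3,2,97,1⟩, ⟨3,0,0,0,0⟩,
  ⟨1,5,3,7,1⟩, ⟨4,73,1,0,0⟩, ⟨1,877,1,2,0⟩, ⟨1,2,1,439,1⟩, ⟨1,3,1,293,1⟩,
  ⟨4,11,1,0,0⟩, ⟨1,881,1,2,0⟩, ⟨3,0,0,0,0⟩, ⟨1,883,1,2,0⟩, ⟨4,13,1,0,0⟩,
  ⟨4,59,1,0,0⟩, ⟨1,2,1,443,1⟩, ⟨1,887,1,2,0⟩, ⟨4,37,1,0,0⟩, ⟨1,7,1,127,1⟩,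
  ⟨3,0,0,0,0⟩, ⟨1,3,4,11,1⟩, ⟨1,2,2,223,1⟩, ⟨1,19,1,47,1⟩, ⟨3,0,0,0,0⟩,
  ⟨1,5,1,179,1⟩, ⟨1,2,7,7,1⟩, ⟨4,23,1,0,0⟩, ⟨1,2,1,449,1⟩, ⟨1,29,1,31,1⟩,
  ⟨2,0,0,0,0⟩, ⟨1,17,1,53,1⟩, ⟨3,0,0,0,0⟩, ⟨4,43,1,0,0⟩, ⟨1,2,3,113,1⟩,
  ⟨1,5,1,181,1⟩, ⟨3,0,0,0,0⟩, ⟨1,907,1,2,0⟩, ⟨1,2,2,227,1⟩, ⟨1,3,2,101,1⟩,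
  ⟨3,0,0,0,0⟩, ⟨1,911,1,2,0⟩, ⟨4,19,1,0,0⟩, ⟨1,11,1,83,1⟩, ⟨1,2,1,457,1⟩,
  ⟨4,61,1,0,0⟩, ⟨1,2,2,229,1⟩, ⟨1,7,1,131,1⟩, ⟨3,0,0,0,0⟩, ⟨1,919,1,2,0⟩,
  ⟨4,23,1,0,0⟩, ⟨1,3,1,307,1⟩, ⟨1,2,1,461,1⟩, ⟨1,13,1,71,1⟩, ⟨5,11,31,0,0⟩,
  ⟨1,5,2,37,1⟩, ⟨1,2,1,463,1⟩, ⟨1,3,2,103,1⟩, ⟨1,2,5,29,1⟩, ⟨1,929,1,2,0⟩,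
  ⟨3,0,0,0,0⟩, ⟨1,7,2,19,1⟩, ⟨1,2,2,233,1⟩, ⟨1,3,1,311,1⟩, ⟨1,2,1,467,1⟩,
  ⟨4,17,1,0,0⟩, ⟨4,13,1,0,0⟩, ⟨1,937,1,2,0⟩, ⟨3,0,0,0,0⟩, ⟨1,3,1,313,1⟩,
  ⟨4,47,1,0,0⟩, ⟨1,941,1,2,0⟩, ⟨3,0,0,0,0⟩, ⟨1,23,1,41,1⟩, ⟨1,2,4,59,1⟩,
  ⟨4,3,3,0,0⟩, ⟨3,0,0,0,0⟩, ⟨1,947,1,2,0⟩, ⟨4,79,1,0,0⟩, ⟨1,13,1,73,1⟩,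
  ⟨3,0,0,0,0⟩, ⟨1,3,1,317,1⟩, ⟨4,17,1,0,0⟩, ⟨1,953,1,2,0⟩, ⟨3,0,0,0,0⟩,
  ⟨1,5,1,191,1⟩, ⟨1,2,2,239,1⟩, ⟨4,29,1,0,0⟩, ⟨1,2,1,479,1⟩, ⟨1,7,1,137,1⟩,
  ⟨6,5,31,64,0⟩, ⟨1,31,2,2,0⟩, ⟨3,0,0,0,0⟩, ⟨1,3,2,107,1⟩, ⟨1,2,2,241,1⟩,
  ⟨1,5,1,193,1⟩, ⟨3,0,0,0,0⟩, ⟨1,967,1,2,0⟩, ⟨1,2,3,11,2⟩, ⟨4,19,1,0,0⟩,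
  ⟨3,0,0,0,0⟩, ⟨1,971,1,2,0⟩, ⟨1,2,2,3,5⟩, ⟨1,7,1,139,1⟩, ⟨1,2,1,487,1⟩,
  ⟨4,13,1,0,0⟩, ⟨1,2,4,61,1⟩, ⟨1,977,1,2,0⟩, ⟨3,0,0,0,0⟩, ⟨1,11,1,89,1⟩,
  ⟨4,7,2,0,0⟩, ⟨1,3,2,109,1⟩, ⟨1,2,1,491,1⟩, ⟨1,983,1,2,0⟩, ⟨4,41,1,0,0⟩,
  ⟨1,5,1,197,1⟩, ⟨3,0,0,0,0⟩, ⟨4,47,1,0,0⟩, ⟨4,19,1,0,0⟩, ⟨1,23,1,43,1⟩,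
  ⟨3,0,0,0,0⟩, ⟨1,991,1,2,0⟩, ⟨1,2,5,31,1⟩, ⟨1,3,1,331,1⟩, ⟨3,0,0,0,0⟩,
  ⟨1,5,1,199,1⟩, ⟨4,83,1,0,0⟩, ⟨1,997,1,2,0⟩, ⟨1,2,1,499,1⟩, ⟨1,3,3,37,1⟩,
  ⟨1,2,3,5,3⟩, ⟨4,13,1,0,0⟩, ⟨3,0,0,0,0⟩, ⟨1,17,1,59,1⟩, ⟨1,2,2,251,1⟩,
  ⟨4,67,1,0,0⟩, ⟨1,2,1,503,1⟩, ⟨1,19,1,53,1⟩, ⟨5,7,32,0,0⟩, ⟨1,1009,1,2,0⟩,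
  ⟨3,0,0,0,0⟩, ⟨1,3,1,337,1⟩, ⟨4,23,1,0,0⟩, ⟨1,1013,1,2,0⟩, ⟨3,0,0,0,0⟩,
  ⟨4,29,1,0,0⟩, ⟨1,2,3,127,1⟩, ⟨1,3,2,113,1⟩, ⟨1,2,1,509,1⟩, ⟨1,1019,1,2,0⟩,
  ⟨4,17,1,0,0⟩, ⟨1,1021,1,2,0⟩, ⟨3,0,0,0,0⟩, ⟨4,31,1,0,0⟩, ⟨1,2,10,2,0⟩,
  ⟨1,5,2,41,1⟩, ⟨3,0,0,0,0⟩, ⟨1,13,1,79,1⟩, ⟨1,2,2,257,1⟩, ⟨1,3,1,7,3⟩,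
  ⟨3,0,0,0,0⟩, ⟨1,1031,1,2,0⟩, ⟨4,43,1,0,0⟩, ⟨1,1033,1,2,0⟩, ⟨3,0,0,0,0⟩,
  ⟨4,23,1,0,0⟩, ⟨4,37,1,0,0⟩, ⟨1,17,1,61,1⟩, ⟨3,0,0,0,0⟩, ⟨1,1039,1,2,0⟩,
  ⟨5,13,33,0,0⟩, ⟨1,3,1,347,1⟩, ⟨1,2,1,521,1⟩, ⟨1,7,1,149,1⟩, ⟨4,29,1,0,0⟩,
  ⟨4,19,1,0,0⟩, ⟨1,2,1,523,1⟩, ⟨1,3,1,349,1⟩, ⟨1,2,3,131,1⟩, ⟨1,1049,1,2,0⟩,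
  ⟨3,0,0,0,0⟩, ⟨1,1051,1,2,0⟩, ⟨1,2,2,263,1⟩, ⟨1,3,4,13,1⟩, ⟨3,0,0,0,0⟩,
  ⟨1,5,1,211,1⟩, ⟨5,11,33,0,0⟩, ⟨1,7,1,151,1⟩, ⟨1,2,1,23,2⟩, ⟨1,3,1,353,1⟩,
  ⟨4,53,1,0,0⟩, ⟨1,1061,1,2,0⟩, ⟨3,0,0,0,0⟩, ⟨1,1063,1,2,0⟩, ⟨4,19,1,0,0⟩,
  ⟨4,71,1,0,0⟩, ⟨3,0,0,0,0⟩, ⟨1,11,1,97,1⟩, ⟨4,89,1,0,0⟩, ⟨1,1069,1,2,0⟩,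
  ⟨3,0,0,0,0⟩, ⟨4,17,1,0,0⟩, ⟨1,2,4,67,1⟩, ⟨1,29,1,37,1⟩, ⟨3,0,0,0,0⟩,
  ⟨1,5,2,43,1⟩, ⟨1,2,2,269,1⟩, ⟨1,3,1,359,1⟩, ⟨3,0,0,0,0⟩, ⟨1,13,1,83,1⟩,
  ⟨5,5,33,0,0⟩, ⟨1,23,1,47,1⟩, ⟨1,2,1,541,1⟩, ⟨1,3,1,19,2⟩, ⟨1,2,2,271,1⟩,
  ⟨4,31,1,0,0⟩, ⟨3,0,0,0,0⟩, ⟨1,1087,1,2,0⟩, ⟨1,2,6,17,1⟩, ⟨1,3,2,11,2⟩,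
  ⟨3,0,0,0,0⟩, ⟨1,1091,1,2,0⟩, ⟨2,0,0,0,0⟩]

end CfsgLib.Invol.Thousand
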