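import Cfsg.Agent.Lib.Invol.OutCriteriaLinear
import Cfsg.Agent.Lib.OddConseq.OutSolvable
import Cfsg.Agent.Lib.PGroup.MetacyclicTwoAut
import Cfsg.Agent.Lib.Bender.OddQuot.GLThree
import Cfsg.Agent.Lib.Bender.Suzuki.Consumers
import Cfsg.Agent.Lib.Bender.Suzuki.Classified
import Cfsg.Agent.Lib.GW.XSub
import Cfsg.Agent.S0205
import Cfsg.Agent.S2602
import Cfsg.Agent.S2126
import Cfsg.Agent.S2603
import Cfsg.Prelude.Def_TwoFusion

/-!
# Outer automorphisms through a Sylow 2-subgroup: three criteria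

`Out G` is solvable when a Sylow 2-subgroup is two-generated, when it is three-generated with a
nontrivial automizer of odd order, or, given Goldschmidt's theorem, when its involutions commute
and are all conjugate.
-/

set_option autoImplicit false
set_option linter.style.haveILetI false
set_option linter.unusedSectionVars false

namespace CfsgLib.Invol.OutCriteria

open Subgroup CfsgLib.OddConseq

universe u

theorem oddSolvable : OddSolvable.{u} := fun _ _ _ h => Cfsg.Agent.S0205.result h

theorem solvable_of_isPGroup {K : Type u} [Group K] [Finite K] {p : ℕ} [Fact p.Prime]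
    (h : IsPGroup p K) : Group.IsSolvable K :=
  haveI := h.isNilpotent
  inferInstance

theorem card_quot_frattini_le {P : Type u} [Group P] [Finite P] (hP : IsPGroup 2 P) (T : Finset P)
    (hT : closure (T : Set P) = ⊤) : Nat.card (P ⧸ frattini P) ≤ 2 ^ T.card := by
  haveI := Fact.mk Nat.prime_two
  obtain ⟨T', hT', -, hc⟩ := CfsgLib.Coprime.card_closure_sup_frattini hP T
  rw [hT, top_sup_eq, Subgroup.card_top, Subgroup.card_eq_card_quotient_mul_card_subgroup
    (frattini P)] at hc
  rw [Nat.eq_of_mul_eq_mul_right Nat.card_pos hc]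
  exact Nat.pow_le_pow_right (by norm_num) (Finset.card_le_card hT')

variable {G : Type u} [Group G] [Finite G]

/-- Conjugation by the normaliser. -/
def conjStab (S : Subgroup G) : normalizer (S : Set G) →* sylowStab S where
  toFun g := ⟨MulAut.conj (g : G), fun x => by
    rw [MulAut.conj_apply]; exact ((mem_normalizer_iff.1 g.2) x).symm⟩
  map_one' := Subtype.ext (map_one MulAut.conj)
  map_mul' a b := Subtype.ext (map_mul MulAut.conj (a : G) b)

theorem conjStab_conj (S : Subgroup G) (φ : sylowStab S) (g : normalizer (S : Set G)) :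
    ∃ g' : normalizer (S : Set G), φ * conjStab S g * φ⁻¹ = conjStab S g' := by
  refine ⟨⟨(φ : MulAut G) g, mem_normalizer_iff.2 fun x => ?_⟩, Subtype.ext ?_⟩
  · obtain ⟨y, rfl⟩ := (φ : MulAut G).surjective x
    rw [← map_inv, ← map_mul, ← map_mul, φ.2, φ.2]
    exact mem_normalizer_iff.1 g.2 y
  · show (φ : MulAut G) * MulAut.conj (g : G) * (φ : MulAut G)⁻¹ = MulAut.conj ((φ : MulAut G) g)
    exact MulEquiv.ext fun x => by simp [MulAut.conj_apply]

/-- The image of the normaliser is normalised by the image of the stabiliser. -/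
theorem range_le_normalizer {Y : Type u} [Group Y] (S : Subgroup G) (f : sylowStab S →* Y) :
    f.range ≤ normalizer ((f.comp (conjStab S)).range : Set Y) := by
  have key : ∀ φ : sylowStab S, ∀ y ∈ (f.comp (conjStab S)).range,
      f φ * y * (f φ)⁻¹ ∈ (f.comp (conjStab S)).range := by
    rintro φ _ ⟨g, rfl⟩
    obtain ⟨g', hg'⟩ := conjStab_conj S φ g
    exact ⟨g', by rw [MonoidHom.comp_apply, MonoidHom.comp_apply, ← hg', map_mul, map_mul, map_inv]⟩
  rintro _ ⟨φ, rfl⟩
  refine mem_normalizer_iff.2 fun y => ⟨key φ y, fun h => ?_⟩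
  have := key φ⁻¹ _ h
  rwa [map_inv, inv_inv, mul_assoc, inv_mul_cancel_right, inv_mul_cancel_left] at this

theorem odd_card_range {Y : Type u} [Group Y] (S : Sylow 2 G)
    (f : sylowStab (S : Subgroup G) →* Y)
    (htriv : ∀ g : normalizer ((S : Subgroup G) : Set G), (g : G) ∈ (S : Subgroup G) →
      f (conjStab (S : Subgroup G) g) = 1) :
    Odd (Nat.card (f.comp (conjStab (S : Subgroup G))).range) := by
  haveI := Fact.mk Nat.prime_two
  haveI : ((S : Subgroup G).subgroupOf (normalizer ((S : Subgroup G) : Set G))).Normal :=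
    Subgroup.normal_in_normalizer
  have hd : Nat.card (f.comp (conjStab (S : Subgroup G))).range ∣
      (S : Subgroup G).relIndex (normalizer ((S : Subgroup G) : Set G)) := by
    rw [← Subgroup.index_ker]
    exact Subgroup.index_dvd_of_le fun g hg => MonoidHom.mem_ker.2 (htriv g hg)
  refine Odd.of_dvd_nat ?_ (hd.trans (Subgroup.relIndex_dvd_index_of_le Subgroup.le_normalizer))
  rw [Nat.odd_iff, ← Nat.two_dvd_ne_zero]
  exact S.not_dvd_index

theorem isSolvable_range {W P : Type u} [Group W] [Group P] [Finite P] [Finite W]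
    {M : Type u} [Group M] (f : M →* MulAut P) (g : MulAut P →* MulAut W) (hker : IsPGroup 2 g.ker)
    (himg : Group.IsSolvable (g.comp f).range) : Group.IsSolvable f.range := by
  haveI := Fact.mk Nat.prime_two
  haveI := himg
  let ψ : f.range →* (g.comp f).range :=
    (g.comp f.range.subtype).codRestrict _ (by rintro ⟨_, a, rfl⟩; exact ⟨a, rfl⟩)
  haveI : Group.IsSolvable g.ker := solvable_of_isPGroup hker
  haveI : Group.IsSolvable ψ.ker := Group.isSolvable_of_isSolvable_injective
    (f := (f.range.subtype.comp ψ.ker.subtype).codRestrict g.ker fun x =>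
      MonoidHom.mem_ker.2 (congrArg Subtype.val (MonoidHom.mem_ker.1 x.2)))
    fun a b h => Subtype.ext (Subtype.ext (congrArg (fun c : g.ker => (c : MulAut P)) h))
  exact Group.isSolvable_of_ker_le_range ψ.ker.subtype ψ (by rw [Subgroup.range_subtype])

/-- The action of the stabiliser on the Frattini quotient. -/
noncomputable def onFrattini (S : Subgroup G) : sylowStab S →* MulAut (S ⧸ frattini S) :=
  (CfsgLib.PGroup.MetaTwo.frAut (R := S)).comp (sylowRestr S)

theorem solvable_small {W : Type u} [Group W] [Finite W] (h : Nat.card W ≤ 4)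
    (H : Subgroup (MulAut W)) : Group.IsSolvable H := by
  apply CfsgLib.GW.solvable_of_small
  have h1 : Nat.card H ≤ Nat.card (Equiv.Perm W) :=
    Nat.card_le_card_of_injective (fun x : H => (x : MulAut W).toEquiv)
      fun a b hab => Subtype.ext (MulEquiv.ext fun x => congrFun (congrArg DFunLike.coe hab) x)
  rw [Nat.card_perm] at h1
  have h2 := Nat.factorial_le h
  have h4 : Nat.factorial 4 = 24 := rfl
  omega

theorem onFrattini_range_solvable (S : Sylow 2 G)
    (h : Nat.card ((S : Subgroup G) ⧸ frattini (S : Subgroup G)) ≤ 4 ∨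
      (Nat.card ((S : Subgroup G) ⧸ frattini (S : Subgroup G)) ≤ 8 ∧
        ∃ g ∈ normalizer ((S : Subgroup G) : Set G), Odd (orderOf g) ∧
          g ∉ centralizer ((S : Subgroup G) : Set G))) :
    Group.IsSolvable (onFrattini (S : Subgroup G)).range := by
  haveI := Fact.mk Nat.prime_two
  have hP : IsPGroup 2 (S : Subgroup G) := S.isPGroup'
  rcases h with h | ⟨h8, g, hg, hgo, hgc⟩
  · exact solvable_small h _
  set V := (S : Subgroup G) ⧸ frattini (S : Subgroup G)
  have hVp : IsPGroup 2 V := hP.to_quotient _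
  obtain ⟨n, hn⟩ := hVp.exists_card_eq
  by_cases hn3 : n ≤ 2
  · exact solvable_small (hn ▸ (Nat.pow_le_pow_right (by norm_num) hn3 : 2 ^ n ≤ 2 ^ 2)) _
  have hn' : n = 3 := by
    have : n < 4 := (Nat.pow_lt_pow_iff_right (a := 2) (by norm_num)).1 (by omega)
    omega
  subst hn'
  have hsq : ∀ v : V, v * v = 1 := by
    intro v
    obtain ⟨x, rfl⟩ := QuotientGroup.mk_surjective v
    rw [← QuotientGroup.mk_mul, QuotientGroup.eq_one_iff, ← pow_two]
    exact CfsgLib.Coprime.pow_mem_frattini hP x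
  letI : CommGroup V :=
    { (inferInstance : Group V) with
      mul_comm := fun a b => by
        have ha := eq_inv_of_mul_eq_one_left (hsq a)
        have hb := eq_inv_of_mul_eq_one_left (hsq b)
        have hab := eq_inv_of_mul_eq_one_left (hsq (a * b))
        rw [mul_inv_rev, ← ha, ← hb] at hab
        exact hab }
  have hA : Nat.card (MulAut V) = 168 :=
    CfsgLib.Bender.OddQuot.GLThree.card_mulAut hsq (hn.trans (by norm_num))
  set Q := (onFrattini (S : Subgroup G)).range
  set I := ((onFrattini (S : Subgroup G)).comp (conjStab (S : Subgroup G))).range with hI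
  have hIQ : I ≤ Q := by rintro _ ⟨x, rfl⟩; exact ⟨_, rfl⟩
  have hQn : Q ≤ normalizer (I : Set (MulAut V)) := range_le_normalizer _ _
  have hodd : Odd (Nat.card I) := odd_card_range S _ fun x hx => by
    refine MulEquiv.ext fun v => ?_
    obtain ⟨y, rfl⟩ := QuotientGroup.mk_surjective v
    have hxy : sylowRestr (S : Subgroup G) (conjStab (S : Subgroup G) x) y =
        (⟨x, hx⟩ : (S : Subgroup G)) * y * (⟨x, hx⟩ : (S : Subgroup G))⁻¹ := Subtype.ext rfl
    show ((sylowRestr (S : Subgroup G) (conjStab (S : Subgroup G) x) y : (S : Subgroup G)) : V) = y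
    rw [hxy, QuotientGroup.mk_mul, QuotientGroup.mk_mul, QuotientGroup.mk_inv]
    exact mul_inv_eq_iff_eq_mul.2 (mul_comm _ _)
  have hne : 3 ≤ Nat.card I := by
    by_contra hlt
    have h1 : Nat.card I = 1 := by
      rcases hodd with ⟨k, hk⟩
      omega
    set σ := sylowRestr (S : Subgroup G) (conjStab (S : Subgroup G) ⟨g, hg⟩) with hσ
    have hmem : onFrattini (S : Subgroup G) (conjStab (S : Subgroup G) ⟨g, hg⟩) ∈ I := ⟨_, rfl⟩
    rw [Subgroup.card_eq_one.1 h1, Subgroup.mem_bot] at hmem
    obtain ⟨a, ha⟩ := CfsgLib.PGroup.MetaTwo.isPGroup_ker_frAut hP ⟨σ, MonoidHom.mem_ker.2 hmem⟩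
    have ha' : σ ^ 2 ^ a = 1 := congrArg Subtype.val ha
    have ho : orderOf σ ∣ orderOf g := by
      have h2 : orderOf (⟨g, hg⟩ : normalizer ((S : Subgroup G) : Set G)) = orderOf g :=
        Subgroup.orderOf_mk g hg
      rw [← h2, hσ]
      exact (orderOf_map_dvd ((sylowRestr (S : Subgroup G)).comp (conjStab (S : Subgroup G))) _)
    have hσ1 : orderOf σ = 1 := Nat.eq_one_of_dvd_coprimes
      ((Nat.coprime_two_left.2 hgo).pow_left a) (orderOf_dvd_of_pow_eq_one ha') ho
    rw [orderOf_eq_one_iff] at hσ1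
    refine hgc (mem_centralizer_iff.2 fun s hs => ?_)
    have h3 := congrArg (fun c : MulAut (S : Subgroup G) => ((c ⟨s, hs⟩ : (S : Subgroup G)) : G)) hσ1
    change g * s * g⁻¹ = s at h3
    exact (mul_inv_eq_iff_eq_mul.1 h3).symm
  haveI : (I.subgroupOf Q).Normal := Subgroup.normal_subgroupOf_of_le_normalizer hQn
  have hQc : Nat.card Q ≤ 168 := hA ▸ Subgroup.card_le_card_group Q
  have hIc : Nat.card (I.subgroupOf Q) = Nat.card I :=
    Nat.card_congr (Subgroup.subgroupOfEquivOfLe hIQ).toEquiv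
  have hIs : Nat.card I ≤ 21 := by
    have hdvd : Nat.card I ∣ 168 := hA ▸ Subgroup.card_subgroup_dvd_card I
    have h21 : Nat.card I ∣ 21 := Nat.Coprime.dvd_of_dvd_mul_left
      ((Nat.coprime_two_right.2 hodd).pow_right 3) (by norm_num; exact hdvd)
    exact Nat.le_of_dvd (by norm_num) h21
  haveI : Group.IsSolvable (I.subgroupOf Q) := CfsgLib.GW.solvable_of_small (by omega)
  haveI : Group.IsSolvable (Q ⧸ I.subgroupOf Q) := by
    refine CfsgLib.GW.solvable_of_small ?_
    have := Subgroup.card_eq_card_quotient_mul_card_subgroup (I.subgroupOf Q)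
    rw [hIc] at this
    have h3 : 3 * Nat.card (Q ⧸ I.subgroupOf Q) ≤ 168 := by
      calc _ ≤ Nat.card I * Nat.card (Q ⧸ I.subgroupOf Q) := Nat.mul_le_mul_right _ hne
        _ = Nat.card Q := by rw [this, mul_comm]
        _ ≤ 168 := hQc
    omega
  exact Group.isSolvable_of_ker_le_range (I.subgroupOf Q).subtype (QuotientGroup.mk' (I.subgroupOf Q))
    (by rw [QuotientGroup.ker_mk', Subgroup.range_subtype])

theorem out_solvable_gen [IsSimpleGroup G] (S : Sylow 2 G) (hS : (S : Subgroup G) ≠ ⊥)
    (h : (∃ a b : (S : Subgroup G), closure ({a, b} : Set (S : Subgroup G)) = ⊤) ∨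
      ((∃ a b c : (S : Subgroup G), closure ({a, b, c} : Set (S : Subgroup G)) = ⊤) ∧
        ∃ g ∈ normalizer ((S : Subgroup G) : Set G), Odd (orderOf g) ∧
          g ∉ centralizer ((S : Subgroup G) : Set G))) :
    Group.IsSolvable (Cfsg.Out G) := by
  classical
  haveI := Fact.mk Nat.prime_two
  refine out_solvable_of_range oddSolvable S hS
    (isSolvable_range _ (CfsgLib.PGroup.MetaTwo.frAut (R := (S : Subgroup G)))
      (CfsgLib.PGroup.MetaTwo.isPGroup_ker_frAut S.isPGroup') ?_)
  refine onFrattini_range_solvable S (h.imp ?_ ?_)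
  · rintro ⟨a, b, hab⟩
    refine (card_quot_frattini_le S.isPGroup' {a, b} (by simpa using hab)).trans ?_
    exact (Nat.pow_le_pow_right (by norm_num) Finset.card_le_two).trans (by norm_num)
  · rintro ⟨⟨a, b, c, habc⟩, hg⟩
    refine ⟨(card_quot_frattini_le S.isPGroup' {a, b, c} (by simpa using habc)).trans ?_, hg⟩
    exact (Nat.pow_le_pow_right (by norm_num) Finset.card_le_three).trans (by norm_num)

theorem isSolvable_of_cyclic_ker {A B : Type*} [Group A] [CommGroup B] (φ : A →* B)
    (hc : IsCyclic φ.ker) : Group.IsSolvable A :=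
  haveI := hc
  haveI : Group.IsSolvable φ.ker :=
    letI : CommGroup φ.ker := IsCyclic.commGroup
    Group.isSolvable_of_comm mul_comm
  haveI : Group.IsSolvable B := Group.isSolvable_of_comm mul_comm
  Group.isSolvable_of_ker_le_range φ.ker.subtype φ (by rw [Subgroup.range_subtype])

theorem out_congr {A B : Type*} [Group A] [Group B] (e : A ≃* B) :
    Nonempty (Cfsg.Out A ≃* Cfsg.Out B) := by
  refine ⟨QuotientGroup.congr (Cfsg.Inn A) (Cfsg.Inn B) (MulAut.congr e) (le_antisymm ?_ ?_)⟩
  · rintro _ ⟨_, ⟨g, rfl⟩, rfl⟩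
    exact ⟨e g, MulEquiv.ext fun x => by simp [MulAut.congr, MulAut.conj_apply]⟩
  · rintro _ ⟨h, rfl⟩
    exact ⟨_, ⟨e.symm h, rfl⟩, MulEquiv.ext fun x => by simp [MulAut.congr, MulAut.conj_apply]⟩

theorem out_solvable_se [IsSimpleGroup G] {H : Subgroup G} (hH : Cfsg.IsStronglyEmbedded H) :
    Group.IsSolvable (Cfsg.Out G) := by
  haveI := Fact.mk Nat.prime_two
  rcases CfsgLib.Bender.Suzuki.isoFamilies_of_se CfsgLib.Bender.Suzuki.classified hH with
    ⟨F, iF, iFt, ⟨n, hn, hF⟩, ⟨e⟩⟩ | ⟨F, iF, iFt, m, hm, hF, ⟨e⟩⟩ | ⟨F, iF, iFt, n, hn, hF, ⟨e⟩⟩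
  all_goals obtain ⟨e'⟩ := out_congr e
  · obtain ⟨φ, -, hc, -⟩ := Cfsg.Agent.S2602.result (p := 2) (f := n) (by omega) hF
      ((by norm_num : 4 = 2 ^ 2).le.trans (Nat.pow_le_pow_right (by norm_num) hn))
    haveI := isSolvable_of_cyclic_ker φ hc
    exact Group.isSolvable_of_isSolvable_injective (f := e'.toMonoidHom) e'.injective
  · have hc := Cfsg.Agent.S2126.result hm hF
    haveI : Finite (Cfsg.Out G) := inferInstance
    refine oddSolvable _ ?_
    rw [Nat.card_congr e'.toEquiv, hc]
    exact ⟨m, rfl⟩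
  · obtain ⟨φ, -, hc, -⟩ := Cfsg.Agent.S2603.result (p := 2) (f := n) (n := 3) (by omega) rfl hF
      le_rfl (fun h => by
        have := Nat.pow_le_pow_right (show 0 < 2 by norm_num) hn
        omega)
    haveI := isSolvable_of_cyclic_ker φ hc
    exact Group.isSolvable_of_isSolvable_injective (f := e'.toMonoidHom) e'.injective

/-- The involutions and the identity of an abelian group. -/
def omegaTwo (P : Type u) [CommGroup P] : Subgroup P where
  carrier := {x | x * x = 1}
  one_mem' := mul_one 1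
  mul_mem' := fun {a b} ha hb => by
    show a * b * (a * b) = 1
    rw [mul_mul_mul_comm, show a * a = 1 from ha, show b * b = 1 from hb, mul_one]
  inv_mem' := fun {a} ha => by
    show a⁻¹ * a⁻¹ = 1
    rw [← mul_inv, show a * a = 1 from ha, inv_one]

/-- Restriction of automorphisms to the involutions. -/
def omegaAut (P : Type u) [CommGroup P] : MulAut P →* MulAut (omegaTwo P) where
  toFun σ :=
    { toFun := fun x => ⟨σ x, show σ x * σ x = 1 by rw [← map_mul, show (x : P) * x = 1 from x.2, map_one]⟩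
      invFun := fun x => ⟨σ.symm x,
        show σ.symm x * σ.symm x = 1 by rw [← map_mul, show (x : P) * x = 1 from x.2, map_one]⟩
      left_inv := fun x => Subtype.ext (σ.symm_apply_apply x)
      right_inv := fun x => Subtype.ext (σ.apply_symm_apply x)
      map_mul' := fun x y => Subtype.ext (map_mul σ (x : P) y) }
  map_one' := rfl
  map_mul' _ _ := rfl

theorem isPGroup_ker_omegaAut {P : Type u} [CommGroup P] [Finite P] (hP : IsPGroup 2 P) :
    IsPGroup 2 (omegaAut P).ker := by
  haveI := Fact.mk Nat.prime_two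
  haveI : Finite (MulAut P) := Finite.of_injective (fun a : MulAut P => (a : P → P))
    DFunLike.coe_injective
  have key : ∀ σ : (omegaAut P).ker, Odd (orderOf σ) → σ = 1 := by
    intro σ ho
    have hfix : ∀ c : P, c * c = 1 → (σ : MulAut P) c = c := fun c hc =>
      congrArg (fun t : MulAut (omegaTwo P) => ((t ⟨c, hc⟩ : omegaTwo P) : P)) (MonoidHom.mem_ker.1 σ.2)
    apply Subtype.ext
    refine MulEquiv.ext fun s => ?_
    obtain ⟨k, hk⟩ := hP s
    induction k generalizing s with
    | zero =>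
      rw [pow_zero, pow_one] at hk
      rw [hk, map_one, OneMemClass.coe_one, MulAut.one_apply]
    | succ k ih =>
      have h2 : (σ : MulAut P) (s * s) = s * s :=
        (ih (s * s) (by rw [← pow_two, ← pow_mul, ← pow_succ', hk])).trans rfl
      set c := (σ : MulAut P) s * s⁻¹ with hc
      have hcc : c * c = 1 := by
        rw [hc, mul_mul_mul_comm, ← map_mul, h2, ← mul_inv, mul_inv_cancel]
      have hj : ∀ j : ℕ, ((σ : MulAut P) ^ j) s = c ^ j * s := by
        intro j
        induction j with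
        | zero => simp
        | succ j ihj =>
          rw [pow_succ', MulAut.mul_apply, ihj, map_mul, map_pow, hfix c hcc, pow_succ, mul_assoc]
          congr 1
          rw [hc, inv_mul_cancel_right]
      have h3 := hj (orderOf σ)
      rw [← SubgroupClass.coe_pow, pow_orderOf_eq_one, OneMemClass.coe_one, MulAut.one_apply] at h3
      have h4 : c ^ orderOf σ = 1 := mul_eq_right.1 h3.symm
      obtain ⟨r, hr⟩ := ho
      rw [hr, pow_succ, pow_mul, pow_two, hcc, one_pow, one_mul] at h4
      rw [OneMemClass.coe_one, MulAut.one_apply]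
      exact mul_inv_eq_one.1 h4
  intro σ
  obtain ⟨a, q, hq, he⟩ := Nat.exists_eq_two_pow_mul_odd (orderOf_pos σ).ne'
  refine ⟨a, key _ ?_⟩
  rw [orderOf_pow' _ (by positivity), he, Nat.gcd_eq_right (dvd_mul_right _ _),
    Nat.mul_div_cancel_left _ (by positivity)]
  exact hq

theorem out_solvable_abelian [IsSimpleGroup G] (S : Sylow 2 G) (hS : (S : Subgroup G) ≠ ⊥)
    (hab : IsMulCommutative (S : Subgroup G))
    (hconj : ∀ s ∈ S, ∀ t ∈ S, orderOf s = 2 → orderOf t = 2 → ∃ g : G, g * s * g⁻¹ = t) :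
    Group.IsSolvable (Cfsg.Out G) := by
  haveI := Fact.mk Nat.prime_two
  haveI := hab
  letI : CommGroup (S : Subgroup G) :=
    { (inferInstance : Group (S : Subgroup G)) with mul_comm := fun a b => isMulCommutative_iff.1 hab a b }
  refine out_solvable_of_range oddSolvable S hS
    (isSolvable_range _ (omegaAut (S : Subgroup G)) (isPGroup_ker_omegaAut S.isPGroup') ?_)
  haveI : Nontrivial (omegaTwo (S : Subgroup G)) := by
    obtain ⟨k, hk⟩ := S.isPGroup'.exists_card_eq
    have hk0 : k ≠ 0 := fun h => hS (by rw [← Subgroup.card_eq_one, hk, h, pow_zero])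
    obtain ⟨x, hx⟩ := exists_prime_orderOf_dvd_card' (G := (S : Subgroup G)) 2
      (hk ▸ dvd_pow_self 2 hk0)
    have hx2 : x * x = 1 := by
      have := pow_orderOf_eq_one x
      rwa [hx, pow_two] at this
    refine ⟨⟨⟨x, hx2⟩, 1, fun h => ?_⟩⟩
    have h1 : x = 1 := congrArg Subtype.val h
    rw [h1, orderOf_one] at hx
    norm_num at hx
  refine isSolvable_of_odd_transitive oddSolvable (fun v => Subtype.ext v.2) _
    (((omegaAut (S : Subgroup G)).comp (sylowRestr (S : Subgroup G))).comp
      (conjStab (S : Subgroup G))).range (range_le_normalizer _ _)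
    (odd_card_range S _ fun x hx => ?_) ?_
  · refine MulEquiv.ext fun v => Subtype.ext (Subtype.ext ?_)
    show (x : G) * ((v : (S : Subgroup G)) : G) * (x : G)⁻¹ = _
    have := congrArg Subtype.val (mul_comm (⟨x, hx⟩ : (S : Subgroup G)) (v : (S : Subgroup G)))
    simp only [Subgroup.coe_mul] at this
    rw [this, mul_inv_cancel_right]
    rfl
  · intro v w hv hw
    have hord : ∀ z : omegaTwo (S : Subgroup G), z ≠ 1 → orderOf ((z : (S : Subgroup G)) : G) = 2 :=
      fun z hz => orderOf_eq_prime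
        (by rw [pow_two, ← Subgroup.coe_mul, show (z : (S : Subgroup G)) * z = 1 from z.2,
          OneMemClass.coe_one])
        (fun h => hz (Subtype.ext (Subtype.ext h)))
    obtain ⟨g, hg⟩ := hconj _ (v : (S : Subgroup G)).2 _ (w : (S : Subgroup G)).2 (hord v hv) (hord w hw)
    obtain ⟨n, hn, he⟩ := Sylow.conj_eq_normalizer_conj_of_mem S
      (((v : (S : Subgroup G))) : G) g⁻¹ (v : (S : Subgroup G)).2
      (by rw [inv_inv, hg]; exact (w : (S : Subgroup G)).2)
    rw [inv_inv] at he
    refine ⟨_, ⟨⟨n⁻¹, inv_mem hn⟩, rfl⟩, Subtype.ext (Subtype.ext ?_)⟩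
    show n⁻¹ * ((v : (S : Subgroup G)) : G) * n⁻¹⁻¹ = _
    rw [inv_inv, ← he, hg]

/-- **S3066**, given Goldschmidt's theorem. -/
theorem out_solvable_criteria
    (hgold : ∀ (H : Type u) [Group H] [Finite H] [IsSimpleGroup H] (S : Sylow 2 H) (A : Subgroup H),
      A ≠ ⊥ → IsMulCommutative A → Cfsg.IsStronglyClosed A (S : Subgroup H) →
      IsMulCommutative (S : Subgroup H) ∨ ∃ K : Subgroup H, Cfsg.IsStronglyEmbedded K)
    [IsSimpleGroup G] (S : Sylow 2 G) (hS1 : (S : Subgroup G) ≠ ⊥)
    (h : (∃ a b : (S : Subgroup G), Subgroup.closure ({a, b} : Set (S : Subgroup G)) = ⊤) ∨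
      ((∃ a b c : (S : Subgroup G), Subgroup.closure ({a, b, c} : Set (S : Subgroup G)) = ⊤) ∧
        ∃ g ∈ Subgroup.normalizer ((S : Subgroup G) : Set G), Odd (orderOf g) ∧
          g ∉ Subgroup.centralizer ((S : Subgroup G) : Set G)) ∨
      ((∀ s ∈ S, ∀ t ∈ S, orderOf s = 2 → orderOf t = 2 → s * t = t * s) ∧
        (∀ s ∈ S, ∀ t ∈ S, orderOf s = 2 → orderOf t = 2 → ∃ g : G, g * s * g⁻¹ = t))) :
    Group.IsSolvable (Cfsg.Out G) := by
  haveI := Fact.mk Nat.prime_two
  rcases h with h | h | ⟨hcomm, hconj⟩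
  · exact out_solvable_gen S hS1 (Or.inl h)
  · exact out_solvable_gen S hS1 (Or.inr h)
  have hc : ∀ a b : G, a ∈ S → b ∈ S → a * a = 1 → b * b = 1 → a * b = b * a := by
    intro a b ha hb ha2 hb2
    by_cases ha1 : a = 1
    · simp [ha1]
    by_cases hb1 : b = 1
    · simp [hb1]
    exact hcomm a ha b hb (orderOf_eq_prime (by rwa [pow_two]) ha1)
      (orderOf_eq_prime (by rwa [pow_two]) hb1)
  let A : Subgroup G :=
    { carrier := {x | x ∈ S ∧ x * x = 1}
      one_mem' := ⟨one_mem (S : Subgroup G), mul_one 1⟩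
      mul_mem' := fun {a b} ha hb => ⟨mul_mem ha.1 hb.1, by
        calc a * b * (a * b) = a * (b * a) * b := by simp [mul_assoc]
          _ = a * a * (b * b) := by rw [← hc a b ha.1 hb.1 ha.2 hb.2]; simp [mul_assoc]
          _ = 1 := by rw [ha.2, hb.2, mul_one]⟩
      inv_mem' := fun {a} ha => by
        rw [← eq_inv_of_mul_eq_one_left ha.2]; exact ha }
  have hA : A ≠ ⊥ := by
    intro hbot
    obtain ⟨k, hk⟩ := S.isPGroup'.exists_card_eq
    have hk0 : k ≠ 0 := fun h => hS1 (by rw [← Subgroup.card_eq_one, hk, h, pow_zero])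
    obtain ⟨x, hx⟩ := exists_prime_orderOf_dvd_card' (G := (S : Subgroup G)) 2
      (hk ▸ dvd_pow_self 2 hk0)
    have hx2 : (x : G) * x = 1 := by
      have := pow_orderOf_eq_one x
      rw [hx, pow_two] at this
      rw [← Subgroup.coe_mul, this, OneMemClass.coe_one]
    have : (x : G) ∈ A := ⟨x.2, hx2⟩
    rw [hbot, Subgroup.mem_bot, OneMemClass.coe_eq_one] at this
    rw [this, orderOf_one] at hx
    norm_num at hx
  rcases hgold G S A hA
      (isMulCommutative_iff.2 fun a b => Subtype.ext (hc a b a.2.1 b.2.1 a.2.2 b.2.2))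
      ⟨fun x hx => hx.1, fun x hx g hg => ⟨hg, by
        rw [show g * x * g⁻¹ * (g * x * g⁻¹) = g * (x * x) * g⁻¹ by group, hx.2, mul_one,
          mul_inv_cancel]⟩⟩ with hab | ⟨K, hK⟩
  · exact out_solvable_abelian S hS1 hab hconj
  · exact out_solvable_se hK

end CfsgLib.Invol.OutCriteria
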