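import Cfsg.Agent.Lib.OddConseq.OddTransitive
import Cfsg.Agent.Lib.Char.TransLinear.Semilinear
import Cfsg.Agent.Lib.Coprime.Component

/-!
# Normalisers of transitive linear groups of odd order

The normaliser in `GL(n, 2)` of a group of odd order transitive on the nonzero vectors is solvable.
-/

set_option autoImplicit false
set_option linter.style.haveILetI false

namespace CfsgLib.Invol.OutCriteria

open Subgroup CfsgLib.Char

universe u

variable {V : Type u} [CommGroup V] [Finite V]

/-- A group of automorphisms of an elementary abelian 2-group normalising an odd group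
transitive on the nonidentity elements is solvable. -/
theorem isSolvable_of_odd_transitive (hFT : CfsgLib.OddConseq.OddSolvable.{u}) (hexp : ∀ v : V, v * v = 1)
    [Nontrivial V] (Q I : Subgroup (MulAut V)) (hn : Q ≤ normalizer (I : Set (MulAut V)))
    (hodd : Odd (Nat.card I)) (htr : ∀ v w : V, v ≠ 1 → w ≠ 1 → ∃ g ∈ I, g v = w) :
    Group.IsSolvable Q := by
  classical
  haveI := Fact.mk Nat.prime_two
  haveI : Finite (Additive V) := Finite.of_equiv V Additive.ofMul
  letI : Module (ZMod 2) (Additive V) := AddCommGroup.zmodModule fun v => by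
    apply Additive.toMul.injective
    rw [toMul_nsmul, toMul_zero, pow_two]
    exact hexp _
  let lin : MulAut V →* (Additive V ≃ₗ[ZMod 2] Additive V) :=
    { toFun := fun g =>
        { toFun := fun v => Additive.ofMul (g v.toMul)
          invFun := fun v => Additive.ofMul (g.symm v.toMul)
          left_inv := fun v => by simp
          right_inv := fun v => by simp
          map_add' := fun a c => congrArg Additive.ofMul (map_mul g a.toMul c.toMul)
          map_smul' := ZMod.map_smul (F := Additive V →+ Additive V)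
            (MonoidHom.toAdditive g.toMonoidHom) }
      map_one' := rfl
      map_mul' := fun _ _ => rfl }
  have hlin : Function.Injective lin := fun a b h =>
    MulEquiv.ext fun x => congrArg Additive.toMul (LinearEquiv.congr_fun h (Additive.ofMul x))
  let ρ : I →* (Additive V ≃ₗ[ZMod 2] Additive V) := lin.comp I.subtype
  have hρ : Function.Injective ρ := hlin.comp I.subtype_injective
  have htrans : ∀ v w : Additive V, v ≠ 0 → w ≠ 0 → ∃ g : I, ρ g v = w := by
    intro v w hv hw
    obtain ⟨g, hg, he⟩ := htr v.toMul w.toMul (fun h => hv (Additive.toMul.injective h))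
      (fun h => hw (Additive.toMul.injective h))
    exact ⟨⟨g, hg⟩, congrArg Additive.ofMul he⟩
  haveI : Group.IsSolvable I := hFT I hodd
  obtain ⟨hcyc, -, -⟩ := CfsgLib.OddConseq.odd_transitive_structure ρ hodd hρ htrans
  set F := Cfsg.fittingSubgroup I with hF
  haveI hFn : F.Normal := CfsgLib.Coprime.fitting_normal
  haveI := hcyc
  letI : CommGroup F := IsCyclic.commGroup
  have hFc : ∀ a ∈ F, ∀ b ∈ F, a * b = b * a := fun a ha b hb =>
    congrArg Subtype.val (mul_comm (⟨a, ha⟩ : F) ⟨b, hb⟩)
  have hCF : centralizer (F : Set I) ≤ F := CfsgLib.Coprime.centralizer_fitting_le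
  obtain ⟨k, m, hk, hm, hKc, hVc, hAd, hGd⟩ := spanAlg_data ρ htrans hρ F hFc
  have hm1 : m = 1 := by
    by_contra hm1
    have h1 : Nat.card I ≤ k * (2 ^ k - 1) := by
      have hk2 : 0 < 2 ^ k - 1 := Nat.sub_pos_of_lt (Nat.one_lt_two_pow (by omega))
      have h2 : Nat.card (centralizer (F : Set I)) ≤ 2 ^ k - 1 :=
        (Nat.card_le_card_of_injective (Subgroup.inclusion hCF)
          (Subgroup.inclusion_injective hCF)).trans (Nat.le_of_dvd hk2 hAd)
      have h3 : Nat.card I ≤ k * Nat.card (centralizer (F : Set I)) :=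
        Nat.le_of_dvd (Nat.mul_pos hk Nat.card_pos) hGd
      exact h3.trans (Nat.mul_le_mul_left k h2)
    have h4 : (2 ^ k) ^ 2 - 1 ≤ Nat.card I := by
      refine le_trans ?_ (Nat.le_of_dvd Nat.card_pos
        (card_sub_one_dvd_of_transitive ρ htrans))
      rw [hVc]
      exact Nat.sub_le_sub_right (Nat.pow_le_pow_right Nat.one_le_two_pow (by omega)) 1
    have h5 : k < 2 ^ k := Nat.lt_two_pow_self
    have h6 : (2 ^ k) ^ 2 - 1 = (2 ^ k + 1) * (2 ^ k - 1) := by
      have := Nat.sq_sub_sq (2 ^ k) 1
      simpa using this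
    rw [h6] at h4
    have h7 : 0 < 2 ^ k - 1 := Nat.sub_pos_of_lt (Nat.one_lt_two_pow (by omega))
    have h8 := Nat.le_of_mul_le_mul_right (h4.trans h1) h7
    omega
  subst hm1
  rw [pow_one] at hVc
  have hfld := spanAlg_isField ρ htrans F hFc
  obtain ⟨v₀, hv₀⟩ := exists_ne (0 : Additive V)
  set K := spanAlg ρ F with hK
  haveI := finite_moduleEnd (q := 2) (V := Additive V)
  have hev : Function.Bijective fun r : K => (r : Module.End (ZMod 2) (Additive V)) v₀ := by
    refine (Nat.bijective_iff_injective_and_card _).2 ⟨fun r s h => ?_, by rw [hKc, hVc]⟩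
    by_contra hne
    obtain ⟨u, hu⟩ := hfld.mul_inv_cancel (sub_ne_zero.2 hne)
    rw [hfld.mul_comm] at hu
    have h0 : ((r - s : K) : Module.End (ZMod 2) (Additive V)) v₀ = 0 := by
      show (r : Module.End (ZMod 2) (Additive V)) v₀ - (s : Module.End (ZMod 2) (Additive V)) v₀ = 0
      exact sub_eq_zero.2 h
    have := congrArg (fun t : K => (t : Module.End (ZMod 2) (Additive V)) v₀) hu
    simp only [MulMemClass.coe_mul, Module.End.mul_apply, h0, map_zero, OneMemClass.coe_one,
      Module.End.one_apply] at this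
    exact hv₀ this.symm
  have hcomm : ∀ φ : MulAut V, (∀ f : I, f ∈ F → φ * (f : MulAut V) = (f : MulAut V) * φ) →
      ∀ r ∈ K, Commute ((lin φ : Additive V →ₗ[ZMod 2] Additive V) :
        Module.End (ZMod 2) (Additive V)) r := by
    intro φ hφ r hr
    rw [hK, spanAlg] at hr
    refine Algebra.adjoin_induction
      (p := fun r _ => Commute ((lin φ : Additive V →ₗ[ZMod 2] Additive V) :
        Module.End (ZMod 2) (Additive V)) r) ?_ ?_ ?_ ?_ hr
    · rintro _ ⟨f, hf, rfl⟩
      refine LinearMap.ext fun v => ?_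
      show Additive.ofMul (φ ((f : MulAut V) v.toMul)) = Additive.ofMul ((f : MulAut V) (φ v.toMul))
      exact congrArg Additive.ofMul (congrArg (fun (g : MulAut V) => g v.toMul) (hφ f hf))
    · exact fun c => Algebra.commute_algebraMap_right c _
    · exact fun _ _ _ _ h₁ h₂ => h₁.add_right h₂
    · exact fun _ _ _ _ h₁ h₂ => h₁.mul_right h₂
  have hscalar : ∀ φ : MulAut V, (∀ f : I, f ∈ F → φ * (f : MulAut V) = (f : MulAut V) * φ) →
      ∃ r : K, ((lin φ : Additive V →ₗ[ZMod 2] Additive V) :
        Module.End (ZMod 2) (Additive V)) = (r : Module.End (ZMod 2) (Additive V)) := by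
    intro φ hφ
    obtain ⟨r, hr⟩ := hev.2 (lin φ v₀)
    refine ⟨r, LinearMap.ext fun v => ?_⟩
    obtain ⟨s, rfl⟩ := hev.2 v
    have h1 := LinearMap.congr_fun (hcomm φ hφ _ s.2).eq v₀
    have h2 := LinearMap.congr_fun (commute_in_spanAlg ρ hFc r.2 s.2).eq v₀
    simp only [Module.End.mul_apply] at h1 h2
    show lin φ ((s : Module.End (ZMod 2) (Additive V)) v₀) = _
    rw [h2]
    exact h1.trans (congrArg _ hr.symm)
  have hconj : ∀ φ : Q, ∀ f : I, f ∈ F →
      ∃ g : I, g ∈ F ∧ (g : MulAut V) = (φ : MulAut V) * (f : MulAut V) * (φ : MulAut V)⁻¹ := by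
    intro φ f hf
    have hφ := mem_normalizer_iff.1 (hn φ.2)
    let c : MulAut I :=
      { toFun := fun x => ⟨_, (hφ (x : MulAut V)).1 x.2⟩
        invFun := fun x => ⟨(φ : MulAut V)⁻¹ * x * (φ : MulAut V), (hφ _).2 (by
          simp [mul_assoc])⟩
        left_inv := fun x => Subtype.ext (by simp [mul_assoc])
        right_inv := fun x => Subtype.ext (by simp [mul_assoc])
        map_mul' := fun x y => Subtype.ext (by simp [mul_assoc]) }
    haveI : F.Characteristic := CfsgLib.Coprime.fitting_characteristic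
    exact ⟨c f, Subgroup.characteristic_iff_map_le.1 inferInstance c ⟨f, hf, rfl⟩, rfl⟩
  let FV : Subgroup (MulAut V) := F.map I.subtype
  have hQFV : ∀ φ : Q, (φ : MulAut V) ∈ normalizer (FV : Set (MulAut V)) := by
    intro φ
    rw [mem_normalizer_iff]
    intro x
    constructor
    · rintro ⟨f, hf, rfl⟩
      obtain ⟨g, hg, he⟩ := hconj φ f hf
      exact ⟨g, hg, he⟩
    · rintro ⟨f, hf, he⟩
      obtain ⟨g, hg, he'⟩ := hconj φ⁻¹ f hf
      refine ⟨g, hg, ?_⟩
      change (f : MulAut V) = (φ : MulAut V) * x * (φ : MulAut V)⁻¹ at he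
      change (g : MulAut V) = x
      rw [he', he]
      simp [mul_assoc]
  let act : Q →* MulAut FV := (normalizerMonoidHom FV).comp (inclusion fun x hx => hQFV ⟨x, hx⟩)
  haveI : IsCyclic FV :=
    (equivMapOfInjective F I.subtype I.subtype_injective).isCyclic.1 hcyc
  have hker : ∀ φ : Q, φ ∈ act.ker → ∀ f : I, f ∈ F →
      (φ : MulAut V) * (f : MulAut V) = (f : MulAut V) * (φ : MulAut V) := by
    intro φ hφ f hf
    have h := congrArg (fun (c : MulAut FV) => ((c ⟨(f : MulAut V), ⟨f, hf, rfl⟩⟩ : FV) : MulAut V))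
      (MonoidHom.mem_ker.1 hφ)
    change (φ : MulAut V) * (f : MulAut V) * (φ : MulAut V)⁻¹ = (f : MulAut V) at h
    exact mul_inv_eq_iff_eq_mul.1 h
  haveI : Group.IsSolvable act.ker := by
    refine Group.isSolvable_of_comm fun a b => ?_
    obtain ⟨r, hr⟩ := hscalar _ (hker a a.2)
    obtain ⟨s, hs⟩ := hscalar _ (hker b b.2)
    apply Subtype.ext
    apply Subtype.ext
    apply hlin
    rw [Subgroup.coe_mul, Subgroup.coe_mul, Subgroup.coe_mul, Subgroup.coe_mul, map_mul, map_mul]
    apply LinearEquiv.toLinearMap_injective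
    show (lin ((a : Q) : MulAut V) : Additive V →ₗ[ZMod 2] Additive V) *
        (lin ((b : Q) : MulAut V) : Additive V →ₗ[ZMod 2] Additive V) =
      (lin ((b : Q) : MulAut V) : Additive V →ₗ[ZMod 2] Additive V) *
        (lin ((a : Q) : MulAut V) : Additive V →ₗ[ZMod 2] Additive V)
    rw [hr, hs]
    exact (commute_in_spanAlg ρ hFc r.2 s.2).eq
  haveI : Group.IsSolvable (MulAut FV) :=
    Group.isSolvable_of_comm fun a b => (IsCyclic.mulAutMulEquiv FV).injective (by
      rw [map_mul, map_mul, mul_comm])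
  exact Group.isSolvable_of_ker_le_range act.ker.subtype act
    (by rw [Subgroup.range_subtype])

end CfsgLib.Invol.OutCriteria
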