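import Cfsg.Agent.Lib.Invol.SEFixed
import Cfsg.Agent.Lib.Invol.KleinPair
import Cfsg.Agent.Lib.CFun.OddTypePBasic
import Cfsg.Agent.Lib.OddConseq.Basic
import Cfsg.Agent.Lib.OddConseq.TwoGenCoreEmbedded
import Cfsg.Agent.Lib.PGroup.FourFree.Reduction
import Cfsg.Agent.Lib.FourFree.Stellmacher.Rows
import Cfsg.Agent.Lib.FourFree.Config.Main
import Cfsg.Agent.Lib.Coprime.Component
import Cfsg.Agent.Lib.Coprime.SquareFixed.Basic
import Cfsg.Agent.Lib.FT.NoMinSimple
import Cfsg.Agent.S0502

/-!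
# Groups whose subgroups of order prime to `p` are nilpotent

For a prime `p > 3` such a group is solvable. A minimal counterexample is simple and does not
involve `S₄`, so it has characteristic 2 type and a solvable strongly embedded subgroup; but all
real elements of odd order are `p`-elements, which excludes strongly embedded subgroups.
-/

set_option autoImplicit false
set_option linter.style.haveILetI false

namespace CfsgLib.Invol.PPrimeNilpotent

open Subgroup MulAction

universe u v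

/-- Every subgroup of order prime to `p` is nilpotent. -/
def PPrimeNil (p : ℕ) (G : Type u) [Group G] : Prop :=
  ∀ H : Subgroup G, (Nat.card ↥H).Coprime p → Group.IsNilpotent ↥H

variable {G : Type u} [Group G] [Finite G] {p : ℕ} [hp : Fact p.Prime]

omit [Finite G] hp in
theorem PPrimeNil.subgroup (h : PPrimeNil p G) (K : Subgroup G) : PPrimeNil p K := fun H hH => by
  haveI := h (H.map K.subtype) (by rwa [card_map_of_injective K.subtype_injective])
  exact Group.nilpotent_of_mulEquiv (H.equivMapOfInjective K.subtype K.subtype_injective).symm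

theorem coprime_of_piNum {n : ℕ} (hn : Coprime.IsPiNum {q | q ≠ p} n) : n.Coprime p :=
  (hp.out.coprime_iff_not_dvd.2 fun h => hn p hp.out h rfl).symm

/-- In a solvable group the images of order prime to `p` are images of Hall subgroups. -/
theorem nilpotent_image {M : Type u} [Group M] [Finite M] (h : PPrimeNil p M)
    (hM : Group.IsSolvable M) {Q : Type v} [Group Q] (f : M →* Q) (hf : Function.Surjective f)
    (hQ : (Nat.card Q).Coprime p) : Group.IsNilpotent Q := by
  haveI := hM
  obtain ⟨L, -, hL1, hL2⟩ := Coprime.exists_hallIn {q | q ≠ p} (L := (⊤ : Subgroup M)) inferInstance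
  rw [relIndex_top_right] at hL2
  have htop : L.map f = ⊤ := by
    refine index_eq_one.1 (Nat.eq_one_iff_not_exists_prime_dvd.2 fun q hq hd => ?_)
    obtain rfl : q = p := by
      by_contra hne
      exact hL2 q hq (hd.trans (index_map_dvd L hf)) hne
    exact hq.one_lt.ne' (Nat.eq_one_of_dvd_coprimes hQ (hd.trans (index_dvd_card _)) dvd_rfl)
  haveI := h L (coprime_of_piNum hL1)
  refine Group.nilpotent_of_surjective (f.comp L.subtype) fun q => ?_
  obtain ⟨l, hl, rfl⟩ := (htop ▸ mem_top q : q ∈ L.map f)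
  exact ⟨⟨l, hl⟩, rfl⟩

theorem not_nilpotent_perm : ¬ Group.IsNilpotent (Equiv.Perm (Fin 4)) := fun h => by
  haveI := h
  have h2 : orderOf (Equiv.swap (0 : Fin 4) 1) = 2 := orderOf_eq_prime (by decide) (by decide)
  have h3 : orderOf (Equiv.swap (1 : Fin 4) 2 * Equiv.swap 0 1) = 3 :=
    orderOf_eq_prime (by decide) (by decide)
  have := (CFun.commute_of_coprime_order (x := Equiv.swap (0 : Fin 4) 1)
    (y := Equiv.swap (1 : Fin 4) 2 * Equiv.swap 0 1) (by rw [h2, h3]; norm_num)).eq
  revert this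
  decide

/-- A group all of whose proper subgroups are solvable does not involve `S₄` if it is simple or
solvable. -/
theorem not_involves (hp3 : 3 < p) (h : PPrimeNil p G)
    (hprop : ∀ H : Subgroup G, H ≠ ⊤ → Group.IsSolvable H)
    (hG : IsSimpleGroup G ∨ Group.IsSolvable G) :
    ¬ Cfsg.Involves (Equiv.Perm (Fin 4)) G := by
  rintro ⟨K, R, hn, ⟨e⟩⟩
  haveI := hn
  have hcop : (Nat.card (Equiv.Perm (Fin 4))).Coprime p := by
    rw [Nat.card_perm, Nat.card_fin]
    refine (hp.out.coprime_iff_not_dvd.2 fun hd => ?_).symm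
    have h4 := hp.out.dvd_factorial.1 hd
    interval_cases p
    exact absurd hp.out (by norm_num)
  have hfs : Function.Surjective (e.toMonoidHom.comp (QuotientGroup.mk' (R.subgroupOf K))) :=
    e.surjective.comp (QuotientGroup.mk'_surjective _)
  by_cases hK : Group.IsSolvable K
  · exact not_nilpotent_perm (nilpotent_image (h.subgroup K) hK _ hfs hcop)
  rcases hG with hs | hs
  · haveI := hs
    obtain rfl : K = ⊤ := by_contra fun hne => hK (hprop K hne)
    let φ : G →* Equiv.Perm (Fin 4) :=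
      (e.toMonoidHom.comp (QuotientGroup.mk' (R.subgroupOf ⊤))).comp Subgroup.topEquiv.symm.toMonoidHom
    have hφ : Function.Surjective φ := hfs.comp Subgroup.topEquiv.symm.surjective
    obtain ⟨a, ha⟩ := hφ (Equiv.swap 0 1)
    obtain ⟨b, hb⟩ := hφ (Equiv.swap 1 2)
    rcases (inferInstance : (Equiv.Perm.sign.comp φ).ker.Normal).eq_bot_or_eq_top with hk | hk
    · have hab : a = b := (MonoidHom.ker_eq_bot_iff _).1 hk (by
        show Equiv.Perm.sign (φ a) = Equiv.Perm.sign (φ b)
        rw [ha, hb, Equiv.Perm.sign_swap (by decide), Equiv.Perm.sign_swap (by decide)])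
      rw [hab, hb] at ha
      revert ha
      decide
    · have h1 : Equiv.Perm.sign (φ a) = 1 := MonoidHom.mem_ker.1 (hk ▸ mem_top a : a ∈ (Equiv.Perm.sign.comp φ).ker)
      rw [ha, Equiv.Perm.sign_swap (by decide)] at h1
      exact absurd h1 (by decide)
  · haveI := hs
    exact hK inferInstance

/-- The real elements of odd order are `p`-elements. -/
theorem isPow_of_real (h : PPrimeNil p G) (hp2 : p ≠ 2) (x : G) (hx : Odd (orderOf x))
    (hr : ∃ t : G, orderOf t = 2 ∧ t * x * t⁻¹ = x⁻¹) : ∃ k, orderOf x = p ^ k := by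
  obtain ⟨t, ht, htx⟩ := hr
  refine ⟨_, Nat.eq_prime_pow_of_unique_prime_dvd (orderOf_pos x).ne' (p := p) fun {q} hq hqx => ?_⟩
  by_contra hne
  set y := x ^ (orderOf x / q) with hy
  have hyo : orderOf y = q := by
    rw [hy, orderOf_pow, Nat.gcd_eq_right (Nat.div_dvd_of_dvd hqx),
      Nat.div_div_self hqx (orderOf_pos x).ne']
  have hq2 : q ≠ 2 := fun e => Nat.not_even_iff_odd.2 hx (even_iff_two_dvd.2 (e ▸ hqx))
  have hty : t * y * t⁻¹ = y⁻¹ := by rw [hy, ← conj_pow, htx, inv_pow]
  have hnorm : zpowers t ≤ normalizer (zpowers y : Set G) := zpowers_le.2 <|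
    mem_normalizer_iff.2 fun n => ⟨by
      rintro ⟨k, rfl⟩
      exact ⟨-k, (conj_zpow_of_inverts hty k).symm⟩, by
      rintro ⟨k, hk⟩
      refine ⟨-k, ?_⟩
      show y ^ (-k) = n
      rw [← conj_zpow_of_inverts hty k, show y ^ k = t * n * t⁻¹ from hk, invol_inv ht]
      simp only [← mul_assoc, invol_mul_self ht, one_mul]
      rw [mul_assoc, invol_mul_self ht, mul_one]⟩
  have hd := Coprime.card_sup_dvd_of_le_normalizer hnorm
  rw [Nat.card_zpowers, Nat.card_zpowers, ht, hyo] at hd
  haveI := h (zpowers t ⊔ zpowers y) (Nat.Coprime.coprime_dvd_left hd (Nat.Coprime.mul_left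
    ((Nat.coprime_primes Nat.prime_two hp.out).2 hp2.symm) ((Nat.coprime_primes hq hp.out).2 hne)))
  have hc := congrArg Subtype.val (CFun.commute_of_coprime_order
    (x := (⟨t, mem_sup_left (mem_zpowers t)⟩ : ↥(zpowers t ⊔ zpowers y)))
    (y := ⟨y, mem_sup_right (mem_zpowers y)⟩) (by
      rw [← Subgroup.orderOf_coe, ← Subgroup.orderOf_coe (⟨y, mem_sup_right (mem_zpowers y)⟩ :
        ↥(zpowers t ⊔ zpowers y))]
      simp only [ht, hyo]
      exact (Nat.coprime_primes Nat.prime_two hq).2 hq2.symm)).eq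
  simp only [Subgroup.coe_mul] at hc
  rw [hc, mul_inv_cancel_right] at hty
  have h2 : y * y = 1 := mul_eq_one_iff_eq_inv.2 hty
  exact hq2 ((Nat.prime_dvd_prime_iff_eq hq Nat.prime_two).1
    (hyo ▸ orderOf_dvd_of_pow_eq_one (by rw [pow_two]; exact h2)))

/-- In a nilpotent group an involution centralizing a Sylow 2-subgroup is central. -/
theorem commute_of_sylowTwo {K : Type u} [Group K] [Finite K] [Group.IsNilpotent K] (S : Sylow 2 K)
    {z : K} (hz : orderOf z = 2) (hc : ∀ s ∈ (S : Subgroup K), s * z = z * s) (k : K) :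
    k * z = z * k := by
  have htop : centralizer ({z} : Set K) = ⊤ := by
    refine index_eq_one.1 (Nat.eq_one_iff_not_exists_prime_dvd.2 fun q hq hd => ?_)
    haveI := Fact.mk hq
    rcases eq_or_ne q 2 with rfl | hq2
    · exact S.not_dvd_index (hd.trans (index_dvd_of_le fun s hs =>
        mem_centralizer_singleton_iff.2 (hc s hs)))
    · obtain ⟨Q⟩ : Nonempty (Sylow q K) := inferInstance
      refine Q.not_dvd_index (hd.trans (index_dvd_of_le fun s hs => ?_))
      obtain ⟨n, hn⟩ := IsPGroup.iff_orderOf.1 Q.isPGroup' ⟨s, hs⟩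
      rw [← Subgroup.orderOf_coe] at hn
      simp only at hn
      exact mem_centralizer_singleton_iff.2 (CFun.commute_of_coprime_order (by
        rw [hn, hz]
        exact ((Nat.coprime_primes hq Nat.prime_two).2 hq2).pow_left n)).eq
  exact mem_centralizer_singleton_iff.1 (htop ▸ mem_top k)

/-- A nilpotent group of even order has a central involution. -/
theorem exists_central_invol {K : Type u} [Group K] [Finite K] [Group.IsNilpotent K]
    (h2 : 2 ∣ Nat.card K) : ∃ z : K, orderOf z = 2 ∧ ∀ k, k * z = z * k := by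
  haveI := Fact.mk Nat.prime_two
  obtain ⟨S⟩ : Nonempty (Sylow 2 K) := inferInstance
  haveI : Nontrivial S := Finite.one_lt_card_iff_nontrivial.1
    (lt_of_lt_of_le one_lt_two (Nat.le_of_dvd Nat.card_pos (S.dvd_card_of_dvd_card h2)))
  haveI := S.isPGroup'.center_nontrivial
  obtain ⟨n, hn⟩ := (S.isPGroup'.to_subgroup (center (S : Subgroup K))).exists_card_eq
  have hc2 : 2 ∣ Nat.card (center (S : Subgroup K)) := by
    rcases n with _ | n
    · have := Finite.one_lt_card (α := center (S : Subgroup K))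
      rw [hn, pow_zero] at this
      omega
    · exact hn ▸ dvd_pow_self 2 (Nat.succ_ne_zero n)
  obtain ⟨z, hz⟩ := exists_prime_orderOf_dvd_card' 2 hc2
  have hzK : orderOf ((z : (S : Subgroup K)) : K) = 2 := by
    rw [Subgroup.orderOf_coe, Subgroup.orderOf_coe, hz]
  exact ⟨_, hzK, commute_of_sylowTwo S hzK fun s hs =>
    congrArg Subtype.val (mem_center_iff.1 z.2 ⟨s, hs⟩)⟩

/-- Such a group with a four-group has no solvable strongly embedded subgroup. -/
theorem not_isStronglyEmbedded (hp2 : p ≠ 2) (h : PPrimeNil p G) {E : Subgroup G}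
    (hE : IsKleinFour E) {H : Subgroup G} (hH : Cfsg.IsStronglyEmbedded H)
    (hsol : Group.IsSolvable H) : False := by
  obtain ⟨R, ⟨hRp, hRH, hRi⟩, t, htH, ht, htR⟩ :=
    SEFixed.exists_invol_normalizing hH hp2 (isPow_of_real h hp2)
  have hconj : ∀ w ∈ H, orderOf w = 2 → ∀ w' ∈ H, orderOf w' = 2 → ∃ k ∈ H, k * w * k⁻¹ = w' := by
    intro w hwH hw w' hw'H hw'
    obtain ⟨g, hg⟩ := isConj_iff.1 (exists_conj_fixing hH hw hw')
    refine ⟨g, by_contra fun hgH => Nat.not_even_iff_odd.2 (hH.2.2 g hgH) ?_, hg⟩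
    exact even_card_of_invol_mem (mem_inf.2 ⟨hw'H, ⟨w, hwH, hg⟩⟩) hw'
  -- a Hall subgroup centralizing `t`
  obtain ⟨K₀, hK₀H, hK₀1, hK₀2⟩ := Coprime.exists_hallIn {q | q ≠ p} hsol
  haveI := h K₀ (coprime_of_piNum hK₀1)
  have hprod := Coprime.card_mul_relIndex hK₀H
  have h2 : 2 ∣ Nat.card K₀ := by
    have h2H : 2 ∣ Nat.card K₀ * K₀.relIndex H := hprod.symm ▸ hH.2.1.two_dvd
    rcases Nat.prime_two.dvd_mul.1 h2H with h' | h'
    · exact h'
    · exact absurd hp2.symm (hK₀2 2 Nat.prime_two h')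
  obtain ⟨z, hz, hzc⟩ := exists_central_invol h2
  rw [← Subgroup.orderOf_coe] at hz
  obtain ⟨k, hkH, hk⟩ := hconj z (hK₀H z.2) hz t htH ht
  set K := K₀.map (MulAut.conj k).toMonoidHom with hKdef
  have hKH : K ≤ H := by
    rintro _ ⟨c, hc, rfl⟩
    exact mul_mem (mul_mem hkH (hK₀H hc)) (inv_mem hkH)
  have htK : ∀ c ∈ K, c * t * c⁻¹ = t := by
    rintro _ ⟨c, hc, rfl⟩
    have hc' : c * z = z * c := congrArg Subtype.val (hzc ⟨c, hc⟩)
    rw [← hk]
    simp only [MulEquiv.coe_toMonoidHom, MulAut.conj_apply]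
    calc k * c * k⁻¹ * (k * z * k⁻¹) * (k * c * k⁻¹)⁻¹ = k * (c * z) * c⁻¹ * k⁻¹ := by group
      _ = k * z * k⁻¹ := by rw [hc']; group
  have hKc : Nat.card K = Nat.card K₀ := card_map_of_injective (MulAut.conj k).injective
  have hRcop : (Nat.card R).Coprime (Nat.card K₀) := by
    obtain ⟨n, hn⟩ := hRp.exists_card_eq
    rw [hn]
    exact (coprime_of_piNum hK₀1).symm.pow_left n
  have hR : Nat.card R = K₀.relIndex H := by
    have e := hprod.trans (Coprime.card_mul_relIndex hRH).symm
    refine Nat.dvd_antisymm (hRcop.dvd_of_dvd_mul_left ⟨_, e⟩) ?_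
    refine Nat.Coprime.dvd_of_dvd_mul_right ?_
      (⟨Nat.card K₀, e.symm.trans (mul_comm _ _)⟩ : K₀.relIndex H ∣ Nat.card R * R.relIndex H)
    refine Nat.coprime_of_dvd fun q hq h1 h2' => hRi ?_
    obtain rfl : q = p := of_not_not (hK₀2 q hq h1)
    exact h2'
  have hdec : ∀ x ∈ H, ∃ r ∈ R, ∃ c ∈ K, r * c = x := by
    intro x hx
    let f : R × K → H := fun q => ⟨q.1.1 * q.2.1, mul_mem (hRH q.1.2) (hKH q.2.2)⟩
    have hf : Function.Injective f := by
      rintro ⟨r, c⟩ ⟨r', c'⟩ e
      have e' : (r : G) * c = r' * c' := congrArg Subtype.val e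
      have hm : (r' : G)⁻¹ * r ∈ R ⊓ K := mem_inf.2 ⟨mul_mem (inv_mem r'.2) r.2, by
        rw [show (r' : G)⁻¹ * r = c' * (c : G)⁻¹ by
          rw [eq_mul_inv_iff_mul_eq, mul_assoc, e', inv_mul_cancel_left]]
        exact mul_mem c'.2 (inv_mem c.2)⟩
      rw [disjoint_iff.1 (disjoint_of_coprime_natCard (hKc ▸ hRcop)), mem_bot] at hm
      obtain rfl : r' = r := Subtype.ext (inv_mul_eq_one.1 hm)
      rw [Prod.mk.injEq]
      exact ⟨rfl, Subtype.ext (mul_left_cancel e')⟩
    obtain ⟨⟨r, c⟩, hrc⟩ := ((Nat.bijective_iff_injective_and_card f).2 ⟨hf, by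
      rw [Nat.card_prod, hKc, hR, mul_comm]; exact hprod⟩).2 ⟨x, hx⟩
    exact ⟨r, r.2, c, c.2, congrArg Subtype.val hrc⟩
  -- a second involution of `H` commuting with `t`
  obtain ⟨a, b, ha, hb, hab, hcomm⟩ : ∃ a b : G, orderOf a = 2 ∧ orderOf b = 2 ∧ a ≠ b ∧ Commute a b := by
    classical
    haveI := hE
    haveI : Fintype E := Fintype.ofFinite E
    have h4 : Fintype.card E = 4 := by rw [← Nat.card_eq_fintype_card]; exact IsKleinFour.card_four
    obtain ⟨a, ha⟩ := Fintype.exists_ne_of_one_lt_card (by omega) (1 : E)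
    obtain ⟨b, -, hb⟩ := Finset.exists_mem_notMem_of_card_lt_card
      (s := ({1, a} : Finset E)) (t := Finset.univ) (by
        rw [Finset.card_univ, h4]; exact (Finset.card_le_two).trans_lt (by omega))
    simp only [Finset.mem_insert, Finset.mem_singleton, not_or] at hb
    have hinv : ∀ c : E, c ≠ 1 → orderOf (c : G) = 2 := fun c hc => by
      rw [Subgroup.orderOf_coe]
      exact orderOf_eq_prime (by rw [pow_two]; exact IsKleinFour.mul_self c) hc
    exact ⟨a, b, hinv a ha, hinv b hb.1, fun e => hb.2 (Subtype.ext e.symm),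
      congrArg Subtype.val ((IsKleinFour.isMulCommutative (G := E)).is_comm.comm a b)⟩
  obtain ⟨g, hg⟩ := isConj_iff.1 (exists_conj_fixing hH ha ht)
  set w := g * b * g⁻¹ with hwdef
  have hw : orderOf w = 2 := invol_conj hb g
  have hwt : Commute w t := by
    rw [← hg]
    exact (hcomm.symm.map (MulAut.conj g).toMonoidHom)
  have hne : w ≠ t := fun e => hab (mul_left_cancel (mul_right_cancel (hg.trans e.symm)))
  have hwH : w ∈ H := fixed_one_iff.1 (fixed_unique hH ht (by
    rw [smul_smul, ← hwt.eq, mul_smul, fixed_one_iff.2 htH]) (fixed_one_iff.2 htH))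
  obtain ⟨x, hxH, hx⟩ := hconj t htH ht w hwH hw
  obtain ⟨r, hr, c, hc, rfl⟩ := hdec x hxH
  have hwr : w = r * t * r⁻¹ := by
    rw [← hx]
    calc r * c * t * (r * c)⁻¹ = r * (c * t * c⁻¹) * r⁻¹ := by group
      _ = _ := by rw [htK c hc]
  have hmem : w * t ∈ R := by
    rw [hwr, show r * t * r⁻¹ * t = r * (t * r⁻¹ * t⁻¹) by rw [invol_inv ht]; group]
    exact mul_mem hr ((mem_normalizer_iff.1 htR _).1 (inv_mem hr))
  obtain ⟨n, hn⟩ := IsPGroup.iff_orderOf.1 hRp ⟨_, hmem⟩
  rw [← Subgroup.orderOf_coe] at hn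
  simp only at hn
  have h12 : (w * t) ^ 2 = 1 := by
    rw [hwt.mul_pow, pow_two, pow_two, invol_mul_self hw, invol_mul_self ht, one_mul]
  have h1 : orderOf (w * t) = 1 :=
    Nat.eq_one_of_dvd_coprimes (((Nat.coprime_primes hp.out Nat.prime_two).2 hp2).pow_left n)
      hn.dvd (orderOf_dvd_of_pow_eq_one h12)
  exact hne ((mul_eq_one_iff_eq_inv.1 (orderOf_eq_one_iff.1 h1)).trans (invol_inv ht))

omit [Finite G] hp in
theorem mem_omega_of_comm {A : Subgroup G} (hA : ∀ x ∈ A, ∀ y ∈ A, x * y = y * x) {x : G}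
    (hx : x ∈ Cfsg.omegaOne 2 A) : x ∈ A ∧ x ^ 2 = 1 := by
  induction hx using closure_induction with
  | mem x hx => exact hx
  | one => exact ⟨one_mem _, one_pow _⟩
  | mul x y _ _ hx hy =>
    exact ⟨mul_mem hx.1 hy.1, by rw [(show Commute x y from hA x hx.1 y hy.1).mul_pow, hx.2, hy.2, one_mul]⟩
  | inv x _ hx => exact ⟨inv_mem hx.1, by rw [inv_pow, hx.2, inv_one]⟩

/-- There is no simple counterexample. -/
theorem false_of_simple [IsSimpleGroup G] (hp3 : 3 < p) (h : PPrimeNil p G)
    (hns : ¬ Group.IsSolvable G) (hprop : ∀ H : Subgroup G, H ≠ ⊤ → Group.IsSolvable H) : False := by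
  haveI := Fact.mk Nat.prime_two
  have hp2 : p ≠ 2 := by omega
  have hFT : CfsgLib.OddConseq.OddSolvable.{u} := fun G _ _ h => FT.isSolvable_of_odd G h
  have hna : ¬ ∀ a b : G, a * b = b * a := fun hc => hns (Group.isSolvable_of_comm hc)
  have heven : Even (Nat.card G) := CfsgLib.OddConseq.even_of_simple hFT hna
  obtain ⟨E, hE⟩ := CfsgLib.OddConseq.exists_klein hFT (G := G) fun hc => hna fun a b => by
    obtain ⟨g, hg⟩ := hc.exists_generator
    obtain ⟨i, rfl⟩ := hg a
    obtain ⟨j, rfl⟩ := hg b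
    exact (Commute.zpow_zpow_self g i j).eq
  have hfree := not_involves hp3 h hprop (Or.inl inferInstance)
  have hnotp : ∀ {X : Subgroup G}, IsPGroup 2 X → X ≠ ⊤ := by
    rintro X hX rfl
    haveI := hX.isNilpotent
    exact hns (Coprime.isSolvable_congr Subgroup.topEquiv inferInstance)
  have hlocal : ∀ X : Subgroup G, IsPGroup 2 X → X ≠ ⊥ → normalizer (X : Set G) ≠ ⊤ := by
    intro X hX hne he
    rcases (normalizer_eq_top_iff.1 he).eq_bot_or_eq_top with e | e
    exacts [hne e, hnotp hX e]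
  have hOdd : Cfsg.oddCore G = ⊥ := by
    haveI : (Cfsg.pPrimeCore 2 G).Normal := inferInstance
    rcases (inferInstance : (Cfsg.pPrimeCore 2 G).Normal).eq_bot_or_eq_top with e | e
    · exact e
    · exfalso
      have := CfsgLib.Coprime.pPrimeCore_not_dvd (G := G) Nat.prime_two
      rw [e, Subgroup.card_top] at this
      exact this heven.two_dvd
  obtain ⟨S⟩ : Nonempty (Sylow 2 G) := inferInstance
  obtain ⟨W, hWc, hWlo, hWhi, hfus⟩ :=
    FourFree.Stellmacher.exists_controlling FourFree.Stellmacher.noHConfig hfree S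
  set V := W.map (S : Subgroup G).subtype with hV
  have hJc : ∀ x ∈ Cfsg.centerThompsonOf 2 (S : Subgroup G),
      ∀ y ∈ Cfsg.centerThompsonOf 2 (S : Subgroup G), x * y = y * x := fun x hx y hy =>
    mem_centralizer_iff.1 hy.2 x hx.1
  have hVel : ∀ x ∈ V, x ∈ Cfsg.centerThompsonOf 2 (S : Subgroup G) ∧ x ^ 2 = 1 := fun x hx =>
    mem_omega_of_comm hJc (hWhi hx)
  have hVS : V ≤ S := map_subtype_le _
  have hVp : IsPGroup 2 V := S.isPGroup'.to_le hVS
  -- an involution of the centre of `S`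
  haveI : Nontrivial (S : Subgroup G) := Finite.one_lt_card_iff_nontrivial.1
    (lt_of_lt_of_le one_lt_two (Nat.le_of_dvd Nat.card_pos (S.dvd_card_of_dvd_card heven.two_dvd)))
  obtain ⟨z, hzS, hz, hzc⟩ : ∃ z ∈ (S : Subgroup G), orderOf z = 2 ∧
      ∀ s ∈ (S : Subgroup G), s * z = z * s := by
    haveI := S.isPGroup'.isNilpotent
    obtain ⟨z, hz, hzc⟩ := exists_central_invol (K := (S : Subgroup G))
      (S.dvd_card_of_dvd_card heven.two_dvd)
    exact ⟨z, z.2, (Subgroup.orderOf_coe z).trans hz, fun s hs => congrArg Subtype.val (hzc ⟨s, hs⟩)⟩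
  have hzV : z ∈ V := hWlo (subset_closure
    ⟨⟨⟨z, hzS⟩, mem_center_iff.2 fun s => Subtype.ext (hzc s s.2), rfl⟩, hz ▸ pow_orderOf_eq_one z⟩)
  have hVne : V ≠ ⊥ := fun e => invol_ne_one hz (mem_bot.1 (e ▸ hzV))
  -- the normalizer of `V`
  set N := normalizer (V : Set G) with hN
  have hNsol : Group.IsSolvable N := hprop N (hlocal V hVp hVne)
  haveI := hWc
  have hSN : (S : Subgroup G) ≤ N := le_normalizer.trans (Coprime.SquareFixed.normalizer_le_normalizer_map _ W)
  obtain ⟨g, hgS, hgne⟩ : ∃ g : G, g * z * g⁻¹ ∈ S ∧ g * z * g⁻¹ ≠ z := by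
    by_contra hno
    push Not at hno
    have hzz := zstar_of_weakly_closed S hz hno
    have hzcen : z ∈ center G := mem_center_iff.2 fun g => by
      have h' := hzz g
      rw [show Cfsg.pPrimeCore 2 G = ⊥ from hOdd, mem_bot] at h'
      exact (mul_inv_eq_iff_eq_mul.1 (mul_inv_eq_one.1 h')).symm
    rcases (inferInstance : (center G).Normal).eq_bot_or_eq_top with e | e
    · exact invol_ne_one hz (mem_bot.1 (e ▸ hzcen))
    · exact hna fun a b => mem_center_iff.1 (e ▸ mem_top b) a
  obtain ⟨x, hxN, hx⟩ := (hfus {z} (Set.singleton_subset_iff.2 hzS)).2 g (by simpa using hgS)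
  have hxz : x * z * x⁻¹ ≠ z := by rw [← hx z rfl]; exact hgne
  -- the index of the centralizer is a power of `p`
  set C := (centralizer ({z} : Set G)).subgroupOf N with hC
  obtain ⟨K, ⟨hKN, hK1, hK2⟩, hSK⟩ := Coprime.IsHallIn.exists_ge (π := {q | q ≠ p}) hNsol hSN (by
    obtain ⟨n, hn⟩ := S.isPGroup'.exists_card_eq
    intro q hq hd
    rw [hn] at hd
    rw [(Nat.prime_dvd_prime_iff_eq hq Nat.prime_two).1 (hq.dvd_of_dvd_pow hd)]
    exact hp2.symm)
  haveI := h K (coprime_of_piNum hK1)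
  have hKC : K.subgroupOf N ≤ C := by
    intro k hk
    exact mem_centralizer_singleton_iff.2 (congrArg Subtype.val (commute_of_sylowTwo (S.subtype hSK)
      (z := (⟨z, hSK hzS⟩ : K)) (by rw [← Subgroup.orderOf_coe]; exact hz)
      (fun s hs => Subtype.ext (hzc s hs)) ⟨k, hk⟩))
  have hidx : ∀ q, q.Prime → q ∣ C.index → q = p := fun q hq hd =>
    of_not_not (hK2 q hq (hd.trans (index_dvd_of_le hKC)))
  have hidx5 : 5 ≤ C.index := by
    have hne1 : C.index ≠ 1 := fun e => hxz (by
      have hx' : x * z = z * x := mem_centralizer_singleton_iff.1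
        ((index_eq_one.1 e ▸ mem_top (⟨x, hxN⟩ : N) : (⟨x, hxN⟩ : N) ∈ C))
      rw [hx', mul_inv_cancel_right])
    obtain ⟨q, hq, hd⟩ := Nat.exists_prime_and_dvd hne1
    have hp5 : 5 ≤ p := by
      by_contra hlt
      interval_cases p
      exact absurd hp.out (by norm_num)
    exact (hidx q hq hd ▸ hp5).trans (Nat.le_of_dvd (Nat.pos_of_ne_zero index_ne_zero_of_finite) hd)
  have hV6 : 6 ≤ Nat.card V := by
    let f : Option (N ⧸ C) → V := fun o => o.elim 1 fun q => Quotient.liftOn' q
      (fun n => ⟨n * z * (n : G)⁻¹, (mem_normalizer_iff.1 n.2 z).1 hzV⟩) fun a b hab => Subtype.ext (by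
        have h' : ((a : G)⁻¹ * b) * z = z * ((a : G)⁻¹ * b) := mem_centralizer_singleton_iff.1
          (QuotientGroup.leftRel_apply.1 hab : a⁻¹ * b ∈ C)
        calc (a : G) * z * (a : G)⁻¹ = a * (z * ((a : G)⁻¹ * b)) * (b : G)⁻¹ := by group
          _ = (b : G) * z * (b : G)⁻¹ := by rw [← h']; group)
    have hf : Function.Injective f := by
      intro o o' e
      have key : ∀ n : N, (n : G) * z * (n : G)⁻¹ ≠ 1 := fun n e => invol_ne_one hz (by
        simpa using e)
      rcases o with _ | ⟨⟨a⟩⟩ <;> rcases o' with _ | ⟨⟨b⟩⟩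
      · rfl
      · exact absurd (congrArg Subtype.val e).symm (key b)
      · exact absurd (congrArg Subtype.val e) (key a)
      · refine congrArg some (QuotientGroup.eq.2 (mem_centralizer_singleton_iff.2 ?_))
        have e' : (a : G) * z * (a : G)⁻¹ = b * z * (b : G)⁻¹ := congrArg Subtype.val e
        show (a : G)⁻¹ * b * z = z * ((a : G)⁻¹ * b)
        calc (a : G)⁻¹ * b * z = (a : G)⁻¹ * (b * z * (b : G)⁻¹) * b := by group
          _ = _ := by rw [← e']; group
    have := Nat.card_le_card_of_injective f hf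
    rw [Finite.card_option, ← index] at this
    omega
  have hV8 : 8 ≤ Nat.card V := by
    obtain ⟨n, hn⟩ := hVp.exists_card_eq
    rw [hn] at hV6 ⊢
    rcases n with _ | _ | _ | n <;> simp [pow_succ] at hV6 ⊢ <;> omega
  have hrank : ¬ Cfsg.PRankLE 2 2 G := fun hr => by
    have := hr V ⟨⟨fun a b => Subtype.ext (hJc _ (hVel a a.2).1 _ (hVel b b.2).1)⟩⟩ fun a ha => (hVel a ha).2
    omega
  have hconn : Cfsg.IsFourConnected ↥(S : Subgroup G) := by
    refine Cfsg.Agent.S0502.result S.isPGroup' W ⟨⟨fun a b => Subtype.ext (Subtype.ext ?_)⟩⟩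
      (fun e he => Subtype.ext ?_) ?_
    · exact hJc _ (hVel _ (mem_map_of_mem _ a.2)).1 _ (hVel _ (mem_map_of_mem _ b.2)).1
    · rw [SubgroupClass.coe_pow]; exact (hVel _ (mem_map_of_mem _ he)).2
    · rwa [hV, card_map_of_injective (S : Subgroup G).subtype_injective] at hV8
  have hSE : ∀ H : Subgroup G, ¬ Cfsg.IsStronglyEmbedded H := fun H hH =>
    not_isStronglyEmbedded hp2 h hE hH (hprop H hH.1)
  have hcomp : ¬ Cfsg.IsComponentType G := by
    rintro ⟨t, ht, K, -, hKq⟩
    have hCne : centralizer ({t} : Set G) ≠ ⊤ := fun e => by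
      have htc : t ∈ center G := mem_center_iff.2 fun g =>
        mem_centralizer_singleton_iff.1 (e ▸ mem_top g)
      rcases (inferInstance : (center G).Normal).eq_bot_or_eq_top with e' | e'
      · exact invol_ne_one ht (mem_bot.1 (e' ▸ htc))
      · exact hna fun a b => mem_center_iff.1 (e' ▸ mem_top b) a
    haveI := hprop _ hCne
    haveI : (Cfsg.oddCore ↥(centralizer ({t} : Set G))).Normal :=
      inferInstanceAs (Cfsg.pPrimeCore 2 ↥(centralizer ({t} : Set G))).Normal
    haveI : Group.IsSolvable (↥(centralizer ({t} : Set G)) ⧸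
        Cfsg.oddCore ↥(centralizer ({t} : Set G))) :=
      Group.isSolvable_of_surjective (f := QuotientGroup.mk' _) (QuotientGroup.mk'_surjective _)
    exact Coprime.not_isSolvable_of_isQuasisimple hKq inferInstance
  have hchar := CfsgLib.TwoGenCore.isCharacteristicTwoType hFT
    (fun H hH => absurd hH (hSE H)) hrank hOdd hcomp S hconn
  have hloc : ∀ M : Subgroup G, Cfsg.IsTwoLocal M → Group.IsSolvable M ∧
      Cfsg.IsOfCharacteristicTwo M ∧ ¬ Cfsg.Involves (Equiv.Perm (Fin 4)) M := by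
    rintro M ⟨X, hX, hXne, rfl⟩
    exact ⟨hprop _ (hlocal X hX hXne), hchar.2 X hX hXne, fun hi =>
      hfree (CfsgLib.Fusion.involves_of_injective _ (subtype_injective _) hi)⟩
  have hO2 : Cfsg.pCore 2 G = ⊥ := by
    haveI := CfsgLib.Coprime.pCore_normal' (G := G) 2
    rcases (inferInstance : (Cfsg.pCore 2 G).Normal).eq_bot_or_eq_top with e | e
    · exact e
    · exact absurd e (hnotp (CfsgLib.Coprime.pCore_isPGroup (G := G) 2))
  obtain ⟨M, hM, -⟩ := FourFree.exists_maximal_ge S.isPGroup'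
    ((nontrivial_iff_ne_bot _).1 inferInstance)
  exact hSE M (FourFree.isStronglyEmbedded_of_maximal hO2 hloc hM)

/-- Groups whose subgroups of order prime to `p > 3` are nilpotent are solvable. -/
theorem isSolvable (hp3 : 3 < p) :
    ∀ (n : ℕ) (G : Type u) [Group G] [Finite G], Nat.card G = n → PPrimeNil p G → Group.IsSolvable G := by
  intro n
  induction n using Nat.strong_induction_on with
  | _ n ih => ?_
  intro G _ _ hn h
  have hprop : ∀ H : Subgroup G, H ≠ ⊤ → Group.IsSolvable H := fun H hH =>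
    ih _ (hn ▸ card_top (G := G) ▸ Set.Finite.card_lt_card (Set.toFinite ((⊤ : Subgroup G) : Set G))
      (show H < ⊤ from lt_top_iff_ne_top.2 hH)) H rfl (h.subgroup H)
  by_contra hns
  haveI : Nontrivial G := by
    by_contra hs
    haveI := not_nontrivial_iff_subsingleton.1 hs
    exact hns inferInstance
  by_cases hsimple : IsSimpleGroup G
  · exact false_of_simple hp3 h hns hprop
  obtain ⟨N, hNn, hNb, hNt⟩ : ∃ N : Subgroup G, N.Normal ∧ N ≠ ⊥ ∧ N ≠ ⊤ := by
    by_contra hno
    push Not at hno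
    exact hsimple ⟨fun N hN => or_iff_not_imp_left.2 fun hb => hno N hN hb⟩
  haveI := hNn
  haveI := hprop N hNt
  haveI : Group.IsSolvable (G ⧸ N) := by
    by_cases hd : p ∣ N.index
    · refine ih _ (hn ▸ Coprime.card_quotient_lt hNb) (G ⧸ N) rfl fun Q hQ => ?_
      set M := Q.comap (QuotientGroup.mk' N) with hM
      have hMt : M ≠ ⊤ := fun e => by
        have hQt : Q = ⊤ := eq_top_iff.2 fun q _ => by
          obtain ⟨g, rfl⟩ := QuotientGroup.mk'_surjective N q
          exact (e ▸ mem_top g : g ∈ M)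
        rw [hQt, Subgroup.card_top] at hQ
        exact hp.out.one_lt.ne' (Nat.eq_one_of_dvd_coprimes hQ hd dvd_rfl)
      refine nilpotent_image (h.subgroup M) (hprop M hMt)
        (((QuotientGroup.mk' N).comp M.subtype).codRestrict Q fun m => m.2) ?_ hQ
      rintro ⟨q, hq⟩
      obtain ⟨g, rfl⟩ := QuotientGroup.mk'_surjective N q
      exact ⟨⟨g, hq⟩, rfl⟩
    · obtain ⟨P⟩ : Nonempty (Sylow p G) := inferInstance
      have hPN : (P : Subgroup G) ≤ N := by
        intro x hx
        obtain ⟨k, hk⟩ := IsPGroup.iff_orderOf.1 P.isPGroup' ⟨x, hx⟩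
        rw [← Subgroup.orderOf_coe] at hk
        rw [← QuotientGroup.eq_one_iff (N := N), ← orderOf_eq_one_iff]
        refine Nat.eq_one_of_dvd_coprimes (((hp.out.coprime_iff_not_dvd.2 hd)).pow_left k)
          (hk ▸ orderOf_map_dvd (QuotientGroup.mk' N) x) ?_
        exact orderOf_dvd_natCard _
      by_cases hPt : normalizer ((P : Subgroup G) : Set G) = ⊤
      · haveI := normalizer_eq_top_iff.1 hPt
        have hcop : (Nat.card (P : Subgroup G)).Coprime (P : Subgroup G).index := by
          obtain ⟨k, hk⟩ := P.isPGroup'.exists_card_eq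
          rw [hk]
          exact (hp.out.coprime_iff_not_dvd.2 P.not_dvd_index).pow_left k
        obtain ⟨C, hC⟩ := exists_right_complement'_of_coprime hcop
        haveI := h C (by
          rw [← hC.symm.index_eq_card]
          exact (hp.out.coprime_iff_not_dvd.2 P.not_dvd_index).symm)
        refine Group.isSolvable_of_surjective (f := (QuotientGroup.mk' N).comp C.subtype) fun q => ?_
        obtain ⟨g, rfl⟩ := QuotientGroup.mk'_surjective N q
        obtain ⟨⟨y, c⟩, hyc⟩ := hC.2 g
        refine ⟨c, (QuotientGroup.eq).2 ?_⟩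
        rw [← hyc]
        show (c : G)⁻¹ * ((y : G) * (c : G)) ∈ N
        simpa [mul_assoc] using hNn.conj_mem _ (hPN y.2) (c : G)⁻¹
      · haveI := hprop _ hPt
        refine Group.isSolvable_of_surjective
          (f := (QuotientGroup.mk' N).comp (normalizer ((P : Subgroup G) : Set G)).subtype) fun q => ?_
        obtain ⟨g, rfl⟩ := QuotientGroup.mk'_surjective N q
        have hsup : normalizer ((P : Subgroup G) : Set G) ⊔ N = ⊤ :=
          Sylow.normalizer_sup_eq_top' P hPN
        obtain ⟨a, ha, b, hb, rfl⟩ := mem_sup_of_normal_right.1 (hsup ▸ mem_top g : g ∈ _ ⊔ N)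
        exact ⟨⟨a, ha⟩, QuotientGroup.eq.2 (by simpa using hb)⟩
  exact hns ((Group.isSolvable_iff_subgroup_quotient N).2 ⟨inferInstance, inferInstance⟩)

end CfsgLib.Invol.PPrimeNilpotent
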