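import Cfsg.Agent.Lib.Char.Berger.Main
import Cfsg.Agent.Lib.Char.ChiefFactor
import Cfsg.Agent.Lib.Block.CentralDefect
import Cfsg.Agent.Lib.Coprime.Fitting
import Cfsg.Agent.Lib.Char.TwoDegreesPrime
import Cfsg.Agent.Lib.Block.ItoMichler

/-!
Primitive characters of metanilpotent groups of odd order `p^a q^b`: the degree divides a class size.
-/

set_option autoImplicit false
set_option linter.unusedSectionVars false

namespace CfsgLib.Invol.PrimMeta

open Cfsg CfsgLib.Char

universe u

/-- An automorphism group of odd order with nilpotent structure and without fixed points has an element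
fixing at most the cube root of the module. -/
theorem prod_fixed_le {M : Type u} [AddCommGroup M] [Finite M] {K : Type u} [Group K] [Fintype K]
    (hodd : Odd (Nat.card K)) [Group.IsNilpotent K] (φ : K →* AddMonoid.End M) :
    ∀ n, ∀ H : AddSubgroup M, Nat.card H = n → (∀ k, ∀ x ∈ H, φ k x ∈ H) →
      (∀ x ∈ H, (∀ k, φ k x = x) → x = 0) →
      ∏ g : K, Nat.card {x : M // x ∈ H ∧ φ g x = x} ^ 3 ≤ Nat.card H ^ Nat.card K := by
  classical
  intro n
  induction n using Nat.strong_induction_on with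
  | _ n ih =>
  intro H hn hinv hfix
  have hφ : ∀ a b x, φ (a * b) x = φ a (φ b x) := fun a b x => by rw [map_mul]; rfl
  have hφ1 : ∀ x, φ 1 x = x := fun x => by rw [map_one]; rfl
  let T : Subgroup K :=
    { carrier := {k | ∀ x ∈ H, φ k x = x}
      one_mem' := fun x _ => hφ1 x
      mul_mem' := fun {a b} ha hb x hx => by rw [hφ, hb x hx, ha x hx]
      inv_mem' := fun {a} ha x hx => by
        conv_lhs => rw [← ha x hx]
        rw [← hφ, inv_mul_cancel, hφ1] }
  have hTn : T.Normal := ⟨fun t ht k x hx => by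
    rw [hφ, hφ, ht _ (hinv _ x hx), ← hφ, mul_inv_cancel, hφ1]⟩
  by_cases hT : T = ⊤
  · have hH : H = ⊥ := (AddSubgroup.eq_bot_iff_forall H).2 fun x hx =>
      hfix x hx fun k => (show k ∈ T from hT ▸ Subgroup.mem_top k) x hx
    subst hH
    refine le_trans (le_of_eq (Finset.prod_eq_one fun g _ => ?_)) (Nat.one_le_pow _ _ Nat.card_pos)
    have : Unique {x : M // x ∈ (⊥ : AddSubgroup M) ∧ φ g x = x} :=
      ⟨⟨⟨0, zero_mem _, map_zero _⟩⟩, fun y => Subtype.ext ((AddSubgroup.mem_bot).1 y.2.1)⟩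
    rw [Nat.card_unique, one_pow]
  haveI := hTn
  have : Nontrivial (K ⧸ T) := Finite.one_lt_card_iff_nontrivial.1
    (Subgroup.one_lt_index_of_ne_top hT)
  haveI : Group.IsNilpotent (K ⧸ T) :=
    Group.nilpotent_of_surjective (QuotientGroup.mk' T) (QuotientGroup.mk'_surjective T)
  obtain ⟨zq, hzq, hz1⟩ := (Subgroup.nontrivial_iff_exists_ne_one _).1
    ((Subgroup.nontrivial_iff_ne_bot _).2 (Group.IsNilpotent.center_ne_bot (G := K ⧸ T)))
  obtain ⟨z, rfl⟩ := QuotientGroup.mk_surjective zq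
  have hzT : z ∉ T := fun h => hz1 ((QuotientGroup.eq_one_iff z).2 h)
  have hcomm : ∀ k, ∀ x ∈ H, φ k (φ z x) = φ z (φ k x) := by
    intro k x hx
    have h1 : ((k * z : K) : K ⧸ T) = ((z * k : K) : K ⧸ T) := by
      rw [QuotientGroup.mk_mul, QuotientGroup.mk_mul]
      exact Subgroup.mem_center_iff.1 hzq _
    have h2 := QuotientGroup.eq.1 h1 x hx
    rw [← hφ, ← hφ]
    conv_lhs => rw [← h2, ← hφ, mul_inv_cancel_left]
  let d : M →+ M := (show M →+ M from φ z) - AddMonoidHom.id M
  have hd : ∀ x, d x = φ z x - x := fun x => rfl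
  let C : AddSubgroup M := H ⊓ d.ker
  let I : AddSubgroup M := H.map d
  have hC : ∀ x, x ∈ C ↔ x ∈ H ∧ φ z x = x := fun x => by
    simp [C, AddMonoidHom.mem_ker, hd, sub_eq_zero]
  have hIH : I ≤ H := by
    rintro _ ⟨x, hx, rfl⟩
    rw [hd]
    exact sub_mem (hinv z x hx) hx
  have hCinv : ∀ k, ∀ x ∈ C, φ k x ∈ C := fun k x hx => by
    rw [hC] at hx ⊢
    exact ⟨hinv k x hx.1, by rw [← hcomm k x hx.1, hx.2]⟩
  have hIinv : ∀ k, ∀ x ∈ I, φ k x ∈ I := by
    rintro k _ ⟨x, hx, rfl⟩
    exact ⟨φ k x, hinv k x hx, by rw [hd, hd, map_sub, hcomm k x hx]⟩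
  have hHC : Nat.card H = Nat.card C * Nat.card I := by
    let d' : H →+ I :=
      { toFun := fun x => ⟨d x, x, x.2, rfl⟩
        map_zero' := Subtype.ext (map_zero d)
        map_add' := fun a b => Subtype.ext (map_add d _ _) }
    have hs : Function.Surjective d' := by rintro ⟨_, x, hx, rfl⟩; exact ⟨⟨x, hx⟩, rfl⟩
    let e : d'.ker ≃ C :=
      { toFun := fun x => ⟨((x : H) : M), (x : H).2, congrArg Subtype.val x.2⟩
        invFun := fun x => ⟨⟨x, x.2.1⟩, Subtype.ext x.2.2⟩
        left_inv := fun x => rfl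
        right_inv := fun x => rfl }
    rw [← Nat.card_congr e, AddSubgroup.card_eq_card_quotient_mul_card_addSubgroup d'.ker,
      Nat.card_congr (QuotientAddGroup.quotientKerEquivOfSurjective d' hs).toEquiv, mul_comm]
  have hC1 : 1 ≤ Nat.card C := Nat.card_pos
  by_cases hCb : C = ⊥
  · -- the central element has no fixed points: three independent fixed subgroups
    have key : ∀ g, Nat.card {x : M // x ∈ H ∧ φ g x = x} * Nat.card {x : M // x ∈ H ∧ φ (g * z) x = x} *
        Nat.card {x : M // x ∈ H ∧ φ (g * (z * z)) x = x} ≤ Nat.card H := by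
      intro g
      rw [← Nat.card_prod, ← Nat.card_prod]
      refine Nat.card_le_card_of_injective
        (fun t => (⟨t.1.1.1 + t.1.2.1 + t.2.1, add_mem (add_mem t.1.1.2.1 t.1.2.2.1) t.2.2.1⟩ : H)) ?_
      have hz0 : ∀ w ∈ H, φ z w = w → w = 0 := fun w hw h => by
        have : w ∈ C := (hC w).2 ⟨hw, h⟩
        rwa [hCb, AddSubgroup.mem_bot] at this
      have hzero : ∀ a b c, a ∈ H → b ∈ H → c ∈ H → φ g a = a → φ (g * z) b = b →
          φ (g * (z * z)) c = c → a + b + c = 0 → a = 0 ∧ b = 0 ∧ c = 0 := by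
        intro a b c ha hb hc hga hgb hgc habc
        rw [hφ] at hgb
        rw [hφ, hφ] at hgc
        have h1 : φ z (φ z (φ g a)) + φ z (φ z (φ g b)) + φ z (φ z (φ g c)) = 0 := by
          rw [← map_add, ← map_add, ← map_add, ← map_add, ← map_add, ← map_add, habc]
          simp
        have hb' : φ z (φ g b) = b := by rw [← hcomm g b hb, hgb]
        have hc' : φ z (φ z (φ g c)) = c := by
          rw [← hcomm g c hc, ← hcomm g _ (hinv z c hc), hgc]
        rw [hga, hb', hc'] at h1
        have hy : φ z (φ z a + a + b) = φ z a + a + b := by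
          rw [map_add, map_add]
          have : φ z (φ z a) + φ z b + c = a + b + c := by rw [habc]; exact h1
          have := add_right_cancel this
          calc φ z (φ z a) + φ z a + φ z b = (φ z (φ z a) + φ z b) + φ z a := by abel
            _ = (a + b) + φ z a := by rw [this]
            _ = _ := by abel
        have h2 : b = -(φ z a + a) :=
          eq_neg_of_add_eq_zero_right (hz0 _ (add_mem (add_mem (hinv z a ha) ha) hb) hy)
        have h3 : φ z (φ z a) = a := by
          have h4 := hgb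
          rw [h2, map_neg, map_neg, map_add, map_add, hcomm g (φ z a) (hinv z a ha), hcomm g a ha,
            hga, neg_inj] at h4
          have h7 : φ z (φ z a) - a = (φ z (φ z a) + φ z a) - (φ z a + a) := by abel
          rw [h4, sub_self, sub_eq_zero] at h7
          exact h7
        have h5 : ∀ m : ℕ, φ ((z * z) ^ m) a = a := fun m => by
          induction m with
          | zero => rw [pow_zero, hφ1]
          | succ m ihm => rw [pow_succ, hφ, hφ z z, h3, ihm]
        obtain ⟨m, hm⟩ := hodd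
        have h6 : (z * z) ^ (m + 1) = z := by
          rw [← sq, ← pow_mul, show 2 * (m + 1) = (2 * m + 1) + 1 by ring, ← hm, pow_succ,
            pow_card_eq_one', one_mul]
        have ha0 : a = 0 := hz0 a ha (by rw [← h6, h5])
        subst ha0
        have hb0 : b = 0 := by simpa using h2
        subst hb0
        exact ⟨rfl, rfl, by simpa using habc⟩
      rintro ⟨⟨⟨a, ha⟩, ⟨b, hb⟩⟩, ⟨c, hc⟩⟩ ⟨⟨⟨a', ha'⟩, ⟨b', hb'⟩⟩, ⟨c', hc'⟩⟩ h
      have h' : a + b + c = a' + b' + c' := congrArg Subtype.val h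
      obtain ⟨e1, e2, e3⟩ := hzero (a - a') (b - b') (c - c') (sub_mem ha.1 ha'.1) (sub_mem hb.1 hb'.1)
        (sub_mem hc.1 hc'.1) (by rw [map_sub, ha.2, ha'.2]) (by rw [map_sub, hb.2, hb'.2])
        (by rw [map_sub, hc.2, hc'.2]) (by
          rw [← sub_eq_zero.2 h']; abel)
      simp only [Prod.mk.injEq, Subtype.mk.injEq]
      exact ⟨⟨sub_eq_zero.1 e1, sub_eq_zero.1 e2⟩, sub_eq_zero.1 e3⟩
    set f : K → ℕ := fun g => Nat.card {x : M // x ∈ H ∧ φ g x = x}
    have hshift : ∀ w, ∏ g, f (g * w) = ∏ g, f g := fun w =>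
      Fintype.prod_equiv (Equiv.mulRight w) _ _ fun g => rfl
    have he : ∏ g, f g ^ 3 = ∏ g, f g * f (g * z) * f (g * (z * z)) := by
      rw [Finset.prod_pow, Finset.prod_mul_distrib, Finset.prod_mul_distrib, hshift, hshift]
      ring
    show ∏ g, f g ^ 3 ≤ _
    rw [he]
    refine (Finset.prod_le_prod' fun g _ => key g).trans (le_of_eq ?_)
    rw [Finset.prod_const, Finset.card_univ, Nat.card_eq_fintype_card (α := K)]
  · have hCH : Nat.card C < Nat.card H := by
      rw [hHC]
      refine lt_mul_of_one_lt_right hC1 (Finite.one_lt_card_iff_nontrivial.2 ?_)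
      rw [AddSubgroup.nontrivial_iff_ne_bot]
      intro hI
      refine hzT fun x hx => ?_
      have h : d x ∈ I := ⟨x, hx, rfl⟩
      rw [hI, AddSubgroup.mem_bot, hd, sub_eq_zero] at h
      exact h
    have hIlt : Nat.card I < Nat.card H := by
      rw [hHC]
      refine lt_mul_of_one_lt_left Nat.card_pos (Finite.one_lt_card_iff_nontrivial.2 ?_)
      rwa [AddSubgroup.nontrivial_iff_ne_bot]
    have h1 := ih _ (hn ▸ hCH) C rfl hCinv fun x hx h => hfix x hx.1 h
    have h2 := ih _ (hn ▸ hIlt) I rfl hIinv fun x hx h => hfix x (hIH hx) h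
    have hg : ∀ g, Nat.card {x : M // x ∈ H ∧ φ g x = x} ≤
        Nat.card {x : M // x ∈ C ∧ φ g x = x} * Nat.card {x : M // x ∈ I ∧ φ g x = x} := by
      intro g
      let F : AddSubgroup M := H ⊓ ((show M →+ M from φ g) - AddMonoidHom.id M).ker
      have hF : ∀ x, x ∈ F ↔ x ∈ H ∧ φ g x = x := fun x => by
        show x ∈ H ∧ φ g x - x = 0 ↔ _
        rw [sub_eq_zero]
      let E : AddSubgroup M := I ⊓ ((show M →+ M from φ g) - AddMonoidHom.id M).ker
      have hE : ∀ x, x ∈ E ↔ x ∈ I ∧ φ g x = x := fun x => by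
        show x ∈ I ∧ φ g x - x = 0 ↔ _
        rw [sub_eq_zero]
      let d' : F →+ E :=
        { toFun := fun x => ⟨d x, (hE _).2 ⟨⟨x, ((hF _).1 x.2).1, rfl⟩, by
            rw [hd, map_sub, hcomm g _ ((hF _).1 x.2).1, ((hF _).1 x.2).2]⟩⟩
          map_zero' := Subtype.ext (map_zero d)
          map_add' := fun a b => Subtype.ext (map_add d _ _) }
      have e0 : Nat.card F = Nat.card (F ⧸ d'.ker) * Nat.card d'.ker :=
        AddSubgroup.card_eq_card_quotient_mul_card_addSubgroup _
      have e1 : Nat.card (F ⧸ d'.ker) ≤ Nat.card E :=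
        Nat.card_le_card_of_injective _ (QuotientAddGroup.kerLift_injective d')
      have e2 : Nat.card d'.ker ≤ Nat.card {x : M // x ∈ C ∧ φ g x = x} :=
        Nat.card_le_card_of_injective
          (fun x : d'.ker => (⟨((x : F) : M), (hC _).2 ⟨((hF _).1 (x : F).2).1, sub_eq_zero.1 (congrArg Subtype.val x.2)⟩,
            ((hF _).1 (x : F).2).2⟩ : {x : M // x ∈ C ∧ φ g x = x}))
          fun x y h => Subtype.ext (Subtype.ext (congrArg (fun t : {x : M // x ∈ C ∧ φ g x = x} => (t : M)) h))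
      rw [← Nat.card_congr (Equiv.subtypeEquivRight hF), ← Nat.card_congr (Equiv.subtypeEquivRight hE), mul_comm]
      exact e0.le.trans (Nat.mul_le_mul e1 e2)
    calc ∏ g : K, Nat.card {x : M // x ∈ H ∧ φ g x = x} ^ 3
        ≤ ∏ g : K, (Nat.card {x : M // x ∈ C ∧ φ g x = x} * Nat.card {x : M // x ∈ I ∧ φ g x = x}) ^ 3 :=
          Finset.prod_le_prod' fun g _ => Nat.pow_le_pow_left (hg g) 3
      _ = (∏ g : K, Nat.card {x : M // x ∈ C ∧ φ g x = x} ^ 3) *
            ∏ g : K, Nat.card {x : M // x ∈ I ∧ φ g x = x} ^ 3 := by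
          rw [← Finset.prod_mul_distrib]; simp [mul_pow]
      _ ≤ Nat.card C ^ Nat.card K * Nat.card I ^ Nat.card K := Nat.mul_le_mul h1 h2
      _ = Nat.card H ^ Nat.card K := by rw [← mul_pow, hHC]

theorem exists_small_fixed {M : Type u} [AddCommGroup M] [Finite M] {K : Type u} [Group K] [Finite K]
    (hodd : Odd (Nat.card K)) [Group.IsNilpotent K] (φ : K →* AddMonoid.End M) (H : AddSubgroup M)
    (hinv : ∀ k, ∀ x ∈ H, φ k x ∈ H) (hfix : ∀ x ∈ H, (∀ k, φ k x = x) → x = 0) :
    ∃ g : K, Nat.card {x : M // x ∈ H ∧ φ g x = x} ^ 3 ≤ Nat.card H := by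
  have := Fintype.ofFinite K
  by_contra h
  push Not at h
  refine not_lt.2 (prod_fixed_le hodd φ _ H rfl hinv hfix) ?_
  rw [Nat.card_eq_fintype_card (α := K), ← Finset.card_univ, ← Finset.prod_const]
  exact Finset.prod_lt_prod_of_nonempty (fun _ _ => Nat.card_pos) (fun g _ => h g) Finset.univ_nonempty

variable {G : Type u} [Group G]

/-- In a finite nilpotent group elements of coprime prime power order commute. -/
theorem commute_of_pPower {K : Type*} [Group K] [Finite K] [Group.IsNilpotent K] {p q : ℕ}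
    [Fact p.Prime] [Fact q.Prime] (hne : p ≠ q) {u v : K}
    (hu : ∃ k, u ^ p ^ k = 1) (hv : ∃ k, v ^ q ^ k = 1) : Commute u v := by
  obtain ⟨a, ha⟩ := hu
  obtain ⟨b, hb⟩ := hv
  have hzp : ∀ (r : ℕ) [Fact r.Prime] (w : K) (k : ℕ), w ^ r ^ k = 1 → IsPGroup r (Subgroup.zpowers w) := by
    intro r _ w k hw
    rintro ⟨x, m, rfl⟩
    refine ⟨k, Subtype.ext ?_⟩
    show (w ^ m) ^ r ^ k = 1
    rw [← zpow_natCast, ← zpow_mul, mul_comm, zpow_mul, zpow_natCast, hw, one_zpow]
  obtain ⟨P, hP⟩ := (hzp p u a ha).exists_le_sylow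
  obtain ⟨Q, hQ⟩ := (hzp q v b hb).exists_le_sylow
  have hPn := Sylow.normal_of_normalizerCondition Group.normalizerCondition_of_isNilpotent P
  have hQn := Sylow.normal_of_normalizerCondition Group.normalizerCondition_of_isNilpotent Q
  exact Subgroup.commute_of_normal_of_disjoint _ _ hPn hQn (P.2.disjoint_of_ne p q hne _ _ Q.2)
    u v (hP (Subgroup.mem_zpowers u)) (hQ (Subgroup.mem_zpowers v))

/-- The core statement. -/
theorem core [Fintype G] {p q : ℕ} [Fact p.Prime] [Fact q.Prime] (hne : p ≠ q)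
    (hodd : Odd (Nat.card G)) {a b : ℕ} (hcard : Nat.card G = p ^ a * q ^ b)
    (χ : IrrCharacter G) (hfaith : ∀ g, (χ : G → ℂ) g = (χ : G → ℂ) 1 → g = 1)
    (hqp : ∀ N : Subgroup G, N.Normal → ∃ (ϑ : N → ℂ) (e : ℕ),
      IsIrrCharacter N ϑ ∧ (fun n : N => (χ : G → ℂ) n) = (e : ℂ) • ϑ)
    (F : Subgroup G) [F.Normal] [Group.IsNilpotent F] (hZF : Subgroup.center G ≤ F)
    [Group.IsNilpotent (G ⧸ F)] :
    ∃ g : G, charDegree (χ : G → ℂ) ∣ (Subgroup.centralizer ({g} : Set G)).index := by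
  classical
  have hsolv : Group.IsSolvable G := by
    haveI : Group.IsSolvable F := inferInstance
    haveI : Group.IsSolvable (G ⧸ F) := inferInstance
    exact (Group.isSolvable_iff_subgroup_quotient F).2 ⟨inferInstance, inferInstance⟩
  obtain ⟨n, ρ, hρ, hρχ⟩ := χ.2
  haveI := hρ
  have hid : ∀ g, ρ g = LinearMap.id → g = 1 := fun g hg => hfaith g (by
    rw [← hρχ]
    show LinearMap.trace ℂ _ (ρ g) = LinearMap.trace ℂ _ (ρ 1)
    rw [hg, map_one]; rfl)
  -- normal abelian subgroups are central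
  have hab : ∀ A : Subgroup G, A.Normal → (∀ x ∈ A, ∀ y ∈ A, x * y = y * x) → A ≤ Subgroup.center G := by
    intro A hA hcomm x hx
    obtain ⟨ϑ, e, hϑ, he⟩ := hqp A hA
    haveI := Fintype.ofFinite A
    obtain ⟨m, σ, hσ, rfl⟩ := hϑ
    haveI := hσ
    have hxc : (⟨x, hx⟩ : A) ∈ Subgroup.center A :=
      Subgroup.mem_center_iff.2 fun y => Subtype.ext (hcomm y y.2 x hx)
    have h1 := (norm_char_eq_iff σ ⟨x, hx⟩).2 (exists_scalar_of_mem_center σ hxc)
    have h2 : ρ.character x = (e : ℂ) * σ.character ⟨x, hx⟩ := by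
      rw [hρχ]; exact congrFun he ⟨x, hx⟩
    have h3 : ρ.character 1 = (e : ℂ) * σ.character 1 := by
      rw [hρχ]; exact congrFun he 1
    rw [Representation.char_one, Representation.char_one] at h3
    have h4 : ‖ρ.character x‖ = (Module.finrank ℂ (Fin n → ℂ) : ℝ) := by
      rw [h2, norm_mul, h1, RCLike.norm_natCast]
      exact_mod_cast h3.symm
    obtain ⟨c, hc⟩ := (norm_char_eq_iff ρ x).1 h4
    rw [Subgroup.mem_center_iff]
    intro g
    refine mul_inv_eq_one.1 (hid _ ?_)
    have hcm : ρ g * ρ x = ρ x * ρ g := by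
      rw [hc]; ext v; simp [Module.End.mul_apply]
    rw [map_mul, map_mul, hcm, ← map_mul, ← map_mul, mul_inv_cancel, map_one]
    rfl
  set Z := Subgroup.center G with hZdef
  -- the derived subgroup of `F` is central
  have hFF : ⁅F, F⁆ ≤ Z := by
    by_contra hcon
    obtain ⟨A, ⟨hAn, hAD, hAZ⟩, hAmin⟩ := exists_minimal_of_wellFoundedLT
      (fun A : Subgroup G => A.Normal ∧ A ≤ ⁅F, F⁆ ∧ ¬ A ≤ Z) ⟨⁅F, F⁆, inferInstance, le_rfl, hcon⟩
    haveI := hAn
    have hAF : A ≤ F := hAD.trans (Subgroup.commutator_le_self F)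
    have hAF1 : ⁅A, F⁆ ≤ Z := by
      by_contra h
      have hle : ⁅A, F⁆ ≤ A := Subgroup.commutator_le_left A F
      have heq : A ≤ ⁅A, F⁆ := hAmin ⟨inferInstance, hle.trans hAD, h⟩ hle
      obtain ⟨k, hk⟩ := (Subgroup.isNilpotent_iff_lowerCentralSeries F).1 inferInstance
      have : ∀ i, A ≤ F.lowerCentralSeries i := fun i => by
        induction i with
        | zero => simpa using hAF
        | succ i ih => rw [Subgroup.lowerCentralSeries_succ]; exact heq.trans (Subgroup.commutator_mono ih le_rfl)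
      refine hAZ ((this k).trans ?_)
      rw [hk]; exact bot_le
    have h0 : ∀ B : Subgroup G, B ≤ Z → ⁅B, F⁆ = ⊥ := fun B hB =>
      Subgroup.commutator_eq_bot_iff_le_centralizer.2 (hB.trans (Subgroup.center_le_centralizer _))
    have h1 : ⁅⁅F, F⁆, A⁆ = ⊥ := Subgroup.commutator_commutator_eq_bot_of_rotate
      (by rw [Subgroup.commutator_comm F A]; exact h0 _ hAF1) (h0 _ hAF1)
    refine hAZ (hab A hAn fun x hx y hy => ?_)
    exact (Subgroup.mem_centralizer_iff.1 (Subgroup.commutator_eq_bot_iff_le_centralizer.1 h1 (hAD hx)) y hy).symm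
  -- the module `F / Z`
  let π := QuotientGroup.mk' Z
  let Fb : Subgroup (G ⧸ Z) := F.map π
  haveI : Fb.Normal := Subgroup.Normal.map inferInstance _ (QuotientGroup.mk'_surjective Z)
  letI : CommGroup Fb :=
    { (inferInstance : Group Fb) with
      mul_comm := by
        rintro ⟨_, x, hx, rfl⟩ ⟨_, y, hy, rfl⟩
        refine Subtype.ext ?_
        show π x * π y = π y * π x
        rw [← commutatorElement_eq_one_iff_mul_comm, ← map_commutatorElement]
        exact (QuotientGroup.eq_one_iff _).2 (hFF (Subgroup.commutator_mem_commutator hx hy)) }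
  let φ : G →* AddMonoid.End (Additive Fb) :=
    { toFun := fun g => (MulAut.conjNormal (H := Fb) (π g)).toMonoidHom.toAdditive
      map_one' := by simp only [map_one]; rfl
      map_mul' := fun g h => by simp only [map_mul]; rfl }
  have hφv : ∀ g (x : Additive Fb), ((Additive.toMul (φ g x) : Fb) : G ⧸ Z) =
      π g * ((Additive.toMul x : Fb) : G ⧸ Z) * (π g)⁻¹ := fun g x => MulAut.conjNormal_apply (π g) _
  have hφF : ∀ f ∈ F, ∀ x, φ f x = x := fun f hf x => by
    apply Additive.toMul.injective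
    refine Subtype.ext ?_
    rw [hφv]
    have := mul_comm (⟨π f, f, hf, rfl⟩ : Fb) (Additive.toMul x)
    rw [show π f * ((Additive.toMul x : Fb) : G ⧸ Z) = ((Additive.toMul x : Fb) : G ⧸ Z) * π f from
      congrArg Subtype.val this, mul_inv_cancel_right]
  -- no fixed points
  have hnofix : ∀ x : Additive Fb, (∀ g, φ g x = x) → x = 0 := by
    intro x hx
    obtain ⟨y, hy, hyx⟩ := (Additive.toMul x : Fb).2
    let A : Subgroup G := (Subgroup.zpowers (π y)).comap π
    have hyc : π y ∈ Subgroup.center (G ⧸ Z) := by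
      rw [Subgroup.mem_center_iff]
      intro w
      obtain ⟨g, rfl⟩ := QuotientGroup.mk'_surjective Z w
      have h := hφv g x
      rw [hx g, ← hyx] at h
      exact (mul_inv_eq_iff_eq_mul.1 h.symm)
    have hAn : A.Normal := by
      refine Subgroup.Normal.comap ⟨fun w hw k => ?_⟩ π
      obtain ⟨i, rfl⟩ := hw
      rw [Subgroup.mem_center_iff.1 (zpow_mem hyc i) k, mul_inv_cancel_right]
      exact ⟨i, rfl⟩
    have hAc := hab A hAn (by
      intro s hs t ht
      obtain ⟨i, hi⟩ := Subgroup.mem_zpowers_iff.1 hs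
      obtain ⟨j, hj⟩ := Subgroup.mem_zpowers_iff.1 ht
      have hs' : (y ^ i)⁻¹ * s ∈ Z := QuotientGroup.eq.1 (by rw [QuotientGroup.mk_zpow]; exact hi)
      have ht' : (y ^ j)⁻¹ * t ∈ Z := QuotientGroup.eq.1 (by rw [QuotientGroup.mk_zpow]; exact hj)
      have c1 : Commute (y ^ i) (y ^ j) := (Commute.refl y).zpow_zpow i j
      have c2 : ∀ w, Commute ((y ^ i)⁻¹ * s) w := fun w => (Subgroup.mem_center_iff.1 hs' w).symm
      have c3 : ∀ w, Commute ((y ^ j)⁻¹ * t) w := fun w => (Subgroup.mem_center_iff.1 ht' w).symm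
      have : Commute (y ^ i * ((y ^ i)⁻¹ * s)) (y ^ j * ((y ^ j)⁻¹ * t)) :=
        ((c1.mul_left (c2 _))).mul_right (((c3 _).symm).mul_left (c2 _))
      rw [mul_inv_cancel_left, mul_inv_cancel_left] at this
      exact this.eq)
    have h1 : π y = 1 := (QuotientGroup.eq_one_iff y).2 (hAc (Subgroup.mem_zpowers (π y)))
    apply Additive.toMul.injective
    exact Subtype.ext (hyx.symm.trans h1)
  -- the cardinalities
  obtain ⟨a', -, b', -, hM⟩ : ∃ a' ≤ a, ∃ b' ≤ b, Nat.card (Additive Fb) = p ^ a' * q ^ b' := by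
    have hd : Nat.card (Additive Fb) ∣ p ^ a * q ^ b := by
      rw [← hcard]
      exact (Subgroup.card_subgroup_dvd_card Fb).trans (Subgroup.card_quotient_dvd_card Z)
    obtain ⟨d1, d2, h1, h2, h3⟩ := exists_dvd_and_dvd_of_dvd_mul hd
    obtain ⟨i, hi, rfl⟩ := (Nat.dvd_prime_pow Fact.out).1 h1
    obtain ⟨j, hj, rfl⟩ := (Nat.dvd_prime_pow Fact.out).1 h2
    exact ⟨i, hi, j, hj, h3⟩
  let part : ℕ → AddSubgroup (Additive Fb) := fun m =>
    { carrier := {x | m • x = 0}
      zero_mem' := smul_zero m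
      add_mem' := fun {x y} hx hy => by
        show m • (x + y) = 0
        rw [smul_add, hx, hy, add_zero]
      neg_mem' := fun {x} hx => by
        show m • -x = 0
        rw [smul_neg, hx, neg_zero] }
  have hpinv : ∀ m g, ∀ x ∈ part m, φ g x ∈ part m := fun m g x hx => by
    show m • φ g x = 0
    rw [← map_nsmul, hx, map_zero]
  have hpcard : ∀ (r : ℕ) [Fact r.Prime] (i : ℕ), ∃ k, Nat.card (part (r ^ i)) = r ^ k := by
    intro r hr i
    have h : IsPGroup r (Multiplicative (part (r ^ i))) := fun x => ⟨i, by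
      apply Multiplicative.toAdd.injective
      rw [toAdd_pow, toAdd_one]
      exact Subtype.ext x.toAdd.2⟩
    obtain ⟨k, hk⟩ := IsPGroup.iff_card.1 h
    exact ⟨k, by rw [← Nat.card_congr (Multiplicative.toAdd : Multiplicative (part (r ^ i)) ≃ _), hk]⟩
  have hcop : ∀ i j, (p ^ i).Coprime (q ^ j) := fun i j =>
    Nat.Coprime.pow _ _ ((Nat.coprime_primes Fact.out Fact.out).2 hne)
  set HP := part (p ^ a') with hHP
  set HQ := part (q ^ b') with hHQ
  have hdis : ∀ x, x ∈ HP → x ∈ HQ → x = 0 := fun x hxp hxq => by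
    have h1 : addOrderOf x ∣ p ^ a' := addOrderOf_dvd_of_nsmul_eq_zero hxp
    have h2 : addOrderOf x ∣ q ^ b' := addOrderOf_dvd_of_nsmul_eq_zero hxq
    exact AddMonoid.addOrderOf_eq_one_iff.1 (Nat.eq_one_of_dvd_coprimes (hcop _ _) h1 h2)
  obtain ⟨hPc, hQc⟩ : Nat.card HP = p ^ a' ∧ Nat.card HQ = q ^ b' := by
    obtain ⟨i, hi⟩ := hpcard p a'
    obtain ⟨j, hj⟩ := hpcard q b'
    have hPd : Nat.card HP ∣ p ^ a' := by
      rw [hi]
      refine (Nat.Coprime.dvd_mul_right (hcop i b')).1 ?_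
      rw [← hi, ← hM]; exact AddSubgroup.card_addSubgroup_dvd_card HP
    have hQd : Nat.card HQ ∣ q ^ b' := by
      rw [hj]
      refine (Nat.Coprime.dvd_mul_left (hcop a' j).symm).1 ?_
      rw [← hj, ← hM]; exact AddSubgroup.card_addSubgroup_dvd_card HQ
    have hsum : Nat.card (Additive Fb) ≤ Nat.card HP * Nat.card HQ := by
      rw [← Nat.card_prod]
      refine Nat.card_le_card_of_surjective (fun t : HP × HQ => (t.1 : Additive Fb) + t.2) fun x => ?_
      obtain ⟨s, t, hst⟩ : ∃ s t : ℤ, (p ^ a' : ℕ) * s + (q ^ b' : ℕ) * t = 1 := by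
        have := Int.gcd_eq_gcd_ab (p ^ a' : ℕ) (q ^ b' : ℕ)
        rw [Int.gcd_natCast_natCast, hcop a' b'] at this
        exact ⟨_, _, by exact_mod_cast this.symm⟩
      have hkill : (p ^ a' * q ^ b') • x = 0 := by rw [← hM]; exact card_nsmul_eq_zero'
      refine ⟨(⟨((q ^ b' : ℕ) * t : ℤ) • x, ?_⟩, ⟨((p ^ a' : ℕ) * s : ℤ) • x, ?_⟩), ?_⟩
      · show (p ^ a') • _ = (0 : Additive Fb)
        rw [← natCast_zsmul, smul_smul, ← mul_assoc, mul_comm _ t, mul_smul, ← Nat.cast_mul, natCast_zsmul,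
          hkill, smul_zero]
      · show (q ^ b') • _ = (0 : Additive Fb)
        rw [← natCast_zsmul, smul_smul, ← mul_assoc, mul_comm _ s, mul_smul, ← Nat.cast_mul, natCast_zsmul,
          mul_comm (q ^ b'), hkill, smul_zero]
      · show _ + _ = x
        rw [← add_smul, add_comm, hst, one_smul]
    rw [hM] at hsum
    have e1 := Nat.le_of_dvd (pow_pos (Fact.out : p.Prime).pos _) hPd
    have e2 := Nat.le_of_dvd (pow_pos (Fact.out : q.Prime).pos _) hQd
    constructor
    · by_contra h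
      exact absurd hsum (not_le.2 (lt_of_lt_of_le (Nat.mul_lt_mul_of_pos_right (lt_of_le_of_ne e1 h)
        Nat.card_pos) (Nat.mul_le_mul_left _ e2)))
    · by_contra h
      exact absurd hsum (not_le.2 (lt_of_lt_of_le (Nat.mul_lt_mul_of_pos_left (lt_of_le_of_ne e2 h)
        Nat.card_pos) (Nat.mul_le_mul_right _ e1)))
  -- Sylow subgroups
  let P : Sylow p G := default
  let Q : Sylow q G := default
  have hPQ : (P : Subgroup G) ⊔ Q = ⊤ := by
    have hP : Nat.card P = p ^ a := by
      rw [P.card_eq_multiplicity, hcard, Nat.factorization_mul (pow_ne_zero _ (Fact.out : p.Prime).ne_zero)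
        (pow_ne_zero _ (Fact.out : q.Prime).ne_zero), Finsupp.add_apply, Nat.Prime.factorization_pow Fact.out,
        Nat.Prime.factorization_pow Fact.out, Finsupp.single_eq_same, Finsupp.single_eq_of_ne hne, add_zero]
    have hQ : Nat.card Q = q ^ b := by
      rw [Q.card_eq_multiplicity, hcard, Nat.factorization_mul (pow_ne_zero _ (Fact.out : p.Prime).ne_zero)
        (pow_ne_zero _ (Fact.out : q.Prime).ne_zero), Finsupp.add_apply, Nat.Prime.factorization_pow Fact.out,
        Nat.Prime.factorization_pow Fact.out, Finsupp.single_eq_same, Finsupp.single_eq_of_ne hne.symm, zero_add]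
    refine Subgroup.eq_top_of_card_eq _ (Nat.dvd_antisymm (Subgroup.card_subgroup_dvd_card _) ?_)
    rw [hcard]
    refine (hcop a b).mul_dvd_of_dvd_of_dvd ?_ ?_
    · rw [← hP]; exact Subgroup.card_dvd_of_le le_sup_left
    · rw [← hQ]; exact Subgroup.card_dvd_of_le le_sup_right
  have hFcomm : ∀ u v : G, (∃ k, u ^ p ^ k = 1) → (∃ k, v ^ q ^ k = 1) →
      ∀ x, φ u (φ v x) = φ v (φ u x) := by
    rintro u v ⟨i, hu⟩ ⟨j, hv⟩ x
    have hc : Commute (u : G ⧸ F) (v : G ⧸ F) := commute_of_pPower hne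
      ⟨i, by rw [← QuotientGroup.mk_pow, hu, QuotientGroup.mk_one]⟩
      ⟨j, by rw [← QuotientGroup.mk_pow, hv, QuotientGroup.mk_one]⟩
    have hm : (v * u)⁻¹ * (u * v) ∈ F := QuotientGroup.eq.1 (by
      rw [QuotientGroup.mk_mul, QuotientGroup.mk_mul]; exact hc.eq.symm)
    have h := hφF _ hm x
    have e : ∀ g h : G, ∀ w, φ (g * h) w = φ g (φ h w) := fun g h w => by rw [map_mul]; rfl
    rw [← e, ← e]
    conv_rhs => rw [← h, ← e, mul_inv_cancel_left]
  have hP1 : ∀ u ∈ (P : Subgroup G), ∃ k, u ^ p ^ k = 1 := fun u hu => by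
    obtain ⟨k, hk⟩ := P.2 ⟨u, hu⟩
    exact ⟨k, by simpa using congrArg Subtype.val hk⟩
  have hQ1 : ∀ u ∈ (Q : Subgroup G), ∃ k, u ^ q ^ k = 1 := fun u hu => by
    obtain ⟨k, hk⟩ := Q.2 ⟨u, hu⟩
    exact ⟨k, by simpa using congrArg Subtype.val hk⟩
  have hoddsub : ∀ S : Subgroup G, Odd (Nat.card S) := fun S =>
    hodd.of_dvd_nat (Subgroup.card_subgroup_dvd_card S)
  -- one prime at a time: elements of one Sylow subgroup with small fixed group on the other part
  have hone : ∀ (r : ℕ) [Fact r.Prime] (R S : Subgroup G), IsPGroup r R → R ⊔ S = ⊤ →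
      (∀ u ∈ R, ∀ v ∈ S, ∀ x, φ u (φ v x) = φ v (φ u x)) → Group.IsNilpotent S →
      ∀ c, Nat.card (part (r ^ c)) = r ^ c →
      ∃ v ∈ S, Nat.card {x // x ∈ part (r ^ c) ∧ φ v x = x} ^ 3 ≤ r ^ c := by
    intro r _ R S hR htop hcm hS c hc
    haveI := hS
    obtain ⟨v, hv⟩ := exists_small_fixed (hoddsub S) (φ.comp S.subtype) (part (r ^ c))
      (fun k => hpinv _ _) fun x hx hfx => by
        by_contra hx0
        let W : AddSubgroup (Additive Fb) :=
          { carrier := {y | y ∈ part (r ^ c) ∧ ∀ v ∈ S, φ v y = y}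
            zero_mem' := ⟨zero_mem _, fun v _ => map_zero _⟩
            add_mem' := fun {y z} hy hz => ⟨add_mem hy.1 hz.1, fun v hv => by rw [map_add, hy.2 v hv, hz.2 v hv]⟩
            neg_mem' := fun {y} hy => ⟨neg_mem hy.1, fun v hv => by rw [map_neg, hy.2 v hv]⟩ }
        have hxW : x ∈ W := ⟨hx, fun v hv => hfx ⟨v, hv⟩⟩
        letI : MulAction R W :=
          { smul := fun u y => ⟨φ (u : G) y, hpinv _ _ _ y.2.1, fun v hv => by
              rw [← hcm u u.2 v hv, y.2.2 v hv]⟩
            one_smul := fun y => Subtype.ext (by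
              show φ ((1 : R) : G) (y : Additive Fb) = y
              rw [OneMemClass.coe_one, map_one]; rfl)
            mul_smul := fun u w y => Subtype.ext (by
              show φ ((u * w : R) : G) (y : Additive Fb) = φ u (φ w y)
              rw [Subgroup.coe_mul, map_mul]; rfl) }
        have hdvd : r ∣ Nat.card W := by
          have hle : W ≤ part (r ^ c) := fun y hy => hy.1
          obtain ⟨k, -, hk⟩ := (Nat.dvd_prime_pow Fact.out).1 (hc ▸ AddSubgroup.card_dvd_of_le hle)
          rcases Nat.eq_zero_or_pos k with rfl | hk0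
          · rw [pow_zero, AddSubgroup.card_eq_one] at hk
            rw [hk, AddSubgroup.mem_bot] at hxW
            exact absurd hxW hx0
          · rw [hk]; exact dvd_pow_self r hk0.ne'
        have h0 : (0 : W) ∈ MulAction.fixedPoints R W := fun u => Subtype.ext (map_zero (φ (u : G)))
        obtain ⟨y, hy, hy0⟩ := hR.exists_fixed_point_of_prime_dvd_card_of_fixed_point W hdvd h0
        refine hy0 (Subtype.ext (hnofix (y : Additive Fb) fun g => ?_).symm)
        have hg : g ∈ R ⊔ S := htop ▸ Subgroup.mem_top g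
        refine (Subgroup.sup_eq_closure R S ▸ hg : g ∈ Subgroup.closure ((R : Set G) ∪ S)) |>
          Subgroup.closure_induction (p := fun g _ => φ g (y : Additive Fb) = (y : Additive Fb))
          (fun g hg => hg.elim (fun h => congrArg Subtype.val (hy ⟨g, h⟩)) (fun h => y.2.2 g h))
          (by rw [map_one]; rfl)
          (fun g h _ _ e1 e2 => by
            rw [map_mul]; show φ g (φ h _) = _; rw [e2, e1])
          (fun g _ e => by
            conv_lhs => rw [← e]
            show (φ g⁻¹ * φ g) _ = _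
            rw [← map_mul, inv_mul_cancel, map_one]; rfl)
    exact ⟨v, v.2, le_of_le_of_eq hv hc⟩
  obtain ⟨v, hvQ, hv⟩ := hone p P Q P.2 hPQ
    (fun u hu w hw x => hFcomm u w (hP1 u hu) (hQ1 w hw) x) Q.2.isNilpotent a' hPc
  obtain ⟨u, huP, hu⟩ := hone q Q P Q.2 (by rw [sup_comm, hPQ])
    (fun u hu w hw x => (hFcomm w u (hP1 w hw) (hQ1 u hu) x).symm) P.2.isNilpotent b' hQc
  refine ⟨u * v, ?_⟩
  set g := u * v with hg
  -- fixed points of `g` are fixed by `u` and by `v`
  have hpw : ∀ (w : G) (x : Additive Fb), φ w x = x → ∀ m : ℕ, φ (w ^ m) x = x := fun w x h m => by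
    induction m with
    | zero => rw [pow_zero, map_one]; rfl
    | succ m ihm =>
      rw [pow_succ, map_mul]
      show φ (w ^ m) (φ w x) = x
      rw [h, ihm]
  have hsplit : ∀ x, φ g x = x → φ u x = x ∧ φ v x = x := by
    intro x hx
    obtain ⟨i, hi⟩ := hP1 u huP
    obtain ⟨j, hj⟩ := hQ1 v hvQ
    have hcom : Commute (φ u) (φ v) := DFunLike.ext _ _ fun y => hFcomm u v ⟨i, hi⟩ ⟨j, hj⟩ y
    have hgk : ∀ m, φ (g ^ m) = φ (u ^ m) * φ (v ^ m) := fun m => by
      rw [map_pow, hg, map_mul, hcom.mul_pow, ← map_pow, ← map_pow]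
    have h1 : φ (v ^ p ^ i) x = x := by
      have := hpw g x hx (p ^ i)
      rwa [hgk, hi, map_one, one_mul] at this
    have h2 : φ (u ^ q ^ j) x = x := by
      have := hpw g x hx (q ^ j)
      rwa [hgk, hj, map_one, mul_one] at this
    constructor
    · obtain ⟨m, hm⟩ := exists_pow_eq_self_of_coprime (x := u) (n := q ^ j)
        ((hcop i j).symm.coprime_dvd_right (orderOf_dvd_of_pow_eq_one hi))
      rw [← hm]; exact hpw _ x h2 m
    · obtain ⟨m, hm⟩ := exists_pow_eq_self_of_coprime (x := v) (n := p ^ i)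
        ((hcop i j).coprime_dvd_right (orderOf_dvd_of_pow_eq_one hj))
      rw [← hm]; exact hpw _ x h1 m
  -- fixed subgroup of `g`
  let φg : Additive Fb →+ Additive Fb := φ g
  let D : AddSubgroup (Additive Fb) := (φg - AddMonoidHom.id _).ker
  have hD : ∀ x, x ∈ D ↔ φ g x = x := fun x => by show φ g x - x = 0 ↔ _; rw [sub_eq_zero]
  have hDidx : D.index ∣ (Subgroup.centralizer ({g} : Set G)).index := by
    let f : F →* Multiplicative (Additive Fb) :=
      { toFun := fun x => Multiplicative.ofAdd (Additive.ofMul (⟨π x, x, x.2, rfl⟩ : Fb))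
        map_one' := rfl
        map_mul' := fun x y => rfl }
    let D' : Subgroup (Multiplicative (Additive Fb)) := AddSubgroup.toSubgroup D
    have hfs : Function.Surjective f := fun w => by
      obtain ⟨y, hy, hyw⟩ := (Additive.toMul (Multiplicative.toAdd w) : Fb).2
      exact ⟨⟨y, hy⟩, Multiplicative.toAdd.injective (Additive.toMul.injective (Subtype.ext hyw))⟩
    set C := Subgroup.centralizer ({g} : Set G)
    have hle : C.subgroupOf F ≤ D'.comap f := by
      intro x hx
      refine (hD _).2 (Additive.toMul.injective (Subtype.ext ?_))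
      rw [hφv]
      show π g * π x * (π g)⁻¹ = π x
      rw [← map_mul, Subgroup.mem_centralizer_singleton_iff.1 (Subgroup.mem_subgroupOf.1 hx) |>.symm,
        map_mul, mul_inv_cancel_right]
    have h1 : (D'.comap f).index = D.index := by
      rw [Subgroup.index_comap_of_surjective D' hfs]; rfl
    refine h1 ▸ (Subgroup.index_dvd_of_le hle).trans ?_
    show C.relIndex F ∣ C.index
    refine Dvd.intro (C ⊔ F).index ?_
    have hri : ∀ H K : Subgroup G, H.relIndex K * Nat.card (H ⊓ K : Subgroup G) = Nat.card K := fun H K => by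
      rw [← Subgroup.inf_relIndex_right, ← Subgroup.relIndex_bot_left (H := (H ⊓ K : Subgroup G)),
        ← Subgroup.relIndex_bot_left (H := K), mul_comm]
      exact Subgroup.relIndex_mul_relIndex _ _ _ bot_le inf_le_right
    have e1 := hri C F
    have e2 := hri F C
    have e3 := hri C (C ⊔ F)
    have e4 := hri F (C ⊔ F)
    rw [inf_eq_left.2 le_sup_left] at e3
    rw [inf_eq_left.2 le_sup_right, Subgroup.relIndex_sup_right] at e4
    rw [inf_comm] at e2
    have e5 : C.relIndex (C ⊔ F) = C.relIndex F := by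
      refine Nat.eq_of_mul_eq_mul_right (m := Nat.card C) Nat.card_pos ?_
      rw [e3, ← e4]
      calc F.relIndex C * Nat.card F = F.relIndex C * (C.relIndex F * Nat.card (C ⊓ F : Subgroup G)) := by rw [e1]
        _ = C.relIndex F * (F.relIndex C * Nat.card (C ⊓ F : Subgroup G)) := by ring
        _ = _ := by rw [e2]
    rw [← e5]
    exact Subgroup.relIndex_mul_index le_sup_left
  -- the degree
  have hrs := CfsgLib.Char.Berger.ratio_sq (χ : G → ℂ) χ.2 hqp
  have hdeg : ∃ k1 k2 : ℕ, charDegree (χ : G → ℂ) = k1 * k2 ∧ k1 ^ 2 ∣ p ^ a' ∧ k2 ^ 2 ∣ q ^ b' := by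
    let NP : Subgroup G :=
      { carrier := {x | x ∈ F ∧ π x ^ p ^ a' = 1}
        one_mem' := ⟨one_mem F, by rw [map_one, one_pow]⟩
        mul_mem' := fun {x y} hx hy => ⟨mul_mem hx.1 hy.1, by
          have hc : Commute (π x) (π y) :=
            congrArg Subtype.val (mul_comm (⟨π x, x, hx.1, rfl⟩ : Fb) ⟨π y, y, hy.1, rfl⟩)
          rw [map_mul, hc.mul_pow, hx.2, hy.2, one_mul]⟩
        inv_mem' := fun {x} hx => ⟨inv_mem hx.1, by rw [map_inv, inv_pow, hx.2, inv_one]⟩ }
    haveI hNPn : NP.Normal := ⟨fun x hx w => ⟨(inferInstance : F.Normal).conj_mem x hx.1 w, by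
      rw [map_mul, map_mul, map_inv, conj_pow, hx.2, mul_one, mul_inv_cancel]⟩⟩
    have hπZ : ∀ z ∈ Z, π z = 1 := fun z hz => (QuotientGroup.eq_one_iff z).2 hz
    have hZNP : Z ≤ NP := fun z hz => ⟨hZF hz, by rw [hπZ z hz, one_pow]⟩
    have hNPF : NP ≤ F := fun x hx => hx.1
    have hker : π.ker = Z := QuotientGroup.ker_mk' Z
    have hr1 : Z.relIndex NP = p ^ a' := by
      rw [← hPc]
      refine ((congrArg (fun W : Subgroup G => W.relIndex NP) hker).symm.trans (Subgroup.relIndex_ker NP π)).trans ?_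
      refine Nat.card_congr
        { toFun := fun w => ⟨Additive.ofMul (⟨(w : G ⧸ Z), by
              obtain ⟨_, x, hx, rfl⟩ := w; exact ⟨x, hx.1, rfl⟩⟩ : Fb), by
              show (p ^ a') • _ = (0 : Additive Fb)
              apply Additive.toMul.injective
              refine Subtype.ext ?_
              obtain ⟨_, x, hx, rfl⟩ := w
              exact hx.2⟩
          invFun := fun w => ⟨((Additive.toMul (w : Additive Fb) : Fb) : G ⧸ Z), by
              obtain ⟨y, hy, hyw⟩ := (Additive.toMul (w : Additive Fb) : Fb).2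
              refine ⟨y, ⟨hy, ?_⟩, hyw⟩
              rw [hyw]
              exact congrArg (fun t : Additive Fb => ((Additive.toMul t : Fb) : G ⧸ Z)) w.2⟩
          left_inv := fun w => rfl
          right_inv := fun w => rfl }
    have hr2 : NP.relIndex F = q ^ b' := by
      have h := Subgroup.relIndex_mul_relIndex Z NP F hZNP hNPF
      have hF : Z.relIndex F = p ^ a' * q ^ b' := by
        rw [← hM]
        exact ((congrArg (fun W : Subgroup G => W.relIndex F) hker).symm.trans (Subgroup.relIndex_ker F π))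
      rw [hr1, hF] at h
      exact Nat.eq_of_mul_eq_mul_left (pow_pos (Fact.out : p.Prime).pos _) h
    obtain ⟨ζ, eZ, hζ, heZ⟩ := hqp Z inferInstance
    obtain ⟨θP, eP, hθP, heP⟩ := hqp NP hNPn
    obtain ⟨θ, eF, hθ, heF⟩ := hqp F inferInstance
    have hζ1 : ζ 1 = 1 := by
      haveI := Fintype.ofFinite Z
      exact degree_one_of_comm
        (fun x y : Z => Subtype.ext (Subgroup.mem_center_iff.1 x.2 y).symm) ⟨ζ, hζ⟩
    obtain ⟨k1, hk1, hd1⟩ := hrs Z hζ heZ _ NP hNPn hZNP rfl θP eP hθP heP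
    obtain ⟨k2, hk2, hd2⟩ := hrs NP hθP heP _ F inferInstance hNPF rfl θ eF hθ heF
    refine ⟨k1, k2, ?_, hr1 ▸ hd1, hr2 ▸ hd2⟩
    -- above `F` every step has prime index
    have hup : ∀ m, ∀ (N : Subgroup G) [N.Normal], F ≤ N → N.index = m → ∀ (ϑ : N → ℂ) (e : ℕ),
        IsIrrCharacter N ϑ → (fun x : N => (χ : G → ℂ) x) = (e : ℂ) • ϑ → ϑ 1 = (χ : G → ℂ) 1 := by
      intro m
      induction m using Nat.strong_induction_on with
      | _ m ih =>
      intro N _ hFN hm ϑ e hϑ he
      by_cases hN : N = ⊤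
      · subst hN
        haveI := Fintype.ofFinite (⊤ : Subgroup G)
        have htop : IsIrrCharacter (⊤ : Subgroup G) (fun x : (⊤ : Subgroup G) => (χ : G → ℂ) x) :=
          isIrrCharacter_comp_surjective χ.2 (Subgroup.topEquiv : (⊤ : Subgroup G) ≃* G).toMonoidHom (MulEquiv.surjective _)
        have h1 := CfsgLib.Char.Berger.irr_smul_eq hϑ htop (a := (e : ℂ)) (b := 1)
          (fun h0 => irr_one_ne_zero χ (by
            have := congrFun he 1
            simpa [h0] using this)) (by rw [one_smul]; exact he.symm)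
        exact congrFun h1 1
      haveI : Group.IsNilpotent (G ⧸ N) := Group.nilpotent_of_surjective
        (QuotientGroup.map F N (MonoidHom.id G) hFN) (fun w => by
          obtain ⟨x, rfl⟩ := QuotientGroup.mk_surjective w; exact ⟨(x : G ⧸ F), rfl⟩)
      have : Nontrivial (G ⧸ N) := Finite.one_lt_card_iff_nontrivial.1 (Subgroup.one_lt_index_of_ne_top hN)
      obtain ⟨r, hr, hrd⟩ := Nat.exists_prime_and_dvd
        (Finite.one_lt_card_iff_nontrivial.2 ((Subgroup.nontrivial_iff_ne_bot _).2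
          (Group.IsNilpotent.center_ne_bot (G := G ⧸ N)))).ne'
      haveI := Fact.mk hr
      obtain ⟨w, hw⟩ := exists_prime_orderOf_dvd_card' r hrd
      let N' : Subgroup G := (Subgroup.zpowers (w : G ⧸ N)).comap (QuotientGroup.mk' N)
      haveI hN'n : N'.Normal := by
        refine Subgroup.Normal.comap ⟨fun v hv k => ?_⟩ _
        obtain ⟨i, rfl⟩ := hv
        rw [Subgroup.mem_center_iff.1 (zpow_mem w.2 i) k, mul_inv_cancel_right]
        exact ⟨i, rfl⟩
      have hNN' : N ≤ N' := fun x hx => by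
        show (x : G ⧸ N) ∈ Subgroup.zpowers (w : G ⧸ N)
        rw [(QuotientGroup.eq_one_iff x).2 hx]; exact one_mem _
      have hrel : N.relIndex N' = r := by
        have h := Subgroup.relIndex_ker (K := N') (QuotientGroup.mk' N)
        rw [QuotientGroup.ker_mk'] at h
        rw [h, Subgroup.map_comap_eq_self_of_surjective (QuotientGroup.mk'_surjective N), Nat.card_zpowers,
          Subgroup.orderOf_coe, hw]
      have hlt : N'.index < m := by
        rw [← hm, ← Subgroup.relIndex_mul_index hNN', hrel]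
        exact lt_mul_of_one_lt_left (Nat.pos_of_ne_zero Subgroup.index_ne_zero_of_finite) hr.one_lt
      obtain ⟨ϑ', e', hϑ', he'⟩ := hqp N' hN'n
      obtain ⟨k, hk, hd⟩ := hrs N hϑ he _ N' hN'n hNN' rfl ϑ' e' hϑ' he'
      rw [hrel] at hd
      have hk1 : k = 1 := by
        rcases (Nat.dvd_prime hr).1 hd with h | h
        · exact (Nat.pow_eq_one.1 h).resolve_right two_ne_zero
        · exact absurd (h ▸ hr) (Nat.Prime.not_prime_pow le_rfl)
      rw [hk1, Nat.cast_one, one_mul] at hk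
      rw [← hk]
      exact ih _ hlt N' (hFN.trans hNN') rfl ϑ' e' hϑ' he'
    have hχ1 := hup _ F le_rfl rfl θ eF hθ heF
    rw [hk2, hk1, hζ1, mul_one] at hχ1
    rw [CfsgLib.Block.ItoMichler.one_eq_cast χ, ← Nat.cast_mul, Nat.cast_inj] at hχ1
    rw [← hχ1, mul_comm]
  obtain ⟨k1, k2, hk, hk1, hk2⟩ := hdeg
  rw [hk]
  refine dvd_trans ?_ hDidx
  have hkey : ∀ (r c k : ℕ) [Fact r.Prime], Nat.card (part (r ^ c)) = r ^ c → k ^ 2 ∣ r ^ c →
      Nat.card {x // x ∈ part (r ^ c) ∧ φ g x = x} ^ 3 ≤ r ^ c → k ∣ D.index := by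
    intro r c k _ hc hk hle
    have h1 : D.relIndex (part (r ^ c)) ∣ D.index := AddSubgroup.relIndex_dvd_index_of_normal D _
    have h2 : D.relIndex (part (r ^ c)) * Nat.card {x // x ∈ part (r ^ c) ∧ φ g x = x} = r ^ c := by
      have := AddSubgroup.index_mul_card (D.addSubgroupOf (part (r ^ c)))
      rw [hc] at this
      refine Eq.trans ?_ this
      rw [Nat.card_congr
        (show {x // x ∈ part (r ^ c) ∧ φ g x = x} ≃ D.addSubgroupOf (part (r ^ c)) from
        { toFun := fun x => ⟨⟨x, x.2.1⟩, (hD _).2 x.2.2⟩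
          invFun := fun x => ⟨x, (x : part (r ^ c)).2, (hD _).1 x.2⟩
          left_inv := fun x => rfl
          right_inv := fun x => rfl })]
      rfl
    obtain ⟨s, hsc, hs⟩ := (Nat.dvd_prime_pow Fact.out).1 (Dvd.intro _ h2)
    obtain ⟨t, htc, ht⟩ := (Nat.dvd_prime_pow Fact.out).1 (Dvd.intro_left _ h2)
    obtain ⟨x, hxc, rfl⟩ : ∃ x ≤ c, k = r ^ x :=
      (Nat.dvd_prime_pow Fact.out).1 ((dvd_pow_self k two_ne_zero).trans hk)
    rw [← pow_mul, Nat.pow_dvd_pow_iff_le_right (Fact.out : r.Prime).one_lt] at hk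
    rw [ht, ← pow_mul, Nat.pow_le_pow_iff_right (Fact.out : r.Prime).one_lt] at hle
    rw [hs, ht, ← pow_add] at h2
    have := Nat.pow_right_injective (Fact.out : r.Prime).two_le h2
    exact ((pow_dvd_pow r (show x ≤ s by omega)).trans hs.symm.dvd).trans h1
  obtain ⟨x, -, hx⟩ := (Nat.dvd_prime_pow Fact.out).1 ((dvd_pow_self k1 two_ne_zero).trans hk1)
  obtain ⟨y, -, hy⟩ := (Nat.dvd_prime_pow Fact.out).1 ((dvd_pow_self k2 two_ne_zero).trans hk2)
  refine Nat.Coprime.mul_dvd_of_dvd_of_dvd (by rw [hx, hy]; exact hcop x y)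
    (hkey p a' k1 hPc hk1 (le_trans ?_ hv)) (hkey q b' k2 hQc hk2 (le_trans ?_ hu))
  · exact Nat.pow_le_pow_left (Nat.card_le_card_of_injective (fun x => (⟨x.1, x.2.1, (hsplit x.1 x.2.2).2⟩ :
      {y // y ∈ HP ∧ φ v y = y})) fun x y h => Subtype.ext (by simpa using congrArg Subtype.val h)) 3
  · exact Nat.pow_le_pow_left (Nat.card_le_card_of_injective (fun x => (⟨x.1, x.2.1, (hsplit x.1 x.2.2).1⟩ :
      {y // y ∈ HQ ∧ φ u y = y})) fun x y h => Subtype.ext (by simpa using congrArg Subtype.val h)) 3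

end CfsgLib.Invol.PrimMeta
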