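import Cfsg.Agent.Lib.Invol.DihedralSubgroup
import Mathlib.GroupTheory.SpecificGroups.Quaternion
import Mathlib.Tactic.Group
import Mathlib.Tactic.Abel

/-!
# Automorphisms of normal subgroups of large quaternion groups
-/

set_option autoImplicit false

namespace CfsgLib.Invol

open QuaternionGroup

/-- An automorphism of odd order of a normal subgroup of a quaternion group of order at least 32
is trivial. -/
theorem aut_eq_one_of_quaternion_normal {H : Type*} [Group H] [Finite H] (hH : IsPGroup 2 H)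
    {n : ℕ} (hn : 3 ≤ n) (φ : H →* QuaternionGroup (2 ^ n)) (hφ : Function.Injective φ)
    (hnorm : ∀ q h, q * φ h * q⁻¹ ∈ φ.range) (σ : MulAut H) {m : ℕ} (hm : Odd m)
    (hσ : σ ^ m = 1) : σ = 1 := by
  haveI : NeZero (2 ^ n) := ⟨by positivity⟩
  obtain ⟨K, hK⟩ : ∃ K : Subgroup H,
      K = (Subgroup.zpowers (a 1 : QuaternionGroup (2 ^ n))).comap φ := ⟨_, rfl⟩
  have ha : ∀ i : ZMod (2 * 2 ^ n), a i ∈ Subgroup.zpowers (a 1 : QuaternionGroup (2 ^ n)) := by
    intro i
    refine ⟨(i.val : ℤ), ?_⟩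
    show (a 1 : QuaternionGroup (2 ^ n)) ^ (i.val : ℤ) = a i
    rw [zpow_natCast, a_one_pow, ZMod.natCast_zmod_val]
  haveI hcyc : IsCyclic K := by
    subst hK
    exact isCyclic_of_injective (φ.subgroupComap _)
      (fun u v h => Subtype.ext (hφ (congrArg Subtype.val h)))
  have hout : ∀ x, x ∉ K → ∃ i, φ x = xa i := by
    intro x hx
    cases h : φ x with
    | a i => exact absurd (show x ∈ K by rw [hK, Subgroup.mem_comap, h]; exact ha i) hx
    | xa i => exact ⟨i, rfl⟩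
  by_cases htop : K = ⊤
  · haveI : IsCyclic H := isCyclic_of_surjective (K.subtype)
      (fun x => ⟨⟨x, htop ▸ Subgroup.mem_top x⟩, rfl⟩)
    exact aut_eq_one_of_cyclic_two_group hH σ hm hσ
  obtain ⟨x₀, -, hx₀⟩ := SetLike.exists_of_lt (lt_top_iff_ne_top.2 htop)
  obtain ⟨i, hi⟩ := hout x₀ hx₀
  obtain ⟨y, hy⟩ := hnorm (a 1) x₀
  have hK2 : ∀ u v : H, u ∉ K → v ∉ K → u⁻¹ * v ∈ K := by
    intro u v hu hv
    obtain ⟨k, hk⟩ := hout u hu
    obtain ⟨l, hl⟩ := hout v hv
    rw [hK, Subgroup.mem_comap, map_mul, map_inv, hk, hl]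
    show a _ ∈ _
    exact ha _
  -- an element of `K` of large order
  have hinv : ∀ j : ZMod (2 * 2 ^ n), (a j : QuaternionGroup (2 ^ n))⁻¹ = a (-j) := fun j => rfl
  have h2 : φ (x₀⁻¹ * y) = a (-2) := by
    rw [map_mul, map_inv, hy, hi, inv_mul_eq_iff_eq_mul, hinv, a_mul_xa, xa_mul_a, xa_mul_a]
    congr 1
    ring
  have hord : orderOf (x₀⁻¹ * y) = 2 ^ n := by
    rw [← orderOf_injective φ hφ, h2, show (a (-2) : QuaternionGroup (2 ^ n)) = (a 1 ^ 2)⁻¹ by
      rw [a_one_pow, hinv]; norm_num, orderOf_inv, orderOf_pow, orderOf_a_one,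
      Nat.gcd_eq_right (Dvd.intro _ rfl), Nat.mul_div_cancel_left _ two_pos]
  have hyK : x₀⁻¹ * y ∈ K := by rw [hK, Subgroup.mem_comap, h2]; exact ha _
  obtain ⟨g, hg⟩ := IsCyclic.exists_generator (α := K)
  have hgord : 2 ^ n ≤ orderOf (g : H) := by
    obtain ⟨k, hk⟩ := Subgroup.mem_zpowers_iff.1 (hg ⟨_, hyK⟩)
    have h3 : (g : H) ^ k = x₀⁻¹ * y := by simpa using congrArg Subtype.val hk
    have h4 := Subgroup.orderOf_dvd_natCard _ (Subgroup.zpow_mem_zpowers (g : H) k)
    rw [h3, hord, Nat.card_zpowers] at h4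
    exact Nat.le_of_dvd (orderOf_pos _) h4
  have hσg : σ (g : H) ∈ K := by
    by_contra hc
    obtain ⟨j, hj⟩ := hout _ hc
    have h4 := orderOf_injective φ hφ (σ (g : H))
    rw [hj, orderOf_xa, MulEquiv.orderOf_eq] at h4
    have : 2 ^ 3 ≤ 2 ^ n := Nat.pow_le_pow_right two_pos hn
    omega
  have hmap : ∀ k ∈ K, σ k ∈ K := by
    intro k hk
    obtain ⟨j, hj⟩ := Subgroup.mem_zpowers_iff.1 (hg ⟨k, hk⟩)
    have h3 : (g : H) ^ j = k := by simpa using congrArg Subtype.val hj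
    rw [← h3, map_zpow]
    exact zpow_mem hσg j
  let e : K →* K :=
    { toFun := fun k => ⟨σ k, hmap k k.2⟩
      map_one' := Subtype.ext (map_one σ)
      map_mul' := fun u v => Subtype.ext (map_mul σ (u : H) (v : H)) }
  have he : Function.Bijective e := Finite.injective_iff_bijective.1 fun u v h =>
    Subtype.ext (σ.injective (congrArg Subtype.val h))
  let σK : MulAut K := MulEquiv.ofBijective e he
  have hit : ∀ (i : ℕ) (k : K), (((σK ^ i) k : K) : H) = (σ ^ i) (k : H) := by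
    intro i
    induction i with
    | zero => simp
    | succ i ih => intro k; rw [pow_succ', pow_succ', MulAut.mul_apply, MulAut.mul_apply, ← ih]; rfl
  have h1 : σK = 1 := aut_eq_one_of_cyclic_two_group (hH.to_subgroup K) σK hm
    (MulEquiv.ext fun k => Subtype.ext (by rw [hit, hσ]; rfl))
  refine aut_eq_one_of_fix_index_two hH σ hm hσ K hK2 fun k hk => ?_
  exact congrArg (fun s : MulAut K => ((s ⟨k, hk⟩ : K) : H)) h1

end CfsgLib.Invol
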