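import Cfsg.Agent.Lib.Invol.QuaternionLocal
import Cfsg.Agent.Lib.Invol.FourValues

/-!
# The principal block of a centralizer with a quaternion Sylow subgroup of order eight
-/

open scoped ComplexConjugate
open Subgroup

set_option autoImplicit false
set_option linter.unusedSectionVars false

namespace CfsgLib.Invol

open Cfsg CfsgLib.Block

universe u

namespace EightData

variable {C : Type u} [Group C] [Fintype C] [DecidableEq C] [Fintype (IrrCharacter C)]
  (D : EightData C) {M : Ideal AlgInt} [M.IsMaximal]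

include D

theorem u_mem_center : D.u ∈ Subgroup.center C :=
  Subgroup.mem_center_iff.2 fun g => (D.central g).eq

/-- Sums over the group split into the three kinds of elements. -/
theorem sum_split (F : C → ℂ) :
    ∑ g, F g = ∑ r ∈ Finset.univ.filter (fun r : C => ¬ 2 ∣ orderOf r), F r +
      ∑ r ∈ Finset.univ.filter (fun r : C => ¬ 2 ∣ orderOf r), F (D.u * r) +
      ∑ g ∈ Finset.univ.filter (fun g : C => 4 ∣ orderOf g), F g := by
  classical
  have himg : (Finset.univ.filter (fun r : C => ¬ 2 ∣ orderOf r)).image (D.u * ·) =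
      (Finset.univ.filter (fun g : C => 2 ∣ orderOf g)).filter (fun g => ¬ 4 ∣ orderOf g) := by
    ext g
    simp only [Finset.mem_image, Finset.mem_filter, Finset.mem_univ, true_and]
    constructor
    · rintro ⟨r, hr, rfl⟩
      rw [D.orderOf_u_mul hr]
      exact ⟨dvd_mul_right _ _, fun h => by omega⟩
    · rintro ⟨h2, h4⟩
      rcases D.cases_ne g h4 with h | ⟨r, hr, rfl⟩
      · exact absurd h2 h
      · exact ⟨r, hr, rfl⟩
  have hfour : (Finset.univ.filter (fun g : C => 2 ∣ orderOf g)).filter (fun g => 4 ∣ orderOf g) =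
      Finset.univ.filter (fun g : C => 4 ∣ orderOf g) := by
    ext g
    simp only [Finset.mem_filter, Finset.mem_univ, true_and, and_iff_right_iff_imp]
    exact fun h => D.not_regular_of_four_dvd h
  rw [← Finset.sum_filter_add_sum_filter_not Finset.univ (fun g : C => ¬ 2 ∣ orderOf g) F]
  simp only [not_not]
  rw [← Finset.sum_filter_add_sum_filter_not (Finset.univ.filter (fun g : C => 2 ∣ orderOf g))
    (fun g => ¬ 4 ∣ orderOf g) F]
  simp only [not_not]
  rw [← himg, hfour, Finset.sum_image fun a _ b _ h => mul_left_cancel h, add_assoc]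

theorem conj_apply_c (ψ : IrrCharacter C) : conj ((ψ : C → ℂ) D.c) = (ψ : C → ℂ) D.c := by
  rw [← Char.irr_inv, ← D.flip, Char.isClassFunction_irr ψ]

variable [Fintype D.L] [Fintype (IrrCharacter D.L)] {φ : D.L →* ℂˣ}
  (hφc : ((φ ⟨D.c, D.c_mem⟩ : ℂˣ) : ℂ) = Complex.I) (hφ4 : ∀ l, φ l ^ 4 = 1)

omit D in
/-- The powers of `φ` as irreducible characters. -/
noncomputable def linPow {A : Type u} [Group A] (φ : A →* ℂˣ) (k : Fin 4) : IrrCharacter A :=
  ⟨fun l => (((φ ^ (k : ℕ)) l : ℂˣ) : ℂ), Char.isIrrCharacter_lin _⟩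

theorem linPow_apply (φ : D.L →* ℂˣ) (k : Fin 4) (l : D.L) :
    (linPow φ k : D.L → ℂ) l = ((φ l : ℂˣ) : ℂ) ^ (k : ℕ) := by
  simp [linPow]

include hφc in
theorem linPow_injective : Function.Injective (linPow φ) := by
  intro a b h
  have h1 := congrFun (congrArg Subtype.val h) ⟨D.c, D.c_mem⟩
  rw [D.linPow_apply, D.linPow_apply, hφc] at h1
  fin_cases a <;> fin_cases b <;> first
    | rfl
    | (exfalso; norm_num [pow_succ, Complex.ext_iff] at h1)

include hφ4 in
theorem sum_linPow (l : D.L) :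
    ∑ k : Fin 4, ((φ l : ℂˣ) : ℂ) ^ (k : ℕ) = if φ l = 1 then 4 else 0 := by
  simp only [Fin.sum_univ_four]
  split_ifs with h
  · rw [h]; norm_num
  · have h4 : ((φ l : ℂˣ) : ℂ) ^ 4 = 1 := by rw [← Units.val_pow_eq_pow_val, hφ4, Units.val_one]
    have hne : ((φ l : ℂˣ) : ℂ) - 1 ≠ 0 :=
      sub_ne_zero.2 fun e => h (Units.ext e)
    refine (mul_eq_zero.1 ?_).resolve_left hne
    show (((φ l : ℂˣ) : ℂ) - 1) * _ = 0
    simp only [Fin.val_zero, Fin.val_one, Fin.val_two, show ((3 : Fin 4) : ℕ) = 3 from rfl]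
    linear_combination h4

include hφ4 in
theorem linPow_mem (hM : IsPModular 2 M) (k : Fin 4) : linPow φ k ∈ principalBlock M D.L := by
  show SameBlock M (fun _ : D.L => (1 : ℂ)) (linPow φ k : D.L → ℂ)
  intro g
  have hint : IsIntegral ℤ (((φ g : ℂˣ) : ℂ) ^ (k : ℕ)) :=
    (Block.isIntegral_of_pow_eq_one (n := 4) (by norm_num)
      (by rw [← Units.val_pow_eq_pow_val, hφ4, Units.val_one])).pow _
  set w : locRing M := ⟨_, integral_mem M hint⟩ with hw
  have hres : res M w = 1 := res_rootOfUnity_p hM (n := 2) (Subtype.ext (by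
    rw [Subring.coe_pow, hw, ← pow_mul, mul_comm, pow_mul, ← Units.val_pow_eq_pow_val]
    norm_num [hφ4]))
  set N : ℕ := (Subgroup.centralizer ({g} : Set D.L)).index with hN
  have : centralChar (fun _ : D.L => (1 : ℂ)) g - centralChar (linPow φ k : D.L → ℂ) g =
      (((N : locRing M) * (1 - w) : locRing M) : ℂ) := by
    simp only [centralChar, D.linPow_apply, ← hN, map_one, Units.val_one, one_pow, div_one, mul_one,
      Subring.coe_mul, AddSubgroupClass.coe_sub, OneMemClass.coe_one, SubringClass.coe_natCast, hw]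
    ring
  rw [this, memLocalIdeal_coe, map_mul, map_sub, map_one, hres, sub_self, mul_zero]

include hφc hφ4 in
theorem ker_odd : ¬ 2 ∣ Nat.card φ.ker := by
  haveI : Fact (Nat.Prime 2) := ⟨Nat.prime_two⟩
  intro h
  obtain ⟨x, hx⟩ := exists_prime_orderOf_dvd_card' 2 h
  have := (D.phi_eq_one_iff hφc hφ4 (x : D.L)).1 x.2
  rw [Subgroup.orderOf_coe, Subgroup.orderOf_coe, hx] at this
  exact this dvd_rfl

include hφc hφ4 in
theorem eq_linPow (hM : IsPModular 2 M) {η : IrrCharacter D.L} (hη : η ∈ principalBlock M D.L) :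
    ∃ k, η = linPow φ k := by
  classical
  have hK : ∀ l : D.L, φ l = 1 → (η : D.L → ℂ) l = (η : D.L → ℂ) 1 := fun l hl => by
    have h := irr_mul_eq_of_mem_principalBlock hM hη φ.ker (D.ker_odd hφc hφ4) 1 (n := l) hl
    rwa [one_mul] at h
  by_contra hne
  push Not at hne
  have hsum : ∑ k : Fin 4, classInner (η : D.L → ℂ) (linPow φ k : D.L → ℂ) = 0 :=
    Finset.sum_eq_zero fun k _ => Char.classInner_irr_ne (hne k)
  simp only [classInner, ← Finset.mul_sum] at hsum
  rw [Finset.sum_comm] at hsum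
  simp only [← Finset.mul_sum, ← map_sum, D.linPow_apply, D.sum_linPow hφ4, apply_ite conj,
    map_zero, map_ofNat, mul_ite, mul_zero] at hsum
  rw [← Finset.sum_filter, Finset.sum_congr rfl fun l hl => by rw [hK l (Finset.mem_filter.1 hl).2],
    Finset.sum_const, nsmul_eq_mul] at hsum
  rcases mul_eq_zero.1 hsum with h | h
  · exact inv_ne_zero (Nat.cast_ne_zero.mpr Nat.card_pos.ne') h
  rcases mul_eq_zero.1 h with h | h
  · rw [Nat.cast_eq_zero, Finset.card_eq_zero] at h
    exact absurd (h ▸ (Finset.mem_filter.2 ⟨Finset.mem_univ (1 : D.L), map_one φ⟩)) (by simp)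
  · exact mul_ne_zero (Char.irr_one_ne_zero η) (by norm_num) h

theorem card_ker_ne {φ : D.L →* ℂˣ} :
    ((Finset.univ.filter (fun l : D.L => φ l = 1)).card : ℂ) ≠ 0 :=
  Nat.cast_ne_zero.mpr (Finset.card_pos.2
    ⟨1, Finset.mem_filter.2 ⟨Finset.mem_univ (1 : D.L), map_one φ⟩⟩).ne'

include hφc hφ4 in
/-- The principal part at the identity is the mean over the kernel. -/
theorem blockPart_L_one (hM : IsPModular 2 M) (f : D.L → ℂ) :
    blockPart (principalBlock M D.L) f 1 =
      4 / (Nat.card D.L : ℂ) * ∑ l ∈ Finset.univ.filter (fun l : D.L => φ l = 1), f l := by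
  classical
  rw [blockPart_eq]
  have heq : Finset.univ.filter (· ∈ principalBlock M D.L) = Finset.univ.image (linPow φ) := by
    ext η
    simp only [Finset.mem_filter, Finset.mem_univ, true_and, Finset.mem_image]
    exact ⟨fun h => (D.eq_linPow hφc hφ4 hM h).imp fun k hk => hk.symm,
      fun ⟨k, hk⟩ => hk ▸ D.linPow_mem hφ4 hM k⟩
  rw [heq, Finset.sum_image fun a _ b _ h => D.linPow_injective hφc h]
  simp only [D.linPow_apply, map_one, Units.val_one, one_pow, mul_one, classInner, ← Finset.mul_sum]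
  rw [Finset.sum_comm]
  simp only [← Finset.mul_sum, ← map_sum, D.sum_linPow hφ4, apply_ite conj, map_zero, map_ofNat,
    mul_ite, mul_zero]
  rw [← Finset.sum_filter, ← Finset.sum_mul]
  ring

include hφc hφ4 in
theorem card_L (hM : IsPModular 2 M) :
    (Nat.card D.L : ℂ) = 4 * ((Finset.univ.filter (fun l : D.L => φ l = 1)).card : ℂ) := by
  classical
  have h := D.blockPart_L_one hφc hφ4 hM (fun _ => 1)
  rw [blockPart_eq] at h
  rw [Finset.sum_eq_single (oneChar D.L) (fun η _ hη => by
      rw [show (fun _ : D.L => (1 : ℂ)) = (oneChar D.L : D.L → ℂ) from rfl,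
        Char.classInner_irr_ne hη.symm, zero_mul])
    (fun h => absurd (by simp [one_mem_principalBlock]) h),
    show (fun _ : D.L => (1 : ℂ)) = (oneChar D.L : D.L → ℂ) from rfl, Char.classInner_irr_self] at h
  simp only [oneChar, Finset.sum_const, nsmul_eq_mul, mul_one] at h
  have hne : (Nat.card D.L : ℂ) ≠ 0 := Nat.cast_ne_zero.mpr Nat.card_pos.ne'
  field_simp at h
  linear_combination h

include hφc hφ4 in
/-- The sum of a character over `cK`, conjugated. -/
theorem classInner_delta_eq (ψ : IrrCharacter C) :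
    classInner D.delta (ψ : C → ℂ) = (Nat.card D.L : ℂ)⁻¹ *
      conj (∑ l ∈ Finset.univ.filter (fun l : D.L => φ l = 1), (ψ : C → ℂ) (D.c * (l : C))) := by
  classical
  rw [D.delta_eq_indFun hφc hφ4, Char.classInner_indFun _ _ _ (Char.isClassFunction_irr ψ),
    classInner]
  simp only [ite_mul, one_mul, zero_mul]
  rw [← Finset.sum_filter, map_sum]
  congr 1
  refine Finset.sum_equiv (Equiv.mulLeft (⟨D.c, D.c_mem⟩ : D.L)⁻¹) (fun l => ?_) fun l _ => ?_
  · simp only [Finset.mem_filter, Finset.mem_univ, true_and, Equiv.coe_mulLeft, map_mul, map_inv]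
    constructor
    · intro h
      rw [inv_mul_eq_one]
      exact Units.ext (hφc.trans h.symm)
    · intro h
      rw [← inv_mul_eq_one.1 h]; exact hφc
  · simp

include hφc hφ4 in
theorem apply_c_mul (hM : IsPModular 2 M) {ψ : IrrCharacter C} (hψ : ψ ∈ principalBlock M C)
    {l : D.L} (hl : φ l = 1) : (ψ : C → ℂ) (D.c * (l : C)) = (ψ : C → ℂ) D.c := by
  classical
  have hreg := (D.phi_eq_one_iff hφc hφ4 l).1 hl
  rw [Subgroup.orderOf_coe] at hreg
  have h := irr_secElt_mul hM (x := D.c) ⟨2, D.c_order⟩ (fun t => D.mem_L) hψ φ.ker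
    (D.ker_odd hφc hφ4) (y := 1) (n := l) hl (by simp) (by rwa [one_mul])
  rwa [one_mul, Subgroup.coe_one, mul_one] at h

include hφc hφ4 in
theorem classInner_delta_mem (hM : IsPModular 2 M) {ψ : IrrCharacter C}
    (hψ : ψ ∈ principalBlock M C) : classInner D.delta (ψ : C → ℂ) = (ψ : C → ℂ) D.c / 4 := by
  classical
  rw [D.classInner_delta_eq hφc hφ4, Finset.sum_congr rfl fun l hl =>
    D.apply_c_mul hφc hφ4 hM hψ (Finset.mem_filter.1 hl).2, Finset.sum_const, nsmul_eq_mul, map_mul,
    map_natCast, D.conj_apply_c, D.card_L hφc hφ4 hM]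
  have hK := D.card_ker_ne (φ := φ)
  field_simp

include hφc hφ4 in
theorem classInner_delta_not_mem (hM : IsPModular 2 M) {ψ : IrrCharacter C}
    (hψ : ψ ∉ principalBlock M C) : classInner D.delta (ψ : C → ℂ) = 0 := by
  classical
  obtain ⟨B, hB⟩ := exists_induced_centralizer hM (x := D.c) ⟨2, D.c_order⟩ (fun t => D.mem_L)
    (isPBlock_principalBlock (M := M) (G := D.L))
  have hB0 : B = principalBlock M C := (isInducedBlock_principal_iff hM hB).mpr rfl
  subst hB0
  have h := blockPart_secFun_eq_zero hM (x := D.c) ⟨2, D.c_order⟩ (fun t => D.mem_L) hB hψ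
    (y := 1) (by simp)
  rw [D.blockPart_L_one hφc hφ4 hM] at h
  simp only [secFun] at h
  rw [D.classInner_delta_eq hφc hφ4]
  rcases mul_eq_zero.1 h with h | h
  · exact absurd h (by simp)
  · rw [h, map_zero, mul_zero]

include hφc hφ4 in
theorem classInner_delta_self (hM : IsPModular 2 M) : classInner D.delta D.delta = 1 / 4 := by
  classical
  have hcf := D.isClassFunction_delta
  nth_rw 1 [D.delta_eq_indFun hφc hφ4]
  rw [Char.classInner_indFun _ _ _ hcf, classInner]
  simp only [ite_mul, one_mul, zero_mul]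
  rw [← Finset.sum_filter, Finset.sum_congr rfl (g := fun _ => (1 : ℂ)) fun l hl => ?_,
    Finset.sum_const, nsmul_eq_mul, mul_one, D.card_L hφc hφ4 hM]
  · have hcard : (Finset.univ.filter (fun l : D.L => ((φ l : ℂˣ) : ℂ) = Complex.I)).card =
        (Finset.univ.filter (fun l : D.L => φ l = 1)).card := by
      refine Finset.card_equiv (Equiv.mulLeft (⟨D.c, D.c_mem⟩ : D.L)⁻¹) fun l => ?_
      simp only [Finset.mem_filter, Finset.mem_univ, true_and, Equiv.coe_mulLeft, map_mul, map_inv]
      rw [inv_mul_eq_one]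
      exact ⟨fun h => Units.ext (hφc.trans h.symm), fun h => h ▸ hφc⟩
    have hK := D.card_ker_ne (φ := φ)
    rw [hcard]
    field_simp
  · have hl' := (Finset.mem_filter.1 hl).2
    have hk : φ ((⟨D.c, D.c_mem⟩ : D.L)⁻¹ * l) = 1 := by
      rw [map_mul, map_inv, inv_mul_eq_one]; exact Units.ext (hφc.trans hl'.symm)
    have h4 : 4 ∣ orderOf (D.c * ((((⟨D.c, D.c_mem⟩ : D.L)⁻¹ * l : D.L)) : C)) :=
      D.four_dvd_c_mul (D.mem_L.1 (SetLike.coe_mem _)) ((D.phi_eq_one_iff hφc hφ4 _).1 hk)
    simp only [Subgroup.coe_mul, InvMemClass.coe_inv, mul_inv_cancel_left] at h4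
    rw [Subgroup.orderOf_coe] at h4
    simp [delta, h4]

end EightData

end CfsgLib.Invol
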