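import Cfsg.Agent.Lib.Invol.PrincipalBlock
import Cfsg.Agent.Lib.Invol.Basic
import Cfsg.Agent.Lib.Block.Orthogonality
import Cfsg.Agent.Lib.Char.Induction
import Mathlib.GroupTheory.Transfer

/-!
# Centralizers with a quaternion Sylow subgroup of order eight: elements
-/

open scoped ComplexConjugate
open Subgroup

set_option autoImplicit false
set_option linter.unusedSectionVars false

namespace CfsgLib.Invol

open Cfsg CfsgLib.Block

universe u

/-- A group with a central involution, which is its only involution, whose 2-elements have order at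
most four and in which all elements of order four are conjugate. -/
structure EightData (C : Type u) [Group C] where
  /-- the involution -/
  u : C
  /-- an element of order four -/
  c : C
  /-- an element inverting `c` -/
  y : C
  u_order : orderOf u = 2
  central : ∀ g : C, Commute g u
  uniq : ∀ v : C, orderOf v = 2 → v = u
  c_order : orderOf c = 4
  flip : y * c * y⁻¹ = c⁻¹
  four : ∀ (g : C) (k : ℕ), g ^ 2 ^ k = 1 → g ^ 4 = 1
  conj_c : ∀ g : C, orderOf g = 4 → IsConj g c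

namespace EightData

variable {C : Type u} [Group C] [Fintype C] (D : EightData C)

include D

/-- The centralizer of the element of order four. -/
abbrev L : Subgroup C := Subgroup.centralizer ({D.c} : Set C)

theorem mem_L {g : C} : g ∈ D.L ↔ Commute g D.c := Subgroup.mem_centralizer_singleton_iff

theorem c_mem : D.c ∈ D.L := D.mem_L.2 (Commute.refl _)

theorem c_sq : D.c ^ 2 = D.u := D.uniq _ (by rw [orderOf_pow, D.c_order]; rfl)

theorem c_inv : D.c⁻¹ = D.u * D.c := by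
  rw [← D.c_sq, ← pow_succ, inv_eq_iff_mul_eq_one, ← pow_succ']
  have := pow_orderOf_eq_one D.c
  rwa [D.c_order] at this

theorem u_mul_u : D.u * D.u = 1 := invol_mul_self D.u_order

theorem order_cases {x : C} (h : x ^ 4 = 1) : x = 1 ∨ x = D.u ∨ orderOf x = 4 := by
  have h1 : orderOf x ∣ 2 ^ 2 := orderOf_dvd_of_pow_eq_one h
  obtain ⟨j, hj, hj'⟩ := (Nat.dvd_prime_pow Nat.prime_two).1 h1
  interval_cases j
  · exact Or.inl (orderOf_eq_one_iff.1 hj')
  · exact Or.inr (Or.inl (D.uniq x hj'))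
  · exact Or.inr (Or.inr hj')

theorem comm_cases {x : C} (hx : Commute x D.c) (h : x ^ 4 = 1) :
    x = 1 ∨ x = D.u ∨ x = D.c ∨ x = D.c⁻¹ := by
  rcases D.order_cases h with h1 | h1 | h1
  · exact Or.inl h1
  · exact Or.inr (Or.inl h1)
  have h2 : x ^ 2 = D.u := D.uniq _ (by rw [orderOf_pow, h1]; rfl)
  have h3 : (x * D.c⁻¹) ^ 2 = 1 := by
    rw [hx.inv_right.mul_pow, inv_pow, h2, D.c_sq, mul_inv_cancel]
  by_cases h4 : x * D.c⁻¹ = 1
  · exact Or.inr (Or.inr (Or.inl (mul_inv_eq_one.1 h4)))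
  · refine Or.inr (Or.inr (Or.inr ?_))
    rw [D.c_inv, ← D.uniq _ (invol_iff.2 ⟨by rw [← pow_two]; exact h3, h4⟩), inv_mul_cancel_right]

theorem decomp (g : C) :
    ∃ x r : C, g = x * r ∧ Commute x r ∧ x ^ 4 = 1 ∧ ¬ 2 ∣ orderOf r ∧ IsPPart 2 g x := by
  obtain ⟨x, hx⟩ := exists_isPPart (p := 2) Nat.prime_two g
  obtain ⟨r, hr, hc, ⟨k, hk⟩, hodd⟩ := hx
  exact ⟨x, r, hr.symm, hc, D.four x k (hk ▸ pow_orderOf_eq_one x), hodd, r, hr, hc, ⟨k, hk⟩, hodd⟩

theorem orderOf_u_mul {r : C} (hr : ¬ 2 ∣ orderOf r) : orderOf (D.u * r) = 2 * orderOf r := by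
  rw [(D.central r).symm.orderOf_mul_eq_mul_orderOf_of_coprime
    (by rw [D.u_order]; exact (Nat.prime_two.coprime_iff_not_dvd).2 hr), D.u_order]

theorem four_dvd_c_mul {r : C} (hrc : Commute r D.c) (hr : ¬ 2 ∣ orderOf r) :
    4 ∣ orderOf (D.c * r) := by
  rw [hrc.symm.orderOf_mul_eq_mul_orderOf_of_coprime (by
    rw [D.c_order]; exact ((Nat.prime_two.coprime_iff_not_dvd).2 hr).pow_left 2), D.c_order]
  exact dvd_mul_right _ _

/-- Every element is regular, `u` times a regular one, or conjugate to `c` times a regular one. -/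
theorem cases3 (g : C) :
    ¬ 2 ∣ orderOf g ∨ (∃ r, ¬ 2 ∣ orderOf r ∧ g = D.u * r) ∨
      (4 ∣ orderOf g ∧ ∃ a r, Commute r D.c ∧ ¬ 2 ∣ orderOf r ∧ a * g * a⁻¹ = D.c * r) := by
  obtain ⟨x, r, hg, hc, h4, hr, -⟩ := D.decomp g
  rcases D.order_cases h4 with h | h | h
  · left; rwa [hg, h, one_mul]
  · exact Or.inr (Or.inl ⟨r, hr, by rw [hg, h]⟩)
  · obtain ⟨a, ha⟩ := isConj_iff.1 (D.conj_c x h)
    refine Or.inr (Or.inr ⟨?_, a, a * r * a⁻¹, ?_, ?_, ?_⟩)
    · rw [hg, hc.orderOf_mul_eq_mul_orderOf_of_coprime (by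
        rw [h]; exact ((Nat.prime_two.coprime_iff_not_dvd).2 hr).pow_left 2), h]
      exact dvd_mul_right _ _
    · rw [← ha]
      exact (hc.map (MulAut.conj a).toMonoidHom).symm
    · rwa [← MulAut.conj_apply, MulEquiv.orderOf_eq]
    · rw [hg, ← ha]; group

theorem not_regular_of_four_dvd {g : C} (h : 4 ∣ orderOf g) : 2 ∣ orderOf g :=
  (show (2 : ℕ) ∣ 4 by norm_num).trans h

theorem cases_ne (g : C) (h : ¬ 4 ∣ orderOf g) :
    ¬ 2 ∣ orderOf g ∨ ∃ r, ¬ 2 ∣ orderOf r ∧ g = D.u * r := by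
  rcases D.cases3 g with h1 | h1 | h1
  · exact Or.inl h1
  · exact Or.inr h1
  · exact absurd h1.1 h

/-- The four linear characters of `C(c)` come from one of order four. -/
theorem exists_phi :
    ∃ φ : D.L →* ℂˣ, ((φ ⟨D.c, D.c_mem⟩ : ℂˣ) : ℂ) = Complex.I ∧ ∀ l, φ l ^ 4 = 1 := by
  haveI : Fact (Nat.Prime 2) := ⟨Nat.prime_two⟩
  set c' : D.L := ⟨D.c, D.c_mem⟩ with hc'
  have hc'o : orderOf c' = 4 := by rw [hc', Subgroup.orderOf_mk, D.c_order]
  have hP : IsPGroup 2 (Subgroup.zpowers c') :=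
    IsPGroup.of_card (n := 2) (by rw [Nat.card_zpowers, hc'o]; norm_num)
  obtain ⟨P, hP'⟩ := hP.exists_le_sylow
  have hPle : ∀ x ∈ (P : Subgroup D.L), x ∈ Subgroup.zpowers c' := by
    intro x hx
    obtain ⟨k, hk⟩ := P.2 ⟨x, hx⟩
    have hk' : (x : C) ^ 2 ^ k = 1 := congrArg (fun z : P => (((z : P) : D.L) : C)) hk
    rcases D.comm_cases (D.mem_L.1 x.2) (D.four _ k hk') with h | h | h | h
    · rw [show x = 1 from Subtype.ext h]; exact one_mem _
    · rw [show x = c' ^ 2 from Subtype.ext (by rw [h, Subgroup.coe_pow, hc', D.c_sq])]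
      exact Subgroup.npow_mem_zpowers _ _
    · rw [show x = c' from Subtype.ext h]; exact Subgroup.mem_zpowers _
    · rw [show x = c'⁻¹ from Subtype.ext h]; exact inv_mem (Subgroup.mem_zpowers _)
  set cP : P := ⟨c', hP' (Subgroup.mem_zpowers c')⟩ with hcP
  have hgen : ∀ x : P, x ∈ Subgroup.zpowers cP := fun x => by
    obtain ⟨i, hi⟩ := Subgroup.mem_zpowers_iff.1 (hPle x x.2)
    exact Subgroup.mem_zpowers_iff.2 ⟨i, Subtype.ext (by rw [SubgroupClass.coe_zpow, hcP, hi])⟩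
  haveI hPc : IsCyclic P := ⟨⟨cP, hgen⟩⟩
  have hmf : (Nat.card D.L).minFac = 2 := by
    rw [Nat.minFac_eq_two_iff]
    have := orderOf_dvd_natCard c'
    rw [hc'o] at this; omega
  set τ := MonoidHom.transferSylow P (IsCyclic.normalizer_le_centralizer hmf hPc) with hτ
  have hI : (Units.mk0 Complex.I Complex.I_ne_zero) ^ 4 = 1 := by
    apply Units.ext
    rw [Units.val_pow_eq_pow_val, Units.val_mk0, Complex.I_pow_four, Units.val_one]
  have hdvd : orderOf (Units.mk0 Complex.I Complex.I_ne_zero) ∣ orderOf cP := by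
    rw [hcP, Subgroup.orderOf_mk, hc'o]; exact orderOf_dvd_of_pow_eq_one hI
  set ν := monoidHomOfForallMemZpowers hgen hdvd with hν
  have hνc : ν cP = Units.mk0 Complex.I Complex.I_ne_zero :=
    monoidHomOfForallMemZpowers_apply_gen _ _
  have h4 : ∀ x : P, ν x ^ 4 = 1 := fun x => by
    obtain ⟨i, hi⟩ := Subgroup.mem_zpowers_iff.1 (hgen x)
    rw [← hi, map_zpow, hνc, ← zpow_natCast, ← zpow_mul, mul_comm, zpow_mul, zpow_natCast, hI,
      one_zpow]
  -- correct the transfer exponent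
  set j := (P : Subgroup D.L).index with hj
  have hjodd : Odd j := by
    rw [Nat.odd_iff]; have := P.not_dvd_index; omega
  refine ⟨(powMonoidHom j).comp (ν.comp τ), ?_, fun l => ?_⟩
  · have h1 : τ c' = cP ^ j := by
      rw [hτ, MonoidHom.transferSylow_eq_pow _ _ _ cP.2]
      exact Subtype.ext rfl
    show (((ν (τ c')) ^ j : ℂˣ) : ℂ) = Complex.I
    rw [h1, map_pow, hνc, ← pow_mul, Units.val_pow_eq_pow_val, Units.val_mk0]
    obtain ⟨i, hi⟩ := hjodd
    rw [hi, show (2 * i + 1) * (2 * i + 1) = 4 * (i * i + i) + 1 by ring, pow_succ, pow_mul,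
      Complex.I_pow_four, one_pow, one_mul]
  · show (ν (τ l) ^ j) ^ 4 = 1
    rw [← pow_mul, mul_comm, pow_mul, h4, one_pow]

variable {φ : D.L →* ℂˣ} (hφc : ((φ ⟨D.c, D.c_mem⟩ : ℂˣ) : ℂ) = Complex.I)
  (hφ4 : ∀ l, φ l ^ 4 = 1)

include hφ4 in
theorem phi_eq_one_of_regular {l : D.L} (hl : ¬ 2 ∣ orderOf (l : C)) : φ l = 1 := by
  rw [Subgroup.orderOf_coe] at hl
  refine orderOf_eq_one_iff.1 (Nat.eq_one_of_dvd_coprimes ?_ (orderOf_map_dvd φ l)
    (orderOf_dvd_of_pow_eq_one (hφ4 l)))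
  exact (((Nat.prime_two.coprime_iff_not_dvd).2 hl).pow_left 2).symm

include hφc in
theorem phi_u (h : D.u ∈ D.L) : ((φ ⟨D.u, h⟩ : ℂˣ) : ℂ) = -1 := by
  rw [show (⟨D.u, h⟩ : D.L) = ⟨D.c, D.c_mem⟩ ^ 2 from Subtype.ext D.c_sq.symm, map_pow,
    Units.val_pow_eq_pow_val, hφc, Complex.I_sq]

include hφc hφ4 in
/-- The kernel of `φ` consists of the regular elements of `C(c)`. -/
theorem phi_eq_one_iff (l : D.L) : φ l = 1 ↔ ¬ 2 ∣ orderOf (l : C) := by
  refine ⟨fun h => ?_, D.phi_eq_one_of_regular hφ4⟩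
  obtain ⟨x, r, hl, hc, h4, hr, hpp⟩ := D.decomp (l : C)
  have hlc := D.mem_L.1 l.2
  have hxc : Commute x D.c := by
    have h1 := isPPart_conj hpp D.c
    rw [hlc.symm.eq, mul_inv_cancel_right] at h1
    exact (mul_inv_eq_iff_eq_mul.1 (isPPart_unique Nat.prime_two h1 hpp)).symm
  have hrL : r ∈ D.L := by
    rw [show r = x⁻¹ * l by rw [hl, inv_mul_cancel_left]]
    exact mul_mem (inv_mem (D.mem_L.2 hxc)) l.2
  have hφr : φ ⟨r, hrL⟩ = 1 := D.phi_eq_one_of_regular hφ4 hr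
  rw [show l = ⟨x, D.mem_L.2 hxc⟩ * ⟨r, hrL⟩ from Subtype.ext hl, map_mul, hφr, mul_one] at h
  rw [hl]
  rcases D.comm_cases hxc h4 with h1 | h1 | h1 | h1
  · rwa [h1, one_mul]
  · subst h1
    have h2 := D.phi_u hφc (D.mem_L.2 hxc)
    rw [h] at h2
    norm_num at h2
  · subst h1
    rw [h] at hφc
    exact absurd (congrArg Complex.re hφc) (by simp)
  · subst h1
    rw [show (⟨D.c⁻¹, D.mem_L.2 hxc⟩ : D.L) = ⟨D.c, D.c_mem⟩⁻¹ from Subtype.ext rfl, map_inv,
      inv_eq_one] at h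
    rw [h] at hφc
    exact absurd (congrArg Complex.re hφc) (by simp)

/-- The indicator of the elements of order divisible by four. -/
noncomputable def delta (_ : EightData C) : C → ℂ := fun g => if 4 ∣ orderOf g then 1 else 0

theorem isClassFunction_delta : IsClassFunction C D.delta := fun g a => by
  simp only [delta]
  rw [show orderOf (a * g * a⁻¹) = orderOf g from MulEquiv.orderOf_eq (MulAut.conj a) g]

include hφc hφ4 in
/-- `delta` is induced from the coset `cK` of `C(c)`. -/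
theorem delta_eq_indFun [Fintype D.L] :
    D.delta = indFun D.L (fun l => if ((φ l : ℂˣ) : ℂ) = Complex.I then 1 else 0) := by
  classical
  set f : D.L → ℂ := fun l => if ((φ l : ℂˣ) : ℂ) = Complex.I then 1 else 0 with hf
  have hsplit : ∀ l : D.L, ((φ l : ℂˣ) : ℂ) = Complex.I →
      ∃ r : C, Commute r D.c ∧ ¬ 2 ∣ orderOf r ∧ (l : C) = D.c * r := by
    intro l hl
    refine ⟨D.c⁻¹ * (l : C), ?_, ?_, (mul_inv_cancel_left _ _).symm⟩
    · exact (Commute.refl D.c).inv_left.mul_left (D.mem_L.1 l.2)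
    · refine (D.phi_eq_one_iff hφc hφ4 ((⟨D.c, D.c_mem⟩ : D.L)⁻¹ * l)).1 (Units.ext ?_)
      rw [map_mul, map_inv, Units.val_mul, Units.val_inv_eq_inv_val, hφc, hl,
        inv_mul_cancel₀ Complex.I_ne_zero, Units.val_one]
  funext g
  by_cases hg : 4 ∣ orderOf g
  · rcases D.cases3 g with h | ⟨r, hr, rfl⟩ | ⟨-, a, r, hrc, hr, hag⟩
    · exact absurd (D.not_regular_of_four_dvd hg) h
    · rw [D.orderOf_u_mul hr] at hg
      exact absurd (by omega) hr
    rw [delta, if_pos hg, ← Char.isClassFunction_indFun D.L f g a, hag, indFun]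
    have hval : ∀ x : C, extendByZero D.L f (x⁻¹ * (D.c * r) * x) = if x ∈ D.L then 1 else 0 := by
      intro x
      split_ifs with hx
      · have hm : x⁻¹ * (D.c * r) * x ∈ D.L :=
          mul_mem (mul_mem (inv_mem hx) (mul_mem D.c_mem (D.mem_L.2 hrc))) hx
        rw [Char.extendByZero_mem _ _ hm, hf]
        simp only
        rw [if_pos]
        rw [show (⟨_, hm⟩ : D.L) = ⟨x, hx⟩⁻¹ * (⟨D.c, D.c_mem⟩ * ⟨r, D.mem_L.2 hrc⟩) * ⟨x, hx⟩ from
          Subtype.ext rfl, map_mul, map_mul, map_inv, map_mul,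
          D.phi_eq_one_of_regular hφ4 (l := ⟨r, D.mem_L.2 hrc⟩) hr, mul_one,
          mul_comm (φ ⟨x, hx⟩)⁻¹, inv_mul_cancel_right, hφc]
      · by_cases hm : x⁻¹ * (D.c * r) * x ∈ D.L
        · rw [Char.extendByZero_mem _ _ hm, hf]
          simp only
          rw [if_neg]
          intro hI
          obtain ⟨r', hrc', hr', heq⟩ := hsplit _ hI
          apply hx
          have hp : IsPPart 2 (D.c * r) D.c := ⟨r, rfl, hrc.symm, ⟨2, D.c_order⟩, hr⟩
          have hp' : IsPPart 2 (D.c * r') D.c := ⟨r', rfl, hrc'.symm, ⟨2, D.c_order⟩, hr'⟩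
          have h1 := isPPart_conj hp x⁻¹
          rw [inv_inv] at h1
          have h2 : x⁻¹ * D.c * x = D.c := isPPart_unique Nat.prime_two h1 (by
            rw [show x⁻¹ * (D.c * r) * x = D.c * r' from heq]; exact hp')
          refine D.mem_L.2 ?_
          calc x * D.c = x * (x⁻¹ * D.c * x) := by rw [h2]
            _ = D.c * x := by group
        · exact Char.extendByZero_not_mem _ _ hm
    rw [Finset.sum_congr rfl fun x _ => hval x, ← Finset.sum_filter, Finset.sum_const, nsmul_eq_mul,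
      mul_one, ← Fintype.card_subtype, ← Nat.card_eq_fintype_card,
      inv_mul_cancel₀ (Nat.cast_ne_zero.mpr Nat.card_pos.ne')]
  · rw [delta, if_neg hg, indFun, Finset.sum_eq_zero, mul_zero]
    intro x _
    by_cases hm : x⁻¹ * g * x ∈ D.L
    · rw [Char.extendByZero_mem _ _ hm, hf]
      simp only
      rw [if_neg]
      intro hI
      obtain ⟨r', hrc', hr', heq⟩ := hsplit _ hI
      apply hg
      have := D.four_dvd_c_mul hrc' hr'
      rwa [← heq, show ((⟨x⁻¹ * g * x, hm⟩ : D.L) : C) = MulAut.conj x⁻¹ g by simp,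
        MulEquiv.orderOf_eq] at this
    · exact Char.extendByZero_not_mem _ _ hm

end EightData

end CfsgLib.Invol
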