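import Cfsg.Agent.Lib.Classical.SL2TwoNormalizer

/-!
# Sylow subgroups of `SL(2, q)` covered by the other Sylow subgroups
-/

set_option autoImplicit false
set_option linter.unusedSectionVars false
set_option linter.style.haveILetI false

namespace CfsgLib.Invol.SL2Redundant

open Matrix CfsgLib.Char CfsgLib.Char.TwoChars CfsgLib.Classical

/-- Some Sylow subgroup is covered by the other Sylow subgroups. -/
def Covered (p : ℕ) (G : Type*) [Group G] : Prop :=
  ∃ Q : Sylow p G, ∀ x : G, (∃ k : ℕ, orderOf x = p ^ k) → ∃ P : Sylow p G, P ≠ Q ∧ x ∈ P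

theorem not_covered_of_unique {G : Type*} [Group G] [Finite G] {p : ℕ} [Fact p.Prime] (P₀ : Sylow p G)
    (x : G) (hx : x ∈ P₀) (huniq : ∀ P : Sylow p G, x ∈ P → P = P₀) : ¬ Covered p G := by
  rintro ⟨Q, hQ⟩
  obtain ⟨g, rfl⟩ := MulAction.exists_smul_eq G P₀ Q
  have hgx : g * x * g⁻¹ ∈ ((g • P₀ : Sylow p G) : Subgroup G) :=
    Subgroup.smul_mem_pointwise_smul x (MulAut.conj g) _ hx
  obtain ⟨k, hk⟩ := IsPGroup.iff_orderOf.1 P₀.2 ⟨x, hx⟩
  rw [← Subgroup.orderOf_coe] at hk
  have hk' : orderOf (g * x * g⁻¹) = p ^ k := by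
    rw [← hk]; exact (MulAut.conj g).orderOf_eq x
  obtain ⟨P, hne, hP⟩ := hQ (g * x * g⁻¹) ⟨k, hk'⟩
  have h2 : x ∈ ((g⁻¹ • P : Sylow p G) : Subgroup G) := by
    have := Subgroup.smul_mem_pointwise_smul (g * x * g⁻¹) (MulAut.conj g⁻¹) _ hP
    rw [MulAut.smul_def, MulAut.conj_apply, show g⁻¹ * (g * x * g⁻¹) * g⁻¹⁻¹ = x by group] at this
    exact this
  exact hne (by rw [← huniq _ h2, smul_inv_smul])

theorem not_covered_of_cyclic {G : Type*} [Group G] [Finite G] {p : ℕ} [Fact p.Prime] (P₀ : Sylow p G)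
    (hc : IsCyclic (P₀ : Subgroup G)) : ¬ Covered p G := by
  obtain ⟨x, hx⟩ := IsCyclic.exists_generator (α := (P₀ : Subgroup G))
  refine not_covered_of_unique P₀ x x.2 fun P hP => Sylow.ext ?_
  refine (Subgroup.eq_of_le_of_card_ge (fun y hy => ?_) ?_).symm
  · obtain ⟨j, hj⟩ := hx ⟨y, hy⟩
    have e : (x : G) ^ j = y := congrArg Subtype.val hj
    exact e ▸ zpow_mem hP j
  · rw [Nat.card_congr (Sylow.equiv P P₀).toEquiv]

theorem covered_iff_of_central {G H : Type*} [Group G] [Finite G] [Group H] {p : ℕ} [Fact p.Prime]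
    (f : G →* H) (hf : Function.Surjective f) (hker : f.ker ≤ Subgroup.center G) :
    Covered p G ↔ Covered p H := by
  haveI : Finite H := Finite.of_surjective f hf
  have hkey : ∀ (P : Sylow p G) (x : G), (∃ k : ℕ, orderOf x = p ^ k) →
      f x ∈ (P : Subgroup G).map f → x ∈ P := by
    intro P x hx hfx
    obtain ⟨y, hy, hxy⟩ := hfx
    set M := ((P : Subgroup G).map f).comap f with hM
    have hPM : (P : Subgroup G) ≤ M := Subgroup.le_comap_map f _
    haveI : ((P.subtype hPM : Sylow p M) : Subgroup M).Normal := by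
      refine ⟨fun n hn m => ?_⟩
      obtain ⟨m', hm', hmm⟩ := (m.2 : f m ∈ (P : Subgroup G).map f)
      have hz : m'⁻¹ * (m : G) ∈ Subgroup.center G := hker (by rw [MonoidHom.mem_ker, map_mul, map_inv, hmm, inv_mul_cancel])
      show (m : G) * n * (m : G)⁻¹ ∈ (P : Subgroup G)
      have e : (m : G) * n * (m : G)⁻¹ = m' * n * m'⁻¹ := by
        have hc := Subgroup.mem_center_iff.1 hz n
        calc (m : G) * n * (m : G)⁻¹ = m' * ((m'⁻¹ * m) * n) * (m : G)⁻¹ := by group
          _ = m' * (n * (m'⁻¹ * m)) * (m : G)⁻¹ := by rw [hc]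
          _ = _ := by group
      rw [e]
      exact mul_mem (mul_mem hm' hn) (inv_mem hm')
    obtain ⟨k, hk⟩ := hx
    have hxM : x ∈ M := ⟨y, hy, hxy⟩
    have hpg : IsPGroup p (Subgroup.zpowers (⟨x, hxM⟩ : M)) :=
      IsPGroup.of_card (n := k) (by rw [Nat.card_zpowers, ← Subgroup.orderOf_coe, hk])
    obtain ⟨R, hR⟩ := hpg.exists_le_sylow
    haveI := Sylow.unique_of_normal (P.subtype hPM) inferInstance
    have hxR := hR (Subgroup.mem_zpowers _)
    rw [Subsingleton.elim R (P.subtype hPM)] at hxR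
    exact hxR
  have hinj : ∀ P P' : Sylow p G, (P : Subgroup G).map f = (P' : Subgroup G).map f → P = P' := by
    intro P P' h
    refine Sylow.ext (Subgroup.eq_of_le_of_card_ge (fun x hx => ?_) ?_)
    · obtain ⟨k, hk⟩ := IsPGroup.iff_orderOf.1 P.2 ⟨x, hx⟩
      exact hkey P' x ⟨k, by rwa [← Subgroup.orderOf_coe] at hk⟩ (h ▸ Subgroup.mem_map_of_mem f hx)
    · rw [Nat.card_congr (Sylow.equiv P P').toEquiv]
  have hcoe : ∀ P : Sylow p G, ((P.mapSurjective hf : Sylow p H) : Subgroup H) = (P : Subgroup G).map f :=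
    fun P => Sylow.coe_mapSurjective hf P
  constructor
  · rintro ⟨Q, hQ⟩
    refine ⟨Q.mapSurjective hf, ?_⟩
    rintro y ⟨k, hk⟩
    have hP : IsPGroup p (Subgroup.zpowers y) := IsPGroup.of_card (n := k) (by rw [Nat.card_zpowers, hk])
    obtain ⟨S, hS⟩ := hP.exists_le_sylow
    obtain ⟨P₁, rfl⟩ := Sylow.mapSurjective_surjective hf p S
    obtain ⟨x, hx, rfl⟩ := (hcoe P₁ ▸ hS (Subgroup.mem_zpowers y) : y ∈ (P₁ : Subgroup G).map f)
    obtain ⟨l, hl⟩ := IsPGroup.iff_orderOf.1 P₁.2 ⟨x, hx⟩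
    obtain ⟨P, hne, hxP⟩ := hQ x ⟨l, by rwa [← Subgroup.orderOf_coe] at hl⟩
    refine ⟨P.mapSurjective hf, fun e => hne (hinj _ _ ?_), ?_⟩
    · rw [← hcoe, e, hcoe]
    · show f x ∈ ((P.mapSurjective hf : Sylow p H) : Subgroup H)
      rw [hcoe]; exact Subgroup.mem_map_of_mem f hxP
  · rintro ⟨S, hS⟩
    obtain ⟨Q, rfl⟩ := Sylow.mapSurjective_surjective hf p S
    refine ⟨Q, ?_⟩
    rintro x ⟨k, hk⟩
    obtain ⟨l, -, hl⟩ := (Nat.dvd_prime_pow (Fact.out : p.Prime)).1 (hk ▸ orderOf_map_dvd f x)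
    obtain ⟨R, hne, hxR⟩ := hS (f x) ⟨l, hl⟩
    obtain ⟨P, rfl⟩ := Sylow.mapSurjective_surjective hf p R
    refine ⟨P, fun e => hne (by rw [e]), hkey P x ⟨k, hk⟩ ?_⟩
    rw [← hcoe]; exact hxR

theorem zpowers_mem_of_cyclic {G : Type*} [Group G] [Finite G] {T : Subgroup G} [IsCyclic T] {x z : G}
    (hx : x ∈ T) (hz : z ∈ T) (h : orderOf z ∣ orderOf x) : z ∈ Subgroup.zpowers x := by
  obtain ⟨s, hs⟩ := IsCyclic.exists_generator (α := T)
  set n := Nat.card T with hn
  have hso : orderOf s = n := orderOf_eq_card_of_forall_mem_zpowers hs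
  obtain ⟨a, ha⟩ := (mem_powers_iff_mem_zpowers.2 (hs ⟨x, hx⟩) : (⟨x, hx⟩ : T) ∈ Submonoid.powers s)
  obtain ⟨b, hb⟩ := (mem_powers_iff_mem_zpowers.2 (hs ⟨z, hz⟩) : (⟨z, hz⟩ : T) ∈ Submonoid.powers s)
  change s ^ a = ⟨x, hx⟩ at ha
  change s ^ b = ⟨z, hz⟩ at hb
  have hox : orderOf x = n / n.gcd a := by
    rw [← hso, ← orderOf_pow, ha]
    exact Subgroup.orderOf_coe (⟨x, hx⟩ : T)
  have h1 : (s : T) ^ (b * orderOf x) = 1 := by
    rw [pow_mul, hb]
    exact Subtype.ext (by simpa using orderOf_dvd_iff_pow_eq_one.1 h)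
  have h2 : n ∣ b * (n / n.gcd a) := hox ▸ hso ▸ orderOf_dvd_of_pow_eq_one h1
  have h3 : n.gcd a ∣ b := by
    have hg := Nat.gcd_dvd_left n a
    have hpos : 0 < n / n.gcd a := Nat.div_pos (Nat.le_of_dvd Nat.card_pos hg) (Nat.gcd_pos_of_pos_left _ Nat.card_pos)
    conv at h2 => lhs; rw [← Nat.mul_div_cancel' hg]
    exact Nat.dvd_of_mul_dvd_mul_right hpos h2
  obtain ⟨c, hc⟩ := h3
  have hbez := Nat.gcd_eq_gcd_ab n a
  refine ⟨Nat.gcdB n a * c, ?_⟩
  have e : (s : T) ^ (b : ℤ) = ((s : T) ^ (a : ℤ)) ^ (Nat.gcdB n a * c : ℤ) := by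
    rw [← _root_.zpow_mul, hc, Nat.cast_mul, hbez, add_mul, _root_.zpow_add, mul_assoc (n : ℤ), _root_.zpow_mul s (n : ℤ),
      zpow_natCast s n, ← hso, pow_orderOf_eq_one, _root_.one_zpow, one_mul]
    congr 1; ring
  rw [zpow_natCast, zpow_natCast, ha, hb] at e
  simpa using (congrArg Subtype.val e).symm

variable {F : Type*} [Field F] [Fintype F]

local notation "S2" => Matrix.SpecialLinearGroup (Fin 2) F

theorem not_covered_char (p : ℕ) [Fact p.Prime] [CharP F p] : ¬ Covered p S2 := by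
  classical
  obtain ⟨P₀⟩ : Nonempty (Sylow p S2) := inferInstance
  obtain ⟨g, hg⟩ := sl_sylow_conj p P₀
  set u : GL (Fin 2) F := ⟨!![1, 1; 0, 1], !![1, -1; 0, 1], by simp [Matrix.one_fin_two],
    by simp [Matrix.one_fin_two]⟩ with hu
  have hU : (g * u * g⁻¹).1.det = 1 := by
    have h1 : g.1.det * (g⁻¹).1.det = 1 := by
      rw [← Matrix.det_mul, ← Units.val_mul, mul_inv_cancel, Units.val_one, Matrix.det_one]
    rw [Units.val_mul, Units.val_mul, Matrix.det_mul, Matrix.det_mul,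
      show u.1.det = 1 by simp [hu, Matrix.det_fin_two], mul_one, h1]
  set x : S2 := ⟨(g * u * g⁻¹).1, hU⟩ with hx
  have hxgl : g⁻¹ * SpecialLinearGroup.toGL x * g = u := by
    have : (SpecialLinearGroup.toGL x : GL (Fin 2) F) = g * u * g⁻¹ := Units.ext rfl
    rw [this]; group
  have hxP : x ∈ P₀ := (hg x).2 (by rw [hxgl, mem_upU]; simp [hu])
  refine not_covered_of_unique P₀ x hxP fun P hP => Sylow.ext (Subgroup.eq_of_le_of_card_ge ?_ ?_)
  swap
  · rw [Nat.card_congr (Sylow.equiv P P₀).toEquiv]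
  intro y hy
  obtain ⟨h, hh⟩ := sl_sylow_conj p P
  -- the Sylow subgroup containing `x` is abelian
  have hcomm : Commute x y := by
    have hx' := mem_upU.1 ((hh x).1 hP)
    have hy' := mem_upU.1 ((hh y).1 hy)
    set A := (h⁻¹ * SpecialLinearGroup.toGL x * h : GL (Fin 2) F) with hA
    set B := (h⁻¹ * SpecialLinearGroup.toGL y * h : GL (Fin 2) F) with hB
    have hAB : A * B = B * A := by
      apply Units.ext
      ext i j
      fin_cases i <;> fin_cases j <;> simp [Matrix.mul_apply, Fin.sum_univ_two, hx', hy', add_comm]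
    have e : SpecialLinearGroup.toGL (x * y) = SpecialLinearGroup.toGL (y * x) := by
      rw [map_mul, map_mul]
      calc SpecialLinearGroup.toGL x * SpecialLinearGroup.toGL y = h * (A * B) * h⁻¹ := by rw [hA, hB]; group
        _ = h * (B * A) * h⁻¹ := by rw [hAB]
        _ = _ := by rw [hA, hB]; group
    exact Subtype.ext (congrArg Units.val e)
  rw [hg]
  set Y := (g⁻¹ * SpecialLinearGroup.toGL y * g : GL (Fin 2) F) with hY
  have hYu : u * Y = Y * u := by
    rw [← hxgl, hY]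
    calc g⁻¹ * SpecialLinearGroup.toGL x * g * (g⁻¹ * SpecialLinearGroup.toGL y * g)
        = g⁻¹ * SpecialLinearGroup.toGL (x * y) * g := by rw [map_mul]; group
      _ = g⁻¹ * SpecialLinearGroup.toGL (y * x) * g := by rw [hcomm.eq]
      _ = _ := by rw [map_mul]; group
  have hm : (u : Matrix (Fin 2) (Fin 2) F) * (Y : Matrix (Fin 2) (Fin 2) F) =
      (Y : Matrix (Fin 2) (Fin 2) F) * (u : Matrix (Fin 2) (Fin 2) F) := by
    rw [← Units.val_mul, ← Units.val_mul, hYu]
  have h01 := congrFun (congrFun hm 0) 0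
  have h02 := congrFun (congrFun hm 0) 1
  simp [Matrix.mul_apply, Fin.sum_univ_two, hu] at h01 h02
  have h11 : Y.1 1 1 = Y.1 0 0 := by linear_combination h02
  obtain ⟨k, hk⟩ := P.2 ⟨y, hy⟩
  have hYk : Y.1 ^ p ^ k = 1 := by
    have h1 : y ^ p ^ k = 1 := congrArg Subtype.val hk
    have h2 : Y ^ p ^ k = 1 := by
      rw [hY, show g⁻¹ * SpecialLinearGroup.toGL y * g = MulAut.conj g⁻¹ (SpecialLinearGroup.toGL y) by simp,
        ← map_pow, ← map_pow, h1, map_one, map_one]
    rw [← Units.val_pow_eq_pow_val, h2, Units.val_one]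
  obtain ⟨M, hM⟩ : ∃ M : Matrix (Fin 2) (Fin 2) F, M = Y.1 := ⟨_, rfl⟩
  rw [← hM] at hYk h01 h11
  have hpow : ∀ n : ℕ, (M ^ n) 0 0 = M 0 0 ^ n ∧ (M ^ n) 1 0 = 0 := by
    intro n
    induction n with
    | zero => simp
    | succ n ih => constructor <;> simp [pow_succ, Matrix.mul_apply, Fin.sum_univ_two, ih, h01]
  have ha : M 0 0 = 1 := by
    have := (hpow (p ^ k)).1
    rw [hYk, Matrix.one_apply_eq] at this
    exact (frobenius_inj F p).iterate k (by
      rw [iterate_frobenius, iterate_frobenius, one_pow]; exact this.symm)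
  rw [hM] at ha h01 h11
  rw [mem_upU]
  exact ⟨ha, h01, h11.trans ha⟩

/-- The covering criterion for the prime two. -/
theorem covered_two_iff [DecidableEq F] (hodd : Odd (Fintype.card F)) :
    Covered 2 S2 ↔ (¬ ∃ k : ℕ, Fintype.card F + 1 = 2 ^ k) ∧ ¬ ∃ k : ℕ, Fintype.card F = 2 ^ k + 1 := by
  haveI : Fact (Nat.Prime 2) := ⟨Nat.prime_two⟩
  have hq := Fintype.one_lt_card (α := F)
  have hqo := Nat.odd_iff.1 hodd
  obtain ⟨T, hT, hT4, hcard⟩ : ∃ T : Subgroup S2, SL2TwoNormalizer.TData T ∧ 4 ∣ Nat.card T ∧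
      (Nat.card T = Fintype.card F + 1 ∨ (Nat.card T = Fintype.card F - 1 ∧ ¬ 4 ∣ Fintype.card F + 1)) := by
    by_cases h4 : 4 ∣ Fintype.card F + 1
    · obtain ⟨A, hA⟩ := PSL2Spectrum.exists_order_add_one (F := F)
      exact ⟨Subgroup.zpowers A, ⟨inferInstance, fun x hx hns => SL2EllTorus.centralizer_elem hodd hA hx hns,
        fun g hg hn => SL2EllTorus.sq_outside hodd hA hg hn, by rw [SL2EllTorus.card_normalizer hodd hA, SL2EllTorus.card_tor hA],
        negS_mem (SL2EllTorus.card_tor hA) hodd⟩,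
        by rw [SL2EllTorus.card_tor hA]; exact h4, Or.inl (SL2EllTorus.card_tor hA)⟩
    · obtain ⟨u, hu⟩ := IsCyclic.exists_ofOrder_eq_natCard (α := Fˣ)
      rw [Nat.card_units, Nat.card_eq_fintype_card] at hu
      have h3 : 3 ≤ Fintype.card F - 1 := by omega
      let d : S2 := elS u 0
      have hd01 : d.1 0 1 = 0 := by simp [d, elS_val]
      have hd10 : d.1 1 0 = 0 := by simp [d, elS_val]
      have hda : d.1 0 0 ^ 2 ≠ 1 := fun h => by
        have h' : u ^ 2 = 1 := Units.ext (by simpa [d, elS_val] using h)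
        have := Nat.le_of_dvd two_pos (hu ▸ orderOf_dvd_of_pow_eq_one h')
        omega
      have hiff := SL2TorusNormalizer.centralizer_iff d hd01 hd10 hda
      obtain ⟨hcyc, hcT⟩ := SL2OddSylow.diag_torus d hd01 hd10 hda
      refine ⟨Subgroup.centralizer ({d} : Set S2), ⟨hcyc, fun x hx hns => ?_, fun g hg hn => ?_, ?_, ?_⟩,
        by rw [hcT]; omega, Or.inr ⟨hcT, h4⟩⟩
      · obtain ⟨hx1, hx2⟩ := (hiff x).1 hx
        have hxa : x.1 0 0 ^ 2 ≠ 1 := fun h => hns ⟨hx1, hx2, by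
          have dx := x.det_coe
          rw [Matrix.det_fin_two, hx1, zero_mul, sub_zero] at dx
          linear_combination (x.1 1 1) * h - (x.1 0 0) * dx⟩
        ext g
        rw [SL2TorusNormalizer.centralizer_iff x hx1 hx2 hxa, hiff]
      · exact Subtype.ext (SL2TorusNormalizer.sq_outside d hd01 hd10 hda g hg hn)
      · rw [SL2TorusNormalizer.card_normalizer d hd01 hd10 hda, hcT]
      · rw [hiff]; simp [negS_val]
  set e := (Nat.card T).factorization 2 with he_def
  have he : 2 ≤ e := (Nat.prime_two.pow_dvd_iff_le_factorization Nat.card_pos.ne').1 hT4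
  have hpow : (∃ k, Nat.card T = 2 ^ k) ↔
      ((∃ k : ℕ, Fintype.card F + 1 = 2 ^ k) ∨ ∃ k : ℕ, Fintype.card F = 2 ^ k + 1) := by
    constructor
    · rintro ⟨k, hk⟩
      rcases hcard with h | ⟨h, -⟩
      · exact Or.inl ⟨k, by omega⟩
      · exact Or.inr ⟨k, by omega⟩
    · rintro (⟨k, hk⟩ | ⟨k, hk⟩)
      · rcases hcard with h | ⟨-, h⟩
        · exact ⟨k, by omega⟩
        · rcases k with _ | _ | k
          · simp at hk
          · omega
          · exact absurd (hk ▸ ⟨2 ^ k, by ring⟩ : 4 ∣ Fintype.card F + 1) h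
      · rcases hcard with h | ⟨h, -⟩
        · rcases k with _ | _ | k
          · omega
          · exact ⟨2, by omega⟩
          · have h4 : 4 ∣ 2 ^ (k + 2) := ⟨2 ^ k, by ring⟩
            have h5 := h ▸ hT4
            exfalso
            omega
        · exact ⟨k, by omega⟩
  haveI := hT.cyc
  obtain ⟨x, hxT, hx⟩ := SL2TwoNormalizer.order_gen hT he (Nat.ordProj_dvd _ _)
  have hxns := SL2TwoNormalizer.not_scalar_gen hodd he hx
  have hCx := hT.comm x hxT hxns
  have hfull : (Nat.card S2).factorization 2 = e + 1 := by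
    rw [CfsgLib.Classical.card_sl2]
    have hT0 : Nat.card T ≠ 0 := Nat.card_pos.ne'
    obtain ⟨c, hc, hc2⟩ : ∃ c, c * Nat.card T = (Fintype.card F - 1) * (Fintype.card F + 1) ∧ c % 4 = 2 := by
      rcases hcard with h | ⟨h, h4⟩
      · exact ⟨Fintype.card F - 1, by rw [h], by rw [h] at hT4; omega⟩
      · exact ⟨Fintype.card F + 1, by rw [h, mul_comm], by omega⟩
    have hc0 : c ≠ 0 := by omega
    rw [← hc, Nat.factorization_mul (by omega) (mul_ne_zero hc0 hT0),
      Nat.factorization_mul hc0 hT0, Finsupp.add_apply, Finsupp.add_apply, ← he_def,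
      Nat.factorization_eq_zero_of_not_dvd (fun h => by omega : ¬ 2 ∣ Fintype.card F), zero_add, add_comm]
    congr 1
    refine le_antisymm ?_ ((Nat.prime_two.pow_dvd_iff_le_factorization hc0).1 (by rw [pow_one]; omega))
    by_contra hcon
    have := (Nat.prime_two.pow_dvd_iff_le_factorization hc0 (k := 2)).2 (by omega)
    omega
  -- a Sylow subgroup containing `x` normalises `T`
  have hPN : ∀ P : Sylow 2 S2, x ∈ P → (P : Subgroup S2) ≤ Subgroup.normalizer (T : Set S2) := by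
    intro P hP
    have hXP : Subgroup.zpowers x ≤ (P : Subgroup S2) := Subgroup.zpowers_le.2 hP
    have hXi : ((Subgroup.zpowers x).subgroupOf (P : Subgroup S2)).index = 2 := by
      have h := ((Subgroup.zpowers x).subgroupOf (P : Subgroup S2)).card_mul_index
      rw [Nat.card_congr (Subgroup.subgroupOfEquivOfLe hXP).toEquiv, Nat.card_zpowers, hx,
        P.card_eq_multiplicity, hfull, pow_succ] at h
      exact Nat.eq_of_mul_eq_mul_left (by positivity) h
    have hn := Subgroup.normal_of_index_eq_two hXi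
    intro g hg
    have hgx : g * x * g⁻¹ ∈ Subgroup.zpowers x := hn.conj_mem ⟨x, hP⟩ (Subgroup.mem_zpowers x) ⟨g, hg⟩
    have hgxT : g * x * g⁻¹ ∈ T := Subgroup.zpowers_le.2 hxT hgx
    have hgns : ¬ TwoClasses.IsScalar2 (g * x * g⁻¹).1 :=
      SL2TwoNormalizer.not_scalar_gen hodd he (((MulAut.conj g).orderOf_eq x).trans hx)
    have hC2 := hT.comm _ hgxT hgns
    rw [Subgroup.mem_normalizer_iff]
    intro t
    have e1 : t ∈ T ↔ Commute x t := by
      rw [← hCx, Subgroup.mem_centralizer_singleton_iff]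
      exact ⟨fun h => h.symm, fun h => h.symm⟩
    have e2 : g * t * g⁻¹ ∈ T ↔ Commute (g * x * g⁻¹) (g * t * g⁻¹) := by
      rw [← hC2, Subgroup.mem_centralizer_singleton_iff]
      exact ⟨fun h => h.symm, fun h => h.symm⟩
    rw [e1, e2]
    exact ⟨fun h => h.map (MulAut.conj g), fun h => by
      have := h.map (MulAut.conj g⁻¹)
      simpa [MulAut.conj_apply, mul_assoc] using this⟩
  obtain ⟨P, hxP⟩ : ∃ P : Sylow 2 S2, x ∈ P := by
    obtain ⟨P, hP⟩ := (IsPGroup.of_card (n := e) (by rw [Nat.card_zpowers, hx]) :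
      IsPGroup 2 (Subgroup.zpowers x)).exists_le_sylow
    exact ⟨P, hP (Subgroup.mem_zpowers x)⟩
  constructor
  · intro hcov
    rw [← not_or, ← hpow]
    rintro ⟨k, hk⟩
    have hke : k = e := by rw [he_def, hk, Nat.prime_two.factorization_pow, Finsupp.single_eq_same]
    refine not_covered_of_unique P x hxP (fun P' hP' => Sylow.ext ?_) hcov
    have : ∀ R : Sylow 2 S2, x ∈ R → (R : Subgroup S2) = Subgroup.normalizer (T : Set S2) := fun R hR =>
      Subgroup.eq_of_le_of_card_ge (hPN R hR) (by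
        rw [hT.card_norm, hk, hke, R.card_eq_multiplicity, hfull, pow_succ, mul_comm])
    rw [this P' hP', this P hxP]
  · intro hne
    rw [← not_or, ← hpow] at hne
    obtain ⟨t, htT, htodd, ht1⟩ : ∃ t ∈ T, ¬ 2 ∣ orderOf t ∧ t ≠ 1 := by
      obtain ⟨s, hs⟩ := IsCyclic.exists_ofOrder_eq_natCard (α := T)
      have ho : orderOf ((s : S2) ^ 2 ^ e) = Nat.card T / 2 ^ e := by
        rw [orderOf_pow_of_dvd (by positivity) (by rw [Subgroup.orderOf_coe, hs]; exact Nat.ordProj_dvd _ _),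
          Subgroup.orderOf_coe, hs]
      refine ⟨(s : S2) ^ 2 ^ e, pow_mem s.2 _, ?_, fun h => hne ⟨e, ?_⟩⟩
      · rw [ho]; exact Nat.not_dvd_ordCompl Nat.prime_two Nat.card_pos.ne'
      · rw [h, orderOf_one] at ho
        exact (Nat.eq_of_dvd_of_div_eq_one (Nat.ordProj_dvd _ _) ho.symm).symm
    have hPT : ∀ z ∈ (P : Subgroup S2), z ∈ T → z ∈ Subgroup.zpowers x := by
      intro z hzP hzT
      obtain ⟨l, hl⟩ := IsPGroup.iff_orderOf.1 P.2 ⟨z, hzP⟩
      rw [← Subgroup.orderOf_coe] at hl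
      change orderOf z = 2 ^ l at hl
      have h1 : orderOf z ∣ 2 ^ e := by
        rw [hl, he_def]
        refine pow_dvd_pow 2 ((Nat.prime_two.pow_dvd_iff_le_factorization Nat.card_pos.ne').1 ?_)
        rw [← hl]; exact Subgroup.orderOf_dvd_natCard T hzT
      have := zpowers_mem_of_cyclic (T := T) hxT hzT (hx.symm ▸ h1)
      exact this
    have hw4 : ∀ w ∈ (P : Subgroup S2), w ∉ Subgroup.zpowers x → w * w = negS := fun w hw hwx =>
      hT.out w (hPN P hxP hw) fun h => hwx (hPT w hw h)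
    -- two Sylow subgroups contain `x`
    set P' : Sylow 2 S2 := t • P with hP'
    have htx : t * x * t⁻¹ = x := by
      have h1 : t ∈ Subgroup.centralizer ({x} : Set S2) := by rw [hCx]; exact htT
      rw [Subgroup.mem_centralizer_singleton_iff.1 h1, mul_inv_cancel_right]
    have hxP' : x ∈ P' := by
      have := Subgroup.smul_mem_pointwise_smul x (MulAut.conj t) _ hxP
      rw [MulAut.smul_def, MulAut.conj_apply, htx] at this
      exact this
    have hne' : P' ≠ P := by
      intro heq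
      obtain ⟨w, hw, hwx⟩ : ∃ w ∈ (P : Subgroup S2), w ∉ Subgroup.zpowers x := by
        by_contra h
        push_neg at h
        have := Subgroup.card_le_of_le (show (P : Subgroup S2) ≤ Subgroup.zpowers x from h)
        rw [P.card_eq_multiplicity, hfull, Nat.card_zpowers, hx, pow_succ] at this
        have := Nat.two_pow_pos e
        omega
      have hwN := hPN P hxP hw
      have hwT : w ∉ T := fun h => hwx (hPT w hw h)
      have h1 : t * w * t⁻¹ ∈ (P : Subgroup S2) := by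
        have h1 : t * w * t⁻¹ ∈ ((P' : Sylow 2 S2) : Subgroup S2) :=
          Subgroup.smul_mem_pointwise_smul w (MulAut.conj t) _ hw
        rwa [heq] at h1
      have h2 : t * w * t⁻¹ * w⁻¹ = t * t := by
        have := hT.inverts hwN hwT htT
        calc t * w * t⁻¹ * w⁻¹ = t * (w * t * w⁻¹)⁻¹ := by group
          _ = t * t := by rw [this, inv_inv]
      obtain ⟨l, hl⟩ := P.2 ⟨t * t, h2 ▸ mul_mem h1 (inv_mem hw)⟩
      have h3 : t ^ (2 ^ (l + 1)) = 1 := by
        rw [pow_succ', pow_mul, pow_two]; exact congrArg Subtype.val hl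
      obtain ⟨m, -, hm⟩ := (Nat.dvd_prime_pow Nat.prime_two).1 (orderOf_dvd_of_pow_eq_one h3)
      rcases m with _ | m
      · exact ht1 (orderOf_eq_one_iff.1 hm)
      · exact htodd (hm ▸ dvd_pow_self 2 m.succ_ne_zero)
    -- every element of `zpowers x` lies in both; the others are conjugate into it
    have hall : ∀ z ∈ (P : Subgroup S2), ∃ R₁ R₂ : Sylow 2 S2, R₁ ≠ R₂ ∧ z ∈ R₁ ∧ z ∈ R₂ := by
      intro z hz
      by_cases hzx : z ∈ Subgroup.zpowers x
      · exact ⟨P', P, hne', Subgroup.zpowers_le.2 hxP' hzx, hz⟩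
      set y := x ^ 2 ^ (e - 2) with hy
      have hyo : orderOf y = 4 := by
        rw [hy, orderOf_pow_of_dvd (by positivity) (hx.symm ▸ pow_dvd_pow 2 (Nat.sub_le e 2)), hx,
          Nat.pow_div (Nat.sub_le e 2) two_pos, Nat.sub_sub_self he]
        norm_num
      have hy2 : y * y = negS := by
        refine SL2TwoNormalizer.eq_negS_of_order_two hodd ?_ fun h => ?_
        · rw [← pow_two, ← pow_two, ← pow_mul, show 2 * 2 = orderOf y by rw [hyo], pow_orderOf_eq_one]
        · have := Nat.le_of_dvd two_pos (hyo ▸ orderOf_dvd_of_pow_eq_one (pow_two y ▸ h))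
          omega
      have hns : ∀ v : S2, v * v = negS → ¬ TwoClasses.IsScalar2 v.1 ∧ v.1.trace = 0 := by
        intro v hv
        have hns : ¬ TwoClasses.IsScalar2 v.1 := fun h => by
          have h1 : (negS : S2) = 1 := by
            rcases scalar_cases h with rfl | rfl
            · rw [← hv, one_mul]
            · rw [← hv, SL2TwoNormalizer.negS_mul_self]
          have h00 := congrArg (fun A : S2 => A.1 0 0) h1
          simp [negS_val] at h00
          exact two_ne_zero_of_odd_card hodd (by linear_combination -h00)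
        refine ⟨hns, ?_⟩
        have h1 := sl_cayley v
        rw [show v.1 * v.1 = -1 from congrArg Subtype.val hv] at h1
        have h2 : v.1.trace • v.1 = 0 := by
          rw [eq_comm, sub_eq_iff_eq_add, neg_add_cancel] at h1; exact h1
        rcases smul_eq_zero.1 h2 with h | h
        · exact h
        · exact absurd (by rw [h]; exact ⟨rfl, rfl, rfl⟩) hns
      obtain ⟨hzns, hztr⟩ := hns z (hw4 z hz hzx)
      obtain ⟨hyns, hytr⟩ := hns y hy2
      have hc : IsConj y z := TwoClasses.sl_isConj_of_trace hyns hzns (hytr.trans hztr.symm) (Or.inl (by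
        rw [hytr, TwoClasses.dsc]
        have h2 := two_ne_zero_of_odd_card hodd
        intro h
        exact mul_ne_zero h2 h2 (by linear_combination -h)))
      obtain ⟨c, rfl⟩ := isConj_iff.1 hc
      have hyX : y ∈ Subgroup.zpowers x := pow_mem (Subgroup.mem_zpowers x) _
      exact ⟨c • P', c • P, fun h => hne' (smul_left_cancel c h),
        Subgroup.smul_mem_pointwise_smul y (MulAut.conj c) _ (Subgroup.zpowers_le.2 hxP' hyX),
        Subgroup.smul_mem_pointwise_smul y (MulAut.conj c) _ (Subgroup.zpowers_le.2 hxP hyX)⟩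
    refine ⟨P, fun z hz => ?_⟩
    obtain ⟨k, hk⟩ := hz
    obtain ⟨R, hR⟩ := (IsPGroup.of_card (n := k) (by rw [Nat.card_zpowers, hk]) :
      IsPGroup 2 (Subgroup.zpowers z)).exists_le_sylow
    by_cases hRP : R = P
    · obtain ⟨R₁, R₂, hne2, h1, h2⟩ := hall z (hRP ▸ hR (Subgroup.mem_zpowers z))
      by_cases h : R₁ = P
      · exact ⟨R₂, fun e => hne2 (h.trans e.symm), h2⟩
      · exact ⟨R₁, h, h1⟩
    · exact ⟨R, hRP, hR (Subgroup.mem_zpowers z)⟩

/-- The full criterion. -/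
theorem covered_iff (p : ℕ) [Fact p.Prime] :
    Covered p S2 ↔ (p = 2 ∧ (¬ ∃ k : ℕ, Fintype.card F + 1 = 2 ^ k) ∧ (¬ ∃ k : ℕ, Fintype.card F = 2 ^ k) ∧
        ¬ ∃ k : ℕ, Fintype.card F = 2 ^ k + 1) := by
  classical
  obtain ⟨r, hr⟩ := CharP.exists F
  obtain ⟨n, hrp, hn⟩ := FiniteField.card F r
  haveI := Fact.mk hrp
  by_cases hpr : p = r
  · subst hpr
    refine iff_of_false (not_covered_char p) ?_
    rintro ⟨rfl, -, h, -⟩
    exact h ⟨n, hn⟩
  by_cases hp2 : p = 2
  · subst hp2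
    have hodd : Odd (Fintype.card F) := by
      rw [hn]; exact (hrp.odd_of_ne_two fun h => hpr h.symm).pow
    rw [covered_two_iff hodd]
    refine ⟨fun ⟨h1, h2⟩ => ⟨rfl, h1, ?_, h2⟩, fun ⟨_, h1, _, h2⟩ => ⟨h1, h2⟩⟩
    rintro ⟨k, hk⟩
    rcases k with _ | k
    · have := Fintype.one_lt_card (α := F); simp at hk; omega
    · exact Nat.not_even_iff_odd.2 hodd (hk ▸ (even_two.pow_of_ne_zero k.succ_ne_zero))
  · refine iff_of_false ?_ fun h => hp2 h.1
    obtain ⟨R⟩ : Nonempty (Sylow p S2) := inferInstance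
    exact not_covered_of_cyclic R (sylow_odd_cyclic r p hp2 hpr R)

end CfsgLib.Invol.SL2Redundant
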