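import Cfsg.Prelude.Def_CaseTheorems
import Cfsg.Agent.Lib.Invol.Basic
import Mathlib.GroupTheory.Sylow
import Mathlib.GroupTheory.Nilpotent

/-!
# Sectional 2-rank at most four from a Sylow 2-subgroup, and self-centralizing four-by-four groups
-/

set_option autoImplicit false
set_option linter.unusedSectionVars false

open Subgroup

namespace CfsgLib.Invol.SectFour

variable {G : Type*} [Group G]

/-- Every elementary abelian section below `S` has order at most `16`. -/
def Bound (S : Subgroup G) : Prop :=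
  ∀ R : Subgroup G, R ≤ S → ∀ M : Subgroup G, M ≤ R → (∀ a ∈ R, a * a ∈ M) → M.relIndex R ≤ 16

theorem sectional_of_bound [Finite G] (S : Sylow 2 G) (hS : Bound (S : Subgroup G)) :
    Cfsg.SectionalPRankLE 2 4 G := by
  haveI : Fact (Nat.Prime 2) := ⟨Nat.prime_two⟩
  intro H N _ A _ hA
  set H'' := A.comap (QuotientGroup.mk' N) with hH''
  let f : H'' →* A := (QuotientGroup.mk' N).subgroupComap A
  have hf : Function.Surjective f := by
    rintro ⟨y, hy⟩
    obtain ⟨x, rfl⟩ := QuotientGroup.mk'_surjective N y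
    exact ⟨⟨x, hy⟩, rfl⟩
  obtain ⟨R⟩ : Nonempty (Sylow 2 H'') := inferInstance
  have hA2 : IsPGroup 2 A := fun a => ⟨1, Subtype.ext (by simpa using hA a a.2)⟩
  let ι : H'' →* G := H.subtype.comp H''.subtype
  have hι : Function.Injective ι := fun a b e => Subtype.ext (Subtype.ext e)
  obtain ⟨k, hk⟩ := CfsgLib.Invol.exists_conj_le_sylow (R.2.map ι) S
  let ψ : (R : Subgroup H'') →* G :=
    (MulAut.conj k).toMonoidHom.comp (ι.comp (R : Subgroup H'').subtype)
  have hψ : Function.Injective ψ :=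
    (MulAut.conj k).injective.comp (hι.comp (R : Subgroup H'').subtype_injective)
  let φ : (R : Subgroup H'') →* A := f.comp (R : Subgroup H'').subtype
  have hφ : Function.Surjective φ := by
    intro y
    have h1 : ((R.mapSurjective hf : Sylow 2 A) : Subgroup A) = ⊤ :=
      ((R.mapSurjective hf).3 (hA2.to_subgroup ⊤) le_top).symm
    have h2 : y ∈ ((R.mapSurjective hf : Sylow 2 A) : Subgroup A) := h1 ▸ mem_top y
    rw [Sylow.coe_mapSurjective] at h2
    obtain ⟨x, hx, rfl⟩ := h2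
    exact ⟨⟨x, hx⟩, rfl⟩
  have h16 := hS ψ.range (by
    rintro _ ⟨r, rfl⟩
    exact hk _ ⟨r, r.2, rfl⟩) (φ.ker.map ψ) (map_le_range ψ _) (by
    rintro _ ⟨r, rfl⟩
    refine ⟨r * r, ?_, map_mul ψ r r⟩
    show φ (r * r) = 1
    refine Subtype.ext ?_
    have := hA _ (φ r).2
    rw [pow_two] at this
    rw [map_mul]
    exact this)
  have h3 : (φ.ker.map ψ).relIndex ψ.range = φ.ker.index := by
    rw [MonoidHom.range_eq_map, relIndex_map_map_of_injective _ _ hψ, relIndex_top_right]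
  rw [h3, index_ker, MonoidHom.range_eq_top.2 hφ, card_top] at h16
  simpa using h16

/-- A cyclic subgroup of index at most eight. -/
theorem bound_of_cyclic_index_le [Finite G] {S C : Subgroup G} (hC : IsCyclic C)
    (hi : C.relIndex S ≤ 8) : Bound S := by
  intro R hR M hM hsq
  have h1 : (M ⊓ C).relIndex (R ⊓ C) ≤ 2 := by
    set K := R ⊓ C with hK
    haveI : IsCyclic (K : Subgroup G) := isCyclic_of_le inf_le_right
    obtain ⟨g, hgen⟩ := IsCyclic.exists_generator (α := (K : Subgroup G))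
    set J := (M ⊓ C).subgroupOf K with hJ
    have hsqJ : ∀ x : K, x * x ∈ J := fun x => mem_subgroupOf.2
      ⟨hsq (x : G) x.2.1, mul_mem x.2.2 x.2.2⟩
    let F : Bool → K ⧸ J := fun b => if b then QuotientGroup.mk g else QuotientGroup.mk 1
    have hF : Function.Surjective F := by
      intro q
      obtain ⟨x, rfl⟩ := QuotientGroup.mk_surjective q
      obtain ⟨i, rfl⟩ := mem_zpowers_iff.1 (hgen x)
      rcases Int.even_or_odd' i with ⟨j, rfl | rfl⟩
      · refine ⟨false, ?_⟩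
        simp only [F, Bool.false_eq_true, if_false]
        rw [QuotientGroup.eq, inv_one, one_mul, zpow_mul, zpow_ofNat, pow_two]
        exact zpow_mem (hsqJ g) j
      · refine ⟨true, ?_⟩
        simp only [F, if_true]
        rw [QuotientGroup.eq, zpow_add, zpow_one, zpow_mul, zpow_ofNat, pow_two,
          ← ((Commute.refl g).mul_left (Commute.refl g)).zpow_left j |>.eq.symm,
          inv_mul_cancel_left]
        exact zpow_mem (hsqJ g) j
    have := Nat.card_le_card_of_surjective F hF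
    rw [relIndex, index_eq_card]
    simpa using this
  have h2 : (R ⊓ C).relIndex R ≤ 8 := by
    rw [inf_relIndex_left]
    exact (relIndex_le_of_le_right hR index_ne_zero_of_finite).trans hi
  calc M.relIndex R ≤ (M ⊓ C).relIndex R :=
        Nat.le_of_dvd (Nat.pos_of_ne_zero index_ne_zero_of_finite)
          (relIndex_dvd_of_le_left R inf_le_left)
    _ = (M ⊓ C).relIndex (R ⊓ C) * (R ⊓ C).relIndex R :=
        (relIndex_mul_relIndex _ _ _ (inf_le_inf_right C hM) inf_le_left).symm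
    _ ≤ 2 * 8 := Nat.mul_le_mul h1 h2
    _ = 16 := rfl

/-- `T` is elementary of order `16` and the centralizer in `S` of each nontrivial element of the
four-group `B ≤ T` lies in `T`. -/
structure Hyp (S T B : Subgroup G) : Prop where
  two : IsPGroup 2 S
  le : T ≤ S
  card : Nat.card T = 16
  exp : ∀ t ∈ T, t * t = 1
  sub : B ≤ T
  cardB : Nat.card B = 4
  cent : ∀ b ∈ B, b ≠ 1 → ∀ s ∈ S, s * b = b * s → s ∈ T

theorem mul_comm_of_sq {T : Subgroup G} (h : ∀ t ∈ T, t * t = 1) {a b : G} (ha : a ∈ T)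
    (hb : b ∈ T) : a * b = b * a := by
  have hi : ∀ c ∈ T, c⁻¹ = c := fun c hc => inv_eq_of_mul_eq_one_right (h c hc)
  rw [← hi _ (mul_mem ha hb), mul_inv_rev, hi a ha, hi b hb]

theorem eq_of_card_ge [Finite G] {A B : Subgroup G} (h : A ≤ B)
    (hc : Nat.card B ≤ Nat.card A) : A = B := eq_of_le_of_card_ge h hc

/-- The fixed points of `n` in `T`. -/
def fixT (T : Subgroup G) (n : G) : Subgroup G := T ⊓ centralizer ({n} : Set G)

theorem Hyp.fix_inf {S T B : Subgroup G} (h : Hyp S T B) {n : G} (hn : n ∈ S) (hnT : n ∉ T) :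
    fixT T n ⊓ B = ⊥ := by
  rw [eq_bot_iff]
  intro b hb
  rw [mem_bot]
  by_contra hb1
  exact hnT (h.cent b hb.2 hb1 n hn (mem_centralizer_singleton_iff.1 hb.1.2).symm)

theorem Hyp.card_le_four [Finite G] {S T B : Subgroup G} (h : Hyp S T B) {X : Subgroup G}
    (hX : X ≤ T) (hXB : X ⊓ B = ⊥) : Nat.card X ≤ 4 := by
  haveI : IsMulCommutative T := ⟨⟨fun a b => Subtype.ext (mul_comm_of_sq h.exp a.2 b.2)⟩⟩
  have hinj : Function.Injective (fun p : X × B => (⟨(p.1 : G) * p.2, mul_mem (hX p.1.2)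
      (h.sub p.2.2)⟩ : T)) := by
    intro p q e
    exact mul_injective_of_disjoint (disjoint_iff.2 hXB) (congrArg Subtype.val e)
  have := Nat.card_le_card_of_injective _ hinj
  rw [Nat.card_prod, h.cardB, h.card] at this
  omega

theorem Hyp.le_card_fix [Finite G] {S T B : Subgroup G} (h : Hyp S T B) {n : G} (hn : n ∈ S)
    (hnT : n ∉ T) (hnorm : n ∈ normalizer (T : Set G)) (hn2 : n * n ∈ T) :
    Nat.card (fixT T n) = 4 := by
  have hle := h.card_le_four (X := fixT T n) inf_le_left (h.fix_inf hn hnT)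
  have hconj : ∀ t : T, n * (t : G) * n⁻¹ ∈ T := fun t => (mem_normalizer_iff.1 hnorm _).1 t.2
  let f : T →* T := MonoidHom.mk' (fun t => ⟨n * (t : G) * n⁻¹, hconj t⟩ * t) fun a b => by
    refine Subtype.ext ?_
    show n * ((a : G) * b) * n⁻¹ * ((a : G) * b) =
      n * (a : G) * n⁻¹ * a * (n * (b : G) * n⁻¹ * b)
    have h1 : (a : G) * (n * (b : G) * n⁻¹) = (n * (b : G) * n⁻¹) * a :=
      mul_comm_of_sq h.exp a.2 (hconj b)
    calc n * ((a : G) * b) * n⁻¹ * ((a : G) * b)
        = n * (a : G) * n⁻¹ * ((n * (b : G) * n⁻¹) * a) * b := by group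
      _ = n * (a : G) * n⁻¹ * ((a : G) * (n * (b : G) * n⁻¹)) * b := by rw [h1]
      _ = _ := by simp only [mul_assoc]
  have hker : f.ker.map T.subtype ≤ fixT T n := by
    rintro _ ⟨t, ht, rfl⟩
    refine ⟨t.2, mem_centralizer_singleton_iff.2 ?_⟩
    have e : n * (t : G) * n⁻¹ * t = 1 := congrArg Subtype.val ht
    have e2 : n * (t : G) * n⁻¹ = t :=
      (eq_inv_of_mul_eq_one_left e).trans (inv_eq_of_mul_eq_one_right (h.exp _ t.2))
    exact (mul_inv_eq_iff_eq_mul.1 e2).symm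
  have hrange : f.range.map T.subtype ≤ fixT T n := by
    rintro _ ⟨_, ⟨t, rfl⟩, rfl⟩
    refine ⟨(f t).2, mem_centralizer_singleton_iff.2 ?_⟩
    show n * (t : G) * n⁻¹ * t * n = n * (n * (t : G) * n⁻¹ * t)
    have h2 : n * n * (t : G) = (t : G) * (n * n) := mul_comm_of_sq h.exp hn2 t.2
    have h3 := mul_comm_of_sq h.exp (hconj t) t.2
    symm
    calc n * (n * (t : G) * n⁻¹ * t) = (n * n * (t : G)) * n⁻¹ * t := by group
      _ = ((t : G) * (n * n)) * n⁻¹ * t := by rw [h2]
      _ = (t : G) * (n * (t : G) * n⁻¹) * n := by group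
      _ = n * (t : G) * n⁻¹ * t * n := by rw [← h3]
  have h1 := card_map_of_injective (K := f.ker) T.subtype_injective
  have h2 := card_map_of_injective (K := f.range) T.subtype_injective
  have h3 := (Nat.le_of_dvd Nat.card_pos (card_dvd_of_le hker))
  have h4 := (Nat.le_of_dvd Nat.card_pos (card_dvd_of_le hrange))
  have h5 := f.ker.card_mul_index
  rw [index_ker, h.card] at h5
  rw [h1] at h3
  rw [h2] at h4
  have := Nat.mul_le_mul h3 h4
  rw [h5] at this
  interval_cases hx : Nat.card (fixT T n) <;> omega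

/-- Normal part `N_S(T)`. -/
def nrm (S T : Subgroup G) : Subgroup G := S ⊓ normalizer (T : Set G)

theorem eq_of_normalizer [Finite G] {S U : Subgroup G} (hS : IsPGroup 2 S) (hU : U ≤ S)
    (h : S ⊓ normalizer (U : Set G) ≤ U) : S = U := by
  by_contra hne
  haveI : Fact (Nat.Prime 2) := ⟨Nat.prime_two⟩
  haveI := hS.isNilpotent
  have hlt : U.subgroupOf S < ⊤ := lt_of_le_of_ne le_top fun e =>
    hne (le_antisymm (subgroupOf_eq_top.1 e) hU)
  obtain ⟨⟨g, hg⟩, hgN, hgU⟩ :=
    SetLike.exists_of_lt (Group.normalizerCondition_of_isNilpotent _ hlt)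
  refine hgU (mem_subgroupOf.2 (h ⟨hg, mem_normalizer_iff.2 fun x => ⟨fun hx => ?_, fun hx => ?_⟩⟩))
  · exact mem_subgroupOf.1 ((mem_normalizer_iff.1 hgN ⟨x, hU hx⟩).1 (mem_subgroupOf.2 hx))
  · have hxS : x ∈ S := by
      have := mul_mem (mul_mem (inv_mem hg) (hU hx)) hg
      simpa [mul_assoc] using this
    exact mem_subgroupOf.1 ((mem_normalizer_iff.1 hgN ⟨x, hxS⟩).2 (mem_subgroupOf.2 hx))

theorem Hyp.le_nrm {S T B : Subgroup G} (h : Hyp S T B) : T ≤ nrm S T := fun _ ht =>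
  ⟨h.le ht, T.le_normalizer ht⟩

theorem two_pow_cases {k : ℕ} (h : 2 ^ k ≤ 4) : 2 ^ k = 1 ∨ 2 ^ k = 2 ∨ 2 ^ k = 4 := by
  rcases k with _ | _ | _ | k
  · exact Or.inl rfl
  · exact Or.inr (Or.inl rfl)
  · exact Or.inr (Or.inr rfl)
  · have h1 : 2 ^ 3 ≤ 2 ^ (k + 3) := Nat.pow_le_pow_right two_pos (by omega)
    have h2 : 2 ^ (k + 3) ≤ 4 := h
    omega

/-- `N_S(T)` has order at most `64`. -/
theorem Hyp.card_nrm_le [Finite G] {S T B : Subgroup G} (h : Hyp S T B) :
    Nat.card (nrm S T) ≤ 64 := by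
  classical
  haveI : Fact (Nat.Prime 2) := ⟨Nat.prime_two⟩
  set U := nrm S T with hU
  set Tu := T.subgroupOf U with hTu
  haveI hTn : Tu.Normal := ⟨fun t ht u => mem_subgroupOf.2
    ((mem_normalizer_iff.1 u.2.2 _).1 (mem_subgroupOf.1 ht))⟩
  have hU2 : IsPGroup 2 U := h.two.to_le inf_le_left
  have hcard : Nat.card U = Tu.index * 16 := by
    rw [← Tu.index_mul_card, hTu, Nat.card_congr (subgroupOfEquivOfLe h.le_nrm).toEquiv, h.card]
  suffices hsuff : Tu.index ≤ 4 by omega
  by_cases htriv : Tu = ⊤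
  · rw [htriv, index_top]; omega
  haveI : Nontrivial (U ⧸ Tu) := by
    rw [← Finite.one_lt_card_iff_nontrivial, ← index_eq_card]
    exact (Tu.one_lt_index_of_ne_top htriv)
  have hQ2 : IsPGroup 2 (U ⧸ Tu) := hU2.to_quotient Tu
  haveI : Nontrivial (center (U ⧸ Tu)) := hQ2.center_nontrivial
  obtain ⟨w, hw⟩ := exists_prime_orderOf_dvd_card' (G := center (U ⧸ Tu)) 2 (by
    obtain ⟨k, hk⟩ := IsPGroup.iff_card.1 (hQ2.to_subgroup (center (U ⧸ Tu)))
    have h1 : 1 < Nat.card (center (U ⧸ Tu)) := Finite.one_lt_card_iff_nontrivial.2 inferInstance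
    rw [hk] at h1 ⊢
    exact dvd_pow_self 2 (fun e => by rw [e] at h1; simp at h1))
  obtain ⟨n, hn⟩ := QuotientGroup.mk_surjective (w : U ⧸ Tu)
  have hw' : orderOf (QuotientGroup.mk n : U ⧸ Tu) = 2 := by rw [hn, Subgroup.orderOf_coe, hw]
  have hnT : (n : G) ∉ T := fun hh => by
    rw [(QuotientGroup.eq_one_iff n).2 (mem_subgroupOf.2 hh), orderOf_one] at hw'
    omega
  have hn2 : (n : G) * n ∈ T := by
    have h1 : (QuotientGroup.mk n : U ⧸ Tu) ^ 2 = 1 := hw' ▸ pow_orderOf_eq_one _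
    rw [← QuotientGroup.mk_pow, QuotientGroup.eq_one_iff, pow_two] at h1
    exact mem_subgroupOf.1 h1
  have hK4 := h.le_card_fix n.2.1 hnT n.2.2 hn2
  set K := fixT T (n : G) with hK
  -- elements centralizing `K`
  set U₀ := centralizer (((K.subgroupOf U : Subgroup U) : Set U)) with hU₀
  have hKU : K ≤ U := le_trans inf_le_left h.le_nrm
  -- conjugation by `u` commutes with conjugation by `n` on `T`
  have hswap : ∀ u : U, ∀ t ∈ T, (u : G) * ((n : G) * t * (n : G)⁻¹) * (u : G)⁻¹ =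
      (n : G) * ((u : G) * t * (u : G)⁻¹) * (n : G)⁻¹ := by
    intro u t ht
    have hz : (QuotientGroup.mk u : U ⧸ Tu) * QuotientGroup.mk n = QuotientGroup.mk n * QuotientGroup.mk u := by
      rw [hn]
      exact mem_center_iff.1 w.2 _
    rw [← QuotientGroup.mk_mul, ← QuotientGroup.mk_mul, QuotientGroup.eq] at hz
    have hz' : ((u : G) * n)⁻¹ * ((n : G) * u) ∈ T := mem_subgroupOf.1 hz
    have hcm := mul_comm_of_sq h.exp hz' ht
    calc (u : G) * ((n : G) * t * (n : G)⁻¹) * (u : G)⁻¹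
        = ((u : G) * n) * t * ((u : G) * n)⁻¹ := by group
      _ = ((u : G) * n) * ((((u : G) * n)⁻¹ * ((n : G) * u)) * t) *
            (((u : G) * n)⁻¹ * ((n : G) * u))⁻¹ * ((u : G) * n)⁻¹ := by rw [hcm]; group
      _ = (n : G) * ((u : G) * t * (u : G)⁻¹) * (n : G)⁻¹ := by group
  have hKnorm : ∀ u : U, ∀ x ∈ K, (u : G) * x * (u : G)⁻¹ ∈ K := by
    intro u x hx
    refine ⟨(mem_normalizer_iff.1 u.2.2 _).1 hx.1, mem_centralizer_singleton_iff.2 ?_⟩
    have h1 := hswap u x hx.1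
    rw [show (n : G) * x * (n : G)⁻¹ = x from
      mul_inv_eq_iff_eq_mul.2 (mem_centralizer_singleton_iff.1 hx.2).symm] at h1
    exact mul_inv_eq_iff_eq_mul.1 h1.symm |>.symm
  -- elements centralizing `K` act trivially modulo `K`
  have hmod : ∀ u ∈ U₀, ∀ t ∈ T, (u : G) * t * (u : G)⁻¹ * t ∈ K := by
    intro u hu t ht
    have hut : (u : G) * t * (u : G)⁻¹ ∈ T := (mem_normalizer_iff.1 u.2.2 _).1 ht
    have hnt : (n : G) * t * (n : G)⁻¹ ∈ T := (mem_normalizer_iff.1 n.2.2 _).1 ht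
    refine ⟨mul_mem hut ht, mem_centralizer_singleton_iff.2 ?_⟩
    -- `[n, t]` is fixed by `u`
    have hk : (n : G) * t * (n : G)⁻¹ * t ∈ K := by
      refine ⟨mul_mem hnt ht, mem_centralizer_singleton_iff.2 ?_⟩
      have h2 : (n : G) * n * t = t * ((n : G) * n) := mul_comm_of_sq h.exp hn2 ht
      have h3 := mul_comm_of_sq h.exp hnt ht
      symm
      calc (n : G) * ((n : G) * t * (n : G)⁻¹ * t) = ((n : G) * n * t) * (n : G)⁻¹ * t := by group
        _ = (t * ((n : G) * n)) * (n : G)⁻¹ * t := by rw [h2]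
        _ = t * ((n : G) * t * (n : G)⁻¹) * n := by group
        _ = (n : G) * t * (n : G)⁻¹ * t * n := by rw [← h3]
    have h4 : (u : G) * ((n : G) * t * (n : G)⁻¹ * t) * (u : G)⁻¹ = (n : G) * t * (n : G)⁻¹ * t := by
      have h5 : (⟨_, hKU hk⟩ : U) * u = u * ⟨_, hKU hk⟩ :=
        mem_centralizer_iff.1 hu ⟨_, hKU hk⟩ (mem_subgroupOf.2 hk)
      exact mul_inv_eq_iff_eq_mul.2 (congrArg Subtype.val h5).symm
    -- hence `n` fixes `[u, t]`
    have h6 : (n : G) * ((u : G) * t * (u : G)⁻¹) * (n : G)⁻¹ * ((u : G) * t * (u : G)⁻¹) =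
        (n : G) * t * (n : G)⁻¹ * t := by
      rw [← hswap u t ht]
      conv_rhs => rw [← h4]
      group
    have hnut : (n : G) * ((u : G) * t * (u : G)⁻¹) * (n : G)⁻¹ ∈ T :=
      (mem_normalizer_iff.1 n.2.2 _).1 hut
    have h7 : (n : G) * ((u : G) * t * (u : G)⁻¹ * t) * (n : G)⁻¹ = (u : G) * t * (u : G)⁻¹ * t := by
      have e1 : (n : G) * ((u : G) * t * (u : G)⁻¹) * (n : G)⁻¹ =
          (n : G) * t * (n : G)⁻¹ * t * ((u : G) * t * (u : G)⁻¹) := by
        refine Eq.trans ?_ (congrArg (· * ((u : G) * t * (u : G)⁻¹)) h6)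
        show _ = (n : G) * ((u : G) * t * (u : G)⁻¹) * (n : G)⁻¹ * ((u : G) * t * (u : G)⁻¹) *
          ((u : G) * t * (u : G)⁻¹)
        rw [mul_assoc _ ((u : G) * t * (u : G)⁻¹) ((u : G) * t * (u : G)⁻¹), h.exp _ hut, mul_one]
      calc (n : G) * ((u : G) * t * (u : G)⁻¹ * t) * (n : G)⁻¹
          = (n : G) * ((u : G) * t * (u : G)⁻¹) * (n : G)⁻¹ * ((n : G) * t * (n : G)⁻¹) := by group
        _ = (n : G) * t * (n : G)⁻¹ * t * ((u : G) * t * (u : G)⁻¹) * ((n : G) * t * (n : G)⁻¹) := by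
            rw [e1]
        _ = (n : G) * t * (n : G)⁻¹ * (t * ((u : G) * t * (u : G)⁻¹)) * ((n : G) * t * (n : G)⁻¹) := by
            group
        _ = (n : G) * t * (n : G)⁻¹ * ((n : G) * t * (n : G)⁻¹) * (t * ((u : G) * t * (u : G)⁻¹)) := by
            rw [mul_assoc _ (t * _), mul_comm_of_sq h.exp (mul_mem ht hut) hnt, ← mul_assoc]
        _ = (u : G) * t * (u : G)⁻¹ * t := by
            rw [h.exp _ hnt, one_mul, mul_comm_of_sq h.exp ht hut]
    exact (mul_inv_eq_iff_eq_mul.1 h7).symm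
  have hTU₀ : Tu ≤ U₀ := fun t ht => mem_centralizer_iff.2 fun x hx => Subtype.ext
    (mul_comm_of_sq h.exp (mem_subgroupOf.1 hx).1 (mem_subgroupOf.1 ht))
  haveI hU₀n : U₀.Normal := by
    refine ⟨fun a ha u => mem_centralizer_iff.2 fun x hx => ?_⟩
    have h1 : u⁻¹ * x * u ∈ (K.subgroupOf U : Subgroup U) := by
      rw [mem_subgroupOf]
      simpa using hKnorm u⁻¹ x (mem_subgroupOf.1 hx)
    have h2 := mem_centralizer_iff.1 ha _ h1
    calc x * (u * a * u⁻¹) = u * ((u⁻¹ * x * u) * a) * u⁻¹ := by group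
      _ = u * (a * (u⁻¹ * x * u)) * u⁻¹ := by rw [h2]
      _ = u * a * u⁻¹ * x := by group
  -- a distinguished element of `B`
  obtain ⟨b₀, hb₀⟩ : ∃ b : B, b ≠ 1 := by
    haveI : Nontrivial B := by rw [← Finite.one_lt_card_iff_nontrivial, h.cardB]; omega
    exact exists_ne 1
  have hinj : ∀ b ∈ B, b ≠ 1 → ∀ u v : U, (u : G) * b * (u : G)⁻¹ = (v : G) * b * (v : G)⁻¹ →
      u⁻¹ * v ∈ Tu := by
    intro b hb hb1 u v e
    refine mem_subgroupOf.2 (h.cent b hb hb1 _ (mul_mem (inv_mem u.2.1) v.2.1) ?_)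
    show (u : G)⁻¹ * v * b = b * ((u : G)⁻¹ * v)
    calc (u : G)⁻¹ * v * b = (u : G)⁻¹ * ((v : G) * b * (v : G)⁻¹) * v := by group
      _ = (u : G)⁻¹ * ((u : G) * b * (u : G)⁻¹) * v := by rw [e]
      _ = b * ((u : G)⁻¹ * v) := by group
  set T₀ := Tu.subgroupOf U₀ with hT₀
  -- the injection of `U₀/T` into `K`
  have hφinj : ∀ b ∈ B, b ≠ 1 → ∀ (hb : b ∈ T), ∃ F : U₀ ⧸ T₀ → K, Function.Injective F ∧
      ∀ u : U₀, (F (QuotientGroup.mk u) : G) = ((u : U) : G) * b * ((u : U) : G)⁻¹ * b := by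
    intro b hbB hb1 hb
    refine ⟨fun q => Quotient.liftOn' q (fun u => ⟨_, hmod (u : U) u.2 b hb⟩) fun u v e => ?_,
      ?_, fun u => rfl⟩
    · rw [QuotientGroup.leftRel_apply, hT₀, mem_subgroupOf] at e
      refine Subtype.ext ?_
      show ((u : U) : G) * b * ((u : U) : G)⁻¹ * b = ((v : U) : G) * b * ((v : U) : G)⁻¹ * b
      have e' : ((u : U) : G)⁻¹ * ((v : U) : G) ∈ T := mem_subgroupOf.1 e
      congr 1
      calc ((u : U) : G) * b * ((u : U) : G)⁻¹
          = ((u : U) : G) * (b * (((u : U) : G)⁻¹ * ((v : U) : G))) * ((v : U) : G)⁻¹ := by group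
        _ = ((u : U) : G) * ((((u : U) : G)⁻¹ * ((v : U) : G)) * b) * ((v : U) : G)⁻¹ := by
            rw [mul_comm_of_sq h.exp hb e']
        _ = ((v : U) : G) * b * ((v : U) : G)⁻¹ := by group
    · intro p q
      induction p using Quotient.inductionOn' with | _ u => ?_
      induction q using Quotient.inductionOn' with | _ v => ?_
      intro e
      refine Quotient.sound' ?_
      rw [QuotientGroup.leftRel_apply, hT₀, mem_subgroupOf]
      exact hinj b hbB hb1 u v (mul_right_cancel (congrArg Subtype.val e))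
  have hU₀4 : T₀.index ≤ 4 := by
    obtain ⟨F, hF, -⟩ := hφinj b₀ b₀.2 (fun e => hb₀ (Subtype.ext e)) (h.sub b₀.2)
    rw [index_eq_card, ← hK4]
    exact Nat.card_le_card_of_injective F hF
  have hmulidx : Tu.index = T₀.index * U₀.index := (relIndex_mul_index hTU₀).symm
  -- the permutation of the nonidentity elements of `K`
  have hU₀2 : U₀.index ≤ 2 := by
    let X := {x : K // x ≠ 1}
    let π : U →* Equiv.Perm X :=
      { toFun := fun u =>
          { toFun := fun x => ⟨⟨(u : G) * x.1 * (u : G)⁻¹, hKnorm u _ x.1.2⟩, fun e => x.2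
              (Subtype.ext (conj_eq_one_iff.1 (congrArg Subtype.val e)))⟩
            invFun := fun x => ⟨⟨((u⁻¹ : U) : G) * x.1 * ((u⁻¹ : U) : G)⁻¹, hKnorm u⁻¹ _ x.1.2⟩,
              fun e => x.2 (Subtype.ext (conj_eq_one_iff.1 (congrArg Subtype.val e)))⟩
            left_inv := fun x => Subtype.ext (Subtype.ext (by simp [mul_assoc]))
            right_inv := fun x => Subtype.ext (Subtype.ext (by simp [mul_assoc])) }
        map_one' := Equiv.ext fun x => Subtype.ext (Subtype.ext (by simp))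
        map_mul' := fun a b => Equiv.ext fun x => Subtype.ext (Subtype.ext (by simp [mul_assoc])) }
    have hker : π.ker ≤ U₀ := by
      intro u hu
      refine mem_centralizer_iff.2 fun x hx => ?_
      rcases eq_or_ne x 1 with rfl | hx1
      · rw [one_mul, mul_one]
      · have h1 := congrArg (fun σ : Equiv.Perm X => ((σ ⟨⟨x, mem_subgroupOf.1 hx⟩, fun e => hx1
          (Subtype.ext (show (x : G) = 1 from congrArg (fun y : K => (y : G)) e))⟩).1 : G)) (MonoidHom.mem_ker.1 hu)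
        exact Subtype.ext (mul_inv_eq_iff_eq_mul.1 h1).symm
    have hX : Nat.card X = 3 := by
      haveI := Fintype.ofFinite (K : Subgroup G)
      rw [Nat.card_eq_fintype_card, Fintype.card_subtype_compl, Fintype.card_subtype_eq,
        ← Nat.card_eq_fintype_card, hK4]
    have h6 : π.ker.index ∣ 6 := by
      rw [index_ker, show 6 = Nat.card (Equiv.Perm X) by rw [Nat.card_perm, hX]; rfl]
      exact card_subgroup_dvd_card _
    obtain ⟨k, hk⟩ := hU2.index π.ker
    have h1 := Nat.le_of_dvd (Nat.pos_of_ne_zero index_ne_zero_of_finite) (index_dvd_of_le hker)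
    rw [hk] at h6 h1
    rcases k with _ | _ | k
    · simp at h1; omega
    · simpa using h1
    · exact absurd ((pow_dvd_pow 2 (show 2 ≤ k + 1 + 1 by omega)).trans h6) (by norm_num)
  rw [hmulidx]
  rcases Nat.lt_or_ge T₀.index 3 with hlt | hge
  · exact (Nat.mul_le_mul (Nat.le_of_lt_succ hlt) hU₀2).trans le_rfl
  -- if `U₀/T` has order four then it is all of `U/T`
  have hT₀4 : T₀.index = 4 := by
    haveI : T₀.Normal := normal_subgroupOf
    obtain ⟨k, hk⟩ := (hU2.to_subgroup U₀).index T₀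
    rw [hk] at hU₀4 hge ⊢
    rcases two_pow_cases hU₀4 with e | e | e <;> omega
  have htop : U₀ = ⊤ := by
    refine eq_top_iff.2 fun u _ => ?_
    by_contra hu
    -- `u` fixes a nontrivial coset of `K` in `T`
    have hcos : ∀ t ∈ T, ∃ b : B, (b : G) * t ∈ K := by
      intro t ht
      haveI : IsMulCommutative T := ⟨⟨fun a b => Subtype.ext (mul_comm_of_sq h.exp a.2 b.2)⟩⟩
      have hinj' : Function.Injective (fun p : K × B => (⟨(p.1 : G) * p.2,
          mul_mem p.1.2.1 (h.sub p.2.2)⟩ : T)) := fun p q e =>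
        mul_injective_of_disjoint (disjoint_iff.2 (h.fix_inf n.2.1 hnT)) (congrArg Subtype.val e)
      have hbij := (Nat.bijective_iff_injective_and_card _).2 ⟨hinj', by
        rw [Nat.card_prod, hK4, h.cardB, h.card]⟩
      obtain ⟨⟨k, b⟩, hkb⟩ := hbij.2 ⟨t, ht⟩
      refine ⟨b, ?_⟩
      have e : (k : G) * b = t := congrArg Subtype.val hkb
      rw [← e, mul_comm_of_sq h.exp k.2.1 (h.sub b.2), ← mul_assoc, h.exp _ (h.sub b.2), one_mul]
      exact k.2
    have hu2 : u * u ∈ U₀ := by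
      by_contra h2
      have : U₀.index = 2 := by
        have h1 : 1 ≤ U₀.index := Nat.pos_of_ne_zero index_ne_zero_of_finite
        rcases Nat.lt_or_ge U₀.index 2 with h3 | h3
        · exact absurd ((index_eq_one.1 (show U₀.index = 1 by omega)).symm ▸ mem_top u) hu
        · omega
      exact h2 (mul_self_mem_of_index_two this u)
    -- the induced map on `B`
    have hθ : ∀ b : B, ∃ c : B, (c : G) * ((u : G) * b * (u : G)⁻¹) ∈ K := fun b =>
      hcos _ ((mem_normalizer_iff.1 u.2.2 _).1 (h.sub b.2))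
    choose θ hθ using hθ
    obtain ⟨b₁, hb₁, hfix⟩ : ∃ b : B, b ≠ 1 ∧ θ b = b := by
      have huniq : ∀ (c c' : B) (t : G), (c : G) * t ∈ K → (c' : G) * t ∈ K → c = c' := by
        intro c c' t h1 h2
        have h3 := mul_mem h1 (inv_mem h2)
        rw [show (c : G) * t * ((c' : G) * t)⁻¹ = (c : G) * (c' : G)⁻¹ by group] at h3
        have h4 : (c : G) * (c' : G)⁻¹ ∈ K ⊓ B := ⟨h3, B.mul_mem c.2 (B.inv_mem c'.2)⟩
        rw [h.fix_inf n.2.1 hnT, mem_bot, mul_inv_eq_one] at h4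
        exact Subtype.ext h4
      have hone : ∀ b : B, θ b = 1 → b = 1 := by
        intro b hb
        have h1 := hθ b
        rw [hb, OneMemClass.coe_one, one_mul] at h1
        have h2 := hKnorm u⁻¹ _ h1
        have h3 : (b : G) ∈ K := by simpa [mul_assoc] using h2
        have h4 : (b : G) ∈ K ⊓ B := ⟨h3, b.2⟩
        rw [h.fix_inf n.2.1 hnT, mem_bot] at h4
        exact Subtype.ext h4
      have hinvol : ∀ b : B, θ (θ b) = b := by
        intro b
        refine huniq _ _ ((u : G) * (θ b : G) * (u : G)⁻¹) (hθ _) ?_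
        -- `b · u θ(b) u⁻¹`
        have h1 := hKnorm u _ (hθ b)
        have h2 := hmod (u * u) hu2 b (h.sub b.2)
        have h3 := mul_mem h2 h1
        have hc : (u : G) * (θ b : G) * (u : G)⁻¹ ∈ T :=
          (mem_normalizer_iff.1 u.2.2 _).1 (h.sub (θ b).2)
        have hd : ((u * u : U) : G) * b * ((u * u : U) : G)⁻¹ ∈ T :=
          (mem_normalizer_iff.1 (u * u).2.2 _).1 (h.sub b.2)
        rw [show (u : G) * ((θ b : G) * ((u : G) * b * (u : G)⁻¹)) * (u : G)⁻¹ =
          ((u : G) * (θ b : G) * (u : G)⁻¹) * (((u * u : U) : G) * b * ((u * u : U) : G)⁻¹) by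
            push_cast; group] at h3
        have e : ((u * u : U) : G) * b * ((u * u : U) : G)⁻¹ * b *
            (((u : G) * (θ b : G) * (u : G)⁻¹) * (((u * u : U) : G) * b * ((u * u : U) : G)⁻¹)) =
            (b : G) * ((u : G) * (θ b : G) * (u : G)⁻¹) := by
          rw [mul_comm_of_sq h.exp hc hd, mul_comm_of_sq h.exp hd (h.sub b.2), mul_assoc (b : G),
            ← mul_assoc _ _ ((u : G) * (θ b : G) * (u : G)⁻¹), h.exp _ hd, one_mul]
        rwa [e] at h3
      haveI := Fintype.ofFinite B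
      by_contra hno
      push Not at hno
      have hev : Even (Finset.univ.filter (fun b : B => b ≠ 1)).card := by
        have hsum := Finset.sum_involution (f := fun _ : B => (1 : ZMod 2))
          (s := Finset.univ.filter (fun b : B => b ≠ 1)) (fun b _ => θ b) (fun _ _ => CharTwo.add_self_eq_zero _)
          (fun b hb _ => hno b (Finset.mem_filter.1 hb).2)
          (fun b hb => Finset.mem_filter.2 ⟨Finset.mem_univ _, fun e => (Finset.mem_filter.1 hb).2
            (hone b e)⟩) (fun b _ => hinvol b)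
        rw [Finset.sum_const, nsmul_eq_mul, mul_one] at hsum
        exact ZMod.natCast_eq_zero_iff_even.1 hsum
      rw [Finset.filter_ne', Finset.card_erase_of_mem (Finset.mem_univ _), Finset.card_univ,
        ← Nat.card_eq_fintype_card, h.cardB] at hev
      exact absurd hev (by decide)
    obtain ⟨F, hF, hFv⟩ := hφinj b₁ b₁.2 (fun e => hb₁ (Subtype.ext e)) (h.sub b₁.2)
    have hbij := (Nat.bijective_iff_injective_and_card F).2 ⟨hF, by
      rw [hK4, ← index_eq_card, hT₀4]⟩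
    have h1 := hθ b₁
    rw [hfix, mul_comm_of_sq h.exp (h.sub b₁.2) ((mem_normalizer_iff.1 u.2.2 _).1 (h.sub b₁.2))] at h1
    obtain ⟨q, hq⟩ := hbij.2 ⟨_, h1⟩
    obtain ⟨v, rfl⟩ := QuotientGroup.mk_surjective q
    have h2 := hFv v
    rw [hq] at h2
    have h3 := hinj b₁ b₁.2 (fun e => hb₁ (Subtype.ext e)) v u (mul_right_cancel h2).symm
    refine hu ?_
    have h4 := mul_mem v.2 (hTU₀ h3)
    rwa [mul_inv_cancel_left] at h4
  rw [index_eq_one.2 htop, mul_one]
  exact hU₀4

end CfsgLib.Invol.SectFour
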