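import Cfsg.Agent.Lib.Invol.SectionalFour

/-!
# The sectional rank bound for a self-centralizing four-by-four group
-/

set_option autoImplicit false
set_option linter.unusedSectionVars false

open Subgroup

namespace CfsgLib.Invol.SectFour

variable {G : Type*} [Group G] [Finite G] {S T B : Subgroup G}

/-- Another elementary subgroup of order `16` in `N_S(T)`. -/
structure Other (S T T' : Subgroup G) : Prop where
  le : T' ≤ nrm S T
  card : Nat.card T' = 16
  exp : ∀ t ∈ T', t * t = 1
  ne : T' ≠ T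

theorem Hyp.card_nrm_eq (h : Hyp S T B) : T.relIndex (nrm S T) ≤ 4 := by
  have h1 := h.card_nrm_le
  have h2 := (T.subgroupOf (nrm S T)).index_mul_card
  rw [Nat.card_congr (subgroupOfEquivOfLe h.le_nrm).toEquiv, h.card] at h2
  show (T.subgroupOf (nrm S T)).index ≤ 4
  omega

theorem Other.exists_notMem {T' : Subgroup G} (h : Hyp S T B) (o : Other S T T') :
    ∃ m ∈ T', m ∉ T := by
  by_contra hno
  push Not at hno
  exact o.ne (eq_of_le_of_card_ge hno (by rw [o.card, h.card]))

theorem Other.inf_le_fix {T' : Subgroup G} (o : Other S T T') {m : G} (hm : m ∈ T') :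
    T ⊓ T' ≤ fixT T m := fun x hx =>
  ⟨hx.1, mem_centralizer_singleton_iff.2 (mul_comm_of_sq o.exp hx.2 hm)⟩

theorem Other.card_fix {T' : Subgroup G} (h : Hyp S T B) (o : Other S T T') {m : G} (hm : m ∈ T')
    (hmT : m ∉ T) : Nat.card (fixT T m) = 4 :=
  h.le_card_fix (o.le hm).1 hmT (o.le hm).2 (by rw [o.exp m hm]; exact one_mem T)

theorem Other.card_inf {T' : Subgroup G} (h : Hyp S T B) (o : Other S T T') :
    Nat.card (T ⊓ T' : Subgroup G) = 4 ∧ T.relIndex T' = 4 ∧ T.relIndex (nrm S T) = 4 := by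
  obtain ⟨m, hm, hmT⟩ := o.exists_notMem h
  have h1 := card_le_of_le (o.inf_le_fix hm)
  rw [o.card_fix h hm hmT] at h1
  have h2 : T.relIndex T' ≤ T.relIndex (nrm S T) :=
    relIndex_le_of_le_right o.le index_ne_zero_of_finite
  have h3 := h.card_nrm_eq
  have h4 := (T.subgroupOf T').index_mul_card
  rw [o.card, ← inf_subgroupOf_right, Nat.card_congr (subgroupOfEquivOfLe inf_le_right).toEquiv,
    inf_subgroupOf_right] at h4
  have h5 : T.relIndex T' * Nat.card (T ⊓ T' : Subgroup G) = 16 := h4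
  have h6 : T.relIndex T' ≤ 4 := h2.trans h3
  have h7 := Nat.mul_le_mul h6 h1
  refine ⟨?_, ?_, ?_⟩ <;>
  · have := Nat.mul_le_mul_left (T.relIndex T') h1
    have := Nat.mul_le_mul_right (Nat.card (T ⊓ T' : Subgroup G)) h6
    omega

theorem Other.fix_eq {T' : Subgroup G} (h : Hyp S T B) (o : Other S T T') {m : G} (hm : m ∈ T')
    (hmT : m ∉ T) : T ⊓ T' = fixT T m :=
  eq_of_le_of_card_ge (o.inf_le_fix hm) (by rw [o.card_fix h hm hmT, (o.card_inf h).1])

theorem Other.decomp {T' : Subgroup G} (h : Hyp S T B) (o : Other S T T') {u : G}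
    (hu : u ∈ nrm S T) : ∃ t' ∈ T', ∃ t ∈ T, u = t' * t := by
  set U := nrm S T with hU
  let F : T' ⧸ T.subgroupOf T' → U ⧸ T.subgroupOf U := fun q =>
    Quotient.liftOn' q (fun x => QuotientGroup.mk (⟨x, o.le x.2⟩ : U)) fun a b e => by
      rw [QuotientGroup.leftRel_apply, mem_subgroupOf] at e
      rw [QuotientGroup.eq, mem_subgroupOf]
      exact e
  have hF : Function.Injective F := by
    intro p q
    induction p using Quotient.inductionOn' with | _ a => ?_
    induction q using Quotient.inductionOn' with | _ b => ?_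
    intro e
    refine Quotient.sound' ?_
    rw [QuotientGroup.leftRel_apply, mem_subgroupOf]
    have e' : (QuotientGroup.mk (⟨a, o.le a.2⟩ : U) : U ⧸ T.subgroupOf U) =
        QuotientGroup.mk (⟨b, o.le b.2⟩ : U) := e
    have e2 := mem_subgroupOf.1 (QuotientGroup.eq.1 e')
    exact e2
  have hbij := (Nat.bijective_iff_injective_and_card F).2 ⟨hF, by
    show T.relIndex T' = T.relIndex U
    rw [(o.card_inf h).2.1, (o.card_inf h).2.2]⟩
  obtain ⟨q, hq⟩ := hbij.2 (QuotientGroup.mk (⟨u, hu⟩ : U))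
  obtain ⟨a, rfl⟩ := QuotientGroup.mk_surjective q
  have e := mem_subgroupOf.1 (QuotientGroup.eq.1 hq)
  exact ⟨a, a.2, _, e, (mul_inv_cancel_left (a : G) u).symm⟩

theorem Other.invol_cases {T' : Subgroup G} (h : Hyp S T B) (o : Other S T T') {u : G}
    (hu : u ∈ nrm S T) (hu2 : u * u = 1) : u ∈ T ∨ u ∈ T' := by
  obtain ⟨a, ha, t, ht, rfl⟩ := o.decomp h hu
  by_cases haT : a ∈ T
  · exact Or.inl (mul_mem haT ht)
  refine Or.inr (mul_mem ha ?_)
  have h1 : t * a = a * t := by
    have e : t * a * (a * t) = 1 := by rw [mul_assoc, ← mul_assoc a a, o.exp a ha, one_mul, h.exp t ht]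
    exact (eq_inv_of_mul_eq_one_left e).trans (inv_eq_of_mul_eq_one_right hu2)
  have h2 : t ∈ fixT T a := ⟨ht, mem_centralizer_singleton_iff.2 h1⟩
  rw [← o.fix_eq h ha haT] at h2
  exact h2.2

theorem Other.elementary_cases {T' : Subgroup G} (h : Hyp S T B) (o : Other S T T') {R : Subgroup G}
    (hR : R ≤ nrm S T) (hR2 : ∀ r ∈ R, r * r = 1) : R ≤ T ∨ R ≤ T' := by
  by_contra hno
  push Not at hno
  obtain ⟨x, hx, hxT⟩ := SetLike.not_le_iff_exists.1 hno.1
  obtain ⟨y, hy, hyT⟩ := SetLike.not_le_iff_exists.1 hno.2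
  have hx' := (o.invol_cases h (hR hx) (hR2 x hx)).resolve_left hxT
  have hy' := (o.invol_cases h (hR hy) (hR2 y hy)).resolve_right hyT
  rcases o.invol_cases h (hR (mul_mem hx hy)) (hR2 _ (mul_mem hx hy)) with e | e
  · exact hxT (by simpa using mul_mem e (inv_mem hy'))
  · exact hyT (by simpa using mul_mem (inv_mem hx') e)

theorem Hyp.exists_mem_B (h : Hyp S T B) {X : Subgroup G} (hX : X ≤ T) (h8 : 4 < Nat.card X) :
    ∃ b ∈ B, b ≠ 1 ∧ b ∈ X := by
  by_contra hno
  push Not at hno
  have hXB : X ⊓ B = ⊥ := (Subgroup.eq_bot_iff_forall _).2 fun x hx => by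
    by_contra hx1
    exact hno x hx.2 hx1 hx.1
  have := h.card_le_four hX hXB
  omega

theorem card_inf_mul (R U V : Subgroup G) (hR : R ≤ V) :
    Nat.card R ≤ Nat.card (R ⊓ U : Subgroup G) * U.relIndex V := by
  have h1 := (U.subgroupOf R).index_mul_card
  rw [← inf_subgroupOf_left, Nat.card_congr (subgroupOfEquivOfLe inf_le_left).toEquiv,
    inf_subgroupOf_left, mul_comm] at h1
  rw [← h1]
  exact Nat.mul_le_mul_left _ (relIndex_le_of_le_right hR index_ne_zero_of_finite)

theorem comm_of_sq {R M : Subgroup G} (hsq : ∀ a ∈ R, a * a ∈ M) {a b : G} (ha : a ∈ R)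
    (hb : b ∈ R) : a * b * a⁻¹ * b⁻¹ ∈ M := by
  rw [show a * b * a⁻¹ * b⁻¹ = a * a * (a⁻¹ * b * (a⁻¹ * b)) * (b⁻¹ * b⁻¹) by group]
  exact mul_mem (mul_mem (hsq a ha) (hsq _ (mul_mem (inv_mem ha) hb))) (hsq _ (inv_mem hb))

/-- The four commutators `[u, b]`. -/
theorem Hyp.four_commutators (h : Hyp S T B) {U : Subgroup G} (hUS : U ≤ S) {R M : Subgroup G}
    (hUR : U ≤ R) (hsq : ∀ a ∈ R, a * a ∈ M) {b : G} (hb : b ∈ B) (hb1 : b ≠ 1) (hbR : b ∈ R) :
    T.relIndex U ≤ Nat.card M := by
  refine Nat.card_le_card_of_injective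
    (fun q : U ⧸ T.subgroupOf U => Quotient.liftOn' q
      (fun u => (⟨(u : G) * b * (u : G)⁻¹ * b⁻¹, comm_of_sq hsq (hUR u.2) hbR⟩ : M))
      fun u v e => ?_) ?_
  · rw [QuotientGroup.leftRel_apply, mem_subgroupOf] at e
    refine Subtype.ext ?_
    have e' : (u : G)⁻¹ * v ∈ T := e
    show (u : G) * b * (u : G)⁻¹ * b⁻¹ = (v : G) * b * (v : G)⁻¹ * b⁻¹
    congr 1
    calc (u : G) * b * (u : G)⁻¹ = (u : G) * (b * ((u : G)⁻¹ * v)) * (v : G)⁻¹ := by group
      _ = (u : G) * (((u : G)⁻¹ * v) * b) * (v : G)⁻¹ := by rw [mul_comm_of_sq h.exp (h.sub hb) e']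
      _ = (v : G) * b * (v : G)⁻¹ := by group
  · intro p q
    induction p using Quotient.inductionOn' with | _ u => ?_
    induction q using Quotient.inductionOn' with | _ v => ?_
    intro e
    refine Quotient.sound' ?_
    rw [QuotientGroup.leftRel_apply, mem_subgroupOf]
    have e' : (u : G) * b * (u : G)⁻¹ = (v : G) * b * (v : G)⁻¹ :=
      mul_right_cancel (congrArg Subtype.val e)
    refine h.cent b hb hb1 _ (mul_mem (inv_mem (hUS u.2)) (hUS v.2)) ?_
    calc (u : G)⁻¹ * v * b = (u : G)⁻¹ * ((v : G) * b * (v : G)⁻¹) * v := by group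
      _ = (u : G)⁻¹ * ((u : G) * b * (u : G)⁻¹) * v := by rw [e']
      _ = b * ((u : G)⁻¹ * v) := by group

/-- An elementary subgroup containing a nontrivial element of `B` lies in `T`. -/
theorem Hyp.elementary_le (h : Hyp S T B) {R : Subgroup G} (hR : R ≤ S)
    (hR2 : ∀ r ∈ R, r * r = 1) {b : G} (hb : b ∈ B) (hb1 : b ≠ 1) (hbR : b ∈ R) : R ≤ T :=
  fun r hr => h.cent b hb hb1 r (hR hr) (mul_comm_of_sq hR2 hr hbR)

theorem card_large {R M : Subgroup G} (hMR : M ≤ R) (hgt : 16 < M.relIndex R)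
    (hR2 : IsPGroup 2 R) : 32 * Nat.card M ≤ Nat.card R ∧ ∃ k, Nat.card R = 2 ^ k := by
  haveI : Fact (Nat.Prime 2) := ⟨Nat.prime_two⟩
  refine ⟨?_, IsPGroup.iff_card.1 hR2⟩
  have h1 := (M.subgroupOf R).index_mul_card
  rw [Nat.card_congr (subgroupOfEquivOfLe hMR).toEquiv] at h1
  obtain ⟨k, hk⟩ := hR2.index (M.subgroupOf R)
  have h2 : M.relIndex R = 2 ^ k := hk
  have h3 : 5 ≤ k := by
    by_contra hc
    have : 2 ^ k ≤ 2 ^ 4 := Nat.pow_le_pow_right two_pos (by omega)
    omega
  rw [← h1, hk]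
  exact Nat.mul_le_mul_right _ (le_trans (by norm_num) (Nat.pow_le_pow_right two_pos h3))

theorem eq_one_of_card_one {M : Subgroup G} (h : Nat.card M ≤ 1) {x : G} (hx : x ∈ M) : x = 1 := by
  have h1 : Nat.card M = 1 := le_antisymm h Nat.card_pos
  rw [card_eq_one.1 h1, mem_bot] at hx
  exact hx

theorem bound_of_nrm_eq (h : Hyp S T B) (hS : S = nrm S T) : Bound S := by
  intro R hR M hM hsq
  by_contra hgt
  push Not at hgt
  obtain ⟨h32, k, hk⟩ := card_large hM hgt (h.two.to_le hR)
  have hS64 : Nat.card S ≤ 64 := le_of_eq_of_le (congrArg (fun X : Subgroup G => Nat.card X) hS) h.card_nrm_le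
  have hR64 := card_le_of_le hR
  have hMpos : 0 < Nat.card M := Nat.card_pos
  have hTS : T.relIndex S * 16 = Nat.card S := by
    have h1 := (T.subgroupOf S).index_mul_card
    rwa [Nat.card_congr (subgroupOfEquivOfLe h.le).toEquiv, h.card] at h1
  have hRT : Nat.card R ≤ Nat.card (R ⊓ T : Subgroup G) * T.relIndex S := card_inf_mul R T S hR
  have h8 : 4 < Nat.card (R ⊓ T : Subgroup G) := by
    have h4 : T.relIndex S ≤ 4 := by omega
    have := Nat.mul_le_mul_left (Nat.card (R ⊓ T : Subgroup G)) h4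
    omega
  obtain ⟨b, hb, hb1, hbR⟩ := h.exists_mem_B inf_le_right h8
  by_cases hk5 : Nat.card R = 32
  · have hM1 : Nat.card M ≤ 1 := by omega
    have hle := h.elementary_le hR (fun r hr => eq_one_of_card_one hM1 (hsq r hr)) hb hb1 hbR.1
    have := card_le_of_le hle
    rw [h.card] at this
    omega
  · have h6 : Nat.card R = 64 := by
      rw [hk] at h32 hR64 hk5 ⊢
      rcases Nat.lt_or_ge k 6 with h6 | h6
      · interval_cases k <;> omega
      · have : 2 ^ 6 ≤ 2 ^ k := Nat.pow_le_pow_right two_pos h6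
        omega
    have hRS : R = S := eq_of_le_of_card_ge hR (by omega)
    have := h.four_commutators (U := S) le_rfl (le_of_eq hRS.symm) hsq hb hb1 hbR.1
    omega

theorem bound (h : Hyp S T B) : Bound S := by
  classical
  set U := nrm S T with hU
  by_cases hUS : S = U
  · exact bound_of_nrm_eq h hUS
  obtain ⟨n, hnV, hnU⟩ : ∃ n ∈ S ⊓ normalizer (U : Set G), n ∉ U := by
    by_contra hno
    push Not at hno
    exact hUS (eq_of_normalizer h.two inf_le_left hno)
  set T' := T.map (MulAut.conj n).toMonoidHom with hT'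
  have hconjU : ∀ m ∈ normalizer (U : Set G), ∀ X : Subgroup G, X ≤ U →
      X.map (MulAut.conj m).toMonoidHom ≤ U := by
    rintro m hm X hX _ ⟨x, hx, rfl⟩
    exact (mem_normalizer_iff.1 hm x).1 (hX hx)
  have hfix : ∀ m ∈ S, T.map (MulAut.conj m).toMonoidHom = T → m ∈ U := by
    intro m hm he
    refine ⟨hm, mem_normalizer_iff.2 fun x => ⟨fun hx => he ▸ ⟨x, hx, rfl⟩, fun hx => ?_⟩⟩
    rw [← he] at hx
    obtain ⟨y, hy, hyx⟩ := hx
    exact (MulAut.conj m).injective hyx ▸ hy
  have hexp : ∀ X : Subgroup G, (∀ x ∈ X, x * x = 1) → ∀ m : G,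
      ∀ y ∈ X.map (MulAut.conj m).toMonoidHom, y * y = 1 := by
    rintro X hX m _ ⟨x, hx, rfl⟩
    rw [← map_mul, hX x hx, map_one]
  have hcard : ∀ X : Subgroup G, ∀ m : G,
      Nat.card (X.map (MulAut.conj m).toMonoidHom) = Nat.card X := fun X m =>
    card_map_of_injective (MulAut.conj m).injective
  have o : Other S T T' := ⟨hconjU n hnV.2 T h.le_nrm, (hcard T n).trans h.card, hexp T h.exp n,
    fun e => hnU (hfix n hnV.1 e)⟩
  have hK4 := (o.card_inf h).1
  -- elementary subgroups of order 16 of `U`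
  have htwo : ∀ X : Subgroup G, X ≤ U → Nat.card X = 16 → (∀ x ∈ X, x * x = 1) → X = T ∨ X = T' := by
    intro X hX hX16 hX2
    rcases o.elementary_cases h hX hX2 with e | e
    · exact Or.inl (eq_of_le_of_card_ge e (by rw [hX16, h.card]))
    · exact Or.inr (eq_of_le_of_card_ge e (by rw [hX16, o.card]))
  set V := S ⊓ normalizer (U : Set G) with hV
  have hswap : ∀ m ∈ V, m ∉ U → T.map (MulAut.conj m).toMonoidHom = T' := fun m hm hmU =>
    (htwo _ (hconjU m hm.2 T h.le_nrm) ((hcard T m).trans h.card) (hexp T h.exp m)).resolve_left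
      fun e => hmU (hfix m hm.1 e)
  have hswap' : ∀ m ∈ V, m ∉ U → T'.map (MulAut.conj m).toMonoidHom = T := fun m hm hmU =>
    (htwo _ (hconjU m hm.2 T' o.le) ((hcard T' m).trans o.card) (hexp T' o.exp m)).resolve_right
      fun e => o.ne (map_injective (MulAut.conj m).injective (e.trans (hswap m hm hmU).symm))
  have hUV : U.relIndex V ≤ 2 := by
    let F : Bool → V ⧸ U.subgroupOf V := fun b =>
      if b then QuotientGroup.mk ⟨n, hnV⟩ else QuotientGroup.mk 1
    have hF : Function.Surjective F := by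
      intro q
      obtain ⟨⟨m, hm⟩, rfl⟩ := QuotientGroup.mk_surjective q
      by_cases hmU : m ∈ U
      · refine ⟨false, ?_⟩
        simp only [F, Bool.false_eq_true, if_false]
        rw [QuotientGroup.eq, mem_subgroupOf]
        simpa using hmU
      · refine ⟨true, ?_⟩
        simp only [F, if_true]
        rw [QuotientGroup.eq, mem_subgroupOf]
        refine hfix _ (mul_mem (inv_mem hnV.1) hm.1) ?_
        have e1 := hswap m hm hmU
        have e2 : T'.map (MulAut.conj n⁻¹).toMonoidHom = T := by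
          rw [hT', Subgroup.map_map]
          convert Subgroup.map_id T using 2
          ext x
          simp [mul_assoc]
        show T.map (MulAut.conj (n⁻¹ * m)).toMonoidHom = T
        conv_rhs => rw [← e2, ← e1, Subgroup.map_map]
        congr 1
        ext x
        simp [mul_assoc]
    have := Nat.card_le_card_of_surjective F hF
    rw [relIndex, index_eq_card]
    simpa using this
  -- `V = S`
  have hUle : U ≤ V := fun u hu => ⟨hu.1, U.le_normalizer hu⟩
  have hSV : S = V := by
    refine eq_of_normalizer h.two inf_le_left fun p hp => ?_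
    have himg : ∀ X : Subgroup G, X = T ∨ X = T' → X.map (MulAut.conj p).toMonoidHom = T ∨
        X.map (MulAut.conj p).toMonoidHom = T' := by
      intro X hX
      have hXU : X ≤ U := by rcases hX with rfl | rfl; exacts [h.le_nrm, o.le]
      have hX16 : Nat.card X = 16 := by rcases hX with rfl | rfl; exacts [h.card, o.card]
      have hX2 : ∀ x ∈ X, x * x = 1 := by rcases hX with rfl | rfl; exacts [h.exp, o.exp]
      refine htwo _ ?_ ((hcard X p).trans hX16) (hexp X hX2 p)
      set Y := X.map (MulAut.conj p).toMonoidHom with hY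
      have hYV : Y ≤ V := by
        rintro _ ⟨x, hx, rfl⟩
        exact (mem_normalizer_iff.1 hp.2 x).1 (hUle (hXU hx))
      intro r hr
      by_contra hrU
      have h8 := card_inf_mul Y U V hYV
      rw [hcard X p, hX16] at h8
      have h8' : 8 ≤ Nat.card (Y ⊓ U : Subgroup G) := by
        have := Nat.mul_le_mul_left (Nat.card (Y ⊓ U : Subgroup G)) hUV
        omega
      have hel : ∀ y ∈ (Y ⊓ U : Subgroup G), y * y = 1 := fun y hy => hexp X hX2 p y hy.1
      have hmove : ∀ y ∈ (Y ⊓ U : Subgroup G), r * y * r⁻¹ = y := fun y hy =>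
        mul_inv_eq_iff_eq_mul.2 (mul_comm_of_sq (hexp X hX2 p) hr hy.1)
      have hle : (Y ⊓ U : Subgroup G) ≤ T ⊓ T' := by
        rcases o.elementary_cases h inf_le_right hel with e | e
        · refine fun y hy => ⟨e hy, ?_⟩
          rw [← hswap r (hYV hr) hrU]
          exact ⟨y, e hy, hmove y hy⟩
        · refine fun y hy => ⟨?_, e hy⟩
          rw [← hswap' r (hYV hr) hrU]
          exact ⟨y, e hy, hmove y hy⟩
      have := card_le_of_le hle
      omega
    refine ⟨hp.1, mem_normalizer_iff.2 fun x => ?_⟩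
    have hgen : U = T ⊔ T' := le_antisymm (fun u hu => by
      obtain ⟨a, ha, t, ht, rfl⟩ := o.decomp h hu
      exact mul_mem (mem_sup_right ha) (mem_sup_left ht)) (sup_le h.le_nrm o.le)
    have hmapU : U.map (MulAut.conj p).toMonoidHom = U := by
      refine eq_of_le_of_card_ge ?_ (hcard U p).ge
      conv_lhs => rw [hgen, Subgroup.map_sup]
      refine sup_le ?_ ?_
      · rcases himg T (Or.inl rfl) with e | e <;> rw [e]
        exacts [h.le_nrm, o.le]
      · rcases himg T' (Or.inr rfl) with e | e <;> rw [e]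
        exacts [h.le_nrm, o.le]
    refine ⟨fun hx => hmapU ▸ ⟨x, hx, rfl⟩, fun hx => ?_⟩
    rw [← hmapU] at hx
    obtain ⟨y, hy, hyx⟩ := hx
    exact (MulAut.conj p).injective hyx ▸ hy
  have hU64 : Nat.card U = 64 := by
    have h1 := (T.subgroupOf U).index_mul_card
    rw [Nat.card_congr (subgroupOfEquivOfLe h.le_nrm).toEquiv, h.card] at h1
    have h2 : (T.subgroupOf U).index = 4 := (o.card_inf h).2.2
    omega
  have hS128 : Nat.card S ≤ 128 := by
    have h1 := card_inf_mul V U V le_rfl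
    rw [inf_eq_right.2 hUle, hU64, ← hSV] at h1
    rw [← hSV] at hUV
    have := Nat.mul_le_mul_left 64 hUV
    omega
  intro R hR M hM hsq
  by_contra hgt
  push Not at hgt
  obtain ⟨h32, k, hk⟩ := card_large hM hgt (h.two.to_le hR)
  have hR128 := card_le_of_le hR
  have hMpos : 0 < Nat.card M := Nat.card_pos
  have hRU : Nat.card R ≤ Nat.card (R ⊓ U : Subgroup G) * 2 :=
    (card_inf_mul R U V (hR.trans hSV.le)).trans (Nat.mul_le_mul_left _ hUV)
  rcases Nat.lt_or_ge (Nat.card R) 64 with hlt | hge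
  · -- elementary of order 32
    have hM1 : Nat.card M ≤ 1 := by omega
    have hel : ∀ r ∈ R, r * r = 1 := fun r hr => eq_one_of_card_one hM1 (hsq r hr)
    have h16 : 16 ≤ Nat.card (R ⊓ U : Subgroup G) := by omega
    have key : ∀ W W' : Subgroup G, (∀ r ∈ V, r ∉ U → W.map (MulAut.conj r).toMonoidHom = W') →
        W' ≠ W → (R ⊓ U : Subgroup G) = W → R ≤ U := by
      intro W W' hsw hne he r hr
      by_contra hrU
      refine hne ?_
      rw [← hsw r (hR.trans hSV.le hr) hrU]
      have hid : ∀ y ∈ W, r * y * r⁻¹ = y := fun y hy =>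
        mul_inv_eq_iff_eq_mul.2 (mul_comm_of_sq hel hr (he ▸ hy : y ∈ R ⊓ U).1)
      refine le_antisymm ?_ (fun y hy => ⟨y, hy, hid y hy⟩)
      rintro _ ⟨y, hy, rfl⟩
      show r * y * r⁻¹ ∈ W
      rw [hid y hy]
      exact hy
    have hRU' : R ≤ U := by
      rcases o.elementary_cases h (inf_le_right : R ⊓ U ≤ U) (fun y hy => hel y hy.1) with e | e
      · exact key T T' hswap o.ne (eq_of_le_of_card_ge e (by rw [h.card]; exact h16))
      · exact key T' T hswap' (Ne.symm o.ne) (eq_of_le_of_card_ge e (by rw [o.card]; exact h16))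
    rcases o.elementary_cases h hRU' hel with e | e <;> have := card_le_of_le e
    · rw [h.card] at this; omega
    · rw [o.card] at this; omega
  · by_cases hRleU : R ≤ U
    · have hRU64 := card_le_of_le hRleU
      have hRe : R = U := eq_of_le_of_card_ge hRleU (by omega)
      obtain ⟨b, hb, hb1, hbT⟩ := h.exists_mem_B (X := T) le_rfl (by rw [h.card]; omega)
      have := h.four_commutators (U := U) (fun u hu => hu.1) (le_of_eq hRe.symm) hsq hb hb1
        (hRe ▸ h.le_nrm hbT)
      rw [(o.card_inf h).2.2] at this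
      omega
    obtain ⟨r, hr, hrU⟩ := SetLike.not_le_iff_exists.1 hRleU
    have hrV : r ∈ V := hR.trans hSV.le hr
    -- elements outside `K` in `R`
    have hX : ∀ W : Subgroup G, Nat.card W = 16 → W ≤ U → W.relIndex U = 4 → ∃ t ∈ R, t ∈ W ∧
        t ∉ T ⊓ T' := by
      intro W hW hWU hWi
      by_contra hno
      push Not at hno
      have h1 := card_le_of_le (fun t ht => hno t ht.1 ht.2 : R ⊓ W ≤ T ⊓ T')
      have h2 := card_inf_mul (R ⊓ U) W U inf_le_right
      rw [inf_assoc, inf_eq_right.2 hWU, hWi] at h2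
      omega
    have hTi : T.relIndex U = 4 := (o.card_inf h).2.2
    have hT'i : T'.relIndex U = 4 := by
      have h1 := (T'.subgroupOf U).index_mul_card
      rw [Nat.card_congr (subgroupOfEquivOfLe o.le).toEquiv, o.card, hU64] at h1
      show (T'.subgroupOf U).index = 4
      omega
    obtain ⟨t, htR, htT, htK⟩ := hX T h.card h.le_nrm hTi
    obtain ⟨a, haR, haT', haK⟩ := hX T' o.card o.le hT'i
    have haT : a ∉ T := fun e => haK ⟨e, haT'⟩
    -- commutators of `U ∩ R` lie in `K`
    have hcomm : ∀ x ∈ U, ∀ y ∈ T, x * y * x⁻¹ * y⁻¹ ∈ T ⊓ T' := by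
      intro x hx y hy
      obtain ⟨a', ha', t', ht', rfl⟩ := o.decomp h hx
      have e : a' * t' * y * (a' * t')⁻¹ * y⁻¹ = a' * y * a'⁻¹ * y⁻¹ := by
        rw [show a' * t' * y * (a' * t')⁻¹ = a' * (t' * y * t'⁻¹) * a'⁻¹ by group,
          mul_comm_of_sq h.exp ht' hy, mul_inv_cancel_right]
      rw [e]
      refine ⟨T.mul_mem ((mem_normalizer_iff.1 (o.le ha').2 y).1 hy) (T.inv_mem hy), ?_⟩
      have hnT' : ∀ z ∈ T', y * z * y⁻¹ ∈ T' := by
        intro z hz
        have hzU : y * z * y⁻¹ ∈ U := mul_mem (mul_mem (h.le_nrm hy) (o.le hz)) (inv_mem (h.le_nrm hy))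
        rcases o.invol_cases h hzU (by
          rw [show y * z * y⁻¹ * (y * z * y⁻¹) = y * (z * z) * y⁻¹ by group, o.exp z hz, mul_one,
            mul_inv_cancel]) with e' | e'
        · have hzT : z ∈ T := by
            have := T.mul_mem (T.mul_mem (T.inv_mem hy) e') hy
            simpa [mul_assoc] using this
          rw [mul_comm_of_sq h.exp hy hzT, mul_inv_cancel_right]
          exact hz
        · exact e'
      rw [show a' * y * a'⁻¹ * y⁻¹ = a' * (y * a'⁻¹ * y⁻¹) by group]
      exact mul_mem ha' (hnT' _ (inv_mem ha'))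
    set c := a * t * a⁻¹ * t⁻¹ with hc
    have hcM : c ∈ M := comm_of_sq hsq haR htR
    have hc1 : c ≠ 1 := by
      intro e
      have h1 : t ∈ fixT T a := ⟨htT, mem_centralizer_singleton_iff.2
        (mul_inv_eq_iff_eq_mul.1 (mul_inv_eq_one.1 e)).symm⟩
      rw [← o.fix_eq h haT' haT] at h1
      exact htK h1
    have hMK : M ≤ T ⊓ T' := by
      rcases Nat.lt_or_ge (Nat.card M) 3 with hM2 | hM3
      · intro x hx
        rcases eq_or_ne x 1 with rfl | hx1
        · exact one_mem _
        have hxc : x = c := by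
          by_contra hne
          have : Function.Injective (![⟨1, one_mem M⟩, ⟨x, hx⟩, ⟨c, hcM⟩] : Fin 3 → M) := by
            intro i j e
            have e' := congrArg Subtype.val e
            fin_cases i <;> fin_cases j <;>
              first
                | rfl
                | exact absurd e' (Ne.symm hx1)
                | exact absurd e' hx1
                | exact absurd e' (Ne.symm hc1)
                | exact absurd e' hc1
                | exact absurd e' hne
                | exact absurd e' (Ne.symm hne)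
          have := Nat.card_le_card_of_injective _ this
          simp at this
          omega
        exact hxc ▸ hcomm a (o.le haT') t htT
      · have hk7 : 7 ≤ k := by
          by_contra hc
          have h6 : 2 ^ k ≤ 2 ^ 6 := Nat.pow_le_pow_right two_pos (by omega)
          omega
        have h7 : 2 ^ 7 ≤ 2 ^ k := Nat.pow_le_pow_right two_pos hk7
        have hRS : R = S := eq_of_le_of_card_ge hR (by omega)
        obtain ⟨b, hb, hb1, hbT⟩ := h.exists_mem_B (X := T) le_rfl (by rw [h.card]; omega)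
        have hUR : U ≤ R := fun u hu => hRS.symm ▸ hu.1
        have hsq' : ∀ u ∈ U, u * u ∈ M ⊓ (T ⊓ T') := by
          intro u hu
          refine ⟨hsq u (hUR hu), ?_⟩
          obtain ⟨a', ha', t', ht', rfl⟩ := o.decomp h hu
          have e : a' * t' * (a' * t') = a' * t' * a'⁻¹ * t'⁻¹ := by
            rw [inv_eq_of_mul_eq_one_right (o.exp a' ha'), inv_eq_of_mul_eq_one_right (h.exp t' ht')]
            simp only [mul_assoc]
          rw [e]
          exact hcomm a' (o.le ha') t' ht'
        have h4 := h.four_commutators (U := U) (fun u hu => hu.1) le_rfl hsq' hb hb1 (h.le_nrm hbT)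
        rw [hTi] at h4
        have h5 : M ⊓ (T ⊓ T') = M := eq_of_le_of_card_ge inf_le_left (by omega)
        exact h5 ▸ inf_le_right
    have h1 : r * t * r⁻¹ * t⁻¹ ∈ T ⊓ T' := hMK (comm_of_sq hsq hr htR)
    have h2 : r * t * r⁻¹ ∈ T := by simpa using mul_mem h1.1 htT
    have h3 : r * t * r⁻¹ ∈ T' := hswap r hrV hrU ▸ ⟨t, htT, rfl⟩
    rw [← hswap' r hrV hrU] at h2
    obtain ⟨y, hy, hye⟩ := h2
    have : y = t := (MulAut.conj r).injective hye
    exact htK ⟨htT, this ▸ hy⟩

end CfsgLib.Invol.SectFour
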