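import Cfsg.Agent.Lib.Invol.SectionalFourBound
import Cfsg.Agent.Lib.Invol.CyclicIndexTwo
import Cfsg.Agent.Lib.Invol.QuasiDihedral
import Cfsg.Prelude.Def_TwoFusion

/-!
# Sectional rank four: dihedral or semidihedral times four-group
-/

set_option autoImplicit false
set_option linter.unusedSectionVars false

open Subgroup
open scoped commutatorElement

namespace CfsgLib.Invol.SectFour

/-- The properties of dihedral and semidihedral groups that are used. -/
def GoodMax (D : Type*) [Group D] : Prop :=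
  ∃ a z : D, (zpowers a).index = 2 ∧ orderOf z = 2 ∧ z ∈ commutator D ∧ center D = zpowers z

theorem goodMax_quasiDihedral {D : Type*} [Group D] [Finite D] (hD : Cfsg.IsQuasiDihedral D) :
    GoodMax D := by
  obtain ⟨k, a, b, -, -, Q⟩ := CfsgLib.Invol.exists_qdFrame hD
  obtain ⟨N, hN, F⟩ := id Q.frame
  refine ⟨a, a ^ (2 * (2 ^ (k - 2) : ℤ)), F.index_two, Q.orderOf_center, ?_, Q.center_eq⟩
  set h : ℤ := 2 ^ (k - 2)
  have hh := Q.even
  have e : a ^ (2 * h) = a ^ h * b * (a ^ h)⁻¹ * b⁻¹ := by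
    rw [← zpow_neg, Q.ref_rot, mul_inv_cancel_right, Q.zpow_eq_iff]
    obtain ⟨u, hu⟩ := hh
    exact ⟨-u, by rw [hu]; ring⟩
  rw [e, _root_.commutator_def, ← commutatorElement_def]
  exact commutator_mem_commutator (mem_top _) (mem_top _)

theorem goodMax_dihedral {D : Type*} [Group D] [Finite D] {m : ℕ} (hm : 3 ≤ m)
    (hD2 : IsPGroup 2 D) (e : D ≃* DihedralGroup m) : GoodMax D := by
  haveI : Fact (Nat.Prime 2) := ⟨Nat.prime_two⟩
  haveI : NeZero m := ⟨by omega⟩
  obtain ⟨j, hj⟩ := IsPGroup.iff_card.1 hD2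
  rw [Nat.card_congr e.toEquiv, DihedralGroup.nat_card] at hj
  obtain ⟨i, rfl⟩ : ∃ i, j = i + 3 := by
    refine ⟨j - 3, ?_⟩
    by_contra hc
    have h1 : 2 ^ j ≤ 2 ^ 2 := Nat.pow_le_pow_right two_pos (by omega)
    omega
  obtain ⟨q, rfl⟩ : ∃ q, m = 4 * q := ⟨2 ^ i, by rw [pow_add] at hj; omega⟩
  have F := CfsgLib.Invol.dihedral_frame (4 * q)
  set a : DihedralGroup (4 * q) := DihedralGroup.r (1 : ZMod (4 * q))
  set b : DihedralGroup (4 * q) := DihedralGroup.sr (0 : ZMod (4 * q))
  have hiff : ∀ x y : ℤ, a ^ x = a ^ y ↔ ((4 * q : ℕ) : ℤ) ∣ y - x := fun x y => by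
    rw [F.zpow_eq_iff, ZMod.intCast_eq_intCast_iff_dvd_sub]
  have hqpos : 0 < q := by omega
  set z := a ^ (2 * (q : ℤ)) with hz
  have hz1 : z ≠ 1 := by
    rw [hz, ← zpow_zero a, Ne, hiff]
    intro hd
    have := Int.le_of_dvd (by omega) (Int.dvd_neg.1 (by simpa using hd) : ((4 * q : ℕ) : ℤ) ∣ 2 * q)
    push_cast at this
    omega
  have hz2 : orderOf z = 2 := by
    refine orderOf_eq_prime ?_ hz1
    rw [hz, ← zpow_natCast, ← zpow_mul, ← zpow_zero a, hiff]
    exact ⟨-1, by push_cast; ring⟩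
  have hzc : z ∈ center (DihedralGroup (4 * q)) := by
    rw [mem_center_iff]
    intro g
    obtain ⟨x, rfl | rfl⟩ := F.exists_eq g
    · exact ((Commute.refl a).zpow_zpow _ _).eq
    · rw [hz, F.ref_mul_rot, CfsgLib.Invol.CyclicFrame.rot_mul_ref, mul_left_inj, hiff]
      exact ⟨1, by push_cast; ring⟩
  have hcen : center (DihedralGroup (4 * q)) = zpowers z := by
    refine le_antisymm (fun x hx => ?_) (zpowers_le.2 hzc)
    obtain ⟨s, rfl | rfl⟩ := F.exists_eq x
    · have h1 := mem_center_iff.1 hx (a ^ (0 : ℤ) * b)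
      rw [F.ref_mul_rot, CfsgLib.Invol.CyclicFrame.rot_mul_ref, mul_left_inj, hiff] at h1
      obtain ⟨c, hc⟩ := h1
      refine mem_zpowers_iff.2 ⟨c, ?_⟩
      rw [hz, ← zpow_mul]
      congr 1
      push_cast at hc
      linarith
    · have h1 := mem_center_iff.1 hx (a ^ (1 : ℤ))
      rw [F.ref_mul_rot, CfsgLib.Invol.CyclicFrame.rot_mul_ref, mul_left_inj, hiff] at h1
      obtain ⟨c, hc⟩ := h1
      exfalso
      have hd : ((4 * q : ℕ) : ℤ) ∣ 2 := ⟨-c, by linarith⟩
      have := Int.le_of_dvd (by norm_num) hd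
      push_cast at this
      omega
  have hzD : z ∈ commutator (DihedralGroup (4 * q)) := by
    have e : z = a ^ (q : ℤ) * b * (a ^ (q : ℤ))⁻¹ * b⁻¹ := by
      rw [← zpow_neg, F.ref_mul_rot, mul_inv_cancel_right, hz]
      congr 1
      ring
    rw [e, _root_.commutator_def, ← commutatorElement_def]
    exact commutator_mem_commutator (mem_top _) (mem_top _)
  refine ⟨e.symm a, e.symm z, ?_, ?_, ?_, ?_⟩
  · rw [← F.index_two]
    have : zpowers (e.symm a) = (zpowers a).map e.symm.toMonoidHom := by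
      rw [MonoidHom.map_zpowers]; rfl
    rw [this, index_map_of_bijective e.symm.bijective]
  · rw [MulEquiv.orderOf_eq, hz2]
  · have h1 : (commutator (DihedralGroup (4 * q))).map e.symm.toMonoidHom ≤ commutator D := by
      rw [_root_.commutator_def, _root_.commutator_def, map_commutator]
      exact commutator_mono le_top le_top
    exact h1 ⟨z, hzD, rfl⟩
  · ext x
    rw [mem_center_iff]
    have h1 : (∀ g, g * x = x * g) ↔ e x ∈ center (DihedralGroup (4 * q)) := by
      rw [mem_center_iff]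
      refine ⟨fun h g => ?_, fun h g => e.injective (by rw [map_mul, map_mul, h])⟩
      have := congrArg e (h (e.symm g))
      rwa [map_mul, map_mul, e.apply_symm_apply] at this
    rw [h1, hcen, mem_zpowers_iff, mem_zpowers_iff]
    refine exists_congr fun k => ?_
    rw [← map_zpow, MulEquiv.symm_apply_eq]

variable {G : Type*} [Group G] [Finite G]

/-- An involutory automorphism of a four-group fixes a nontrivial element of the form `c * θ c`. -/
theorem aut_four_cases {B : Subgroup G} (hexp : ∀ b : B, b * b = 1) (θ : B → B)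
    (hmul : ∀ b c, θ (b * c) = θ b * θ c) (h : ∀ b, θ (θ b) = b) :
    (∀ b, θ b = b) ∨ ∃ c : B, θ c ≠ c ∧ c * θ c ≠ 1 ∧ θ (c * θ c) = c * θ c := by
  by_cases hid : ∀ b, θ b = b
  · exact Or.inl hid
  push Not at hid
  obtain ⟨c, hc⟩ := hid
  have hi : ∀ x : B, x⁻¹ = x := fun x => inv_eq_of_mul_eq_one_right (hexp x)
  refine Or.inr ⟨c, hc, fun e => hc ((eq_inv_of_mul_eq_one_right e).trans (hi c)), ?_⟩
  rw [hmul, h, ← hi (θ c * c), mul_inv_rev, hi, hi]

theorem sectional_four {x : G} (hx : orderOf x = 2) (T D B : Subgroup G) (hT : IsPGroup 2 T)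
    (hTx : T ≤ centralizer ({x} : Set G)) (hTxi : Odd (T.relIndex (centralizer ({x} : Set G))))
    (hprod : Cfsg.IsInternalDirectProduct D B T)
    (hD : (∃ m : ℕ, 2 ≤ m ∧ Nonempty (D ≃* DihedralGroup m)) ∨ Cfsg.IsQuasiDihedral D)
    (hB : IsKleinFour B)
    (hTb : ∀ b ∈ B, orderOf b = 2 →
      T ≤ centralizer ({b} : Set G) ∧ Odd (T.relIndex (centralizer ({b} : Set G)))) :
    Cfsg.SectionalPRankLE 2 4 G := by
  classical
  haveI : Fact (Nat.Prime 2) := ⟨Nat.prime_two⟩
  obtain ⟨hDT, hBT, hDB, hdisj, hsup⟩ := hprod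
  obtain ⟨S, hTS⟩ := hT.exists_le_sylow
  refine sectional_of_bound S ?_
  have hB4 := hB.card_four
  have hexp : ∀ b : B, b * b = 1 := fun b => by
    have h1 := Monoid.pow_exponent_eq_one b
    rwa [hB.exponent_two, pow_two] at h1
  -- centralizers in the Sylow subgroup
  have key : ∀ w : G, T ≤ centralizer ({w} : Set G) → Odd (T.relIndex (centralizer ({w} : Set G))) →
      ∀ s ∈ (S : Subgroup G), s * w = w * s → s ∈ T := by
    intro w hTw hodd s hs hsw
    set X := (S : Subgroup G) ⊓ centralizer ({w} : Set G) with hX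
    have hTX : T ≤ X := le_inf hTS hTw
    obtain ⟨k, hk⟩ := (S.2.to_le (inf_le_left : X ≤ _)).index (T.subgroupOf X)
    have h1 : T.relIndex X ∣ T.relIndex (centralizer ({w} : Set G)) :=
      Dvd.intro _ (relIndex_mul_relIndex T X _ hTX inf_le_right)
    rw [show T.relIndex X = 2 ^ k from hk] at h1
    have hk0 : k = 0 := by
      by_contra hne
      exact hodd.not_two_dvd_nat ((dvd_pow_self 2 hne).trans h1)
    rw [hk0, pow_zero] at hk
    have h2 : X ≤ T := relIndex_eq_one.1 hk
    exact h2 ⟨hs, mem_centralizer_singleton_iff.2 hsw⟩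
  have hord : ∀ b ∈ B, b ≠ 1 → orderOf b = 2 := fun b hb hb1 =>
    orderOf_eq_prime (by rw [pow_two]; exact congrArg Subtype.val (hexp ⟨b, hb⟩)) hb1
  have hcentB : ∀ b ∈ B, b ≠ 1 → ∀ s ∈ (S : Subgroup G), s * b = b * s → s ∈ T := fun b hb hb1 =>
    key b (hTb b hb (hord b hb hb1)).1 (hTb b hb (hord b hb hb1)).2
  haveI : IsMulCommutative B :=
    IsPGroup.isMulCommutative_of_card_eq_prime_sq (p := 2) (by rw [hB4]; norm_num)
  have hBB : ∀ b ∈ B, ∀ c ∈ B, b * c = c * b := fun b hb c hc =>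
    congrArg Subtype.val (mul_comm' (⟨b, hb⟩ : B) ⟨c, hc⟩)
  -- decomposition of `T`
  let P : D × B →* G := MonoidHom.noncommCoprod D.subtype B.subtype fun d b => hDB d d.2 b b.2
  have hP : ∀ p : D × B, P p = (p.1 : G) * p.2 := fun p => rfl
  have hPr : P.range = T := by
    refine (MonoidHom.noncommCoprod_range D.subtype B.subtype _).trans ?_
    rw [range_subtype, range_subtype, hsup]
  have hPinj : Function.Injective P := by
    intro p q e
    exact mul_injective_of_disjoint (disjoint_iff.2 hdisj) (by rwa [hP, hP] at e)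
  have hcardT : Nat.card T = Nat.card D * 4 := by
    rw [← hPr, Nat.card_congr (MonoidHom.ofInjective hPinj).symm.toEquiv, Nat.card_prod, hB4]
  have hD2 : IsPGroup 2 D := hT.to_le hDT
  have hgood : GoodMax D ∨ (Nat.card D = 4 ∧ ∀ d : D, d * d = 1) := by
    rcases hD with ⟨m, hm, ⟨e⟩⟩ | hQ
    · rcases Nat.lt_or_ge m 3 with hm3 | hm3
      · obtain rfl : m = 2 := by omega
        refine Or.inr ⟨by rw [Nat.card_congr e.toEquiv, DihedralGroup.nat_card], fun d => e.injective ?_⟩
        rw [map_mul, map_one]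
        revert d
        intro d
        have : ∀ g : DihedralGroup 2, g * g = 1 := by decide
        exact this _
      · exact Or.inl (goodMax_dihedral hm3 hD2 e)
    · exact Or.inl (goodMax_quasiDihedral hQ)
  rcases hgood with hg | ⟨hD4, hDexp⟩
  swap
  · refine bound (T := T) (B := B) ⟨S.2, hTS, by rw [hcardT, hD4], ?_, hBT, hB4, hcentB⟩
    intro t ht
    rw [← hPr] at ht
    obtain ⟨p, rfl⟩ := ht
    rw [← map_mul, show p * p = 1 from Prod.ext (hDexp p.1) (hexp p.2), map_one]
  obtain ⟨a, z, haidx, hz2, hzD, hzc⟩ := hg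
  suffices hST : (S : Subgroup G) = T by
    rw [hST]
    refine bound_of_cyclic_index_le (C := zpowers (a : G)) inferInstance ?_
    have hle : zpowers (a : G) ≤ T := zpowers_le.2 (hDT a.2)
    have h1 := ((zpowers (a : G)).subgroupOf T).index_mul_card
    rw [Nat.card_congr (subgroupOfEquivOfLe hle).toEquiv, Nat.card_zpowers, orderOf_coe, hcardT] at h1
    have h2 := (zpowers a).index_mul_card
    rw [haidx, Nat.card_zpowers] at h2
    have hpos := orderOf_pos a
    show ((zpowers (a : G)).subgroupOf T).index ≤ 8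
    refine Nat.le_of_eq (Nat.eq_of_mul_eq_mul_right hpos ?_)
    rw [h1]
    omega
  refine eq_of_normalizer S.2 hTS fun n₀ hn₀ => ?_
  by_contra hn₀T
  -- an element whose square lies in `T`
  obtain ⟨n, hnS, hnN, hnT, hn2⟩ : ∃ n, n ∈ (S : Subgroup G) ∧ n ∈ normalizer (T : Set G) ∧
      n ∉ T ∧ n * n ∈ T := by
    have hex : ∃ k, n₀ ^ (2 ^ k) ∈ T := by
      obtain ⟨k, hk⟩ := S.2 ⟨n₀, hn₀.1⟩
      exact ⟨k, by
        have h1 : n₀ ^ 2 ^ k = 1 := congrArg Subtype.val hk
        rw [h1]; exact one_mem T⟩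
    obtain ⟨k, hk⟩ : ∃ k, Nat.find hex = k + 1 := by
      refine Nat.exists_eq_succ_of_ne_zero fun h0 => ?_
      have := Nat.find_spec hex
      rw [h0, pow_zero, pow_one] at this
      exact hn₀T this
    refine ⟨n₀ ^ 2 ^ k, pow_mem hn₀.1 _, pow_mem hn₀.2 _, Nat.find_min hex (by omega), ?_⟩
    have := Nat.find_spec hex
    rw [hk, pow_succ, pow_mul, pow_two] at this
    exact this
  have hnconj : ∀ t ∈ T, n * t * n⁻¹ ∈ T := fun t ht => (mem_normalizer_iff.1 hnN t).1 ht
  set z' : G := (z : G)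
  have hz1 : z' ≠ 1 := fun e => by
    rw [show z = 1 from Subtype.ext e, orderOf_one] at hz2; omega
  have hzz : z' * z' = 1 := by
    have := pow_orderOf_eq_one z
    rw [hz2, pow_two] at this
    exact congrArg Subtype.val this
  have hcT : ∀ b ∈ B, ∀ t ∈ T, t * b = b * t := by
    intro b hb t ht
    rw [← hPr] at ht
    obtain ⟨⟨d, c⟩, rfl⟩ := ht
    rw [hP, mul_assoc, hBB c c.2 b hb, ← mul_assoc, hDB d d.2 b hb, mul_assoc]
  have hzT : ∀ t ∈ T, t * z' = z' * t := by
    intro t ht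
    rw [← hPr] at ht
    obtain ⟨⟨d, c⟩, rfl⟩ := ht
    have h1 : d * z = z * d := mem_center_iff.1 (hzc ▸ mem_zpowers z) d
    have h1' : (d : G) * z' = z' * d := congrArg Subtype.val h1
    rw [hP, mul_assoc, ← hDB z z.2 c c.2, ← mul_assoc, h1', mul_assoc]
  -- central elements of `T`
  have hcenter : ∀ t ∈ T, (∀ s ∈ T, s * t = t * s) → ∃ c : B, t = c ∨ t = z' * c := by
    intro t ht hc
    rw [← hPr] at ht
    obtain ⟨⟨d, c⟩, rfl⟩ := ht
    refine ⟨c, ?_⟩
    have hd : d ∈ center D := by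
      refine mem_center_iff.2 fun g => Subtype.ext ?_
      have h1 := hc g (hDT g.2)
      rw [hP] at h1
      show (g : G) * d = d * g
      refine mul_right_cancel (b := (c : G)) ?_
      rw [mul_assoc, h1, mul_assoc, ← hDB g g.2 c c.2, ← mul_assoc]
    rw [hzc] at hd
    obtain ⟨i, hi⟩ := mem_zpowers_iff.1 hd
    have hzz' : z ^ (2 : ℤ) = 1 := by
      rw [zpow_ofNat, ← hz2]; exact pow_orderOf_eq_one z
    rcases Int.even_or_odd' i with ⟨j, rfl | rfl⟩
    · left
      rw [hP, ← hi, zpow_mul, hzz', one_zpow]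
      exact one_mul _
    · right
      rw [hP, ← hi, zpow_add, zpow_mul, hzz', one_zpow, one_mul, zpow_one]
  -- `z` is fixed
  have hnz : n * z' * n⁻¹ = z' := by
    have hcm : ∀ g ∈ commutator T, (g : G) ∈ D := by
      intro g hg
      rw [_root_.commutator_def] at hg
      revert g
      show (⁅(⊤ : Subgroup T), ⊤⁆ : Subgroup T) ≤ D.subgroupOf T
      refine commutator_le.2 fun p _ q _ => mem_subgroupOf.2 ?_
      have hp : (p : G) ∈ P.range := hPr.symm ▸ p.2
      have hq : (q : G) ∈ P.range := hPr.symm ▸ q.2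
      obtain ⟨⟨d, c⟩, hp⟩ := hp
      obtain ⟨⟨d', c'⟩, hq⟩ := hq
      have e : (⁅p, q⁆ : T).val = P ⁅(d, c), (d', c')⁆ := by
        rw [map_commutatorElement, hp, hq]; rfl
      rw [e, hP]
      have h1 : (⁅(d, c), (d', c')⁆ : D × B).2 = 1 := by
        show ⁅c, c'⁆ = 1
        rw [commutatorElement_eq_one_iff_mul_comm]
        exact mul_comm' c c'
      rw [h1, OneMemClass.coe_one, mul_one]
      exact SetLike.coe_mem _
    have hzT' : (⟨z', hDT z.2⟩ : T) ∈ commutator T := by
      have h1 : (commutator D).map (inclusion hDT) ≤ commutator T := by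
        rw [_root_.commutator_def, _root_.commutator_def, map_commutator]
        exact commutator_mono le_top le_top
      exact h1 ⟨z, hzD, rfl⟩
    have hnzD : n * z' * n⁻¹ ∈ D := by
      let ν : T →* T := MonoidHom.mk' (fun t => ⟨n * (t : G) * n⁻¹, hnconj t t.2⟩) fun p q =>
        Subtype.ext (show n * ((p : G) * q) * n⁻¹ = n * p * n⁻¹ * (n * q * n⁻¹) by group)
      have h1 : (commutator T).map ν ≤ commutator T := by
        rw [_root_.commutator_def, map_commutator]
        exact commutator_mono le_top le_top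
      exact hcm _ (h1 ⟨_, hzT', rfl⟩)
    obtain ⟨c, hc⟩ := hcenter _ (hnconj z' (hDT z.2)) fun s hs => by
      have hs' : n⁻¹ * s * n ∈ T := by
        refine (mem_normalizer_iff.1 hnN _).2 ?_
        simpa [mul_assoc] using hs
      calc s * (n * z' * n⁻¹) = n * ((n⁻¹ * s * n) * z') * n⁻¹ := by group
        _ = n * (z' * (n⁻¹ * s * n)) * n⁻¹ := by rw [hzT _ hs']
        _ = n * z' * n⁻¹ * s := by group
    have hc1 : (c : G) = 1 := by
      have : (c : G) ∈ D ⊓ B := by
        refine ⟨?_, c.2⟩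
        rcases hc with e | e
        · exact e ▸ hnzD
        · have := D.mul_mem (D.inv_mem z.2) (e ▸ hnzD)
          simpa [z'] using this
      rw [hdisj] at this
      exact mem_bot.1 this
    rw [hc1, mul_one] at hc
    rcases hc with e | e
    · exact absurd (conj_eq_one_iff.1 e) hz1
    · exact e
  -- the induced map on `B`
  have hθ : ∀ b : B, ∃ c : B, n * (b : G) * n⁻¹ = c ∨ n * (b : G) * n⁻¹ = z' * c := fun b =>
    hcenter _ (hnconj b (hBT b.2)) fun s hs => by
      have hs' : n⁻¹ * s * n ∈ T := by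
        refine (mem_normalizer_iff.1 hnN _).2 ?_
        simpa [mul_assoc] using hs
      calc s * (n * (b : G) * n⁻¹) = n * ((n⁻¹ * s * n) * b) * n⁻¹ := by group
        _ = n * ((b : G) * (n⁻¹ * s * n)) * n⁻¹ := by rw [hcT b b.2 _ hs']
        _ = n * (b : G) * n⁻¹ * s := by group
  choose θ hθ using hθ
  have huniq : ∀ (v : G) (c c' : B), (v = c ∨ v = z' * c) → (v = c' ∨ v = z' * c') → c = c' := by
    intro v c c' h1 h2
    have hD' : ∀ i j : D, (i : G) * c = j * c' → c = c' := fun i j e => by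
      have := hPinj (show P (i, c) = P (j, c') by rw [hP, hP]; exact e)
      exact (Prod.mk.injEq _ _ _ _ ▸ this).2
    rcases h1 with h1 | h1 <;> rcases h2 with h2 | h2
    · exact Subtype.ext (h1.symm.trans h2)
    · exact hD' 1 z (by rw [OneMemClass.coe_one, one_mul, ← h1, h2])
    · exact hD' z 1 (by rw [OneMemClass.coe_one, one_mul, ← h1, h2])
    · exact hD' z z (h1.symm.trans h2)
  have hmove : ∀ b : B, b ≠ 1 → n * (b : G) * n⁻¹ ≠ b := fun b hb e =>
    hnT (hcentB b b.2 (fun h1 => hb (Subtype.ext h1)) n hnS (mul_inv_eq_iff_eq_mul.1 e))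
  have hmul : ∀ b c, θ (b * c) = θ b * θ c := by
    intro b c
    refine huniq _ _ _ (hθ (b * c)) ?_
    rw [Subgroup.coe_mul, Subgroup.coe_mul,
      show n * ((b : G) * c) * n⁻¹ = (n * (b : G) * n⁻¹) * (n * (c : G) * n⁻¹) by group]
    have hzc' : ∀ w : B, z' * (w : G) = w * z' := fun w => hDB z z.2 w w.2
    rcases hθ b with e1 | e1 <;> rcases hθ c with e2 | e2 <;> rw [e1, e2]
    · exact Or.inl rfl
    · exact Or.inr (by rw [← mul_assoc, ← hzc', mul_assoc])
    · exact Or.inr (mul_assoc _ _ _)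
    · exact Or.inl (by rw [mul_assoc z', ← mul_assoc (θ b : G), ← hzc', mul_assoc z', ← mul_assoc z' z', hzz, one_mul])
  have hback : ∀ b : B, n * (n * (b : G) * n⁻¹) * n⁻¹ = b := fun b => by
    rw [show n * (n * (b : G) * n⁻¹) * n⁻¹ = n * n * b * (n * n)⁻¹ by group,
      hcT b b.2 _ hn2, mul_inv_cancel_right]
  have hzmove : ∀ w : G, n * (z' * w) * n⁻¹ = z' * (n * w * n⁻¹) := fun w => by
    rw [show n * (z' * w) * n⁻¹ = n * z' * n⁻¹ * (n * w * n⁻¹) by group, hnz]
  have hinv : ∀ b, θ (θ b) = b := by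
    intro b
    rcases hθ b with e | e
    · refine huniq _ _ _ (hθ (θ b)) (Or.inl ?_)
      rw [← e, hback]
    · refine huniq _ _ _ (hθ (θ b)) (Or.inr ?_)
      have h1 := hback b
      rw [e, hzmove] at h1
      conv_rhs => rw [← h1]
      rw [← mul_assoc, hzz, one_mul]
  rcases aut_four_cases hexp θ hmul hinv with hid | ⟨c, hc, hv1, hv⟩
  · have hmove' : ∀ b : B, b ≠ 1 → n * (b : G) * n⁻¹ = z' * b := fun b hb => by
      have h1 := hθ b
      rw [hid b] at h1
      exact h1.resolve_left (hmove b hb)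
    haveI : Nontrivial B := by rw [← Finite.one_lt_card_iff_nontrivial, hB4]; omega
    obtain ⟨b, hb⟩ := exists_ne (1 : B)
    obtain ⟨c, hc1, hcb⟩ : ∃ c : B, c ≠ 1 ∧ c ≠ b := by
      by_contra hno
      push Not at hno
      have hsur : Function.Surjective (fun t : Bool => if t then b else 1) := fun c => by
        rcases eq_or_ne c 1 with rfl | hc
        · exact ⟨false, rfl⟩
        · exact ⟨true, (hno c hc).symm⟩
      have := Nat.card_le_card_of_surjective _ hsur
      rw [hB4, Nat.card_eq_fintype_card, Fintype.card_bool] at this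
      omega
    have hbc : b * c ≠ 1 := fun e => hcb (by
      rw [← one_mul c, ← hexp b, mul_assoc, e, mul_one])
    refine hmove (b * c) hbc ?_
    rw [Subgroup.coe_mul, show n * ((b : G) * c) * n⁻¹ = (n * (b : G) * n⁻¹) * (n * (c : G) * n⁻¹)
      by group, hmove' b hb, hmove' c hc1, mul_assoc z', ← mul_assoc (b : G), ← hDB z z.2 b b.2,
      mul_assoc z', ← mul_assoc z' z', hzz, one_mul]
  · set v := c * θ c with hvdef
    have hvz : n * (v : G) * n⁻¹ = z' * v := by
      have h1 := hθ v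
      rw [hv] at h1
      exact h1.resolve_left (hmove v hv1)
    have h0 := hback c
    have hθθ := hθ (θ c)
    rw [hinv c] at hθθ
    have hsplit : n * (v : G) * n⁻¹ = n * (c : G) * n⁻¹ * (n * (θ c : G) * n⁻¹) := by
      rw [hvdef, Subgroup.coe_mul]; group
    have hvc : (v : G) = (θ c : G) * c := by rw [hvdef, Subgroup.coe_mul, hBB c c.2 _ (θ c).2]
    rcases hθ c with e | e <;> rcases hθθ with e' | e'
    · rw [e, e', ← hvc, hvz] at hsplit
      exact hz1 (mul_eq_right.1 hsplit)
    · rw [e, e'] at h0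
      exact hz1 (mul_eq_right.1 h0)
    · rw [e, hzmove, e'] at h0
      exact hz1 (mul_eq_right.1 h0)
    · rw [e, e', mul_assoc z', ← mul_assoc (θ c : G), ← hDB z z.2 _ (θ c).2, mul_assoc z',
        ← mul_assoc z' z', hzz, one_mul, ← hvc, hvz] at hsplit
      exact hz1 (mul_eq_right.1 hsplit)

end CfsgLib.Invol.SectFour
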