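import Cfsg.Agent.Lib.Invol.TwoClasses
import Mathlib.Tactic.Group
import Mathlib.GroupTheory.Sylow
import Mathlib.GroupTheory.GroupAction.Quotient
import Mathlib.RingTheory.Coprime.Lemmas

/-!
# Counting involutions when their centralizers are 2-groups

One class of involutions with centralizer of order `2 ^ s`: the products of odd order with a fixed involution lie
in abelian subgroups with trivial intersections, and their orders satisfy strong arithmetic conditions.
-/

set_option autoImplicit false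
set_option linter.unusedSectionVars false

namespace CfsgLib.Invol.SelfCount

open Subgroup

variable {G : Type*} [Group G]

/-- The centralizer of a real element of odd order. -/
def IsTor (A : Subgroup G) : Prop :=
  ∃ x : G, x ≠ 1 ∧ Odd (orderOf x) ∧ (∃ i, orderOf i = 2 ∧ i * x * i⁻¹ = x⁻¹) ∧ A = centralizer {x}

/-- The involution `i` inverts `A`. -/
def Inverts (i : G) (A : Subgroup G) : Prop := orderOf i = 2 ∧ ∀ a ∈ A, i * a * i⁻¹ = a⁻¹

/-- The hypotheses: one class of involutions whose centralizers have order `2 ^ s`. -/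
structure Hyp (z : G) (s : ℕ) : Prop where
  inv : orderOf z = 2
  all : ∀ i : G, orderOf i = 2 → IsConj z i
  card : Nat.card (centralizer ({z} : Set G)) = 2 ^ s

variable [Finite G] {z : G} {s : ℕ}

namespace Hyp

variable (h : Hyp z s)
include h

theorem card_cent {i : G} (hi : orderOf i = 2) : Nat.card (centralizer ({i} : Set G)) = 2 ^ s := by
  obtain ⟨g, rfl⟩ := isConj_iff.1 (h.all i hi)
  have h1 := card_isConj_mul (g * z * g⁻¹)
  have h2 := card_isConj_mul z
  have e : Nat.card {y : G // IsConj (g * z * g⁻¹) y} = Nat.card {y : G // IsConj z y} :=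
    Nat.card_congr (Equiv.subtypeEquivRight fun y =>
      ⟨fun hy => (isConj_iff.2 ⟨g, rfl⟩).trans hy, fun hy => (isConj_iff.2 ⟨g, rfl⟩).symm.trans hy⟩)
  rw [e, ← h2] at h1
  rw [← h.card]
  haveI : Nonempty {y : G // IsConj z y} := ⟨⟨z, IsConj.refl z⟩⟩
  exact Nat.eq_of_mul_eq_mul_left Nat.card_pos h1

theorem eq_one_of_comm {x i : G} (hi : orderOf i = 2) (hx : Odd (orderOf x)) (hc : i * x * i⁻¹ = x) : x = 1 := by
  have hmem : x ∈ centralizer ({i} : Set G) :=
    mem_centralizer_singleton_iff.2 (mul_inv_eq_iff_eq_mul.1 hc).symm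
  have hd : orderOf x ∣ 2 ^ s := by
    have h1 : orderOf x = orderOf (⟨x, hmem⟩ : centralizer ({i} : Set G)) :=
      (orderOf_mk x hmem).symm
    rw [h1, ← h.card_cent hi]
    exact orderOf_dvd_natCard _
  obtain ⟨k, -, hk⟩ := (Nat.dvd_prime_pow Nat.prime_two).1 hd
  exact eq_one_of_odd_of_pow_two hx (k := k) (by rw [← hk, pow_orderOf_eq_one])

theorem inverts_of_norm {A : Subgroup G} (hA : ∀ a ∈ A, Odd (orderOf a)) {i : G} (hi : orderOf i = 2)
    (hn : ∀ a ∈ A, i * a * i⁻¹ ∈ A) : ∀ a ∈ A, i * a * i⁻¹ = a⁻¹ := by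
  intro a ha
  have hinv : i⁻¹ = i := invol_inv hi
  have hii : i * i = 1 := invol_mul_self hi
  let f : A → A := fun b => ⟨(b : G)⁻¹ * (i * b * i⁻¹), mul_mem (inv_mem b.2) (hn b b.2)⟩
  have hf : Function.Injective f := by
    intro b c hbc
    have e : (b : G)⁻¹ * (i * b * i⁻¹) = (c : G)⁻¹ * (i * c * i⁻¹) := congrArg Subtype.val hbc
    have e2 : i * ((c : G) * (b : G)⁻¹) * i⁻¹ = (c : G) * (b : G)⁻¹ := by
      calc i * ((c : G) * (b : G)⁻¹) * i⁻¹
          = (c : G) * ((c : G)⁻¹ * (i * c * i⁻¹)) * (i * b * i⁻¹)⁻¹ := by group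
        _ = (c : G) * ((b : G)⁻¹ * (i * b * i⁻¹)) * (i * b * i⁻¹)⁻¹ := by rw [e]
        _ = (c : G) * (b : G)⁻¹ := by group
    exact Subtype.ext (mul_inv_eq_one.1 (h.eq_one_of_comm hi (hA _ (mul_mem c.2 (inv_mem b.2))) e2)).symm
  obtain ⟨b, hb⟩ := (Finite.injective_iff_surjective.1 hf) ⟨a, ha⟩
  have hb' : (b : G)⁻¹ * (i * b * i⁻¹) = a := congrArg Subtype.val hb
  rw [← hb', hinv]
  calc i * ((b : G)⁻¹ * (i * b * i)) * i = i * (b : G)⁻¹ * i * b * (i * i) := by group
    _ = i⁻¹ * (b : G)⁻¹ * i⁻¹ * b := by rw [hii, mul_one, hinv]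
    _ = ((b : G)⁻¹ * (i * b * i))⁻¹ := by group

theorem tor_odd {A : Subgroup G} (hA : IsTor A) {a : G} (ha : a ∈ A) : Odd (orderOf a) := by
  obtain ⟨x, hx1, hxo, -, rfl⟩ := hA
  by_contra he
  rw [Nat.not_odd_iff_even] at he
  refine hx1 (h.eq_one_of_comm (i := a ^ (orderOf a / 2)) (orderOf_pow_half he) hxo ?_)
  have hc : Commute a x := mem_centralizer_singleton_iff.1 ha
  rw [(hc.pow_left _).eq, mul_inv_cancel_right]

theorem tor_exists_inverts {A : Subgroup G} (hA : IsTor A) : ∃ i, Inverts i A := by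
  have hodd : ∀ a ∈ A, Odd (orderOf a) := fun a ha => h.tor_odd hA ha
  obtain ⟨x, -, -, ⟨i, hi, hix⟩, hAx⟩ := hA
  refine ⟨i, hi, h.inverts_of_norm hodd hi fun a ha => ?_⟩
  rw [hAx, mem_centralizer_singleton_iff] at ha ⊢
  have hc : a * x⁻¹ = x⁻¹ * a := (show Commute a x from ha).inv_right.eq
  have hx : x = i * x⁻¹ * i⁻¹ := by
    calc x = (x⁻¹)⁻¹ := (inv_inv x).symm
      _ = (i * x * i⁻¹)⁻¹ := by rw [hix]
      _ = i * x⁻¹ * i⁻¹ := by group
  calc i * a * i⁻¹ * x = i * a * i⁻¹ * (i * x⁻¹ * i⁻¹) := by rw [← hx]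
    _ = i * (a * x⁻¹) * i⁻¹ := by group
    _ = i * (x⁻¹ * a) * i⁻¹ := by rw [hc]
    _ = i * x⁻¹ * i⁻¹ * (i * a * i⁻¹) := by group
    _ = x * (i * a * i⁻¹) := by rw [← hx]

theorem tor_comm {A : Subgroup G} (hA : IsTor A) {a b : G} (ha : a ∈ A) (hb : b ∈ A) : a * b = b * a := by
  obtain ⟨i, -, hi⟩ := h.tor_exists_inverts hA
  have e : (a * b)⁻¹ = a⁻¹ * b⁻¹ := by
    rw [← hi _ (mul_mem ha hb), ← hi a ha, ← hi b hb]; group
  rw [mul_inv_rev] at e
  have := congrArg Inv.inv e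
  simpa using this

theorem tor_cent {A : Subgroup G} (hA : IsTor A) {a : G} (ha : a ∈ A) (ha1 : a ≠ 1) :
    A = centralizer ({a} : Set G) := by
  have hodd := h.tor_odd hA ha
  obtain ⟨i, hi, hinv⟩ := h.tor_exists_inverts hA
  have hB : IsTor (centralizer ({a} : Set G)) := ⟨a, ha1, hodd, ⟨i, hi, hinv a ha⟩, rfl⟩
  refine le_antisymm (fun b hb => mem_centralizer_singleton_iff.2 (h.tor_comm hA hb ha)) fun b hb => ?_
  obtain ⟨x, -, -, -, hAx⟩ := id hA
  have hxA : x ∈ A := hAx ▸ mem_centralizer_singleton_iff.2 rfl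
  rw [hAx]
  exact mem_centralizer_singleton_iff.2
    (h.tor_comm hB hb (mem_centralizer_singleton_iff.2 (h.tor_comm hA hxA ha)))

theorem tor_ti {A B : Subgroup G} (hA : IsTor A) (hB : IsTor B) {a : G} (ha : a ∈ A) (hb : a ∈ B)
    (ha1 : a ≠ 1) : A = B :=
  (h.tor_cent hA ha ha1).trans (h.tor_cent hB hb ha1).symm

theorem tor_conj {A : Subgroup G} (hA : IsTor A) (g : G) : IsTor (A.map (MulAut.conj g).toMonoidHom) := by
  obtain ⟨x, hx1, hxo, ⟨i, hi, hix⟩, rfl⟩ := hA
  refine ⟨g * x * g⁻¹, fun e => hx1 (conj_eq_one_iff.1 e), ?_, ⟨g * i * g⁻¹, invol_conj hi g, ?_⟩, ?_⟩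
  · rwa [show g * x * g⁻¹ = MulAut.conj g x from rfl, MulEquiv.orderOf_eq]
  · rw [show g * i * g⁻¹ * (g * x * g⁻¹) * (g * i * g⁻¹)⁻¹ = g * (i * x * i⁻¹) * g⁻¹ by group, hix]
    group
  · ext y
    rw [mem_centralizer_singleton_iff]
    constructor
    · rintro ⟨b, hb, rfl⟩
      show g * b * g⁻¹ * (g * x * g⁻¹) = g * x * g⁻¹ * (g * b * g⁻¹)
      have : b * x = x * b := mem_centralizer_singleton_iff.1 hb
      rw [show g * b * g⁻¹ * (g * x * g⁻¹) = g * (b * x) * g⁻¹ by group, this]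
      group
    · intro hy
      refine ⟨g⁻¹ * y * g, mem_centralizer_singleton_iff.2 ?_, show g * (g⁻¹ * y * g) * g⁻¹ = y by group⟩
      calc g⁻¹ * y * g * x = g⁻¹ * (y * (g * x * g⁻¹)) * g := by group
        _ = g⁻¹ * ((g * x * g⁻¹) * y) * g := by rw [hy]
        _ = x * (g⁻¹ * y * g) := by group

theorem odd_card_tor {A : Subgroup G} (hA : IsTor A) : Odd (Nat.card A) := by
  by_contra he
  rw [Nat.not_odd_iff_even] at he
  obtain ⟨t, ht, hto⟩ := exists_invol_mem he
  have := h.tor_odd hA ht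
  rw [hto] at this
  exact absurd this (by decide)

theorem one_lt_tor {A : Subgroup G} (hA : IsTor A) : 1 < Nat.card A := by
  obtain ⟨x, hx1, -, -, hAx⟩ := hA
  exact (one_lt_card_iff_ne_bot A).2 fun e => hx1 (mem_bot.1 (e ▸ hAx ▸ mem_centralizer_singleton_iff.2 rfl))

/-- The involutions inverting a member form a coset. -/
theorem card_inverters {A : Subgroup G} (hA : IsTor A) : Nat.card {i : G // Inverts i A} = Nat.card A := by
  obtain ⟨i, hi, hinv⟩ := h.tor_exists_inverts hA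
  obtain ⟨x, hx1, hxo, -, hAx⟩ := id hA
  have hxA : x ∈ A := hAx ▸ mem_centralizer_singleton_iff.2 rfl
  have hmk : ∀ a : A, Inverts (i * a) A := fun a => by
    have hinv' : ∀ b ∈ A, i * a * b * (i * a)⁻¹ = b⁻¹ := fun b hb => by
      rw [show i * (a : G) * b * (i * a)⁻¹ = i * ((a : G) * b) * (a : G)⁻¹ * i⁻¹ by group,
        h.tor_comm hA a.2 hb, show i * (b * (a : G)) * (a : G)⁻¹ * i⁻¹ = i * b * i⁻¹ by group, hinv b hb]
    refine ⟨invol_iff.2 ⟨?_, fun e => ?_⟩, hinv'⟩
    · rw [show i * (a : G) * (i * a) = i * a * i⁻¹ * (i * i) * a by group, invol_mul_self hi, mul_one, hinv a a.2,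
        inv_mul_cancel]
    · have := h.tor_odd hA (show i ∈ A by
        rw [eq_inv_of_mul_eq_one_left e]; exact inv_mem a.2)
      rw [hi] at this
      exact absurd this (by decide)
  refine (Nat.card_eq_of_bijective (fun a : A => (⟨i * a, hmk a⟩ : {i : G // Inverts i A}))
    ⟨fun a b e => Subtype.ext (mul_left_cancel (congrArg Subtype.val e)), fun ⟨j, hj⟩ => ?_⟩).symm
  refine ⟨⟨i⁻¹ * j, ?_⟩, Subtype.ext (mul_inv_cancel_left i j)⟩
  rw [hAx, mem_centralizer_singleton_iff]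
  have h1 : i⁻¹ * x⁻¹ * i = x := by
    rw [← hinv x hxA]; group
  calc i⁻¹ * j * x = i⁻¹ * (j * x * j⁻¹) * j := by group
    _ = i⁻¹ * x⁻¹ * i * (i⁻¹ * j) := by rw [hj.2 x hxA]; group
    _ = x * (i⁻¹ * j) := by rw [h1]

theorem card_normalizer {A : Subgroup G} :
    Nat.card (normalizer (A : Set G)) = Nat.card A * A.relIndex (normalizer (A : Set G)) := by
  rw [Subgroup.relIndex, ← Nat.card_congr (subgroupOfEquivOfLe (le_normalizer (H := A))).toEquiv,
    card_mul_index]

/-- Conjugates of a member inverted by `z`. -/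
def invConj (_h : Hyp z s) (A : Subgroup G) : Set (Subgroup G) :=
  {B | (∃ g : G, B = A.map (MulAut.conj g).toMonoidHom) ∧ Inverts z B}

theorem card_conjugates (A : Subgroup G) :
    Nat.card {B : Subgroup G // ∃ g : G, B = A.map (MulAut.conj g).toMonoidHom} =
      (normalizer (A : Set G)).index := by
  symm
  rw [index_eq_card]
  refine Nat.card_eq_of_bijective (Quotient.lift (fun g : G =>
      (⟨A.map (MulAut.conj g).toMonoidHom, g, rfl⟩ : {B : Subgroup G // ∃ g : G, B = A.map (MulAut.conj g).toMonoidHom}))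
      ?_) ⟨?_, ?_⟩
  · intro a b hab
    replace hab := QuotientGroup.leftRel_apply.1 hab
    refine Subtype.ext ?_
    ext y
    constructor
    · rintro ⟨u, hu, rfl⟩
      refine ⟨b⁻¹ * a * u * (b⁻¹ * a)⁻¹, ?_, show b * _ * b⁻¹ = a * u * a⁻¹ by group⟩
      refine (mem_normalizer_iff.1 ?_ u).1 hu
      have := inv_mem hab
      rwa [mul_inv_rev, inv_inv] at this
    · rintro ⟨u, hu, rfl⟩
      exact ⟨a⁻¹ * b * u * (a⁻¹ * b)⁻¹, (mem_normalizer_iff.1 hab u).1 hu,
        show a * _ * a⁻¹ = b * u * b⁻¹ by group⟩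
  · intro p q
    refine Quotient.inductionOn₂ p q fun a b e => Quotient.sound ?_
    have e' : A.map (MulAut.conj a).toMonoidHom = A.map (MulAut.conj b).toMonoidHom := congrArg Subtype.val e
    show (QuotientGroup.leftRel _) a b
    rw [QuotientGroup.leftRel_apply]
    refine mem_normalizer_iff.2 fun u => ⟨fun hu => ?_, fun hu => ?_⟩
    · have : b * u * b⁻¹ ∈ A.map (MulAut.conj a).toMonoidHom := e' ▸ ⟨u, hu, rfl⟩
      obtain ⟨w, hw, hwe⟩ := this
      have hwe' : a * w * a⁻¹ = b * u * b⁻¹ := hwe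
      rw [show a⁻¹ * b * u * (a⁻¹ * b)⁻¹ = a⁻¹ * (b * u * b⁻¹) * a by group, ← hwe']
      simpa [mul_assoc] using hw
    · have : b * u * b⁻¹ ∈ A.map (MulAut.conj b).toMonoidHom := e' ▸ ⟨_, hu, show a * (a⁻¹ * b * u * (a⁻¹ * b)⁻¹) * a⁻¹ = b * u * b⁻¹ by group⟩
      obtain ⟨w, hw, hwe⟩ := this
      have hwe' : b * w * b⁻¹ = b * u * b⁻¹ := hwe
      exact mul_left_cancel (mul_right_cancel hwe') ▸ hw
  · rintro ⟨B, g, rfl⟩
    exact ⟨Quotient.mk'' g, rfl⟩

/-- The number of inverted conjugates times the automizer order is the centralizer order. -/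
theorem card_invConj {A : Subgroup G} (hA : IsTor A) :
    Nat.card (h.invConj A) * A.relIndex (normalizer (A : Set G)) = 2 ^ s := by
  classical
  haveI := Fintype.ofFinite G
  haveI := Fintype.ofFinite (Subgroup G)
  set Ω := {B : Subgroup G // ∃ g : G, B = A.map (MulAut.conj g).toMonoidHom}
  set I := {i : G // orderOf i = 2}
  have h1 : Nat.card (Σ B : Ω, {i : G // Inverts i B.1}) = Nat.card Ω * Nat.card A := by
    rw [Nat.card_sigma, Finset.sum_congr rfl (fun (B : Ω) _ => ?_), Finset.sum_const, Finset.card_univ,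
      smul_eq_mul, ← Nat.card_eq_fintype_card]
    obtain ⟨g, hg⟩ := B.2
    rw [hg, h.card_inverters (h.tor_conj hA g), card_map_of_injective (MulAut.conj g).injective]
  have h2 : Nat.card (Σ i : I, {B : Ω // Inverts i.1 B.1}) = Nat.card I * Nat.card (h.invConj A) := by
    rw [Nat.card_sigma, Finset.sum_congr rfl (fun (i : I) _ => ?_), Finset.sum_const, Finset.card_univ,
      smul_eq_mul, ← Nat.card_eq_fintype_card]
    obtain ⟨g, hg⟩ := isConj_iff.1 (h.all i.1 i.2)
    have hmap : ∀ {B : Subgroup G}, Inverts i.1 B → Inverts z (B.map (MulAut.conj g⁻¹).toMonoidHom) := by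
      intro B hB
      refine ⟨h.inv, ?_⟩
      rintro _ ⟨b, hb, rfl⟩
      show z * (g⁻¹ * b * g⁻¹⁻¹) * z⁻¹ = (g⁻¹ * b * g⁻¹⁻¹)⁻¹
      calc z * (g⁻¹ * b * g⁻¹⁻¹) * z⁻¹ = g⁻¹ * (g * z * g⁻¹ * b * (g * z * g⁻¹)⁻¹) * g := by group
        _ = g⁻¹ * b⁻¹ * g := by rw [hg, hB.2 b hb]
        _ = (g⁻¹ * b * g⁻¹⁻¹)⁻¹ := by group
    have hmap' : ∀ {B : Subgroup G}, Inverts z B → Inverts i.1 (B.map (MulAut.conj g).toMonoidHom) := by
      intro B hB
      refine ⟨i.2, ?_⟩
      rintro _ ⟨b, hb, rfl⟩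
      show i.1 * (g * b * g⁻¹) * i.1⁻¹ = (g * b * g⁻¹)⁻¹
      calc i.1 * (g * b * g⁻¹) * i.1⁻¹ = g * (z * b * z⁻¹) * g⁻¹ := by rw [← hg]; group
        _ = (g * b * g⁻¹)⁻¹ := by rw [hB.2 b hb]; group
    have hcomp : ∀ (a b : G) (B : Subgroup G),
        (B.map (MulAut.conj a).toMonoidHom).map (MulAut.conj b).toMonoidHom =
          B.map (MulAut.conj (b * a)).toMonoidHom := by
      intro a b B
      rw [Subgroup.map_map]
      congr 1
      ext x
      show b * (a * x * a⁻¹) * b⁻¹ = b * a * x * (b * a)⁻¹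
      group
    have hid : ∀ (B : Subgroup G), B.map (MulAut.conj (1 : G)).toMonoidHom = B := by
      intro B
      ext x
      exact ⟨fun ⟨y, hy, e⟩ => by
        have e' : (1 : G) * y * 1⁻¹ = x := e
        rw [one_mul, inv_one, mul_one] at e'
        exact e' ▸ hy, fun hx => ⟨x, hx, show (1 : G) * x * 1⁻¹ = x by group⟩⟩
    refine Nat.card_congr
      { toFun := fun B => ⟨B.1.1.map (MulAut.conj g⁻¹).toMonoidHom, ?_, hmap B.2⟩
        invFun := fun B => ⟨⟨B.1.map (MulAut.conj g).toMonoidHom, ?_⟩, hmap' B.2.2⟩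
        left_inv := fun B => Subtype.ext (Subtype.ext (by
          show (B.1.1.map _).map _ = B.1.1
          rw [hcomp, mul_inv_cancel, hid]))
        right_inv := fun B => Subtype.ext (by
          show (B.1.map _).map _ = B.1
          rw [hcomp, inv_mul_cancel, hid]) }
    · obtain ⟨k, hk⟩ := B.1.2
      exact ⟨g⁻¹ * k, by rw [hk, hcomp]⟩
    · obtain ⟨k, hk⟩ := B.2.1
      exact ⟨g * k, by rw [hk, hcomp]⟩
  have h3 : Nat.card (Σ B : Ω, {i : G // Inverts i B.1}) = Nat.card (Σ i : I, {B : Ω // Inverts i.1 B.1}) :=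
    Nat.card_congr
      { toFun := fun p => ⟨⟨p.2.1, p.2.2.1⟩, ⟨p.1, p.2.2⟩⟩
        invFun := fun p => ⟨p.2.1, ⟨p.1.1, p.2.2⟩⟩
        left_inv := fun _ => rfl
        right_inv := fun _ => rfl }
  rw [h1, h2] at h3
  have hΩ : Nat.card Ω = (normalizer (A : Set G)).index := h.card_conjugates A
  have hn : Nat.card I * 2 ^ s = Nat.card G := by
    rw [← h.card, ← card_isConj_mul z]
    refine congrArg (· * _) (Nat.card_congr (Equiv.subtypeEquivRight fun y => ?_))
    exact ⟨fun hy => h.all y hy, fun hy => by obtain ⟨g, rfl⟩ := isConj_iff.1 hy; exact invol_conj h.inv g⟩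
  have hI : 0 < Nat.card I := by
    haveI : Nonempty I := ⟨⟨z, h.inv⟩⟩
    exact Nat.card_pos
  refine Nat.eq_of_mul_eq_mul_left hI ?_
  rw [hn, ← mul_assoc, ← h3, hΩ, mul_assoc, ← h.card_normalizer, mul_comm, card_mul_index]

theorem exists_relIndex {A : Subgroup G} (hA : IsTor A) : ∃ k, A.relIndex (normalizer (A : Set G)) = 2 ^ k := by
  obtain ⟨k, -, hk⟩ := (Nat.dvd_prime_pow Nat.prime_two).1 (Dvd.intro_left _ (h.card_invConj hA))
  exact ⟨k, hk⟩

theorem mem_of_odd_normalizer {A : Subgroup G} (hA : IsTor A) {a : G} (ha : a ∈ normalizer (A : Set G))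
    (hao : Odd (orderOf a)) : a ∈ A := by
  set N := normalizer (A : Set G)
  haveI : (A.subgroupOf N).Normal := normal_in_normalizer
  set mk := QuotientGroup.mk' (A.subgroupOf N)
  obtain ⟨k, hk⟩ := h.exists_relIndex hA
  refine mem_subgroupOf.1 ((QuotientGroup.eq_one_iff (⟨a, ha⟩ : N)).1 ?_)
  rw [← orderOf_eq_one_iff]
  refine Nat.eq_one_of_dvd_coprimes ((Nat.coprime_two_right.2 hao).pow_right k) ?_ ?_
  · exact (orderOf_map_dvd mk (⟨a, ha⟩ : N)).trans (by rw [orderOf_mk])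
  · rw [← hk, Subgroup.relIndex, index_eq_card]
    exact orderOf_dvd_natCard _

theorem two_dvd_relIndex {A : Subgroup G} (hA : IsTor A) : 2 ∣ A.relIndex (normalizer (A : Set G)) := by
  obtain ⟨i, hi, hinv⟩ := h.tor_exists_inverts hA
  have hiN : i ∈ normalizer (A : Set G) := by
    refine mem_normalizer_iff.2 fun a => ⟨fun ha => by rw [hinv a ha]; exact inv_mem ha, fun ha => ?_⟩
    have h1 : i * (i * a * i⁻¹) * i⁻¹ ∈ A := by rw [hinv _ ha]; exact inv_mem ha
    rwa [show i * (i * a * i⁻¹) * i⁻¹ = (i * i) * a * (i⁻¹ * i⁻¹) by group, invol_inv hi, invol_mul_self hi,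
      one_mul, mul_one] at h1
  obtain ⟨k, hk⟩ := h.exists_relIndex hA
  rcases k with _ | k
  · exfalso
    have hle := relIndex_eq_one.1 (hk.trans (pow_zero 2))
    have := h.tor_odd hA (hle hiN)
    rw [hi] at this
    exact absurd this (by decide)
  · exact hk ▸ dvd_pow_self 2 (Nat.succ_ne_zero k)

theorem relIndex_dvd_pred {A : Subgroup G} (hA : IsTor A) :
    A.relIndex (normalizer (A : Set G)) ∣ Nat.card A - 1 := by
  classical
  haveI := Fintype.ofFinite G
  set N := normalizer (A : Set G) with hN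
  have hmap : ∀ n : N, ∀ a : {a : G // a ∈ A ∧ a ≠ 1}, (n : G) * a * (n : G)⁻¹ ∈ A ∧ (n : G) * a * (n : G)⁻¹ ≠ 1 :=
    fun n a => ⟨(mem_normalizer_iff.1 n.2 _).1 a.2.1, fun e => a.2.2 (conj_eq_one_iff.1 e)⟩
  letI : MulAction N {a : G // a ∈ A ∧ a ≠ 1} :=
    { smul := fun n a => ⟨(n : G) * a * (n : G)⁻¹, hmap n a⟩
      one_smul := fun a => Subtype.ext (show (1 : G) * a * 1⁻¹ = a by group)
      mul_smul := fun m n a => Subtype.ext
        (show (m : G) * n * a * ((m : G) * n)⁻¹ = m * (n * a * (n : G)⁻¹) * (m : G)⁻¹ by group) }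
  haveI := Fintype.ofFinite (Quotient (MulAction.orbitRel N {a : G // a ∈ A ∧ a ≠ 1}))
  have hst : ∀ a : {a : G // a ∈ A ∧ a ≠ 1}, MulAction.stabilizer N a = A.subgroupOf N := by
    intro a
    ext n
    rw [MulAction.mem_stabilizer_iff, mem_subgroupOf]
    constructor
    · intro e
      rw [h.tor_cent hA a.2.1 a.2.2]
      exact mem_centralizer_singleton_iff.2 (mul_inv_eq_iff_eq_mul.1 (congrArg Subtype.val e))
    · intro hn
      refine Subtype.ext ?_
      show (n : G) * a * (n : G)⁻¹ = a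
      rw [h.tor_comm hA hn a.2.1, mul_inv_cancel_right]
  have hc := Nat.card_congr (MulAction.selfEquivSigmaOrbitsQuotientStabilizer N {a : G // a ∈ A ∧ a ≠ 1})
  rw [Nat.card_sigma, Finset.sum_congr rfl (fun o _ => by rw [hst, ← index_eq_card]), Finset.sum_const,
    smul_eq_mul] at hc
  refine Dvd.intro_left _ (hc.symm.trans ?_)
  haveI := Fintype.ofFinite A
  have e : {a : G // a ∈ A ∧ a ≠ 1} ≃ {a : A // ¬ a = 1} :=
    { toFun := fun a => ⟨⟨a.1, a.2.1⟩, fun e => a.2.2 (congrArg Subtype.val e)⟩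
      invFun := fun a => ⟨a.1.1, a.1.2, fun e => a.2 (Subtype.ext e)⟩
      left_inv := fun _ => rfl
      right_inv := fun _ => rfl }
  rw [Nat.card_congr e, Nat.card_eq_fintype_card, Fintype.card_subtype_compl, Fintype.card_subtype_eq,
    ← Nat.card_eq_fintype_card]

/-- The number of conjugates is one modulo the order. -/
theorem index_normalizer_modEq {A : Subgroup G} (hA : IsTor A) :
    (normalizer (A : Set G)).index % Nat.card A = 1 := by
  classical
  haveI := Fintype.ofFinite G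
  haveI := Fintype.ofFinite (Subgroup G)
  set X := {B : Subgroup G // (∃ g : G, B = A.map (MulAut.conj g).toMonoidHom) ∧ B ≠ A}
  have hcomp : ∀ (a b : G) (B : Subgroup G),
      (B.map (MulAut.conj a).toMonoidHom).map (MulAut.conj b).toMonoidHom =
        B.map (MulAut.conj (b * a)).toMonoidHom := by
    intro a b B
    rw [Subgroup.map_map]
    congr 1
    ext x
    show b * (a * x * a⁻¹) * b⁻¹ = b * a * x * (b * a)⁻¹
    group
  have hfixA : ∀ a ∈ A, A.map (MulAut.conj a).toMonoidHom = A := by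
    intro a ha
    refine eq_of_le_of_card_ge ?_ (by rw [card_map_of_injective (MulAut.conj a).injective])
    rintro _ ⟨b, hb, rfl⟩
    exact mul_mem (mul_mem ha hb) (inv_mem ha)
  have hid : ∀ (B : Subgroup G), B.map (MulAut.conj (1 : G)).toMonoidHom = B := by
    intro B
    rw [show (MulAut.conj (1 : G)).toMonoidHom = MonoidHom.id G from MonoidHom.ext fun x => by simp,
      Subgroup.map_id]
  letI : MulAction A X :=
    { smul := fun a B => ⟨B.1.map (MulAut.conj (a : G)).toMonoidHom, by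
        obtain ⟨⟨g, hg⟩, hne⟩ := B.2
        refine ⟨⟨a * g, by rw [hg, hcomp]⟩, fun e => hne ?_⟩
        refine Subgroup.map_injective (f := (MulAut.conj (a : G)).toMonoidHom) (MulAut.conj (a : G)).injective ?_
        rw [e, hfixA a a.2]⟩
      one_smul := fun B => Subtype.ext (hid B.1)
      mul_smul := fun a b B => Subtype.ext (hcomp (b : G) (a : G) B.1).symm }
  haveI := Fintype.ofFinite (Quotient (MulAction.orbitRel A X))
  have hst : ∀ B : X, MulAction.stabilizer A B = ⊥ := by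
    intro B
    rw [eq_bot_iff]
    intro a ha
    rw [MulAction.mem_stabilizer_iff] at ha
    have hB : (B.1).map (MulAut.conj (a : G)).toMonoidHom = B.1 := congrArg Subtype.val ha
    obtain ⟨⟨g, hg⟩, hne⟩ := B.2
    have hBt : IsTor B.1 := hg ▸ h.tor_conj hA g
    have haN : (a : G) ∈ normalizer (B.1 : Set G) := by
      refine mem_normalizer_iff.2 fun b => ⟨fun hb => hB ▸ ⟨b, hb, rfl⟩, fun hb => ?_⟩
      rw [← hB] at hb
      obtain ⟨c, hc, hce⟩ := hb
      exact mul_left_cancel (mul_right_cancel (hce : (a : G) * c * (a : G)⁻¹ = a * b * (a : G)⁻¹)) ▸ hc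
    have haB := h.mem_of_odd_normalizer hBt haN (h.tor_odd hA a.2)
    rw [mem_bot]
    by_contra hne1
    exact hne (h.tor_ti hBt hA haB a.2 fun e => hne1 (Subtype.ext e))
  have hc := Nat.card_congr (MulAction.selfEquivSigmaOrbitsQuotientStabilizer A X)
  rw [Nat.card_sigma, Finset.sum_congr rfl (fun o _ => by rw [hst, ← index_eq_card, index_bot]),
    Finset.sum_const, smul_eq_mul] at hc
  have htot : (normalizer (A : Set G)).index = Nat.card X + 1 := by
    rw [← h.card_conjugates A, Nat.card_eq_fintype_card, Nat.card_eq_fintype_card, Fintype.card_subtype,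
      Fintype.card_subtype,
      show Finset.univ.filter (fun B : Subgroup G => ∃ g : G, B = A.map (MulAut.conj g).toMonoidHom) =
        insert A (Finset.univ.filter fun B : Subgroup G =>
          (∃ g : G, B = A.map (MulAut.conj g).toMonoidHom) ∧ B ≠ A) from ?_,
      Finset.card_insert_of_notMem (fun hm => (Finset.mem_filter.1 hm).2.2 rfl)]
    ext B
    simp only [Finset.mem_filter, Finset.mem_univ, true_and, Finset.mem_insert]
    constructor
    · intro hB
      by_cases hBA : B = A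
      · exact Or.inl hBA
      · exact Or.inr ⟨hB, hBA⟩
    · rintro (rfl | hB)
      · exact ⟨1, (hid B).symm⟩
      · exact hB.1
  rw [htot, hc, Nat.mul_add_mod_of_lt (h.one_lt_tor hA)]

theorem card_index_eq {A : Subgroup G} :
    Nat.card G = (normalizer (A : Set G)).index * (Nat.card A * A.relIndex (normalizer (A : Set G))) := by
  rw [← h.card_normalizer, mul_comm, card_mul_index]

theorem coprime_index {A : Subgroup G} (hA : IsTor A) : Nat.Coprime (Nat.card A) A.index := by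
  obtain ⟨k, hk⟩ := h.exists_relIndex hA
  have e : A.index = A.relIndex (normalizer (A : Set G)) * (normalizer (A : Set G)).index :=
    (relIndex_mul_index le_normalizer).symm
  rw [e, hk]
  refine Nat.Coprime.mul_right ((Nat.coprime_two_right.2 (h.odd_card_tor hA)).pow_right k) ?_
  rw [Nat.coprime_iff_gcd_eq_one, Nat.gcd_rec, h.index_normalizer_modEq hA, Nat.gcd_one_left]

/-- Members with a common prime divisor are conjugate. -/
theorem exists_conj_of_dvd {A B : Subgroup G} (hA : IsTor A) (hB : IsTor B) {p : ℕ} (hp : p.Prime)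
    (hpA : p ∣ Nat.card A) (hpB : p ∣ Nat.card B) : ∃ g : G, B = A.map (MulAut.conj g).toMonoidHom := by
  haveI : Fact p.Prime := ⟨hp⟩
  obtain ⟨y, hy⟩ := exists_prime_orderOf_dvd_card' (G := B) p hpB
  obtain ⟨PA⟩ : Nonempty (Sylow p A) := inferInstance
  set P := (PA : Subgroup A).map A.subtype
  have hPp : IsPGroup p P := PA.2.map _
  have hPi : ¬ p ∣ P.index := by
    rw [show P.index = (PA : Subgroup A).index * A.index from index_map_subtype (K := (PA : Subgroup A))]
    intro hd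
    rcases hp.dvd_mul.1 hd with h' | h'
    · exact PA.not_dvd_index h'
    · exact hp.ne_one (Nat.eq_one_of_dvd_coprimes (h.coprime_index hA) hpA h')
  set S := hPp.toSylow hPi
  have hyp : IsPGroup p (zpowers (y : G)) :=
    IsPGroup.of_card (n := 1) (by rw [Nat.card_zpowers, orderOf_submonoid, hy, pow_one])
  obtain ⟨g, hg⟩ := exists_conj_le_sylow hyp S
  have hgA : g * (y : G) * g⁻¹ ∈ A := by
    have h1 : g * (y : G) * g⁻¹ ∈ (S : Subgroup G) := hg _ (mem_zpowers _)
    obtain ⟨u, -, hu⟩ := h1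
    exact hu ▸ u.2
  refine ⟨g⁻¹, (h.tor_ti hB (h.tor_conj hA g⁻¹) y.2 ⟨_, hgA, ?_⟩ fun e => ?_)⟩
  · show g⁻¹ * (g * y * g⁻¹) * g⁻¹⁻¹ = y
    group
  · rw [← orderOf_submonoid, e, orderOf_one] at hy
    exact hp.ne_one hy.symm

/-- A complement of a member in its normaliser. -/
theorem exists_unique_sub {A : Subgroup G} (hA : IsTor A) :
    ∃ T : Subgroup G, T ≤ centralizer ({z} : Set G) ∧ z ∈ T ∧
      Nat.card T = A.relIndex (normalizer (A : Set G)) ∧ ∀ t ∈ T, orderOf t = 2 → t = z := by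
  haveI : Fact (Nat.Prime 2) := ⟨Nat.prime_two⟩
  set N := normalizer (A : Set G)
  obtain ⟨k, hk⟩ := h.exists_relIndex hA
  obtain ⟨S⟩ : Nonempty (Sylow 2 N) := inferInstance
  set T := (S : Subgroup N).map N.subtype with hT
  have hTN : T ≤ N := map_subtype_le _
  have hcard : Nat.card T = A.relIndex N := by
    rw [hT, card_map_of_injective N.subtype_injective, S.card_eq_multiplicity, h.card_normalizer, hk,
      Nat.factorization_mul (Nat.pos_iff_ne_zero.1 Nat.card_pos) (by positivity), Finsupp.add_apply,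
      Nat.factorization_eq_zero_of_not_dvd (Nat.two_dvd_ne_zero.2 (Nat.odd_iff.1 (h.odd_card_tor hA))),
      Nat.prime_two.factorization_pow, Finsupp.single_eq_same, zero_add]
  have hinvs : ∀ t ∈ T, orderOf t = 2 → ∀ a ∈ A, t * a * t⁻¹ = a⁻¹ := fun t ht ho =>
    h.inverts_of_norm (fun a ha => h.tor_odd hA ha) ho fun a ha => (mem_normalizer_iff.1 (hTN ht) a).1 ha
  have huniq : ∀ t ∈ T, ∀ t' ∈ T, orderOf t = 2 → orderOf t' = 2 → t = t' := by
    intro t ht t' ht' ho ho'
    obtain ⟨x, hx1, -, -, hAx⟩ := id hA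
    have hxA : x ∈ A := hAx ▸ mem_centralizer_singleton_iff.2 rfl
    have h1 : t⁻¹ * x⁻¹ * t = x := by rw [← hinvs t ht ho x hxA]; group
    have hm : t⁻¹ * t' ∈ A := by
      rw [hAx, mem_centralizer_singleton_iff]
      calc t⁻¹ * t' * x = t⁻¹ * (t' * x * t'⁻¹) * t' := by group
        _ = t⁻¹ * x⁻¹ * t * (t⁻¹ * t') := by rw [hinvs t' ht' ho' x hxA]; group
        _ = x * (t⁻¹ * t') := by rw [h1]
    obtain ⟨j, hj⟩ := (S.2.map N.subtype) ⟨t⁻¹ * t', mul_mem (inv_mem ht) ht'⟩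
    exact inv_mul_eq_one.1 (eq_one_of_odd_of_pow_two (h.tor_odd hA hm) (congrArg Subtype.val hj))
  obtain ⟨t₀, ht₀, ho⟩ := exists_invol_mem (H := T) (by
    rw [hcard]; exact even_iff_two_dvd.2 (h.two_dvd_relIndex hA))
  obtain ⟨g, hg⟩ := isConj_iff.1 (h.all t₀ ho)
  refine ⟨T.map (MulAut.conj g⁻¹).toMonoidHom, ?_, ⟨t₀, ht₀, ?_⟩,
    by rw [card_map_of_injective (MulAut.conj g⁻¹).injective, hcard], ?_⟩
  · rintro _ ⟨u, hu, rfl⟩
    show g⁻¹ * u * g⁻¹⁻¹ ∈ _
    have hc : u * t₀ * u⁻¹ = t₀ :=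
      huniq _ (mul_mem (mul_mem hu ht₀) (inv_mem hu)) _ ht₀ (invol_conj ho u) ho
    rw [mem_centralizer_singleton_iff]
    calc g⁻¹ * u * g⁻¹⁻¹ * z = g⁻¹ * (u * t₀) * g := by rw [← hg]; group
      _ = g⁻¹ * (t₀ * u) * g := by rw [mul_inv_eq_iff_eq_mul.1 hc]
      _ = z * (g⁻¹ * u * g⁻¹⁻¹) := by rw [← hg]; group
  · show g⁻¹ * t₀ * g⁻¹⁻¹ = z
    rw [← hg]
    group
  · rintro _ ⟨u, hu, rfl⟩ ho2
    have hou : orderOf u = 2 := by
      rw [← MulEquiv.orderOf_eq (MulAut.conj g⁻¹)]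
      exact ho2
    show g⁻¹ * u * g⁻¹⁻¹ = z
    rw [huniq u hu t₀ ht₀ hou ho, ← hg]
    group

/-- The counting identity. -/
theorem exists_data : ∃ (M : Finset ℕ) (e m : ℕ → ℕ),
    Nat.card {i : G // orderOf i = 2} =
      Nat.card {i : G // orderOf i = 2 ∧ (i = z ∨ Even (orderOf (z * i)))} + ∑ a ∈ M, m a * (a - 1) ∧
    (∀ a ∈ M, 1 < a ∧ Odd a ∧ m a * e a = 2 ^ s ∧ 2 ∣ e a ∧ e a ∣ a - 1 ∧
      (∃ i, i % a = 1 ∧ 2 ^ s * Nat.card {i : G // orderOf i = 2} = i * (a * e a)) ∧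
      ∃ A : Subgroup G, IsTor A ∧ Nat.card A = a ∧ A.relIndex (normalizer (A : Set G)) = e a) ∧
    (M : Set ℕ).Pairwise Nat.Coprime ∧
    (∏ a ∈ M, a) ∣ Nat.card {i : G // orderOf i = 2} ∧
    ∀ A : Subgroup G, IsTor A → Nat.card A ∈ M ∧ A.relIndex (normalizer (A : Set G)) = e (Nat.card A) := by
  classical
  haveI := Fintype.ofFinite G
  haveI := Fintype.ofFinite (Subgroup G)
  set 𝒯 := Finset.univ.filter fun A : Subgroup G => IsTor A ∧ Inverts z A with h𝒯
  set M := 𝒯.image fun A : Subgroup G => Nat.card A with hM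
  set m : ℕ → ℕ := fun a => (𝒯.filter fun A : Subgroup G => Nat.card A = a).card with hm
  set e : ℕ → ℕ := fun a => 2 ^ s / m a with he
  set n := Nat.card {i : G // orderOf i = 2} with hn
  -- each class meets the set of inverted members
  have hrep : ∀ {A : Subgroup G}, IsTor A → ∃ g : G, A.map (MulAut.conj g).toMonoidHom ∈ 𝒯 := by
    intro A hA
    obtain ⟨i, hi, hinv⟩ := h.tor_exists_inverts hA
    obtain ⟨g, hg⟩ := isConj_iff.1 (h.all i hi)
    refine ⟨g⁻¹, Finset.mem_filter.2 ⟨Finset.mem_univ _, h.tor_conj hA g⁻¹, h.inv, ?_⟩⟩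
    rintro _ ⟨a, ha, rfl⟩
    show z * (g⁻¹ * a * g⁻¹⁻¹) * z⁻¹ = (g⁻¹ * a * g⁻¹⁻¹)⁻¹
    calc z * (g⁻¹ * a * g⁻¹⁻¹) * z⁻¹ = g⁻¹ * (g * z * g⁻¹ * a * (g * z * g⁻¹)⁻¹) * g := by group
      _ = (g⁻¹ * a * g⁻¹⁻¹)⁻¹ := by rw [hg, hinv a ha]; group
  have hfib : ∀ {A : Subgroup G}, IsTor A →
      m (Nat.card A) * A.relIndex (normalizer (A : Set G)) = 2 ^ s := by
    intro A hA
    rw [← h.card_invConj hA]
    congr 1
    show _ = Nat.card {B : Subgroup G // B ∈ h.invConj A}
    rw [Nat.card_eq_fintype_card (α := {B : Subgroup G // B ∈ h.invConj A}), Fintype.card_subtype]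
    refine congrArg Finset.card ?_
    ext B
    simp only [hm, h𝒯, Finset.mem_filter, Finset.mem_univ, true_and, invConj, Set.mem_setOf_eq]
    constructor
    · rintro ⟨⟨hB, hBz⟩, hc⟩
      refine ⟨?_, hBz⟩
      obtain ⟨p, hp, hpd⟩ := Nat.exists_prime_and_dvd (h.one_lt_tor hA).ne'
      exact h.exists_conj_of_dvd hA hB hp hpd (hc ▸ hpd)
    · rintro ⟨⟨g, rfl⟩, hBz⟩
      exact ⟨⟨h.tor_conj hA g, hBz⟩, card_map_of_injective (MulAut.conj g).injective⟩
  have hefib : ∀ {A : Subgroup G}, IsTor A → e (Nat.card A) = A.relIndex (normalizer (A : Set G)) := by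
    intro A hA
    have h1 := hfib hA
    have hpos : 0 < m (Nat.card A) := Nat.pos_of_mul_pos_right (h1 ▸ (by positivity : 0 < 2 ^ s))
    simp only [he]
    rw [← h1, Nat.mul_div_cancel_left _ hpos]
  have hmem : ∀ {A : Subgroup G}, IsTor A → Nat.card A ∈ M := by
    intro A hA
    obtain ⟨g, hg⟩ := hrep hA
    exact Finset.mem_image.2 ⟨_, hg, card_map_of_injective (MulAut.conj g).injective⟩
  have hM' : ∀ a ∈ M, ∃ A : Subgroup G, IsTor A ∧ Nat.card A = a := by
    intro a ha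
    obtain ⟨A, hA, rfl⟩ := Finset.mem_image.1 ha
    exact ⟨A, (Finset.mem_filter.1 hA).2.1, rfl⟩
  -- the products of odd order
  have hG : n * 2 ^ s = Nat.card G := by
    rw [← h.card, ← card_isConj_mul z, hn]
    refine congrArg (· * _) (Nat.card_congr (Equiv.subtypeEquivRight fun y => ?_))
    exact ⟨fun hy => h.all y hy, fun hy => by obtain ⟨g, rfl⟩ := isConj_iff.1 hy; exact invol_conj h.inv g⟩
  have hidx : ∀ {A : Subgroup G}, IsTor A → 2 ^ s * n =
      (normalizer (A : Set G)).index * (Nat.card A * A.relIndex (normalizer (A : Set G))) := by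
    intro A hA
    rw [← h.card_index_eq, mul_comm, hG]
  have hodd : Nat.card {i : G // orderOf i = 2 ∧ ¬ (i = z ∨ Even (orderOf (z * i)))} =
      ∑ A ∈ 𝒯, (Nat.card A - 1) := by
    rw [Nat.card_eq_fintype_card, Fintype.card_subtype]
    have e1 : ∀ A ∈ 𝒯, Nat.card A - 1 = ((Finset.univ.filter fun a : G => a ∈ A).erase 1).card := by
      intro A _
      rw [Finset.card_erase_of_mem (by simp), Nat.card_eq_fintype_card, Fintype.card_subtype]
    rw [Finset.sum_congr rfl e1, ← Finset.card_sigma]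
    have hzz := invol_mul_self h.inv
    refine Finset.card_bij' (fun i _ => (⟨centralizer ({z * i} : Set G), z * i⟩ : Σ _ : Subgroup G, G))
      (fun p _ => z * p.2) ?_ ?_ ?_ ?_
    · intro i hi
      simp only [Finset.mem_filter, Finset.mem_univ, true_and, not_or, Nat.not_even_iff_odd] at hi
      obtain ⟨hio, hiz, hodd⟩ := hi
      simp only [Finset.mem_sigma, h𝒯, Finset.mem_filter, Finset.mem_univ, true_and, Finset.mem_erase]
      have hne : z * i ≠ 1 := fun e => hiz (by rw [← invol_inv hio, eq_inv_of_mul_eq_one_left e])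
      have hA : IsTor (centralizer ({z * i} : Set G)) :=
        ⟨z * i, hne, hodd, ⟨z, h.inv, invol_conj_mul h.inv hio⟩, rfl⟩
      refine ⟨⟨hA, h.inv, h.inverts_of_norm (fun a ha => h.tor_odd hA ha) h.inv fun a ha => ?_⟩, hne,
        mem_centralizer_singleton_iff.2 rfl⟩
      rw [mem_centralizer_singleton_iff] at ha ⊢
      have hc : a * (z * i)⁻¹ = (z * i)⁻¹ * a := (show Commute a (z * i) from ha).inv_right.eq
      have hx : z * i = z * (z * i)⁻¹ * z⁻¹ := by
        calc z * i = ((z * i)⁻¹)⁻¹ := (inv_inv _).symm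
          _ = (z * (z * i) * z⁻¹)⁻¹ := by rw [invol_conj_mul h.inv hio]
          _ = z * (z * i)⁻¹ * z⁻¹ := by group
      calc z * a * z⁻¹ * (z * i) = z * a * z⁻¹ * (z * (z * i)⁻¹ * z⁻¹) := by rw [← hx]
        _ = z * (a * (z * i)⁻¹) * z⁻¹ := by group
        _ = z * ((z * i)⁻¹ * a) * z⁻¹ := by rw [hc]
        _ = z * (z * i)⁻¹ * z⁻¹ * (z * a * z⁻¹) := by group
        _ = z * i * (z * a * z⁻¹) := by rw [← hx]
    · rintro ⟨A, a⟩ hp
      simp only [Finset.mem_sigma, h𝒯, Finset.mem_filter, Finset.mem_univ, true_and, Finset.mem_erase] at hp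
      obtain ⟨⟨hA, -, hinv⟩, ha1, ha⟩ := hp
      simp only [Finset.mem_filter, Finset.mem_univ, true_and, not_or, Nat.not_even_iff_odd]
      refine ⟨invol_iff.2 ⟨?_, fun e => ?_⟩, fun e => ha1 (mul_eq_left.1 e), ?_⟩
      · rw [show z * a * (z * a) = z * a * z⁻¹ * (z * z) * a by group, hzz, mul_one, hinv a ha, inv_mul_cancel]
      · have := h.tor_odd hA (show z ∈ A by rw [eq_inv_of_mul_eq_one_left e]; exact inv_mem ha)
        rw [h.inv] at this
        exact absurd this (by decide)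
      · rw [← mul_assoc, hzz, one_mul]
        exact h.tor_odd hA ha
    · intro i _
      show z * (z * i) = i
      rw [← mul_assoc, hzz, one_mul]
    · rintro ⟨A, a⟩ hp
      simp only [Finset.mem_sigma, h𝒯, Finset.mem_filter, Finset.mem_univ, true_and, Finset.mem_erase] at hp
      obtain ⟨⟨hA, -⟩, ha1, ha⟩ := hp
      have e2 : z * (z * a) = a := by rw [← mul_assoc, hzz, one_mul]
      simp only [e2]
      rw [← h.tor_cent hA ha ha1]
  have hsplit : n = Nat.card {i : G // orderOf i = 2 ∧ (i = z ∨ Even (orderOf (z * i)))} +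
      Nat.card {i : G // orderOf i = 2 ∧ ¬ (i = z ∨ Even (orderOf (z * i)))} := by
    rw [hn, Nat.card_eq_fintype_card, Nat.card_eq_fintype_card, Nat.card_eq_fintype_card, Fintype.card_subtype,
      Fintype.card_subtype, Fintype.card_subtype, ← Finset.card_filter_add_card_filter_not
        (s := Finset.univ.filter fun i : G => orderOf i = 2) (fun i => i = z ∨ Even (orderOf (z * i))),
      Finset.filter_filter, Finset.filter_filter]
  have hcop : (M : Set ℕ).Pairwise Nat.Coprime := by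
    intro a ha b hb hab
    obtain ⟨A, hA, rfl⟩ := hM' a ha
    obtain ⟨B, hB, rfl⟩ := hM' b hb
    refine Nat.coprime_of_dvd fun p hp hpA hpB => hab ?_
    obtain ⟨g, rfl⟩ := h.exists_conj_of_dvd hA hB hp hpA hpB
    rw [card_map_of_injective (MulAut.conj g).injective]
  have hdvd : ∀ a ∈ M, a ∣ n := by
    intro a ha
    obtain ⟨A, hA, rfl⟩ := hM' a ha
    have h1 : Nat.card A ∣ 2 ^ s * n := by rw [hidx hA, mul_left_comm]; exact dvd_mul_right _ _
    exact ((Nat.coprime_two_right.2 (h.odd_card_tor hA)).pow_right s).dvd_of_dvd_mul_left h1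
  have hprod : ∀ M' ⊆ M, (∏ a ∈ M', a) ∣ n := by
    intro M'
    induction M' using Finset.induction_on with
    | empty => intro _; simp
    | @insert a M'' ha ih =>
      intro hsub
      rw [Finset.prod_insert ha]
      refine (Nat.Coprime.prod_right fun b hb => ?_).mul_dvd_of_dvd_of_dvd
        (hdvd a (hsub (Finset.mem_insert_self a M''))) (ih ((Finset.subset_insert a M'').trans hsub))
      exact hcop (hsub (Finset.mem_insert_self a M'')) (hsub (Finset.mem_insert_of_mem hb))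
        (fun e => ha (e ▸ hb))
  refine ⟨M, e, m, ?_, fun a ha => ?_, hcop, hprod M subset_rfl, fun A hA => ⟨hmem hA, (hefib hA).symm⟩⟩
  · rw [hsplit, hodd]
    congr 1
    rw [← Finset.sum_fiberwise_of_maps_to (s := 𝒯) (t := M) (g := fun A : Subgroup G => Nat.card A)
      (fun A hA => Finset.mem_image_of_mem _ hA)]
    refine Finset.sum_congr rfl fun a _ => ?_
    rw [Finset.sum_congr rfl (fun A hA => by rw [(Finset.mem_filter.1 hA).2]), Finset.sum_const, smul_eq_mul]
  · obtain ⟨A, hA, rfl⟩ := hM' a ha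
    rw [hefib hA]
    exact ⟨h.one_lt_tor hA, h.odd_card_tor hA, hfib hA, h.two_dvd_relIndex hA, h.relIndex_dvd_pred hA,
      ⟨_, h.index_normalizer_modEq hA, hidx hA⟩, A, hA, rfl, rfl⟩

end Hyp

end CfsgLib.Invol.SelfCount
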