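import Mathlib.Tactic.IntervalCases
import Mathlib.Tactic.Linarith
import Mathlib.Tactic.NormNum
import Mathlib.Tactic.Ring
import Mathlib.Data.Finset.Sort
import Mathlib.Order.Interval.Finset.Nat
import Mathlib.Algebra.BigOperators.Group.Finset.Basic
import Mathlib.Algebra.Order.BigOperators.Group.Finset
import Mathlib.GroupTheory.Sylow
import Mathlib.Algebra.BigOperators.Associated

/-!
# The arithmetic of the involution count
-/

set_option autoImplicit false

namespace CfsgLib.Invol.SelfCount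

/-- The arithmetic conditions on the orders of the members. -/
structure Arith (s c n : ℕ) (M : Finset ℕ) (e m : ℕ → ℕ) : Prop where
  sum : n = c + ∑ a ∈ M, m a * (a - 1)
  prop : ∀ a ∈ M, 1 < a ∧ Odd a ∧ m a * e a = 2 ^ s ∧ 2 ∣ e a ∧ e a ∣ a - 1 ∧
    ∃ i, i % a = 1 ∧ 2 ^ s * n = i * (a * e a)
  cop : (M : Set ℕ).Pairwise Nat.Coprime
  prod : (∏ a ∈ M, a) ∣ n

/-- The boolean test at one member. -/
def okOne (q n a e : ℕ) : Bool :=
  n % a == 0 && ((q * n) % (a * e) == 0 && q * n / (a * e) % a == 1)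

/-- The contribution of one member. -/
def term (q : ℕ) (p : ℕ × ℕ) : ℕ := q / p.2 * (p.1 - 1)

/-- The boolean test for a list of members. -/
def okList (q r n : ℕ) (L : List (ℕ × ℕ)) : Bool :=
  n % r == 0 && L.all fun p => okOne q n p.1 p.2

/-- The product of the first odd numbers from three. -/
def df : ℕ → ℕ
  | 0 => 1
  | k + 1 => (2 * k + 3) * df k

theorem card_le_half {S : Finset ℕ} (h : ∀ a ∈ S, 1 < a ∧ Odd a) {w : ℕ} (hw : ∀ a ∈ S, a ≤ w) :
    2 * S.card + 1 ≤ max w 1 := by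
  have h1 : S.card ≤ (Finset.Icc 1 ((w - 1) / 2)).card := by
    refine Finset.card_le_card_of_injOn (fun a => (a - 1) / 2) (fun a ha => ?_) fun a ha b hb e => ?_
    · obtain ⟨a1, ⟨k, rfl⟩⟩ := h a ha
      have := hw _ ha
      simp only [Finset.coe_Icc, Set.mem_Icc]
      omega
    · obtain ⟨-, ⟨k, rfl⟩⟩ := h a ha
      obtain ⟨-, ⟨l, rfl⟩⟩ := h b hb
      simp only at e
      omega
  rw [Nat.card_Icc] at h1
  omega

theorem df_le_prod : ∀ (k : ℕ) (S : Finset ℕ), S.card = k → (∀ a ∈ S, 1 < a ∧ Odd a) →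
    df k ≤ ∏ a ∈ S, a := by
  intro k
  induction k with
  | zero => intro S hc _; rw [Finset.card_eq_zero.1 hc]; simp [df]
  | succ k ih =>
    intro S hc h
    have hne : S.Nonempty := Finset.card_pos.1 (by omega)
    set w := S.max' hne
    have hw : w ∈ S := S.max'_mem hne
    have h1 : 2 * S.card + 1 ≤ max w 1 := card_le_half h fun a ha => S.le_max' a ha
    have h2 := ih (S.erase w) (by rw [Finset.card_erase_of_mem hw, hc]; rfl)
      fun a ha => h a (Finset.mem_of_mem_erase ha)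
    rw [← Finset.mul_prod_erase S (fun a => a) hw, df]
    exact Nat.mul_le_mul (by omega) h2

theorem df_gt : ∀ k, 12 + 32 * (k + 5) < df (k + 4)
  | 0 => by decide
  | k + 1 => by
    have h := df_gt k
    rw [show df (k + 1 + 4) = (2 * (k + 4) + 3) * df (k + 4) from rfl]
    nlinarith [h]

theorem df_gt' : ∀ k, 1 + 4 * (k + 3) < df (k + 2)
  | 0 => by decide
  | k + 1 => by
    have h := df_gt' k
    rw [show df (k + 1 + 2) = (2 * (k + 2) + 3) * df (k + 2) from rfl]
    nlinarith [h]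

namespace Arith

variable {s c n r : ℕ} {M : Finset ℕ} {e m : ℕ → ℕ} (h : Arith s c n M e m)

include h

theorem m_le {a : ℕ} (ha : a ∈ M) : 2 * m a ≤ 2 ^ s ∧ 0 < e a := by
  obtain ⟨-, -, h1, h2, -⟩ := h.prop a ha
  have hpos : 0 < e a := Nat.pos_of_mul_pos_left (h1 ▸ Nat.two_pow_pos s : 0 < m a * e a)
  have h3 : 2 ≤ e a := Nat.le_of_dvd hpos h2
  exact ⟨by rw [← h1, mul_comm]; exact Nat.mul_le_mul_left _ h3, hpos⟩

theorem term_eq {a : ℕ} (ha : a ∈ M) : term (2 ^ s) (a, e a) = m a * (a - 1) := by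
  obtain ⟨-, -, h1, -⟩ := h.prop a ha
  show 2 ^ s / e a * (a - 1) = _
  rw [← h1, Nat.mul_div_cancel _ (h.m_le ha).2]

theorem okOne_true {a : ℕ} (ha : a ∈ M) : okOne (2 ^ s) n a (e a) = true := by
  obtain ⟨a1, -, -, -, -, i, hi, hn⟩ := h.prop a ha
  have hd : a ∣ n := (Finset.dvd_prod_of_mem (fun a => a) ha).trans h.prod
  have hpos : 0 < a * e a := Nat.mul_pos (by omega) (h.m_le ha).2
  simp only [okOne, Bool.and_eq_true, beq_iff_eq]
  exact ⟨Nat.mod_eq_zero_of_dvd hd |> fun x => x, by rw [hn, Nat.mul_mod_left],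
    by rw [hn, Nat.mul_div_cancel _ hpos, hi]⟩

theorem okList_true (hr : r ∣ n) (L : List (ℕ × ℕ)) (hL : ∀ p ∈ L, p.1 ∈ M ∧ p.2 = e p.1) :
    okList (2 ^ s) r n L = true := by
  simp only [okList, Bool.and_eq_true, beq_iff_eq, List.all_eq_true]
  refine ⟨Nat.mod_eq_zero_of_dvd hr, fun p hp => ?_⟩
  rw [(hL p hp).2]
  exact h.okOne_true (hL p hp).1

theorem max_bound (hne : M.Nonempty) :
    (∏ a ∈ M.erase (M.max' hne), a) * M.max' hne ≤ c + 2 ^ s / 2 * M.card * M.max' hne := by
  have hw := M.max'_mem hne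
  have hn : 0 < n := by
    obtain ⟨a1, -, h1, -, -, -⟩ := h.prop _ hw
    have h2 : 0 < m (M.max' hne) * (M.max' hne - 1) :=
      Nat.mul_pos (Nat.pos_of_mul_pos_right (h1 ▸ Nat.two_pow_pos s : 0 < _)) (by omega)
    rw [h.sum]
    exact Nat.add_pos_right _ (lt_of_lt_of_le h2
      (Finset.single_le_sum (f := fun a => m a * (a - 1)) (fun _ _ => Nat.zero_le _) hw))
  rw [Finset.prod_erase_mul M (fun a => a) hw]
  refine (Nat.le_of_dvd hn h.prod).trans ?_
  rw [h.sum, Nat.add_le_add_iff_left]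
  refine (Finset.sum_le_card_nsmul M _ (2 ^ s / 2 * M.max' hne) fun a ha => ?_).trans (le_of_eq ?_)
  · exact Nat.mul_le_mul (by have := (h.m_le ha).1; omega) (by have := M.le_max' a ha; omega)
  · rw [smul_eq_mul]; ring

theorem four_le_false (hs : s = 6) (hc : c = 123) (h4 : 5 ≤ M.card) : False := by
  have hne : M.Nonempty := Finset.card_pos.1 (by omega)
  have h0 := h.max_bound hne
  have hw : 2 * M.card + 1 ≤ max (M.max' hne) 1 :=
    card_le_half (fun a ha => ⟨(h.prop a ha).1, (h.prop a ha).2.1⟩) fun a ha => M.le_max' a ha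
  have hd := df_le_prod (M.card - 1) (M.erase (M.max' hne)) (Finset.card_erase_of_mem (M.max'_mem hne))
    fun a ha => ⟨(h.prop a (Finset.mem_of_mem_erase ha)).1, (h.prop a (Finset.mem_of_mem_erase ha)).2.1⟩
  have hg := df_gt (M.card - 5)
  rw [show M.card - 5 + 5 = M.card by omega, show M.card - 5 + 4 = M.card - 1 by omega] at hg
  subst hs hc
  norm_num at h0
  have h1 : (32 * M.card + 13) * M.max' hne ≤ (∏ a ∈ M.erase (M.max' hne), a) * M.max' hne :=
    Nat.mul_le_mul_right _ (by omega)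
  have h2 : 11 ≤ M.max' hne := by omega
  nlinarith

theorem three_le_false (hs : s = 3) (hc : c = 13) (h4 : 3 ≤ M.card) : False := by
  have hne : M.Nonempty := Finset.card_pos.1 (by omega)
  have h0 := h.max_bound hne
  have hw : 2 * M.card + 1 ≤ max (M.max' hne) 1 :=
    card_le_half (fun a ha => ⟨(h.prop a ha).1, (h.prop a ha).2.1⟩) fun a ha => M.le_max' a ha
  have hd := df_le_prod (M.card - 1) (M.erase (M.max' hne)) (Finset.card_erase_of_mem (M.max'_mem hne))
    fun a ha => ⟨(h.prop a (Finset.mem_of_mem_erase ha)).1, (h.prop a (Finset.mem_of_mem_erase ha)).2.1⟩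
  have hg := df_gt' (M.card - 3)
  rw [show M.card - 3 + 3 = M.card by omega, show M.card - 3 + 2 = M.card - 1 by omega] at hg
  subst hs hc
  norm_num at h0
  have h1 : (4 * M.card + 2) * M.max' hne ≤ (∏ a ∈ M.erase (M.max' hne), a) * M.max' hne :=
    Nat.mul_le_mul_right _ (by omega)
  have h2 : 7 ≤ M.max' hne := by omega
  nlinarith

theorem two_le_false (hs : s = 2) (hc : c = 3) (h4 : 3 ≤ M.card) : False := by
  have hne : M.Nonempty := Finset.card_pos.1 (by omega)
  have h0 := h.max_bound hne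
  have hw : 2 * M.card + 1 ≤ max (M.max' hne) 1 :=
    card_le_half (fun a ha => ⟨(h.prop a ha).1, (h.prop a ha).2.1⟩) fun a ha => M.le_max' a ha
  have hd := df_le_prod (M.card - 1) (M.erase (M.max' hne)) (Finset.card_erase_of_mem (M.max'_mem hne))
    fun a ha => ⟨(h.prop a (Finset.mem_of_mem_erase ha)).1, (h.prop a (Finset.mem_of_mem_erase ha)).2.1⟩
  have hg := df_gt' (M.card - 3)
  rw [show M.card - 3 + 3 = M.card by omega, show M.card - 3 + 2 = M.card - 1 by omega] at hg
  subst hs hc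
  norm_num at h0
  have h1 : (4 * M.card + 2) * M.max' hne ≤ (∏ a ∈ M.erase (M.max' hne), a) * M.max' hne :=
    Nat.mul_le_mul_right _ (by omega)
  have h2 : 7 ≤ M.max' hne := by omega
  nlinarith

theorem exists_list : ∃ L : List ℕ, L.Pairwise (· < ·) ∧ M.card = L.length ∧ (∀ a, a ∈ M ↔ a ∈ L) ∧
    n = c + (L.map fun a => m a * (a - 1)).sum ∧ L.prod ∣ n ∧ L.Pairwise Nat.Coprime := by
  refine ⟨M.sort (· ≤ ·), ?_, (Finset.length_sort _).symm, fun a => (Finset.mem_sort _).symm, ?_, ?_, ?_⟩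
  · exact List.Pairwise.imp₂ (fun a b hle hne => lt_of_le_of_ne hle hne) (Finset.pairwise_sort _ _)
      (Finset.sort_nodup _ _)
  · rw [← List.sum_toFinset _ (Finset.sort_nodup _ _), Finset.sort_toFinset]
    exact h.sum
  · have e : (M.sort (· ≤ ·)).prod = ∏ a ∈ M, a := by
      conv_rhs => rw [← Finset.sort_toFinset M (r := (· ≤ ·)), List.prod_toFinset _ (Finset.sort_nodup _ _),
        List.map_id']
    rw [e]; exact h.prod
  · exact (Finset.sort_nodup M (· ≤ ·)).pairwise_of_forall_ne fun a ha b hb hne =>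
      h.cop ((Finset.mem_sort _).1 ha) ((Finset.mem_sort _).1 hb) hne

end Arith

set_option maxRecDepth 100000
set_option synthInstance.maxSize 100000
set_option synthInstance.maxHeartbeats 1000000
set_option maxHeartbeats 4000000

/-- The candidates for one member. -/
theorem six_one : ∀ e₁ ∈ [2, 4, 8], ∀ a < 921, 1 < a → a % 2 = 1 → (a - 1) % e₁ = 0 →
    (e₁ * 123 - 64) % a = 0 → okList 64 3 (123 + term 64 (a, e₁)) [(a, e₁)] = false := by
  decide +kernel

/-- The candidates for two members, the second one small. -/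
theorem six_two_small : ∀ e₁ ∈ [2, 4, 8], ∀ e₂ ∈ [2, 4, 8], ∀ a < 66, 1 < a → a % 2 = 1 → (a - 1) % e₁ = 0 →
    ∀ b < 133, a < b → b % 2 = 1 → (e₂ * (123 + term 64 (a, e₁)) - 64) % b = 0 → (b - 1) % e₂ = 0 →
      okList 64 3 (123 + (term 64 (a, e₁) + term 64 (b, e₂))) [(a, e₁), (b, e₂)] = true →
        a = 5 ∧ e₁ = 2 ∧ b = 9 ∧ e₂ = 8 := by
  decide +kernel

/-- The candidates for two members, the second one large. -/
theorem six_two_large : ∀ e₁ ∈ [2, 4, 8], ∀ e₂ ∈ [2, 4, 8], ∀ a < 66, 1 < a → a % 2 = 1 → (a - 1) % e₁ = 0 →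
    ∀ q < 133, 0 < q → (e₂ * (123 + term 64 (a, e₁)) - 64) % q = 0 →
      okList 64 3 (123 + (term 64 (a, e₁) + term 64 ((e₂ * (123 + term 64 (a, e₁)) - 64) / q, e₂)))
        [(a, e₁), ((e₂ * (123 + term 64 (a, e₁)) - 64) / q, e₂)] = true →
      a < (e₂ * (123 + term 64 (a, e₁)) - 64) / q → ((e₂ * (123 + term 64 (a, e₁)) - 64) / q - 1) % e₂ = 0 →
        a = 5 ∧ e₁ = 2 ∧ (e₂ * (123 + term 64 (a, e₁)) - 64) / q = 9 ∧ e₂ = 8 := by
  decide +kernel

/-- Three members, the third one small. -/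
theorem six_three_small : ∀ e₁ ∈ [2, 4, 8], ∀ e₂ ∈ [2, 4, 8], ∀ e₃ ∈ [2, 4, 8], ∀ a < 11, 1 < a → a % 2 = 1 →
    (a - 1) % e₁ = 0 → ∀ b < 38, a < b → b % 2 = 1 → a * b ≤ 113 → Nat.gcd a b = 1 → (b - 1) % e₂ = 0 →
    ∀ w < 133, b < w → w % 2 = 1 → (e₃ * (123 + (term 64 (a, e₁) + term 64 (b, e₂))) - 64) % w = 0 →
      (w - 1) % e₃ = 0 →
      okList 64 3 (123 + (term 64 (a, e₁) + term 64 (b, e₂) + term 64 (w, e₃)))
        [(a, e₁), (b, e₂), (w, e₃)] = false := by
  decide +kernel

/-- Three members, the third one large. -/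
theorem six_three_large : ∀ e₁ ∈ [2, 4, 8], ∀ e₂ ∈ [2, 4, 8], ∀ e₃ ∈ [2, 4, 8], ∀ a < 11, 1 < a → a % 2 = 1 →
    (a - 1) % e₁ = 0 → ∀ b < 38, a < b → b % 2 = 1 → a * b ≤ 113 → Nat.gcd a b = 1 → (b - 1) % e₂ = 0 →
    ∀ q < 133, 0 < q → (e₃ * (123 + (term 64 (a, e₁) + term 64 (b, e₂))) - 64) % q = 0 →
      b < (e₃ * (123 + (term 64 (a, e₁) + term 64 (b, e₂))) - 64) / q →
      ((e₃ * (123 + (term 64 (a, e₁) + term 64 (b, e₂))) - 64) / q - 1) % e₃ = 0 →
      okList 64 3 (123 + (term 64 (a, e₁) + term 64 (b, e₂) +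
          term 64 ((e₃ * (123 + (term 64 (a, e₁) + term 64 (b, e₂))) - 64) / q, e₃)))
        [(a, e₁), (b, e₂), ((e₃ * (123 + (term 64 (a, e₁) + term 64 (b, e₂))) - 64) / q, e₃)] = false := by
  decide +kernel

theorem three_one : ∀ e₁ ∈ [2, 4], ∀ a < 45, 1 < a → a % 2 = 1 → (a - 1) % e₁ = 0 →
    okList 8 5 (13 + term 8 (a, e₁)) [(a, e₁)] = false := by
  decide +kernel

theorem three_two : ∀ e₁ ∈ [2, 4], ∀ e₂ ∈ [2, 4], ∀ a < 8, 1 < a → a % 2 = 1 → (a - 1) % e₁ = 0 →
    ∀ b < 149, a < b → b % 2 = 1 → (b - 1) % e₂ = 0 →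
      okList 8 5 (13 + (term 8 (a, e₁) + term 8 (b, e₂))) [(a, e₁), (b, e₂)] = true →
        a = 5 ∧ e₁ = 2 ∧ b = 9 ∧ e₂ = 4 := by
  decide +kernel

theorem dvd_shift {q e a n0 : ℕ} (he : e ∣ q) (ha : 1 < a) (hd : a ∣ n0 + q / e * (a - 1)) :
    a ∣ e * n0 - q := by
  obtain ⟨k, rfl⟩ := he
  obtain ⟨j, hj⟩ := hd
  rcases Nat.eq_zero_or_pos e with rfl | hepos
  · simp
  rw [Nat.mul_div_cancel_left _ hepos] at hj
  have h1 : e * n0 + e * k * (a - 1) = e * (a * j) := by rw [← hj]; ring
  rcases le_or_gt (e * n0) (e * k) with hle | hlt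
  · rw [Nat.sub_eq_zero_of_le hle]; exact dvd_zero a
  have h2 : a * (e * k) + (e * n0 - e * k) = a * (e * j) := by
    have h3 : e * k * (a - 1) + e * k = a * (e * k) := by
      conv_rhs => rw [show a = (a - 1) + 1 by omega]
      ring
    have h4 : e * (a * j) = a * (e * j) := by ring
    omega
  exact (Nat.dvd_add_right (dvd_mul_right a (e * k))).1 (h2 ▸ dvd_mul_right a (e * j))

theorem Arith.e_six {n : ℕ} {M : Finset ℕ} {e m : ℕ → ℕ} {c : ℕ} (h : Arith 6 c n M e m)
    (he8 : ∀ a ∈ M, e a ≤ 8) {a : ℕ} (ha : a ∈ M) : e a ∈ [2, 4, 8] ∧ e a ∣ 64 ∧ (a - 1) % e a = 0 ∧ a % 2 = 1 := by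
  obtain ⟨-, ho, h1, h2, h3, -⟩ := h.prop a ha
  have h64 : e a ∣ 64 := ⟨m a, by rw [mul_comm]; exact h1.symm⟩
  refine ⟨?_, h64, Nat.mod_eq_zero_of_dvd h3 |> fun x => x, Nat.odd_iff.1 ho⟩
  obtain ⟨k, hk, hek⟩ := (Nat.dvd_prime_pow Nat.prime_two).1 (show e a ∣ 2 ^ 6 from h64)
  have := he8 a ha
  rw [hek] at this h2 ⊢
  interval_cases k <;> simp_all

/-- The case of centralizers of order 64. -/
theorem arith_six {n : ℕ} {M : Finset ℕ} {e m : ℕ → ℕ} (h : Arith 6 123 n M e m) (h3 : 3 ∣ n)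
    (hne : M.Nonempty) (he8 : ∀ a ∈ M, e a ≤ 8) :
    n = 315 ∧ M = {5, 9} ∧ e 5 = 2 ∧ e 9 = 8 := by
  obtain ⟨L, hlt, hlen, hmem, hsum, hprod, hcop⟩ := h.exists_list
  have hP : ∀ a ∈ L, 1 < a ∧ e a ∈ [2, 4, 8] ∧ e a ∣ 64 ∧ (a - 1) % e a = 0 ∧ a % 2 = 1 ∧ 2 * m a ≤ 64 ∧
      term 64 (a, e a) = m a * (a - 1) := fun a ha =>
    ⟨(h.prop a ((hmem a).2 ha)).1, (h.e_six he8 ((hmem a).2 ha)).1, (h.e_six he8 ((hmem a).2 ha)).2.1,
      (h.e_six he8 ((hmem a).2 ha)).2.2.1, (h.e_six he8 ((hmem a).2 ha)).2.2.2, (h.m_le ((hmem a).2 ha)).1,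
      h.term_eq ((hmem a).2 ha)⟩
  match L, hlt, hlen, hmem, hsum, hprod, hcop, hP with
  | [], _, hlen, _, _, _, _, _ => exact absurd hlen (Finset.card_pos.2 hne).ne'
  | [a], _, _, hmem, hsum, hprod, _, hP =>
    obtain ⟨a1, ae, ad, am, ao, -, at'⟩ := hP a (by simp)
    simp only [List.map_cons, List.map_nil, List.sum_cons, List.sum_nil, add_zero, List.prod_cons, List.prod_nil,
      mul_one] at hsum hprod
    rw [← at'] at hsum
    have hd := dvd_shift ad a1 (show a ∣ 123 + term 64 (a, e a) from hsum ▸ hprod)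
    have hlt : a < 921 := by
      have h0 : 0 < e a * 123 - 64 := by
        simp only [List.mem_cons, List.not_mem_nil, or_false] at ae
        omega
      have := Nat.le_of_dvd h0 hd
      have := he8 a ((hmem a).2 (by simp))
      omega
    have := six_one (e a) ae a hlt a1 ao am (Nat.mod_eq_zero_of_dvd hd)
    rw [← hsum] at this
    exact (Bool.false_ne_true (this.symm.trans (h.okList_true h3 [(a, e a)] (by simp [hmem])))).elim
  | [a, b], hlt, hlen, hmem, hsum, hprod, _, hP =>
    obtain ⟨a1, ae, ad, am, ao, am2, at'⟩ := hP a (by simp)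
    obtain ⟨b1, be, bd, bm, bo, bm2, bt⟩ := hP b (by simp)
    have hab : a < b := by simpa using hlt
    simp only [List.map_cons, List.map_nil, List.sum_cons, List.sum_nil, add_zero, List.prod_cons, List.prod_nil,
      mul_one] at hsum hprod
    have hbn : a * b ≤ 123 + 32 * (a + b) := by
      refine (Nat.le_of_dvd (by omega) hprod).trans ?_
      have p1 := Nat.mul_le_mul (show m a ≤ 32 by omega) (Nat.sub_le a 1)
      have p2 := Nat.mul_le_mul (show m b ≤ 32 by omega) (Nat.sub_le b 1)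
      omega
    have ha66 : a < 66 := by
      by_contra hge
      have : 66 * b ≤ a * b := Nat.mul_le_mul_right b (by omega)
      nlinarith [hbn]
    rw [← at', ← bt] at hsum
    set D := e b * (123 + term 64 (a, e a)) - 64 with hD
    have hd : b ∣ D := by
      refine dvd_shift bd b1 ?_
      rw [show (123 + term 64 (a, e a)) + 64 / e b * (b - 1) = 123 + (term 64 (a, e a) + term 64 (b, e b)) by
        simp only [term]; ring, ← hsum]
      exact (dvd_mul_left b a).trans hprod
    have hres : a = 5 ∧ e a = 2 ∧ b = 9 ∧ e b = 8 := by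
      have hok := h.okList_true h3 [(a, e a), (b, e b)] (by simp [hmem])
      rw [hsum] at hok
      obtain ⟨q, hq⟩ := hd
      have hDle : D ≤ 17368 := by
        have h8 := he8 b ((hmem b).2 (by simp))
        have ht : term 64 (a, e a) ≤ 2048 := by rw [at']; exact (Nat.mul_le_mul (show m a ≤ 32 by omega)
          (show a - 1 ≤ 64 by omega))
        have : e b * (123 + term 64 (a, e a)) ≤ 8 * (123 + 2048) := Nat.mul_le_mul h8 (by omega)
        omega
      by_cases hb133 : b < 133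
      · exact six_two_small (e a) ae (e b) be a ha66 a1 ao am b hb133 hab bo
          (by rw [← hD, hq, Nat.mul_mod_right]) bm hok
      · have hq133 : q < 133 := by
          by_contra hge
          have : 133 * 133 ≤ b * q := Nat.mul_le_mul (by omega) (by omega)
          omega
        have hDpos : 0 < D := by
          have h2 : 2 ≤ e b := by
            simp only [List.mem_cons, List.not_mem_nil, or_false] at be
            omega
          have : 2 * 123 ≤ e b * (123 + term 64 (a, e a)) := Nat.mul_le_mul h2 (Nat.le_add_right _ _)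
          omega
        have hq0 : 0 < q := Nat.pos_of_mul_pos_left (hq ▸ hDpos)
        have e1 : D / q = b := by rw [hq, Nat.mul_div_cancel _ hq0]
        have := six_two_large (e a) ae (e b) be a ha66 a1 ao am q hq133 hq0
          (by rw [← hD, hq, Nat.mul_mod_left]) (by rw [← hD, e1]; exact hok) (by rw [← hD, e1]; exact hab)
          (by rw [← hD, e1]; exact bm)
        rwa [← hD, e1] at this
    obtain ⟨rfl, ea, rfl, eb⟩ := hres
    refine ⟨?_, ?_, ea, eb⟩
    · rw [hsum, ea, eb]; rfl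
    · ext x
      rw [hmem]
      simp
  | [a, b, w], hlt, hlen, hmem, hsum, hprod, hcop, hP =>
    exfalso
    obtain ⟨a1, ae, ad, am, ao, am2, at'⟩ := hP a (by simp)
    obtain ⟨b1, be, bd, bm, bo, bm2, bt⟩ := hP b (by simp)
    obtain ⟨w1, we, wd, wm, wo, wm2, wt⟩ := hP w (by simp)
    simp only [List.pairwise_cons, List.mem_cons, List.not_mem_nil, or_false, forall_eq_or_imp, forall_eq] at hlt hcop
    obtain ⟨⟨hab, -⟩, hbw, -⟩ := hlt
    simp only [List.map_cons, List.map_nil, List.sum_cons, List.sum_nil, add_zero, List.prod_cons, List.prod_nil,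
      mul_one] at hsum hprod
    have hwn : a * (b * w) ≤ 123 + 32 * (a + b + w) := by
      refine (Nat.le_of_dvd (by omega) hprod).trans ?_
      have p1 := Nat.mul_le_mul (show m a ≤ 32 by omega) (Nat.sub_le a 1)
      have p2 := Nat.mul_le_mul (show m b ≤ 32 by omega) (Nat.sub_le b 1)
      have p3 := Nat.mul_le_mul (show m w ≤ 32 by omega) (Nat.sub_le w 1)
      omega
    have h113 : a * b ≤ 113 := by
      by_contra hge
      have : 114 * w ≤ a * b * w := Nat.mul_le_mul_right w (by omega)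
      nlinarith [hwn]
    have ha11 : a < 11 := by
      by_contra hge
      have : 11 * 13 ≤ a * b := Nat.mul_le_mul (by omega) (by omega)
      omega
    have hb38 : b < 38 := by
      by_contra hge
      have : 3 * 38 ≤ a * b := Nat.mul_le_mul (by omega) (by omega)
      omega
    rw [← at', ← bt, ← wt, ← add_assoc (term 64 (a, e a))] at hsum
    have hok := h.okList_true h3 [(a, e a), (b, e b), (w, e w)] (by simp [hmem])
    rw [hsum] at hok
    set D := e w * (123 + (term 64 (a, e a) + term 64 (b, e b))) - 64 with hD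
    have hd : w ∣ D := by
      refine dvd_shift wd w1 ?_
      rw [show 123 + (term 64 (a, e a) + term 64 (b, e b)) + 64 / e w * (w - 1) =
        123 + (term 64 (a, e a) + term 64 (b, e b) + term 64 (w, e w)) by simp only [term]; ring, ← hsum]
      exact ((dvd_mul_left w b).trans (dvd_mul_left _ a)).trans hprod
    obtain ⟨q, hq⟩ := hd
    have hDle : D ≤ 17368 := by
      have h8 := he8 w ((hmem w).2 (by simp))
      have ht : term 64 (a, e a) ≤ 320 := by rw [at']; exact (Nat.mul_le_mul (show m a ≤ 32 by omega)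
          (show a - 1 ≤ 10 by omega))
      have ht' : term 64 (b, e b) ≤ 1184 := by rw [bt]; exact (Nat.mul_le_mul (show m b ≤ 32 by omega)
          (show b - 1 ≤ 37 by omega))
      have : e w * (123 + (term 64 (a, e a) + term 64 (b, e b))) ≤ 8 * (123 + (320 + 1184)) :=
        Nat.mul_le_mul h8 (by omega)
      omega
    by_cases hw133 : w < 133
    · have := six_three_small (e a) ae (e b) be (e w) we a ha11 a1 ao am b hb38 hab bo h113 hcop.1.1 bm w hw133
        hbw wo (by rw [← hD, hq, Nat.mul_mod_right]) wm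
      exact absurd (this.symm.trans hok) (by simp)
    · have hq133 : q < 133 := by
        by_contra hge
        have : 133 * 133 ≤ w * q := Nat.mul_le_mul (by omega) (by omega)
        omega
      have hDpos : 0 < D := by
        have h2 : 2 ≤ e w := by
          simp only [List.mem_cons, List.not_mem_nil, or_false] at we
          omega
        have : 2 * 123 ≤ e w * (123 + (term 64 (a, e a) + term 64 (b, e b))) :=
          Nat.mul_le_mul h2 (Nat.le_add_right _ _)
        omega
      have hq0 : 0 < q := Nat.pos_of_mul_pos_left (hq ▸ hDpos)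
      have e1 : D / q = w := by rw [hq, Nat.mul_div_cancel _ hq0]
      have := six_three_large (e a) ae (e b) be (e w) we a ha11 a1 ao am b hb38 hab bo h113 hcop.1.1 bm q hq133
        hq0 (by rw [← hD, hq, Nat.mul_mod_left]) (by rw [← hD, e1]; exact hbw) (by rw [← hD, e1]; exact wm)
      rw [← hD, e1] at this
      exact absurd (this.symm.trans hok) (by simp)
  | [a, b, c, w], hlt, _, hmem, hsum, hprod, hcop, hP =>
    exfalso
    obtain ⟨a1, -, -, -, ao, am2, -⟩ := hP a (by simp)
    obtain ⟨b1, -, -, -, bo, bm2, -⟩ := hP b (by simp)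
    obtain ⟨c1, -, -, -, co, cm2, -⟩ := hP c (by simp)
    obtain ⟨w1, -, -, -, wo, wm2, -⟩ := hP w (by simp)
    simp only [List.pairwise_cons, List.mem_cons, List.not_mem_nil, or_false, forall_eq_or_imp, forall_eq] at hlt hcop
    obtain ⟨⟨hab, -, -⟩, ⟨hbc, -⟩, hcw, -⟩ := hlt
    simp only [List.map_cons, List.map_nil, List.sum_cons, List.sum_nil, add_zero, List.prod_cons, List.prod_nil,
      mul_one] at hsum hprod
    have hwn : a * (b * (c * w)) ≤ 123 + 32 * (a + b + c + w) := by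
      refine (Nat.le_of_dvd (by omega) hprod).trans ?_
      have p1 := Nat.mul_le_mul (show m a ≤ 32 by omega) (Nat.sub_le a 1)
      have p2 := Nat.mul_le_mul (show m b ≤ 32 by omega) (Nat.sub_le b 1)
      have p3 := Nat.mul_le_mul (show m c ≤ 32 by omega) (Nat.sub_le c 1)
      have p4 := Nat.mul_le_mul (show m w ≤ 32 by omega) (Nat.sub_le w 1)
      omega
    have hc10 : c < 10 := by
      by_contra hge
      have h15 : 15 * c ≤ a * b * c := Nat.mul_le_mul_right c
        (show 3 * 5 ≤ a * b from Nat.mul_le_mul (by omega) (by omega))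
      have : 15 * c * w ≤ a * b * c * w := Nat.mul_le_mul_right w h15
      nlinarith [hwn]
    obtain ⟨⟨g1, g2, -⟩, ⟨g3, -⟩, -⟩ := hcop
    have hcases : a = 3 ∧ b = 5 ∧ c = 7 ∨ a = 5 ∧ b = 7 ∧ c = 9 := by
      interval_cases c <;> interval_cases b <;> interval_cases a <;>
        first | omega | exact absurd g2 (by decide) | exact absurd g1 (by decide) | exact absurd g3 (by decide)
    rcases hcases with ⟨rfl, rfl, rfl⟩ | ⟨rfl, rfl, rfl⟩ <;> omega
  | a :: b :: c :: d :: w :: rest, _, hlen, _, _, _, _, _ =>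
    exact (h.four_le_false rfl rfl (by rw [hlen]; simp)).elim

/-- The case of dihedral centralizers of order eight. -/
theorem arith_three {n : ℕ} {M : Finset ℕ} {e m : ℕ → ℕ} (h : Arith 3 13 n M e m) (h5 : 5 ∣ n)
    (he4 : ∀ a ∈ M, e a ≤ 4) : n = 45 ∧ M = {5, 9} ∧ e 5 = 2 ∧ e 9 = 4 := by
  obtain ⟨L, hlt, hlen, hmem, hsum, hprod, -⟩ := h.exists_list
  have hP : ∀ a ∈ L, 1 < a ∧ e a ∈ [2, 4] ∧ e a ∣ 8 ∧ (a - 1) % e a = 0 ∧ a % 2 = 1 ∧ 2 * m a ≤ 8 ∧
      term 8 (a, e a) = m a * (a - 1) := by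
    intro a ha
    have hm := (hmem a).2 ha
    obtain ⟨a1, ho, h1, h2, h3, -⟩ := h.prop a hm
    refine ⟨a1, ?_, ⟨m a, by rw [mul_comm]; exact h1.symm⟩, Nat.mod_eq_zero_of_dvd h3, Nat.odd_iff.1 ho,
      (h.m_le hm).1, h.term_eq hm⟩
    have h8 : e a ∣ 2 ^ 3 := ⟨m a, by rw [mul_comm]; exact h1.symm⟩
    obtain ⟨k, hk, hek⟩ := (Nat.dvd_prime_pow Nat.prime_two).1 h8
    have := he4 a hm
    rw [hek] at this h2 ⊢
    interval_cases k <;> simp_all
  match L, hlt, hlen, hmem, hsum, hprod, hP with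
  | [], _, _, _, hsum, _, _ =>
    simp only [List.map_nil, List.sum_nil, add_zero] at hsum
    omega
  | [a], _, _, hmem, hsum, hprod, hP =>
    obtain ⟨a1, ae, ad, am, ao, -, at'⟩ := hP a (by simp)
    simp only [List.map_cons, List.map_nil, List.sum_cons, List.sum_nil, add_zero, List.prod_cons, List.prod_nil,
      mul_one] at hsum hprod
    rw [← at'] at hsum
    have hd := dvd_shift ad a1 (show a ∣ 13 + term 8 (a, e a) from hsum ▸ hprod)
    have hlt : a < 45 := by
      have h0 : 0 < e a * 13 - 8 := by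
        simp only [List.mem_cons, List.not_mem_nil, or_false] at ae
        omega
      have := Nat.le_of_dvd h0 hd
      have := he4 a ((hmem a).2 (by simp))
      omega
    have := three_one (e a) ae a hlt a1 ao am
    rw [← hsum] at this
    exact (Bool.false_ne_true (this.symm.trans (h.okList_true h5 [(a, e a)] (by simp [hmem])))).elim
  | [a, b], hlt, _, hmem, hsum, hprod, hP =>
    obtain ⟨a1, ae, ad, am, ao, am2, at'⟩ := hP a (by simp)
    obtain ⟨b1, be, bd, bm, bo, bm2, bt⟩ := hP b (by simp)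
    have hab : a < b := by simpa using hlt
    simp only [List.map_cons, List.map_nil, List.sum_cons, List.sum_nil, add_zero, List.prod_cons, List.prod_nil,
      mul_one] at hsum hprod
    have hbn : a * b ≤ 13 + 4 * (a + b) := by
      refine (Nat.le_of_dvd (by omega) hprod).trans ?_
      have p1 := Nat.mul_le_mul (show m a ≤ 4 by omega) (Nat.sub_le a 1)
      have p2 := Nat.mul_le_mul (show m b ≤ 4 by omega) (Nat.sub_le b 1)
      omega
    have ha8 : a < 8 := by
      by_contra hge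
      have : 9 * b ≤ a * b := Nat.mul_le_mul_right b (by omega)
      nlinarith [hbn]
    rw [← at', ← bt] at hsum
    have hb149 : b < 149 := by
      have hd : b ∣ e b * (13 + term 8 (a, e a)) - 8 := by
        refine dvd_shift bd b1 ?_
        rw [show (13 + term 8 (a, e a)) + 8 / e b * (b - 1) = 13 + (term 8 (a, e a) + term 8 (b, e b)) by
          simp only [term]; ring, ← hsum]
        exact (dvd_mul_left b a).trans hprod
      have h4 := he4 b ((hmem b).2 (by simp))
      have ht : term 8 (a, e a) ≤ 24 := by rw [at']; exact (Nat.mul_le_mul (show m a ≤ 4 by omega)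
        (show a - 1 ≤ 6 by omega))
      have h2 : 2 ≤ e b := by
        simp only [List.mem_cons, List.not_mem_nil, or_false] at be
        omega
      have h6 : 2 * 13 ≤ e b * (13 + term 8 (a, e a)) := Nat.mul_le_mul h2 (Nat.le_add_right _ _)
      have h7 : e b * (13 + term 8 (a, e a)) ≤ 4 * (13 + 24) := Nat.mul_le_mul h4 (by omega)
      have := Nat.le_of_dvd (by omega) hd
      omega
    have hok := h.okList_true h5 [(a, e a), (b, e b)] (by simp [hmem])
    rw [hsum] at hok
    obtain ⟨rfl, ea, rfl, eb⟩ := three_two (e a) ae (e b) be a ha8 a1 ao am b hb149 hab bo bm hok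
    refine ⟨?_, ?_, ea, eb⟩
    · rw [hsum, ea, eb]; rfl
    · ext x
      rw [hmem]
      simp
  | a :: b :: c :: rest, _, hlen, _, _, _, _ =>
    exact (h.three_le_false rfl rfl (by rw [hlen]; simp)).elim

/-- The case of four groups as centralizers. -/
theorem arith_two {n : ℕ} {M : Finset ℕ} {e m : ℕ → ℕ} (h : Arith 2 3 n M e m) (he2 : ∀ a ∈ M, e a = 2) :
    n = 3 ∨ n = 15 ∧ M = {3, 5} := by
  obtain ⟨L, hlt, hlen, hmem, hsum, hprod, -⟩ := h.exists_list
  have hm : ∀ a ∈ L, 1 < a ∧ a % 2 = 1 ∧ m a = 2 := by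
    intro a ha
    obtain ⟨a1, ho, h1, -⟩ := h.prop a ((hmem a).2 ha)
    rw [he2 a ((hmem a).2 ha)] at h1
    exact ⟨a1, Nat.odd_iff.1 ho, by norm_num at h1; omega⟩
  match L, hlt, hlen, hmem, hsum, hprod, hm with
  | [], _, _, _, hsum, _, _ =>
    simp only [List.map_nil, List.sum_nil, add_zero] at hsum
    exact Or.inl hsum
  | [a], _, _, _, hsum, hprod, hm =>
    obtain ⟨a1, ao, am⟩ := hm a (by simp)
    simp only [List.map_cons, List.map_nil, List.sum_cons, List.sum_nil, add_zero, List.prod_cons, List.prod_nil,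
      mul_one, am] at hsum hprod
    exfalso
    have h1 : a ∣ 1 := by
      have h2 : n = a * 2 + 1 := by omega
      rw [h2] at hprod
      exact (Nat.dvd_add_right (dvd_mul_right a 2)).1 hprod
    have := Nat.le_of_dvd one_pos h1
    omega
  | [a, b], hlt, _, hmem, hsum, hprod, hm =>
    obtain ⟨a1, ao, am⟩ := hm a (by simp)
    obtain ⟨b1, bo, bm⟩ := hm b (by simp)
    have hab : a < b := by simpa using hlt
    simp only [List.map_cons, List.map_nil, List.sum_cons, List.sum_nil, add_zero, List.prod_cons, List.prod_nil,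
      mul_one, am, bm] at hsum hprod
    have hbn : a * b ≤ n := Nat.le_of_dvd (by omega) hprod
    have ha : a = 3 := by
      by_contra hne
      have : 5 * b ≤ a * b := Nat.mul_le_mul_right b (by omega)
      omega
    subst ha
    have hb : b ≤ 5 := by omega
    have hb5 : b = 5 := by omega
    subst hb5
    exact Or.inr ⟨by omega, Finset.ext fun x => by rw [hmem]; simp⟩
  | a :: b :: c :: rest, _, hlen, _, _, _, _ =>
    exact (h.two_le_false rfl rfl (by rw [hlen]; simp)).elim

end CfsgLib.Invol.SelfCount
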