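import Cfsg.Agent.Lib.Invol.SelfCount
import Cfsg.Agent.Lib.Invol.SelfCountArith

/-!
# The commuting part of the involution count
-/

set_option autoImplicit false
set_option linter.unusedSectionVars false

namespace CfsgLib.Invol.SelfCount

open Subgroup

variable {G : Type*} [Group G] [Finite G] {z : G} {s : ℕ}

namespace Hyp

variable (h : Hyp z s)
include h

theorem centralizer_eq_of_central {w : G} (hw : orderOf w = 2)
    (hc : ∀ x : G, x * z = z * x → x * w = w * x) : centralizer ({z} : Set G) = centralizer ({w} : Set G) :=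
  eq_of_le_of_card_ge (fun x hx => mem_centralizer_singleton_iff.2 (hc x (mem_centralizer_singleton_iff.1 hx)))
    (by rw [h.card_cent hw, h.card])

theorem fiber_central {w : G} (hw : orderOf w = 2) (hc : ∀ x : G, x * z = z * x → x * w = w * x) {i : G}
    (hi : orderOf i = 2) (hwi : w ∈ zpowers (z * i)) : z * i = i * z := by
  obtain ⟨k, hk⟩ := hwi
  have h1 : i * w * i⁻¹ = w⁻¹ := by
    rw [← hk]
    show i * (z * i) ^ k * i⁻¹ = ((z * i) ^ k)⁻¹
    rw [conj_zpow_of_inverts (invol_conj_mul' h.inv hi), zpow_neg]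
  rw [invol_inv hw] at h1
  have : i ∈ centralizer ({z} : Set G) := by
    rw [h.centralizer_eq_of_central hw hc]
    exact mem_centralizer_singleton_iff.2 (mul_inv_eq_iff_eq_mul.1 h1)
  exact (mem_centralizer_singleton_iff.1 this).symm

/-- The number of involutions whose product with `z` has even order. -/
theorem card_even {k : ℕ} (hexp : ∀ x : G, x * z = z * x → x ^ 4 = 1)
    (hk : ∀ y s : G, orderOf y = 2 → y * z = z * y → s * z = z * s → y * s ≠ s * y →
      Nat.card {i : G // i * z = z * i ∧ i * i = 1 ∧ y * i * (y * i) = z} = k) :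
    Nat.card {i : G // orderOf i = 2 ∧ (i = z ∨ Even (orderOf (z * i)))} =
      Nat.card {i : G // orderOf i = 2 ∧ i * z = z * i} +
        k * Nat.card {w : G // orderOf w = 2 ∧ w * z = z * w ∧ ∃ s : G, s * z = z * s ∧ w * s ≠ s * w} := by
  classical
  haveI := Fintype.ofFinite G
  set W := {w : G // orderOf w = 2 ∧ w * z = z * w ∧ ∃ s : G, s * z = z * s ∧ w * s ≠ s * w}
  let K := fun w : G => {i : G // orderOf i = 2 ∧ z * i ≠ i * z ∧ w ∈ zpowers (z * i)}
  have hzz := invol_mul_self h.inv
  have hK : ∀ w : W, Nat.card (K w.1) = k := by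
    rintro ⟨w, hw, hwz, u, huz, huw⟩
    obtain ⟨a, ha⟩ := isConj_iff.1 (h.all w hw)
    have hconj : ∀ x y : G, x * y = y * x ↔ a⁻¹ * x * a * (a⁻¹ * y * a) = a⁻¹ * y * a * (a⁻¹ * x * a) := fun x y => by
      rw [show a⁻¹ * x * a * (a⁻¹ * y * a) = a⁻¹ * (x * y) * a by group,
        show a⁻¹ * y * a * (a⁻¹ * x * a) = a⁻¹ * (y * x) * a by group]
      exact ⟨fun e => by rw [e], fun e => mul_left_cancel (mul_right_cancel e)⟩
    have hwa : a⁻¹ * w * a = z := by rw [← ha]; group
    set y := a⁻¹ * z * a with hy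
    have hyo : orderOf y = 2 := by simpa using invol_conj h.inv a⁻¹
    have hyz : y * z = z * y := by
      have := (hconj z w).1 hwz.symm
      rwa [hwa] at this
    obtain ⟨t, htz, hty⟩ : ∃ t, t * z = z * t ∧ y * t ≠ t * y := by
      by_contra hcon
      push Not at hcon
      have hC := h.centralizer_eq_of_central hyo fun x hx => (hcon x hx).symm
      refine huw ?_
      have h1 : a⁻¹ * u * a ∈ centralizer ({y} : Set G) := mem_centralizer_singleton_iff.2 ((hconj u z).1 huz)
      rw [← hC, mem_centralizer_singleton_iff] at h1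
      refine (hconj w u).2 ?_
      rw [hwa]
      exact h1.symm
    rw [← hk y t hyo hyz htz hty]
    refine Nat.card_congr
      { toFun := fun i => ⟨a⁻¹ * i.1 * a, ?_⟩
        invFun := fun i => ⟨a * i.1 * a⁻¹, ?_⟩
        left_inv := fun i => Subtype.ext (show a * (a⁻¹ * i.1 * a) * a⁻¹ = i.1 by group)
        right_inv := fun i => Subtype.ext (show a⁻¹ * (a * i.1 * a⁻¹) * a = i.1 by group) }
    · obtain ⟨i, hio, hne, hmem⟩ := i
      obtain ⟨m, hm⟩ := hmem
      replace hm : (z * i) ^ m = w := hm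
      have h1 : i * w * i⁻¹ = w⁻¹ := by
        rw [← hm, conj_zpow_of_inverts (invol_conj_mul' h.inv hio), zpow_neg]
      rw [invol_inv hw] at h1
      have hiz : a⁻¹ * i * a * z = z * (a⁻¹ * i * a) := by
        have := (hconj i w).1 (mul_inv_eq_iff_eq_mul.1 h1)
        rwa [hwa] at this
      refine ⟨hiz, ?_, ?_⟩
      · rw [show a⁻¹ * i * a * (a⁻¹ * i * a) = a⁻¹ * (i * i) * a by group, invol_mul_self hio]; group
      · show y * (a⁻¹ * i * a) * (y * (a⁻¹ * i * a)) = z
        set d := y * (a⁻¹ * i * a) with hd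
        have hd4 : d ^ 4 = 1 := hexp d (by
          rw [hd, mul_assoc, hiz, ← mul_assoc, hyz, mul_assoc])
        have hdz : z ∈ zpowers d := ⟨m, by
          show d ^ m = z
          rw [hd, hy, show a⁻¹ * z * a * (a⁻¹ * i * a) = a⁻¹ * (z * i) * a⁻¹⁻¹ by group, conj_zpow, hm, inv_inv,
            hwa]⟩
        have hne2 : d * d ≠ 1 := fun e => hne ((hconj z i).2 (by
          show y * (a⁻¹ * i * a) = a⁻¹ * i * a * y
          have e1 : d⁻¹ = d := inv_eq_of_mul_eq_one_right e
          calc y * (a⁻¹ * i * a) = d⁻¹ := by rw [e1]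
            _ = a⁻¹ * i⁻¹ * a * y⁻¹ := by rw [hd]; group
            _ = _ := by rw [invol_inv hio, invol_inv hyo]))
        refine invol_zpowers_unique (invol_iff.2 ⟨?_, hne2⟩) h.inv
          (mul_mem (mem_zpowers d) (mem_zpowers d)) hdz
        rw [← mul_assoc, ← pow_three', ← pow_succ]
        exact hd4
    · obtain ⟨i, hiz, hi2, hy2⟩ := i
      have hi1 : i ≠ 1 := by
        rintro rfl
        rw [mul_one, invol_mul_self hyo] at hy2
        exact invol_ne_one h.inv hy2.symm
      refine ⟨invol_conj (invol_iff.2 ⟨hi2, hi1⟩) a, fun e => ?_, ⟨2, ?_⟩⟩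
      · have e2 := (hconj z (a * i * a⁻¹)).1 e
        rw [show a⁻¹ * (a * i * a⁻¹) * a = i by group] at e2
        have : y * i * (y * i) = 1 := by
          calc y * i * (y * i) = y * (i * y) * i := by group
            _ = y * (y * i) * i := by rw [← e2]
            _ = 1 := by rw [← mul_assoc y y, invol_mul_self hyo, one_mul, hi2]
        exact invol_ne_one h.inv (hy2.symm.trans this)
      · show (z * (a * i * a⁻¹)) ^ (2 : ℤ) = w
        rw [zpow_two, show z * (a * i * a⁻¹) * (z * (a * i * a⁻¹)) = a * (y * i * (y * i)) * a⁻¹ by rw [hy]; group,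
          hy2, ← hwa]
        group
  have hsplit : Nat.card {i : G // orderOf i = 2 ∧ (i = z ∨ Even (orderOf (z * i)))} =
      Nat.card ({i : G // orderOf i = 2 ∧ i * z = z * i} ⊕ (Σ w : W, K w.1)) := by
    let f : {i : G // orderOf i = 2 ∧ i * z = z * i} ⊕ (Σ w : W, K w.1) →
        {i : G // orderOf i = 2 ∧ (i = z ∨ Even (orderOf (z * i)))}
      | Sum.inl i => ⟨i.1, i.2.1, by
          by_cases e : i.1 = z
          · exact Or.inl e
          right
          rw [show orderOf (z * i.1) = 2 from invol_iff.2 ⟨by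
            calc z * i.1 * (z * i.1) = z * (i.1 * z) * i.1 := by group
              _ = z * z * (i.1 * i.1) := by rw [i.2.2]; group
              _ = 1 := by rw [hzz, invol_mul_self i.2.1, one_mul],
            fun e1 => e ((eq_inv_of_mul_eq_one_left e1).trans (invol_inv i.2.1)).symm⟩]
          exact even_two⟩
      | Sum.inr p => ⟨p.2.1, p.2.2.1, by
          right
          obtain ⟨⟨w, hw, -⟩, ⟨i, -, -, ⟨m, hm⟩⟩⟩ := p
          by_contra ho
          rw [Nat.not_even_iff_odd] at ho
          have hd : orderOf w ∣ orderOf (z * i) := by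
            have hm' : (z * i) ^ m = w := hm
            rw [← hm']
            rw [orderOf_dvd_iff_pow_eq_one, ← zpow_natCast, ← zpow_mul, mul_comm, zpow_mul, zpow_natCast,
              pow_orderOf_eq_one, one_zpow]
          rw [hw] at hd
          exact (Nat.not_even_iff_odd.2 ho) (even_iff_two_dvd.2 hd)⟩
    refine (Nat.card_eq_of_bijective f ⟨?_, ?_⟩).symm
    · rintro (i | ⟨w, i⟩) (i' | ⟨w', i'⟩) e <;> replace e := congrArg Subtype.val e
      · exact congrArg Sum.inl (Subtype.ext e)
      · exact absurd ((show i.1 = i'.1 from e) ▸ i.2.2).symm i'.2.2.1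
      · exact absurd ((show i.1 = i'.1 from e).symm ▸ i'.2.2).symm i.2.2.1
      · obtain ⟨i, hi⟩ := i
        obtain ⟨i', hi'⟩ := i'
        obtain rfl : i = i' := e
        obtain rfl : w = w' := Subtype.ext (invol_zpowers_unique w.2.1 w'.2.1 hi.2.2 hi'.2.2)
        rfl
    · rintro ⟨i, hi, hor⟩
      by_cases hc : i * z = z * i
      · exact ⟨Sum.inl ⟨i, hi, hc⟩, rfl⟩
      have hev : Even (orderOf (z * i)) := hor.resolve_left fun e => hc (by rw [e])
      have hwo := orderOf_pow_half hev
      have hwz : Commute z ((z * i) ^ (orderOf (z * i) / 2)) :=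
        (commute_pow_half (invol_conj_mul h.inv hi) hev).symm |> fun c => by
          first | exact c | exact c.symm
      have hmem : (z * i) ^ (orderOf (z * i) / 2) ∈ zpowers (z * i) := pow_mem (mem_zpowers _) _
      refine ⟨Sum.inr ⟨⟨_, hwo, hwz.eq.symm, ?_⟩, ⟨i, hi, fun e => hc e.symm, hmem⟩⟩, rfl⟩
      by_contra hcen
      push Not at hcen
      exact hc (h.fiber_central hwo (fun x hx => (hcen x hx).symm) hi hmem).symm
  haveI : Fintype W := Fintype.ofFinite W
  rw [hsplit, Nat.card_sum, Nat.card_sigma, Finset.sum_congr rfl (fun w _ => hK w), Finset.sum_const,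
    Finset.card_univ, smul_eq_mul, ← Nat.card_eq_fintype_card, mul_comm k]

/-- The data in the form used by the arithmetic. -/
theorem exists_arith {c : ℕ}
    (hc : Nat.card {i : G // orderOf i = 2 ∧ (i = z ∨ Even (orderOf (z * i)))} = c) :
    ∃ (M : Finset ℕ) (e m : ℕ → ℕ), Arith s c (Nat.card {i : G // orderOf i = 2}) M e m ∧
      (∀ a ∈ M, ∃ A : Subgroup G, IsTor A ∧ Nat.card A = a ∧ A.relIndex (normalizer (A : Set G)) = e a) ∧
      ∀ A : Subgroup G, IsTor A → Nat.card A ∈ M ∧ A.relIndex (normalizer (A : Set G)) = e (Nat.card A) := by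
  obtain ⟨M, e, m, h1, h2, h3, h4, h5⟩ := h.exists_data
  refine ⟨M, e, m, ⟨by rw [h1, hc], fun a ha => ?_, h3, h4⟩, fun a ha => (h2 a ha).2.2.2.2.2.2, h5⟩
  obtain ⟨q1, q2, q3, q4, q5, q6, -⟩ := h2 a ha
  exact ⟨q1, q2, q3, q4, q5, q6⟩

/-- The order of the group. -/
theorem card_group : Nat.card {i : G // orderOf i = 2} * 2 ^ s = Nat.card G := by
  rw [← h.card, ← card_isConj_mul z]
  refine congrArg (· * _) (Nat.card_congr (Equiv.subtypeEquivRight fun y => ?_))
  exact ⟨fun hy => h.all y hy, fun hy => by obtain ⟨g, rfl⟩ := isConj_iff.1 hy; exact invol_conj h.inv g⟩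

/-- The automizer orders are bounded by the subgroups with one involution. -/
theorem relIndex_le {A : Subgroup G} (hA : IsTor A) {b : ℕ}
    (hb : ∀ T : Subgroup G, T ≤ centralizer ({z} : Set G) → (∀ t ∈ T, orderOf t = 2 → t = z) → Nat.card T ≤ b) :
    A.relIndex (normalizer (A : Set G)) ≤ b := by
  obtain ⟨T, h1, -, h3, h4⟩ := h.exists_unique_sub hA
  exact h3 ▸ hb T h1 h4

end Hyp

end CfsgLib.Invol.SelfCount
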