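import Cfsg.Agent.Lib.Invol.InvolCentralizer
import Cfsg.Agent.Lib.Coprime.Solvable
import Mathlib.Algebra.Group.Subgroup.Basic
import Mathlib.GroupTheory.Subgroup.Simple

/-!
# The simple normal subgroup of odd index
-/

set_option autoImplicit false
set_option linter.style.haveILetI false

namespace CfsgLib.Invol

open Subgroup CfsgLib.Fusion

variable {G : Type*} [Group G] [Finite G]

/-- With trivial odd core, one central involution of `S` whose normal closure has odd index gives a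
simple normal subgroup of odd index. -/
theorem exists_simple_normal (S : Sylow 2 G) (hO : Cfsg.oddCore G = ⊥) {t : G}
    (htS : t ∈ (S : Subgroup G)) (ht : orderOf t = 2)
    (huniq : ∀ u : G, u ∈ centerG S → orderOf u = 2 → u = t)
    (hgen : ∀ H : Subgroup G, H.Normal → t ∈ H → (S : Subgroup G) ≤ H)
    (hnab : ∃ a ∈ (S : Subgroup G), ∃ b ∈ (S : Subgroup G), a * b ≠ b * a) :
    ∃ L : Subgroup G, L.Normal ∧ Odd L.index ∧ IsSimpleGroup L ∧ ¬ IsMulCommutative L := by
  haveI : Fact (Nat.Prime 2) := ⟨Nat.prime_two⟩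
  set L := normalClosure ({t} : Set G) with hL
  haveI hLn : L.Normal := normalClosure_normal
  have htL : t ∈ L := subset_normalClosure rfl
  have hSL : (S : Subgroup G) ≤ L := hgen L hLn htL
  have hodd : Odd L.index := Nat.not_even_iff_odd.1 fun he =>
    S.not_dvd_index (he.two_dvd.trans (Subgroup.index_dvd_of_le hSL))
  obtain ⟨a, ha, b, hb, hab⟩ := hnab
  refine ⟨L, hLn, hodd, ?_, fun hc => hab
    (congrArg Subtype.val (hc.is_comm.comm (⟨a, hSL ha⟩ : L) ⟨b, hSL hb⟩))⟩
  haveI : Nontrivial L := ⟨⟨⟨t, htL⟩, 1, fun e => invol_ne_one ht (congrArg Subtype.val e)⟩⟩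
  have hOL : Cfsg.pPrimeCore 2 L = ⊥ := by
    have h := CfsgLib.Coprime.pPrimeCore_map_subtype_eq Nat.prime_two L
    rw [show Cfsg.pPrimeCore 2 G = ⊥ from hO, bot_inf_eq] at h
    exact (Subgroup.map_eq_bot_iff_of_injective _ L.subtype_injective).1 h
  -- every nontrivial normal subgroup of `L` contains `t`
  have key : ∀ M : Subgroup L, M.Normal → M ≠ ⊥ → (⟨t, htL⟩ : L) ∈ M := by
    intro M hM hne
    haveI := hM
    set R := S.subtype hSL
    have he : 2 ∣ Nat.card M := by
      by_contra h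
      exact hne (eq_bot_iff.2 (hOL ▸ CfsgLib.Coprime.le_pPrimeCore_of_not_dvd Nat.prime_two h))
    haveI : Group.IsNilpotent (R : Subgroup L) := R.2.isNilpotent
    set I := M.subgroupOf (R : Subgroup L)
    have hI : I ≠ ⊥ := by
      intro hb'
      refine CfsgLib.Fusion.not_dvd_relIndex_inf_of_normal R M ?_
      rw [show (R : Subgroup L) ⊓ M = ⊥ by
        rw [eq_bot_iff]
        intro u hu
        have : (⟨u, hu.1⟩ : (R : Subgroup L)) ∈ I := mem_subgroupOf.2 hu.2
        rw [hb'] at this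
        exact congrArg Subtype.val (mem_bot.1 this), Subgroup.relIndex_bot_left]
      exact he
    haveI : I.Normal := Subgroup.Normal.subgroupOf hM _
    have hne' := CfsgLib.Coprime.nilpotent_inf_center_ne_bot I hI
    set J := I ⊓ center (R : Subgroup L) with hJ
    obtain ⟨u, hu, huo⟩ : ∃ u ∈ J, orderOf u = 2 := by
      refine exists_invol_mem ?_
      obtain ⟨k, hk⟩ := (R.2.to_subgroup J).exists_card_eq
      rw [hk]
      refine Nat.even_pow.2 ⟨even_two, fun e => ?_⟩
      rw [e, pow_zero, Subgroup.card_eq_one] at hk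
      exact hne' hk
    have hut : ((u : L) : G) = t := by
      refine huniq _ ⟨⟨((u : L) : G), mem_subgroupOf.1 u.2⟩, mem_center_iff.2 fun s => ?_, rfl⟩
        (by rw [Subgroup.orderOf_coe, Subgroup.orderOf_coe]; exact huo)
      have h := mem_center_iff.1 hu.2 ⟨⟨s, hSL s.2⟩, mem_subgroupOf.2 s.2⟩
      exact Subtype.ext (congrArg (fun r : (R : Subgroup L) => ((r : L) : G)) h)
    have h1 := mem_subgroupOf.1 hu.1
    rwa [show (u : L) = ⟨t, htL⟩ from Subtype.ext hut] at h1
  refine ⟨fun M hM => ?_⟩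
  by_cases hne : M = ⊥
  · exact Or.inl hne
  refine Or.inr (eq_top_iff.2 fun u _ => ?_)
  suffices h : L ≤ M.map L.subtype by
    obtain ⟨v, hv, e⟩ := h u.2
    rwa [← Subtype.ext (e : (v : G) = u)]
  refine (Subgroup.closure_le _).2 fun c hc => ?_
  obtain ⟨t', ht', hcc⟩ := Group.mem_conjugatesOfSet_iff.1 hc
  rw [Set.mem_singleton_iff] at ht'
  subst ht'
  obtain ⟨g, rfl⟩ := isConj_iff.1 hcc
  haveI := hM
  have h2 := key (M.comap (MulAut.conjNormal g : MulAut L).toMonoidHom) inferInstance fun e => hne ?_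
  · exact ⟨_, h2, MulAut.conjNormal_apply g _⟩
  · rw [eq_bot_iff]
    intro v hv
    have h3 : (MulAut.conjNormal g : MulAut L).symm v ∈
        M.comap (MulAut.conjNormal g : MulAut L).toMonoidHom := by
      show (MulAut.conjNormal g : MulAut L) _ ∈ M
      rw [MulEquiv.apply_symm_apply]; exact hv
    rw [e, mem_bot] at h3
    rw [mem_bot, ← (MulAut.conjNormal g : MulAut L).apply_symm_apply v, h3, map_one]

/-- Normal subgroups containing the central involution contain `S` (quasidihedral). -/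
theorem QDFrame.sylow_le_of_center_mem {S : Sylow 2 G} {h : ℤ} {a b : (S : Subgroup G)}
    (Q : QDFrame h a b) (h2 : FusedTwo a b h) (h4 : FusedFour a b h) (H : Subgroup G) [H.Normal]
    (ht : rotG a (2 * h) ∈ H) : (S : Subgroup G) ≤ H := by
  have hev : ∀ i : ℤ, 2 ∣ i → refG a b i ∈ H := fun i hi =>
    QDFrame.mem_of_isConj (IsConj.symm ((Q.isConj_refG (i := i) (j := 0)
      (by rw [zero_sub]; exact hi.neg_right)).trans (Q.fusedTwo_iff.1 h2))) ht
  obtain ⟨u, hu⟩ := Q.even
  have hq : rotG a h ∈ H := by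
    rw [show rotG a h = refG a b h * (refG a b 0)⁻¹ by
      rw [← mul_inv_eq_iff_eq_mul.2 (refG_eq a b h 0), add_zero]]
    exact mul_mem (hev h ⟨u, hu⟩) (inv_mem (hev 0 (dvd_zero 2)))
  exact Q.le_of_refs (hev 0 (dvd_zero 2))
    (QDFrame.mem_of_isConj (IsConj.symm (Q.fusedFour_iff.1 h4)) hq)

/-- Normal subgroups containing the central involution contain `S` (wreathed). -/
theorem WrSylow.sylow_le_of_center_mem {S : Sylow 2 G} {m : ℤ} {x y z : (S : Subgroup G)} {N : ℕ}
    (W : WrSylow S m x y z N) (hA : W.FusedA) (hW : W.FusedW) (H : Subgroup G) [H.Normal]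
    (ht : rotW x y m m ∈ H) : (S : Subgroup G) ≤ H := by
  have F := W.frame
  have hw : ∀ i j : ℤ, 2 * m ∣ i + j → outW x y z i j ∈ H := fun i j hij =>
    QDFrame.mem_of_isConj (((IsConj.symm hA).trans (IsConj.symm hW)).trans (F.isConj_invol hij)) ht
  have h1 : rotW x y 1 (-1) ∈ H := by
    have h := mul_mem (hw 1 (-1) (by simp)) (hw 0 0 (by simp))
    rwa [F.outW_mul, add_zero, add_zero] at h
  obtain ⟨n, hn, hne⟩ := W.fusedA_conj hA
  obtain ⟨i, j, hij⟩ := F.mem_baseG.1 ((mem_normalizer_iff.1 hn _).1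
    (F.mem_baseG.2 ⟨1, -1, rfl⟩))
  have hodd : ¬ 2 ∣ i + j := by
    rintro ⟨r, hr⟩
    have e1 : n * rotW x y m m * n⁻¹ = rotW x y (i * m) (j * m) := by
      rw [← F.rotW_zpow, ← hij, conj_zpow, F.rotW_zpow]
      congr 2
      exact F.rotW_eq_iff.2 ⟨⟨0, by ring⟩, ⟨1, by ring⟩⟩
    have hne2 : n * rotW x y m m * n⁻¹ ≠ rotW x y m m := fun e =>
      F.eW_ne_tW (mul_left_cancel (mul_right_cancel (hne.trans e.symm)))
    rcases W.eW_conj_cases ((mem_normalizer_iff.1 hn _).1 W.tW_mem)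
      (invol_conj F.orderOf_tW n) with e | e | e
    · exact hne2 e
    all_goals
      obtain ⟨q1, q2⟩ := F.rotW_eq_iff.1 (e1.symm.trans e)
      refine F.not_dvd_half ?_
      have h3 := dvd_sub (show 2 * m ∣ (i + j) * m from ⟨r, by rw [hr]; ring⟩) (dvd_add q1 q2)
      ring_nf at h3 ⊢
      exact h3
  have hu : rotW x y (i + j) 0 ∈ H := by
    have h := mul_mem (hij ▸ (inferInstance : H.Normal).conj_mem _ h1 n) (zpow_mem h1 j)
    rwa [F.rotW_zpow, F.rotW_mul, show j + -1 * j = 0 by ring, one_mul] at h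
  obtain ⟨k, -, hk⟩ := W.two_pow
  obtain ⟨r, hr⟩ : ∃ r, i + j = 2 * r + 1 := ⟨(i + j) / 2, by omega⟩
  obtain ⟨α, β, hαβ⟩ : IsCoprime (i + j) (2 * m) := by
    rw [← W.hN, hk, Nat.cast_pow]
    refine IsCoprime.pow_right ⟨1, -r, ?_⟩
    rw [hr]; push_cast; ring
  have hx : rotW x y 1 0 ∈ H := by
    have h := zpow_mem hu α
    rwa [F.rotW_zpow, show rotW x y ((i + j) * α) (0 * α) = rotW x y 1 0 from
      F.rotW_eq_iff.2 ⟨⟨-β, by linarith⟩, ⟨0, by ring⟩⟩] at h
  have hy : rotW x y 0 1 ∈ H := by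
    have h := (inferInstance : H.Normal).conj_mem _ hx (outW x y z 0 0)
    rwa [F.outW_conj_rotW] at h
  intro u hu'
  obtain ⟨p, l, rfl | rfl⟩ := F.exists_coords hu'
  · rw [show rotW x y p l = rotW x y 1 0 ^ p * rotW x y 0 1 ^ l by
      rw [F.rotW_zpow, F.rotW_zpow, F.rotW_mul]; congr 1 <;> ring]
    exact mul_mem (zpow_mem hx p) (zpow_mem hy l)
  · rw [show outW x y z p l = rotW x y 1 0 ^ p * rotW x y 0 1 ^ l * outW x y z 0 0 by
      rw [F.rotW_zpow, F.rotW_zpow, F.rotW_mul, F.rotW_mul_outW]; congr 1 <;> ring]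
    exact mul_mem (mul_mem (zpow_mem hx p) (zpow_mem hy l)) (hw 0 0 (by simp))

/-- Quotient by the odd core: a nonabelian simple normal subgroup of odd index. -/
theorem exists_simple_normal_quotient (S : Sylow 2 G)
    (hS : Cfsg.IsQuasiDihedral (S : Subgroup G) ∨ Cfsg.IsWreathed (S : Subgroup G))
    (hG : ∀ H : Subgroup G, H.index ≠ 2) :
    ∃ L : Subgroup (G ⧸ Cfsg.oddCore G), L.Normal ∧ Odd L.index ∧ IsSimpleGroup L ∧
      ¬ IsMulCommutative L := by
  haveI : Fact (Nat.Prime 2) := ⟨Nat.prime_two⟩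
  have hc : (Nat.card (Cfsg.oddCore G)).Coprime 2 := CfsgLib.Coprime.pPrimeCore_coprime Nat.prime_two
  obtain ⟨T, ⟨e⟩⟩ := exists_sylow_quotient_equiv (Cfsg.oddCore G) hc S
  have hO : Cfsg.oddCore (G ⧸ Cfsg.oddCore G) = ⊥ :=
    CfsgLib.Coprime.pPrimeCore_quotient_eq_bot Nat.prime_two
  have hG' : ∀ H : Subgroup (G ⧸ Cfsg.oddCore G), H.index ≠ 2 := fun H hH =>
    hG (H.comap (QuotientGroup.mk' _))
      (by rw [Subgroup.index_comap_of_surjective H (QuotientGroup.mk'_surjective _), hH])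
  rcases hS with hS | hS
  · obtain ⟨k, a, b, -, -, Q⟩ := exists_qdFrame (isQuasiDihedral_congr e hS)
    have h2 : FusedTwo a b ((2 : ℤ) ^ (k - 2)) := by
      by_contra h
      obtain ⟨H, hH, -⟩ := Q.exists_index_two_two h
      exact hG' H hH
    have h4 : FusedFour a b ((2 : ℤ) ^ (k - 2)) := by
      by_contra h
      obtain ⟨H, hH, -⟩ := Q.exists_index_two_four h
      exact hG' H hH
    refine exists_simple_normal T hO (rotG_mem a _) Q.orderOf_centerG (fun u hu huo => ?_)
      (fun H hH ht => by haveI := hH; exact Q.sylow_le_of_center_mem h2 h4 H ht) ?_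
    · exact (Q.centerImg_cases hu).resolve_left (invol_ne_one huo)
    · refine ⟨_, rotG_mem a (2 ^ (k - 2)), _, refG_mem a b 0, fun hh => ?_⟩
      have h6 := Q.rot_ref_commute_iff.1 (Subtype.ext hh)
      have := Q.two_le
      have := Int.le_of_dvd (by omega) h6
      omega
  · obtain ⟨m, x, y, z, N, W⟩ := exists_wrSylow (isWreathed_congr e hS)
    obtain ⟨hA, hW⟩ := W.fused_of_no_index_two hG'
    refine exists_simple_normal T hO (rotW_mem x y m m) W.frame.orderOf_tW (fun u hu huo => ?_)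
      (fun H hH ht => by haveI := hH; exact W.sylow_le_of_center_mem hA hW H ht) ?_
    · obtain ⟨r, rfl⟩ := W.frame.mem_centerMap_iff.1 hu
      rcases W.eW_conj_cases (W.frame.mem_baseG.2 ⟨r, r, rfl⟩) huo with h | h | h
      · exact h
      · exact absurd (W.mem_centerG.1 (h ▸ hu)) (by rw [sub_zero]; exact W.frame.not_dvd_half)
      · exact absurd (W.mem_centerG.1 (h ▸ hu))
          (by rw [zero_sub, dvd_neg]; exact W.frame.not_dvd_half)
    · refine ⟨_, rotW_mem x y m 0, _, outW_mem x y z 0 0, fun hh => ?_⟩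
      exact W.frame.not_dvd_half (by simpa using W.frame.rotW_commute_outW_iff.1 hh)

end CfsgLib.Invol
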