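import Mathlib.LinearAlgebra.Matrix.ToLinearEquiv
import Mathlib.Data.Real.Basic

/-!
# Invariant weights of a self-map family of a finite set
-/

set_option autoImplicit false

open Matrix

namespace CfsgLib.Invol

/-- A family of self-maps of a nonempty finite type has an invariant weight. -/
theorem exists_invariant_weight {ι κ : Type*} [Fintype ι] [DecidableEq ι] [Nonempty ι] [Fintype κ]
    (F : ι → κ → ι) :
    ∃ q : ι → ℝ, (∀ e, 0 ≤ q e) ∧ 0 < ∑ e, q e ∧
      ∀ f, ∑ e, q e * ((Finset.univ.filter fun k => F e k = f).card : ℝ) =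
        (Fintype.card κ : ℝ) * q f := by
  classical
  set N : ℝ := (Fintype.card κ : ℝ) with hN
  set A : Matrix ι ι ℝ := fun e f => ((Finset.univ.filter fun k => F e k = f).card : ℝ) with hA
  have hrow : ∀ e, ∑ f, A e f = N := by
    intro e
    rw [hA, hN, ← Finset.card_univ (α := κ),
      Finset.card_eq_sum_card_fiberwise (f := F e) (t := Finset.univ) (by intro k _; simp)]
    push_cast
    rfl
  have hdet : (A - N • (1 : Matrix ι ι ℝ)).det = 0 := by
    refine exists_mulVec_eq_zero_iff.1 ⟨fun _ => 1, fun h => ?_, ?_⟩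
    · exact one_ne_zero (congrFun h (Classical.arbitrary ι))
    · funext e
      simp [Matrix.sub_mulVec, Matrix.mulVec, dotProduct, Matrix.one_apply, hrow]
  obtain ⟨p, hp0, hp⟩ := exists_vecMul_eq_zero_iff.2 hdet
  have hp' : ∀ f, ∑ e, p e * A e f = N * p f := by
    intro f
    have h := congrFun hp f
    simp only [Matrix.vecMul, dotProduct, Matrix.sub_apply, Matrix.smul_apply, Matrix.one_apply,
      smul_eq_mul, mul_sub, Finset.sum_sub_distrib, Pi.zero_apply] at h
    rw [sub_eq_zero.1 h]
    simp [mul_comm]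
  have hle : ∀ f ∈ Finset.univ, N * |p f| ≤ ∑ e, |p e| * A e f := by
    intro f _
    calc N * |p f| = |N * p f| := by rw [abs_mul, abs_of_nonneg (by positivity : (0 : ℝ) ≤ N)]
      _ = |∑ e, p e * A e f| := by rw [hp' f]
      _ ≤ ∑ e, |p e * A e f| := Finset.abs_sum_le_sum_abs _ _
      _ = ∑ e, |p e| * A e f := Finset.sum_congr rfl fun e _ => by
        rw [abs_mul, abs_of_nonneg (Nat.cast_nonneg _ : (0 : ℝ) ≤ A e f)]
  have htot : ∑ f, N * |p f| = ∑ f, ∑ e, |p e| * A e f := by
    rw [Finset.sum_comm]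
    exact Finset.sum_congr rfl fun e _ => by rw [← Finset.mul_sum, hrow e, mul_comm]
  refine ⟨fun e => |p e|, fun e => abs_nonneg _, ?_,
    fun f => ((Finset.sum_eq_sum_iff_of_le hle).1 htot f (Finset.mem_univ f)).symm⟩
  refine Finset.sum_pos' (fun e _ => abs_nonneg _) ?_
  by_contra h
  refine hp0 (funext fun e => ?_)
  by_contra he
  exact h ⟨e, Finset.mem_univ e, abs_pos.2 he⟩

end CfsgLib.Invol
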