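import Cfsg.Agent.Lib.Invol.TwoClasses
import Mathlib.Algebra.Group.Subgroup.Pointwise

/-!
# TI Sylow 2-subgroups
-/

namespace CfsgLib.Invol

open scoped Pointwise

variable {G : Type*} [Group G] [Finite G]

theorem isConj_of_TI_sylow (T : Sylow 2 G) (hnn : ¬ (T : Subgroup G).Normal)
    (hTI : ∀ g : G, MulAut.conj g • (T : Subgroup G) ≠ T → MulAut.conj g • (T : Subgroup G) ⊓ T = ⊥)
    {s t : G} (hs : orderOf s = 2) (ht : orderOf t = 2) : IsConj s t := by
  classical
  -- two Sylow 2-subgroups sharing an involution coincide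
  have huniq : ∀ (P Q : Sylow 2 G) (u : G), u ≠ 1 → u ∈ P → u ∈ Q → P = Q := by
    intro P Q u hu huP huQ
    obtain ⟨a, rfl⟩ := MulAction.exists_smul_eq G T P
    obtain ⟨b, rfl⟩ := MulAction.exists_smul_eq G T Q
    have hA : ∀ (c : G) (y : G), y ∈ ((c • T : Sylow 2 G) : Subgroup G) ↔ c⁻¹ * y * c ∈ (T : Subgroup G) := by
      intro c y
      rw [Sylow.coe_subgroup_smul, Subgroup.mem_pointwise_smul_iff_inv_smul_mem]
      simp [MulAut.smul_def]
    by_contra hne
    have hne' : MulAut.conj (a⁻¹ * b) • (T : Subgroup G) ≠ T := by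
      intro h
      apply hne
      apply Sylow.ext
      rw [Sylow.coe_subgroup_smul, Sylow.coe_subgroup_smul]
      conv_lhs => rw [← h]
      rw [smul_smul, ← map_mul, mul_inv_cancel_left]
    have hmem : a⁻¹ * u * a ∈ MulAut.conj (a⁻¹ * b) • (T : Subgroup G) ⊓ T := by
      refine ⟨?_, (hA a u).1 huP⟩
      refine Subgroup.mem_pointwise_smul_iff_inv_smul_mem.2 ?_
      have := (hA b u).1 huQ
      simp [MulAut.smul_def, mul_assoc] at this ⊢
      exact this
    rw [hTI _ hne', Subgroup.mem_bot] at hmem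
    apply hu
    calc u = a * (a⁻¹ * u * a) * a⁻¹ := by group
      _ = 1 := by rw [hmem]; group
  have hsyl : ∀ u : G, orderOf u = 2 → ∃ P : Sylow 2 G, u ∈ P := by
    intro u hu
    obtain ⟨P, hP⟩ := (IsPGroup.of_card (n := 1) (G := Subgroup.zpowers u)
      (by rw [Nat.card_zpowers, hu, pow_one])).exists_le_sylow
    exact ⟨P, hP (Subgroup.mem_zpowers u)⟩
  -- commuting involutions share their Sylow subgroup
  have hcomm : ∀ (u z : G), orderOf u = 2 → orderOf z = 2 → Commute u z →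
      ∀ P : Sylow 2 G, u ∈ P → z ∈ P := by
    intro u z hu hz hc P hP
    have hord : orderOf (u * z) ∣ 2 := orderOf_dvd_of_pow_eq_one (by
      rw [hc.mul_pow, pow_two, pow_two, invol_mul_self hu, invol_mul_self hz, one_mul])
    obtain ⟨j, -, hj⟩ := (Nat.dvd_prime_pow Nat.prime_two).1 (show orderOf (u * z) ∣ 2 ^ 1 by simpa using hord)
    obtain ⟨Q, hQ⟩ := (two_group_of_pair hu hz hj).exists_le_sylow
    rw [huniq P Q u (invol_ne_one hu) hP (hQ (Subgroup.subset_closure (by simp)))]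
    exact hQ (Subgroup.subset_closure (by simp))
  by_contra hnc
  obtain ⟨Pt, hPt⟩ := hsyl t ht
  -- every conjugate of `s` lies in `Pt`
  have hall : ∀ g : G, g * s * g⁻¹ ∈ Pt := by
    intro g
    have hso := invol_conj hs g
    obtain ⟨z, hz, hzs, hzt⟩ := exists_invol_commute_both hso ht fun h =>
      hnc ((isConj_iff.2 ⟨g, rfl⟩ : IsConj s (g * s * g⁻¹)).trans h)
    obtain ⟨Ps, hPs⟩ := hsyl _ hso
    have h1 := hcomm _ z hso hz hzs.symm Ps hPs
    have h2 := hcomm t z ht hz hzt.symm Pt hPt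
    rwa [huniq Pt Ps z (invol_ne_one hz) h2 h1]
  obtain ⟨a, ha⟩ := MulAction.exists_smul_eq G Pt T
  apply hnn
  have hfix : ∀ g : G, g • Pt = Pt := by
    intro g
    refine huniq _ _ (g * s * g⁻¹) (invol_ne_one (invol_conj hs g)) ?_ (hall g)
    have h1' : s ∈ Pt := by simpa using hall 1
    have h1 : s ∈ (Pt : Subgroup G) := h1'
    show g * s * g⁻¹ ∈ ((g • Pt : Sylow 2 G) : Subgroup G)
    rw [Sylow.coe_subgroup_smul]
    exact Subgroup.smul_mem_pointwise_smul s (MulAut.conj g) _ h1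
  have hTP : T = Pt := by rw [← ha, hfix]
  have hsub : Subsingleton (Sylow 2 G) := ⟨fun P Q => by
    obtain ⟨b, hb⟩ := MulAction.exists_smul_eq G Pt P
    obtain ⟨c, hc⟩ := MulAction.exists_smul_eq G Pt Q
    rw [← hb, ← hc, hfix, hfix]⟩
  exact Sylow.normal_of_subsingleton T

end CfsgLib.Invol
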