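import Cfsg.Agent.Lib.Invol.HeisFourModel

/-!
# Groups of order `64` with a fixed-point-free symmetric group of degree three
-/

set_option autoImplicit false

namespace CfsgLib.Invol.SymThreeSixtyFour

open Subgroup
open scoped commutatorElement
open CfsgLib.Invol.HeisFour (V fm σ H4)

/-- An automorphism of order dividing three without fixed points on a finite `2`-group. -/
structure Fpf (T : Type*) [Group T] (ρ : MulAut T) : Prop where
  two : IsPGroup 2 T
  cube : ∀ y, ρ (ρ (ρ y)) = y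
  free : ∀ y, ρ y = y → y = 1

variable {T : Type*} [Group T] [Finite T] {ρ : MulAut T}

theorem Fpf.sum (h : Fpf T ρ) (y : T) : y * ρ y * ρ (ρ y) = 1 := by
  have hinj : Function.Injective (fun g : T => g⁻¹ * ρ g) := by
    intro a b e
    have e2 : ρ (b * a⁻¹) = b * a⁻¹ := by
      rw [map_mul, map_inv]
      calc ρ b * (ρ a)⁻¹ = b * (b⁻¹ * ρ b) * (ρ a)⁻¹ := by group
        _ = b * (a⁻¹ * ρ a) * (ρ a)⁻¹ := by rw [show b⁻¹ * ρ b = a⁻¹ * ρ a from e.symm]
        _ = b * a⁻¹ := by group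
    exact (mul_inv_eq_one.1 (h.free _ e2)).symm
  obtain ⟨g, rfl⟩ := Finite.surjective_of_injective hinj y
  simp only [map_mul, map_inv, h.cube]
  group

theorem Fpf.comm (h : Fpf T ρ) (y : T) : y * ρ y = ρ y * y := by
  have h1 := h.sum y
  have h2 := h.sum y⁻¹
  rw [map_inv, map_inv] at h2
  have h3 : y * ρ y = (ρ (ρ y))⁻¹ := eq_inv_of_mul_eq_one_left h1
  have h4 : ρ y * y = (ρ (ρ y))⁻¹ := by
    have e : (ρ (ρ y) * (ρ y * y))⁻¹ = 1 := by rw [← h2]; group
    exact eq_inv_of_mul_eq_one_right (inv_eq_one.1 e)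
  rw [h3, h4]

/-- No fixed points on the quotient by an invariant normal subgroup. -/
theorem Fpf.mem_of_fixed (h : Fpf T ρ) {N : Subgroup T} [N.Normal] (hN : ∀ n ∈ N, ρ n ∈ N) {y : T}
    (hy : y⁻¹ * ρ y ∈ N) : y ∈ N := by
  have e1 : (QuotientGroup.mk (ρ y) : T ⧸ N) = QuotientGroup.mk y := (QuotientGroup.eq.2 hy).symm
  have h2 : (ρ y)⁻¹ * ρ (ρ y) ∈ N := by
    have := hN _ hy
    rwa [map_mul, map_inv] at this
  have e2 : (QuotientGroup.mk (ρ (ρ y)) : T ⧸ N) = QuotientGroup.mk y :=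
    ((QuotientGroup.eq.2 h2).symm).trans e1
  have e3 : (QuotientGroup.mk y : T ⧸ N) ^ 3 = 1 := by
    have := congrArg (fun t : T => (QuotientGroup.mk t : T ⧸ N)) (h.sum y)
    simp only [QuotientGroup.mk_mul, e1, e2, QuotientGroup.mk_one] at this
    rw [pow_succ, pow_two]; exact this
  obtain ⟨k, hk⟩ := h.two.to_quotient N (QuotientGroup.mk y)
  refine (QuotientGroup.eq_one_iff y).1 (orderOf_eq_one_iff.1 (Nat.dvd_one.1 ?_))
  have h5 := Nat.dvd_gcd (orderOf_dvd_of_pow_eq_one hk) (orderOf_dvd_of_pow_eq_one e3)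
  rwa [Nat.Coprime.gcd_eq_one (Nat.Coprime.pow_left k (by norm_num))] at h5

theorem Fpf.center_inv (ρ : MulAut T) {z : T} (hz : z ∈ center T) : ρ z ∈ center T :=
  mem_center_iff.2 fun g => by
    obtain ⟨w, rfl⟩ := ρ.surjective g
    rw [← map_mul, ← map_mul, mem_center_iff.1 hz]

/-- The normal subgroup generated by the centre and an orbit. -/
def orbitSub (ρ : MulAut T) (y : T) : Subgroup T := closure ({y, ρ y} ∪ (center T : Set T))

theorem Fpf.orbitSub_inv (h : Fpf T ρ) (y : T) : ∀ n ∈ orbitSub ρ y, ρ n ∈ orbitSub ρ y := by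
  intro n hn
  induction hn using Subgroup.closure_induction with
  | mem a ha =>
    rcases ha with (rfl | rfl) | ha
    · exact subset_closure (Or.inl (Or.inr rfl))
    · rw [eq_inv_of_mul_eq_one_right (h.sum y)]
      exact inv_mem (mul_mem (subset_closure (Or.inl (Or.inl rfl))) (subset_closure (Or.inl (Or.inr rfl))))
    · exact subset_closure (Or.inr (Fpf.center_inv ρ ha))
  | one => rw [map_one]; exact one_mem _
  | mul a b _ _ iha ihb => rw [map_mul]; exact mul_mem iha ihb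
  | inv a _ iha => rw [map_inv]; exact inv_mem iha

theorem Fpf.orbitSub_comm (h : Fpf T ρ) (y : T) : IsMulCommutative (orbitSub ρ y) := by
  refine Subgroup.isMulCommutative_closure ?_
  have hc : ∀ z ∈ center T, ∀ g : T, z * g = g * z := fun z hz g => (mem_center_iff.1 hz g).symm
  rintro a ((ha | ha) | ha) b ((hb | hb) | hb)
  all_goals first
    | exact hc _ ha _
    | exact (hc _ hb _).symm
    | (rw [show a = _ from ha, show b = _ from hb]; done)
    | (rw [show a = _ from ha, show b = _ from hb]; exact h.comm y)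
    | (rw [show a = _ from ha, show b = _ from hb]; exact (h.comm y).symm)

theorem Fpf.card_center (h : Fpf T ρ) : Nat.card (center T) % 3 = 1 := by
  classical
  haveI := Fintype.ofFinite (center T)
  let σ : Equiv.Perm (center T) :=
    { toFun := fun z => ⟨ρ z, Fpf.center_inv ρ z.2⟩
      invFun := fun z => ⟨ρ.symm z, Fpf.center_inv ρ.symm z.2⟩
      left_inv := fun z => Subtype.ext (by simp)
      right_inv := fun z => Subtype.ext (by simp) }
  haveI : Fact (Nat.Prime 3) := ⟨Nat.prime_three⟩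
  have h3 : σ ^ 3 ^ 1 = 1 := Equiv.ext fun z => Subtype.ext (by
    show ρ (ρ (ρ (z : T))) = z
    exact h.cube _)
  have hfix := Equiv.Perm.card_compl_support_modEq h3
  have hs : σ.supportᶜ = {1} := by
    ext z
    rw [Finset.mem_compl, Equiv.Perm.mem_support, not_not, Finset.mem_singleton]
    refine ⟨fun e => Subtype.ext (h.free _ (congrArg Subtype.val e)), ?_⟩
    rintro rfl
    exact Subtype.ext (map_one ρ)
  rw [hs, Finset.card_singleton] at hfix
  rw [Nat.card_eq_fintype_card]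
  exact hfix.symm

theorem pow_two_of_mod_three {n : ℕ} (h : ∃ k, n = 2 ^ k) (h3 : n % 3 = 1) (hle : n ≤ 64) :
    n = 1 ∨ n = 4 ∨ n = 16 ∨ n = 64 := by
  obtain ⟨k, rfl⟩ := h
  have : k ≤ 6 := by
    by_contra hk
    have : 2 ^ 7 ≤ 2 ^ k := Nat.pow_le_pow_right two_pos (by omega)
    omega
  interval_cases k <;> simp_all

/-- An orbit gives four cosets. -/
theorem Fpf.four_le_relIndex (h : Fpf T ρ) {N W : Subgroup T} [N.Normal] (hN : ∀ n ∈ N, ρ n ∈ N) {f : T}
    (hf : f ∉ N) (hfW : f ∈ W) (hρW : ρ f ∈ W) : 4 ≤ N.relIndex W := by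
  set q : T ⧸ N := QuotientGroup.mk f with hq
  set r : T ⧸ N := QuotientGroup.mk (ρ f) with hr
  have hback : ∀ t : T, ρ t ∈ N → t ∈ N := fun t ht => by
    have := hN _ (hN _ ht)
    rwa [h.cube] at this
  have h1 : q ≠ 1 := fun e => hf ((QuotientGroup.eq_one_iff f).1 e)
  have h2 : r ≠ 1 := fun e => hf (hback f ((QuotientGroup.eq_one_iff _).1 e))
  have h3 : q ≠ r := fun e => hf (h.mem_of_fixed hN (QuotientGroup.eq.1 e))
  have h4 : q * r ≠ 1 := fun e => by
    rw [hq, hr, ← QuotientGroup.mk_mul, QuotientGroup.eq_one_iff, eq_inv_of_mul_eq_one_left (h.sum f),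
      inv_mem_iff] at e
    exact hf (hback f (hback _ e))
  let g : Fin 4 → W := ![1, ⟨f, hfW⟩, ⟨ρ f, hρW⟩, ⟨f * ρ f, mul_mem hfW hρW⟩]
  have hinj : Function.Injective (fun i => (QuotientGroup.mk (g i) : W ⧸ N.subgroupOf W)) := by
    intro i j e
    have e' : (QuotientGroup.mk ((g i : W) : T) : T ⧸ N) = QuotientGroup.mk ((g j : W) : T) :=
      QuotientGroup.eq.2 (mem_subgroupOf.1 (QuotientGroup.eq.1 e))
    fin_cases i <;> fin_cases j <;>
      first
        | rfl
        | (exfalso; simp [g, ← hq, ← hr, h1, h2, h3, h4, Ne.symm h1, Ne.symm h2, Ne.symm h3, Ne.symm h4] at e')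
  have := Nat.card_le_card_of_injective _ hinj
  rwa [Nat.card_fin, ← index_eq_card] at this

/-- If the centre has index four or less the group is abelian. -/
theorem Fpf.comm_of_index (h : Fpf T ρ) (hi : (center T).index ≤ 4) : ∀ a b : T, a * b = b * a := by
  intro a b
  by_contra hne
  have ha : a ∉ center T := fun ha => hne (mem_center_iff.1 ha b).symm
  haveI := h.orbitSub_comm a
  have haM : a ∈ orbitSub ρ a := subset_closure (Or.inl (Or.inl rfl))
  have hρM : ρ a ∈ orbitSub ρ a := subset_closure (Or.inl (Or.inr rfl))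
  have hCM : center T ≤ orbitSub ρ a := fun z hz => subset_closure (Or.inr hz)
  have htop : orbitSub ρ a = ⊤ := by
    refine index_eq_one.1 ?_
    have hfour : 4 ≤ (center T).relIndex (orbitSub ρ a) :=
      h.four_le_relIndex (fun n hn => Fpf.center_inv ρ hn) ha haM hρM
    have hm := relIndex_mul_index hCM
    have hpos : 0 < (orbitSub ρ a).index := Nat.pos_of_ne_zero index_ne_zero_of_finite
    nlinarith
  exact hne (mul_comm_of_mem_isMulCommutative (orbitSub ρ a) (htop ▸ mem_top a) (htop ▸ mem_top b))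

variable (hT : Nat.card T = 64)

include hT in
theorem Fpf.card_center_eq (h : Fpf T ρ) (hna : ¬ IsMulCommutative T) : Nat.card (center T) = 4 := by
  have h1 := h.card_center
  have hle : Nat.card (center T) ≤ 64 := hT ▸ Subgroup.card_le_card_group _
  have hm := (center T).index_mul_card
  rw [hT] at hm
  rcases pow_two_of_mod_three (IsPGroup.iff_card.1 (h.two.to_subgroup _)) h1 hle with e | e | e | e
  · haveI : Nontrivial T := by rw [← Finite.one_lt_card_iff_nontrivial, hT]; omega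
    have := h.two.center_nontrivial
    rw [← Finite.one_lt_card_iff_nontrivial, e] at this
    omega
  · exact e
  · exact absurd ⟨⟨h.comm_of_index (by rw [e] at hm; omega)⟩⟩ hna
  · exact absurd ⟨⟨h.comm_of_index (by rw [e] at hm; omega)⟩⟩ hna

include hT in
theorem Fpf.commutator_mem (h : Fpf T ρ) (hna : ¬ IsMulCommutative T) (a b : T) : ⁅a, b⁆ ∈ center T := by
  have hc := h.card_center_eq hT hna
  have hm := (center T).index_mul_card
  rw [hT, hc] at hm
  let ρ' : MulAut (T ⧸ center T) := QuotientGroup.congr (center T) (center T) ρ (by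
    ext z
    constructor
    · rintro ⟨w, hw, rfl⟩
      exact Fpf.center_inv ρ hw
    · exact fun hz => ⟨ρ.symm z, Fpf.center_inv ρ.symm hz, ρ.apply_symm_apply z⟩)
  have happ : ∀ t : T, ρ' (QuotientGroup.mk t) = QuotientGroup.mk (ρ t) := fun _ => rfl
  have h' : Fpf (T ⧸ center T) ρ' := by
    refine ⟨h.two.to_quotient _, fun q => ?_, fun q hq => ?_⟩
    · induction q using QuotientGroup.induction_on with | _ t => rw [happ, happ, happ, h.cube]
    · induction q using QuotientGroup.induction_on with | _ t =>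
        rw [happ] at hq
        exact (QuotientGroup.eq_one_iff t).2
          (h.mem_of_fixed (fun n hn => Fpf.center_inv ρ hn) (QuotientGroup.eq.1 hq.symm))
  have h16 : Nat.card (T ⧸ center T) = 16 := by rw [← index_eq_card]; omega
  have hcomm : ∀ p q : T ⧸ center T, p * q = q * p := by
    refine h'.comm_of_index ?_
    have h1 := h'.card_center
    have hle : Nat.card (center (T ⧸ center T)) ≤ 16 := h16 ▸ Subgroup.card_le_card_group _
    have hm' := (center (T ⧸ center T)).index_mul_card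
    rw [h16] at hm'
    rcases pow_two_of_mod_three (IsPGroup.iff_card.1 (h'.two.to_subgroup _)) h1 (hle.trans (by norm_num))
      with e | e | e | e
    · haveI : Nontrivial (T ⧸ center T) := by rw [← Finite.one_lt_card_iff_nontrivial, h16]; omega
      have := h'.two.center_nontrivial
      rw [← Finite.one_lt_card_iff_nontrivial, e] at this
      omega
    all_goals (rw [e] at hm'; omega)
  rw [← QuotientGroup.eq_one_iff]
  show (QuotientGroup.mk' (center T)) ⁅a, b⁆ = 1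
  rw [map_commutatorElement, commutatorElement_eq_one_iff_mul_comm]
  exact hcomm _ _

/-- The commutator map into the centre. -/
theorem comm_mul_left (hcl : ∀ a b : T, ⁅a, b⁆ ∈ center T) (a a' b : T) :
    ⁅a * a', b⁆ = ⁅a, b⁆ * ⁅a', b⁆ := by
  have h1 : ⁅a * a', b⁆ = a * ⁅a', b⁆ * a⁻¹ * ⁅a, b⁆ := by simp [commutatorElement_def]; group
  rw [h1, mem_center_iff.1 (hcl a' b) a, mul_inv_cancel_right, mem_center_iff.1 (hcl a b) ⁅a', b⁆]

theorem comm_mul_right (hcl : ∀ a b : T, ⁅a, b⁆ ∈ center T) (a b b' : T) :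
    ⁅a, b * b'⁆ = ⁅a, b⁆ * ⁅a, b'⁆ := by
  have h1 : ⁅a, b * b'⁆ = ⁅a, b⁆ * (b * ⁅a, b'⁆ * b⁻¹) := by simp [commutatorElement_def]; group
  rw [h1, mem_center_iff.1 (hcl a b') b, mul_inv_cancel_right]

theorem Fpf.center_cases (h : Fpf T ρ) (hc : Nat.card (center T) = 4) {b : T} (hb : b ∈ center T)
    (hb1 : b ≠ 1) {z : T} (hz : z ∈ center T) : z = 1 ∨ z = b ∨ z = ρ b ∨ z = ρ (ρ b) := by
  have h1 : ρ b ≠ b := fun e => hb1 (h.free b e)
  have h2 : ρ (ρ b) ≠ b := fun e => h1 (by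
    have := congrArg ρ e
    rw [h.cube] at this
    exact this.symm)
  have h3 : ρ (ρ b) ≠ ρ b := fun e => h1 (ρ.injective e)
  have h4 : ρ b ≠ 1 := fun e => hb1 ((map_eq_one_iff ρ ρ.injective).1 e)
  have h5 : ρ (ρ b) ≠ 1 := fun e => h4 ((map_eq_one_iff ρ ρ.injective).1 e)
  let g : Fin 4 → center T :=
    ![1, ⟨b, hb⟩, ⟨ρ b, Fpf.center_inv ρ hb⟩, ⟨ρ (ρ b), Fpf.center_inv ρ (Fpf.center_inv ρ hb)⟩]
  have hinj : Function.Injective g := by
    intro i j e
    have e' : ((g i : T)) = g j := congrArg Subtype.val e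
    fin_cases i <;> fin_cases j <;>
      first
        | rfl
        | (exfalso; simp [g, hb1, h1, h2, h3, h4, h5, Ne.symm hb1, Ne.symm h1, Ne.symm h2, Ne.symm h3, Ne.symm h4, Ne.symm h5] at e')
  obtain ⟨i, hi⟩ := ((Nat.bijective_iff_injective_and_card g).2 ⟨hinj, by rw [Nat.card_fin, hc]⟩).2 ⟨z, hz⟩
  rw [show z = (g i : T) from (congrArg Subtype.val hi).symm]
  fin_cases i <;> simp [g]

theorem Fpf.center_sq (h : Fpf T ρ) (hc : Nat.card (center T) = 4) : ∀ z ∈ center T, z * z = 1 := by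
  haveI : Fact (Nat.Prime 2) := ⟨Nat.prime_two⟩
  obtain ⟨z₁, hz₁⟩ := exists_prime_orderOf_dvd_card' (G := center T) 2 (by rw [hc]; norm_num)
  have hord : orderOf (z₁ : T) = 2 := by rw [Subgroup.orderOf_coe, hz₁]
  have ha1 : (z₁ : T) ≠ 1 := fun e => by rw [e, orderOf_one] at hord; omega
  have hsq : (z₁ : T) * z₁ = 1 := by rw [← pow_two, ← hord, pow_orderOf_eq_one]
  intro z hz
  rcases h.center_cases hc z₁.2 ha1 hz with rfl | rfl | rfl | rfl
  · rw [one_mul]
  · exact hsq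
  · rw [← map_mul, hsq, map_one]
  · rw [← map_mul, ← map_mul, hsq, map_one, map_one]

theorem Fpf.sq_mem (h : Fpf T ρ) (hcl : ∀ a b : T, ⁅a, b⁆ ∈ center T)
    (hc : Nat.card (center T) = 4) (a : T) : a * a ∈ center T := by
  refine mem_center_iff.2 fun b => ?_
  have h1 : ⁅a * a, b⁆ = 1 := by rw [comm_mul_left hcl, h.center_sq hc _ (hcl a b)]
  exact (commutatorElement_eq_one_iff_mul_comm.1 h1).symm

/-- The symmetric relation between the commutators. -/
theorem Fpf.comm_rho (h : Fpf T ρ) (hcl : ∀ a b : T, ⁅a, b⁆ ∈ center T)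
    (hc : Nat.card (center T) = 4) (y w : T) : ⁅y, ρ w⁆ = ρ (ρ ⁅y, w⁆) := by
  obtain ⟨z0, hz0⟩ : ∃ z, z = ⁅y, w⁆ := ⟨_, rfl⟩
  obtain ⟨z1, hz1⟩ : ∃ z, z = ⁅y, ρ w⁆ := ⟨_, rfl⟩
  rw [← hz0, ← hz1]
  have hm0 : z0 ∈ center T := hz0 ▸ hcl _ _
  have hm1 : z1 ∈ center T := hz1 ▸ hcl _ _
  have hs := h.center_sq hc
  have hi : ∀ z ∈ center T, z⁻¹ = z := fun z hz => inv_eq_of_mul_eq_one_right (hs z hz)
  have hρ : ∀ z ∈ center T, ρ z ∈ center T := fun z hz => Fpf.center_inv ρ hz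
  have hcm : ∀ z ∈ center T, ∀ g : T, z * g = g * z := fun z hz g => (mem_center_iff.1 hz g).symm
  -- `[y, ρ²w]`
  have e2 : ⁅y, ρ (ρ w)⁆ = z0 * z1 := by
    have h1 : ⁅y, w * ρ w * ρ (ρ w)⁆ = 1 := by rw [h.sum w, commutatorElement_one_right]
    rw [comm_mul_right hcl, comm_mul_right hcl, ← hz0, ← hz1] at h1
    rw [eq_inv_of_mul_eq_one_right h1, hi _ (mul_mem hm0 hm1)]
  -- `[ρy, w]`
  have e3 : ⁅ρ y, w⁆ = ρ z0 * ρ z1 := by
    rw [← map_mul, ← e2, map_commutatorElement, h.cube]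
  -- `[ρ²y, w]`
  have e4 : ⁅ρ (ρ y), w⁆ = z0 * (ρ z0 * ρ z1) := by
    have h1 : ⁅y * ρ y * ρ (ρ y), w⁆ = 1 := by rw [h.sum y, commutatorElement_one_left]
    rw [comm_mul_left hcl, comm_mul_left hcl, ← hz0, e3] at h1
    rw [eq_inv_of_mul_eq_one_right h1, hi _ (mul_mem hm0 (mul_mem (hρ _ hm0) (hρ _ hm1)))]
  have e5 : z1 = ρ z0 * (ρ (ρ z0) * ρ (ρ z1)) := by
    rw [← map_mul ρ (ρ z0), ← map_mul, ← e4, map_commutatorElement, h.cube, hz1]
  have e6 : z1 = z0 * ρ (ρ z1) := by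
    have h1 := h.sum z0
    rw [mul_assoc] at h1
    have h2 : ρ z0 * ρ (ρ z0) = z0 := by
      rw [eq_inv_of_mul_eq_one_right h1, hi _ hm0]
    rw [← mul_assoc, h2] at e5
    exact e5
  have e7 : z0 * (ρ z1) = 1 * 1 → ρ z1 = z0 := fun e => by
    rw [one_mul] at e
    rw [eq_inv_of_mul_eq_one_right e, hi _ hm0]
  have e8 : z0 = z1 * ρ (ρ z1) := by
    calc z0 = z0 * (ρ (ρ z1) * ρ (ρ z1)) := by rw [hs _ (hρ _ (hρ _ hm1)), mul_one]
      _ = z1 * ρ (ρ z1) := by rw [← mul_assoc, ← e6]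
  have e9 : z1 * ρ (ρ z1) = ρ z1 := by
    have h1 := h.sum z1
    rw [mul_assoc, hcm _ (hρ _ hm1) (ρ (ρ z1)), ← mul_assoc] at h1
    rw [eq_inv_of_mul_eq_one_left h1, hi _ (hρ _ hm1)]
  rw [e8, e9, h.cube]

/-- The four-group spanned by an orbit. -/
def orbMap (ρ : MulAut T) (f : T) (a : V) : T := f ^ a.1.val * (ρ f) ^ a.2.val

theorem orbMap_add {f : T} (hf : f * f = 1) (hcm : f * ρ f = ρ f * f) (u v : V) :
    orbMap ρ f (u + v) = orbMap ρ f u * orbMap ρ f v := by
  have h1 : ∀ g : T, g * g = 1 → ∀ i j : ZMod 2, g ^ (i + j).val = g ^ i.val * g ^ j.val := by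
    intro g hg i j
    rw [ZMod.val_add, ← pow_add]
    exact (pow_eq_pow_mod _ (by rw [pow_two, hg])).symm
  have hρf : ρ f * ρ f = 1 := by rw [← map_mul, hf, map_one]
  have hc : Commute (f ^ v.1.val) ((ρ f) ^ u.2.val) := Commute.pow_pow hcm _ _
  show f ^ (u.1 + v.1).val * (ρ f) ^ (u.2 + v.2).val = _
  rw [h1 f hf, h1 _ hρf, orbMap, orbMap]
  calc f ^ u.1.val * f ^ v.1.val * ((ρ f) ^ u.2.val * (ρ f) ^ v.2.val)
      = f ^ u.1.val * (f ^ v.1.val * (ρ f) ^ u.2.val) * (ρ f) ^ v.2.val := by simp only [mul_assoc]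
    _ = f ^ u.1.val * ((ρ f) ^ u.2.val * f ^ v.1.val) * (ρ f) ^ v.2.val := by rw [hc.eq]
    _ = _ := by simp only [mul_assoc]

theorem orbMap_one (f : T) : orbMap ρ f ((1 : ZMod 2), 0) = f := by simp [orbMap, ZMod.val_one]

theorem orbMap_omega (f : T) : orbMap ρ f (0, (1 : ZMod 2)) = ρ f := by simp [orbMap, ZMod.val_one]

theorem orbMap_zero (f : T) : orbMap ρ f 0 = 1 := by simp [orbMap]

theorem map_orbMap (x : MulAut T) (hxr : ∀ y, x (ρ y) = ρ (ρ (x y))) {f g : T} (hfg : x f = g)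
    (hg : g * g = 1) (hsum : g * ρ g * ρ (ρ g) = 1) (hcm : g * ρ g = ρ g * g) (u : V) :
    x (orbMap ρ f u) = orbMap ρ g (σ u) := by
  have h2 : ρ (ρ g) = g * ρ g := by
    rw [eq_inv_of_mul_eq_one_right hsum, mul_inv_rev]
    rw [inv_eq_of_mul_eq_one_right hg, inv_eq_of_mul_eq_one_right (show ρ g * ρ g = 1 by
      rw [← map_mul, hg, map_one]), hcm]
  show x (f ^ u.1.val * (ρ f) ^ u.2.val) = _
  rw [map_mul, map_pow, map_pow, hxr, hfg, h2]
  rcases HeisFour.v_cases u with rfl | rfl | rfl | rfl <;>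
    simp [orbMap, σ, ZMod.val_one, show ((1 : ZMod 2) + 1) = 0 from rfl]
  calc g * (g * ρ g) = (g * g) * ρ g := (mul_assoc _ _ _).symm
    _ = ρ g := by rw [hg, one_mul]

/-- Coordinates from two involutions. -/
theorem coordinates (h : Fpf T ρ) (hT : Nat.card T = 64) (hcl : ∀ a b : T, ⁅a, b⁆ ∈ center T)
    (hc : Nat.card (center T) = 4) {y w z₀ : T} (hy : y * y = 1) (hw : w * w = 1)
    (hyw : ⁅y, w⁆ = z₀) (hz1 : z₀ ≠ 1) :
    ∃ e : H4 ≃* T, ∀ p, e p = orbMap ρ w p.b * orbMap ρ y p.a * orbMap ρ.symm z₀ p.c := by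
  have hz : z₀ ∈ center T := hyw ▸ hcl y w
  have hz2 := h.center_sq hc z₀ hz
  have hsymm : ∀ t, ρ.symm t = ρ (ρ t) := fun t => by
    apply ρ.injective
    rw [MulEquiv.apply_symm_apply, h.cube]
  have hcz : z₀ * ρ.symm z₀ = ρ.symm z₀ * z₀ := (mem_center_iff.1 hz _).symm
  have hA := orbMap_add (ρ := ρ) hy (h.comm y)
  have hB := orbMap_add (ρ := ρ) hw (h.comm w)
  have hC := orbMap_add (ρ := ρ.symm) hz2 hcz
  refine HeisFour.exists_equiv hT (orbMap ρ y) (orbMap ρ w) (orbMap ρ.symm z₀) hA hB hC ?_ ?_ ?_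
  · exact fun u t => mem_center_iff.1
      (mul_mem (pow_mem hz _) (pow_mem (Fpf.center_inv ρ.symm hz) _)) t
  · intro u hu
    rcases HeisFour.v_cases u with rfl | rfl | rfl | rfl
    · rfl
    · exact absurd ((orbMap_one (ρ := ρ.symm) z₀).symm.trans hu) hz1
    · exact absurd ((map_eq_one_iff ρ.symm ρ.symm.injective).1 ((orbMap_omega (ρ := ρ.symm) z₀).symm.trans hu)) hz1
    · exfalso
      rw [hC, orbMap_one, orbMap_omega] at hu
      have e : ρ.symm z₀ = z₀ := by
        rw [eq_inv_of_mul_eq_one_right hu, inv_eq_of_mul_eq_one_right hz2]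
      exact hz1 (h.free z₀ (by simpa using (congrArg ρ e).symm))
  · intro u v
    have key : ⁅orbMap ρ y u, orbMap ρ w v⁆ = orbMap ρ.symm z₀ (fm u v) := by
      have hb1 : ⁅y, w⁆ = orbMap ρ.symm z₀ (1, 0) := by rw [orbMap_one, hyw]
      have hb2 : ⁅y, ρ w⁆ = orbMap ρ.symm z₀ (0, 1) := by
        rw [orbMap_omega, h.comm_rho hcl hc, hyw, hsymm]
      have hs0 : z₀ * ρ (ρ z₀) = ρ z₀ := by
        have h2 := h.sum z₀
        rw [mul_assoc, (mem_center_iff.1 (Fpf.center_inv ρ (Fpf.center_inv ρ hz)) (ρ z₀)),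
          ← mul_assoc] at h2
        rw [eq_inv_of_mul_eq_one_left h2]
        exact inv_eq_of_mul_eq_one_right (by rw [← map_mul, hz2, map_one])
      have hb4 : ⁅ρ y, ρ w⁆ = orbMap ρ.symm z₀ ((1, 0) + (0, 1)) := by
        rw [hC, orbMap_one, orbMap_omega, hsymm, hs0, ← map_commutatorElement, hyw]
      have hb3 : ⁅ρ y, w⁆ = orbMap ρ.symm z₀ (0, 1) := by
        rw [orbMap_omega, hsymm]
        have h1 : ρ ⁅y, ρ (ρ w)⁆ = ⁅ρ y, w⁆ := by rw [map_commutatorElement, h.cube]
        rw [← h1, h.comm_rho hcl hc, h.comm_rho hcl hc, hyw, h.cube]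
      have hlin : ∀ a a' : V, ⁅orbMap ρ y (a + a'), orbMap ρ w v⁆ =
          ⁅orbMap ρ y a, orbMap ρ w v⁆ * ⁅orbMap ρ y a', orbMap ρ w v⁆ := fun a a' => by
        rw [hA, comm_mul_left hcl]
      have hpart : ∀ g : T, ∀ a : V, (⁅g, w⁆ = orbMap ρ.symm z₀ (fm a (1, 0))) →
          (⁅g, ρ w⁆ = orbMap ρ.symm z₀ (fm a (0, 1))) → ⁅g, orbMap ρ w v⁆ = orbMap ρ.symm z₀ (fm a v) := by
        intro g a e1 e2
        rcases HeisFour.v_cases v with rfl | rfl | rfl | rfl
        · rw [orbMap_zero, commutatorElement_one_right, HeisFour.fm_zero_right, orbMap_zero]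
        · rw [orbMap_one, e1]
        · rw [orbMap_omega, e2]
        · rw [hB, orbMap_one, orbMap_omega, comm_mul_right hcl, e1, e2, ← hC, HeisFour.fm_add_right]
      have p1 := hpart y (1, 0) (by rw [hb1]; rfl) (by rw [hb2]; rfl)
      have p2 := hpart (ρ y) (0, 1) (by rw [hb3]; rfl) (by rw [hb4]; rfl)
      rcases HeisFour.v_cases u with rfl | rfl | rfl | rfl
      · rw [orbMap_zero, commutatorElement_one_left, HeisFour.fm_zero_left, orbMap_zero]
      · rw [orbMap_one, p1]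
      · rw [orbMap_omega, p2]
      · rw [hlin, orbMap_one, orbMap_omega, p1, p2, ← hC, HeisFour.fm_add_left]
    have hcu : orbMap ρ.symm z₀ (fm u v) ∈ center T :=
      mul_mem (pow_mem hz _) (pow_mem (Fpf.center_inv ρ.symm hz) _)
    rw [← key] at hcu ⊢
    rw [mem_center_iff.1 hcu, commutatorElement_def]
    group

variable {x : MulAut T}

/-- The two shapes. -/
theorem structure_of_frame (h : Fpf T ρ) (hT : Nat.card T = 64) (hcl : ∀ a b : T, ⁅a, b⁆ ∈ center T)
    (hc : Nat.card (center T) = 4) (hxr : ∀ y, x (ρ y) = ρ (ρ (x y))) (hxx : ∀ y, x (x y) = y)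
    (C : Subgroup T) (hC : ∀ y : T, y ∈ C ↔ x y = y) {y w z₀ : T} (hy : y * y = 1) (hw : w * w = 1)
    (hyw : ⁅y, w⁆ = z₀) (hz1 : z₀ ≠ 1) (hxz : x z₀ = z₀)
    (hcase : (x y = y ∧ x w = w) ∨ x y = w) :
    (∃ e : H4 ≃* T, True) ∧ (Nonempty (C ≃* DihedralGroup 4) ∨ Nonempty (C ≃* QuaternionGroup 2)) := by
  obtain ⟨e, he⟩ := coordinates h hT hcl hc hy hw hyw hz1
  refine ⟨⟨e, trivial⟩, ?_⟩
  have hz : z₀ ∈ center T := hyw ▸ hcl y w
  have hz2 := h.center_sq hc z₀ hz
  have hsymm : ∀ t, ρ.symm t = ρ (ρ t) := fun t => by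
    apply ρ.injective
    rw [MulEquiv.apply_symm_apply, h.cube]
  have hxr' : ∀ t, x (ρ.symm t) = ρ.symm (ρ.symm (x t)) := fun t => by
    rw [hsymm, hxr, hxr, hsymm, hsymm, h.cube]
  have hZ : ∀ u, x (orbMap ρ.symm z₀ u) = orbMap ρ.symm z₀ (σ u) := by
    refine map_orbMap x hxr' hxz hz2 ?_ (mem_center_iff.1 hz _).symm
    rw [hsymm, hsymm, h.cube, mul_assoc,
      ← mem_center_iff.1 (Fpf.center_inv ρ (Fpf.center_inv ρ hz)) (ρ z₀), ← mul_assoc]
    exact h.sum z₀
  rcases hcase with ⟨hxy, hxw⟩ | hxy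
  · left
    refine HeisFour.fixed_equiv e x HeisFour.τA (fun p => ?_) _ HeisFour.dihFix_mul HeisFour.dihFix_inj
      HeisFour.dihFix_range C hC
    rw [he, he, map_mul, map_mul, map_orbMap x hxr hxw hw (h.sum w) (h.comm w),
      map_orbMap x hxr hxy hy (h.sum y) (h.comm y), hZ]
    rfl
  · right
    have hxw : x w = y := by rw [← hxy, hxx]
    refine HeisFour.fixed_equiv e x HeisFour.τB (fun p => ?_) _ HeisFour.quatFix_mul HeisFour.quatFix_inj
      HeisFour.quatFix_range C hC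
    rw [he, he, map_mul, map_mul, map_orbMap x hxr hxw hy (h.sum y) (h.comm y),
      map_orbMap x hxr hxy hw (h.sum w) (h.comm w), hZ]
    have key : orbMap ρ y (σ p.b) * orbMap ρ w (σ p.a) =
        orbMap ρ w (σ p.a) * orbMap ρ y (σ p.b) * orbMap ρ.symm z₀ (fm (σ p.b) (σ p.a)) := by
      have h1 := he (⟨σ p.b, 0, 0⟩ * ⟨0, σ p.a, 0⟩)
      rw [map_mul, he, he] at h1
      simp only [HeisFour.mul_def, orbMap_zero, add_zero, zero_add, one_mul, mul_one] at h1
      exact h1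
    show _ = orbMap ρ w (σ p.a) * orbMap ρ y (σ p.b) * orbMap ρ.symm z₀ (σ p.c + fm (σ p.b) (σ p.a))
    rw [key, add_comm, orbMap_add hz2 (mem_center_iff.1 hz _).symm]
    simp only [mul_assoc]

/-- The frame. -/
theorem structure_main (h : Fpf T ρ) (hT : Nat.card T = 64) (hna : ¬ IsMulCommutative T)
    (hxr : ∀ y, x (ρ y) = ρ (ρ (x y))) (hxx : ∀ y, x (x y) = y)
    (C : Subgroup T) (hC : ∀ y : T, y ∈ C ↔ x y = y) :
    (∃ e : H4 ≃* T, True) ∧ (Nonempty (C ≃* DihedralGroup 4) ∨ Nonempty (C ≃* QuaternionGroup 2)) := by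
  have hcl := h.commutator_mem hT hna
  have hc := h.card_center_eq hT hna
  have hs := h.center_sq hc
  have hsq := h.sq_mem hcl hc
  have hcm : ∀ z ∈ center T, ∀ g : T, z * g = g * z := fun z hz g => (mem_center_iff.1 hz g).symm
  have hi : ∀ z ∈ center T, z⁻¹ = z := fun z hz => inv_eq_of_mul_eq_one_right (hs z hz)
  have hrc : ∀ z ∈ center T, ρ z ∈ center T := fun z hz => Fpf.center_inv ρ hz
  have hxc : ∀ z ∈ center T, x z ∈ center T := fun z hz => Fpf.center_inv x hz
  have hρ2 : ∀ z ∈ center T, z * ρ (ρ z) = ρ z ∧ z * ρ z = ρ (ρ z) := by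
    intro z hz
    refine ⟨?_, ?_⟩
    · have h2 := h.sum z
      rw [mul_assoc, ← hcm _ (hrc _ (hrc _ hz)) (ρ z), ← mul_assoc] at h2
      rw [eq_inv_of_mul_eq_one_left h2, hi _ (hrc _ hz)]
    · rw [eq_inv_of_mul_eq_one_left (h.sum z), hi _ (hrc _ (hrc _ hz))]
  -- the fixed central involution
  obtain ⟨z₀, hz₀, hz1, hxz, hfix⟩ : ∃ z₀ ∈ center T, z₀ ≠ 1 ∧ x z₀ = z₀ ∧
      ∀ z ∈ center T, x z = z → z = 1 ∨ z = z₀ := by
    haveI : Nontrivial (center T) := by rw [← Finite.one_lt_card_iff_nontrivial, hc]; omega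
    obtain ⟨⟨a, ha⟩, ha1⟩ := exists_ne (1 : center T)
    have ha1' : a ≠ 1 := fun e => ha1 (Subtype.ext e)
    obtain ⟨b, hb, hb1, hxb⟩ : ∃ b ∈ center T, b ≠ 1 ∧ x b = b := by
      by_cases e : a * x a = 1
      · refine ⟨a, ha, ha1', ?_⟩
        rw [eq_inv_of_mul_eq_one_right e, hi _ ha]
      · refine ⟨a * x a, mul_mem ha (hxc _ ha), e, ?_⟩
        rw [map_mul, hxx, hcm _ (hxc _ ha)]
    refine ⟨b, hb, hb1, hxb, fun z hz hxz => ?_⟩
    have hρb : ρ b ≠ b := fun e => hb1 (h.free b e)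
    rcases h.center_cases hc hb hb1 hz with rfl | rfl | rfl | rfl
    · exact Or.inl rfl
    · exact Or.inr rfl
    · exfalso
      have e : x (ρ b) = ρ b := hxz
      rw [hxr, hxb] at e
      exact hρb (ρ.injective e)
    · exfalso
      have e : x (ρ (ρ b)) = ρ (ρ b) := hxz
      rw [hxr, hxr, hxb, h.cube] at e
      exact hρb (ρ.injective e.symm)
  -- fixed representatives
  have hlift : ∀ g : T, ∃ f, x f = f ∧ (g * x g)⁻¹ * f ∈ center T := by
    intro g
    obtain ⟨k, hk⟩ : ∃ k, k = g * x g := ⟨_, rfl⟩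
    rw [← hk]
    have hck : k⁻¹ * x k ∈ center T := by
      rw [hk, map_mul, hxx, show (g * x g)⁻¹ * (x g * g) = ⁅(x g)⁻¹, g⁻¹⁆ by
        simp [commutatorElement_def, mul_assoc]]
      exact hcl _ _
    have hxk : x (k⁻¹ * x k) = k⁻¹ * x k := by
      rw [map_mul, map_inv, hxx, ← hi _ hck, mul_inv_rev, inv_inv]
      
    rcases hfix _ hck hxk with e | e
    · refine ⟨k, (inv_mul_eq_one.1 e).symm, ?_⟩
      rw [inv_mul_cancel]; exact one_mem _
    · refine ⟨k * ρ z₀, ?_, ?_⟩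
      · rw [map_mul, hxr, hxz, ← mul_inv_cancel_left k (x k), e, mul_assoc, (hρ2 z₀ hz₀).1]
      · rw [inv_mul_cancel_left]; exact hrc _ hz₀
  -- fixed elements outside an invariant subgroup
  have hout : ∀ (N : Subgroup T), center T ≤ N → (∀ n ∈ N, ρ n ∈ N) → N ≠ ⊤ → ∃ f, x f = f ∧ f ∉ N := by
    intro N hZN hN hne
    haveI : N.Normal := ⟨fun n hn g => by
      rw [show g * n * g⁻¹ = ⁅g, n⁆ * n by simp [commutatorElement_def]]
      exact mul_mem (hZN (hcl g n)) hn⟩
    obtain ⟨g, -, hg⟩ := SetLike.exists_of_lt (lt_top_iff_ne_top.2 hne)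
    by_contra hno
    push Not at hno
    have hall : ∀ t : T, (QuotientGroup.mk (x t) : T ⧸ N) = QuotientGroup.mk t := by
      intro t
      obtain ⟨f, hf, hfm⟩ := hlift t
      have h1 : t * x t ∈ N := by
        have := mul_mem (hno f hf) (inv_mem (hZN hfm))
        simpa [mul_assoc] using this
      have h2 : t * t ∈ N := hZN (hsq t)
      rw [QuotientGroup.eq]
      have : (t * x t)⁻¹ * (t * t) ∈ N := mul_mem (inv_mem h1) h2
      simpa [mul_assoc] using this
    have e := hall (ρ g)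
    rw [hxr] at e
    have e2 : (QuotientGroup.mk (ρ (ρ (x g))) : T ⧸ N) = QuotientGroup.mk (ρ (ρ g)) := by
      rw [QuotientGroup.eq]
      have := hN _ (hN _ (QuotientGroup.eq.1 (hall g)))
      simpa only [map_mul, map_inv] using this
    rw [e2, eq_comm, QuotientGroup.eq] at e
    have h3 := h.mem_of_fixed hN e
    have := hN _ (hN _ h3)
    rw [h.cube] at this
    exact hg this
  have hsqf : ∀ f, x f = f → f * f = 1 ∨ f * f = z₀ := fun f hf =>
    hfix _ (hsq f) (by rw [map_mul, hf])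
  obtain ⟨f₁, hf₁, hf₁Z⟩ := hout (center T) le_rfl hrc (fun e => by
    have := congrArg (fun H : Subgroup T => Nat.card H) e
    simp only [Subgroup.card_top] at this
    omega)
  have hL : orbitSub ρ f₁ ≠ ⊤ := fun e => by
    haveI := h.orbitSub_comm f₁
    exact hna ⟨⟨fun a b => mul_comm_of_mem_isMulCommutative (orbitSub ρ f₁) (e ▸ mem_top a) (e ▸ mem_top b)⟩⟩
  obtain ⟨f₂, hf₂, hf₂L⟩ := hout (orbitSub ρ f₁) (fun z hz => subset_closure (Or.inr hz))
    (h.orbitSub_inv f₁) hL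
  -- the commutator is nontrivial
  have hcomm : ⁅f₁, f₂⁆ = z₀ := by
    refine (hfix _ (hcl _ _) (by rw [map_commutatorElement, hf₁, hf₂])).resolve_left fun e => ?_
    -- otherwise the orbit of `f₁` is central
    have h1 : ⁅f₁, ρ f₂⁆ = 1 := by rw [h.comm_rho hcl hc, e, map_one, map_one]
    set M := orbitSub ρ f₁ ⊔ orbitSub ρ f₂ with hM
    have hcz : ∀ n ∈ M, n * f₁ = f₁ * n := by
      suffices M ≤ centralizer ({f₁} : Set T) from fun n hn => mem_centralizer_singleton_iff.1 (this hn)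
      refine sup_le ((closure_le _).2 ?_) ((closure_le _).2 ?_)
      · rintro a ((rfl | rfl) | ha)
        · exact mem_centralizer_singleton_iff.2 rfl
        · exact mem_centralizer_singleton_iff.2 (h.comm f₁).symm
        · exact mem_centralizer_singleton_iff.2 (hcm _ ha _)
      · rintro a ((rfl | rfl) | ha)
        · exact mem_centralizer_singleton_iff.2 (commutatorElement_eq_one_iff_mul_comm.1 e).symm
        · exact mem_centralizer_singleton_iff.2 (commutatorElement_eq_one_iff_mul_comm.1 h1).symm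
        · exact mem_centralizer_singleton_iff.2 (hcm _ ha _)
    have htop : M = ⊤ := by
      by_contra hne
      have hinv : ∀ n ∈ M, ρ n ∈ M := by
        intro n hn
        rw [hM, sup_eq_closure] at hn ⊢
        induction hn using Subgroup.closure_induction with
        | mem a ha =>
          rcases ha with ha | ha
          · exact subset_closure (Or.inl (h.orbitSub_inv f₁ a ha))
          · exact subset_closure (Or.inr (h.orbitSub_inv f₂ a ha))
        | one => rw [map_one]; exact one_mem _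
        | mul a b _ _ iha ihb => rw [map_mul]; exact mul_mem iha ihb
        | inv a _ iha => rw [map_inv]; exact inv_mem iha
      obtain ⟨f₃, hf₃, hf₃M⟩ := hout M (fun z hz => mem_sup_left (subset_closure (Or.inr hz))) hinv hne
      -- the orders exclude a third fixed element
      have hcard : 64 ≤ Nat.card M := by
        have hstep : ∀ (N : Subgroup T), center T ≤ N → (∀ n ∈ N, ρ n ∈ N) → ∀ f : T, f ∉ N →
            4 * Nat.card N ≤ Nat.card (N ⊔ orbitSub ρ f : Subgroup T) := by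
          intro N hZN hN f hf
          haveI : N.Normal := ⟨fun n hn g => by
            rw [show g * n * g⁻¹ = ⁅g, n⁆ * n by simp [commutatorElement_def]]
            exact mul_mem (hZN (hcl g n)) hn⟩
          set W := N ⊔ orbitSub ρ f with hW
          have hfW : f ∈ W := mem_sup_right (subset_closure (Or.inl (Or.inl rfl)))
          have hρW : ρ f ∈ W := mem_sup_right (subset_closure (Or.inl (Or.inr rfl)))
          have : 4 ≤ (N.subgroupOf W).index := h.four_le_relIndex hN hf hfW hρW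
          have h4 := (N.subgroupOf W).index_mul_card
          rw [Nat.card_congr (subgroupOfEquivOfLe (le_sup_left : N ≤ W)).toEquiv] at h4
          rw [← h4]
          exact Nat.mul_le_mul_right _ this
        have e1 := hstep (center T) le_rfl hrc f₁ hf₁Z
        have e2 := hstep (orbitSub ρ f₁) (fun z hz => subset_closure (Or.inr hz)) (h.orbitSub_inv f₁) f₂ hf₂L
        rw [sup_eq_right.2 (show center T ≤ orbitSub ρ f₁ from fun z hz => subset_closure (Or.inr hz)), hc] at e1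
        rw [hM]
        omega
      exact hne (eq_top_of_le_card _ (hT ▸ hcard))
    exact hf₁Z (mem_center_iff.2 fun g => hcz g (htop ▸ mem_top g))
  -- the involutions
  have hcomm' : ⁅f₂, f₁⁆ = z₀ := by rw [← commutatorElement_inv, hcomm, hi _ hz₀]
  have hmul : ∀ a b : T, (a * b) * (a * b) = a * a * (b * b) * ⁅b, a⁆ := fun a b => by
    have h1 : (a * b) * (a * b) = a * ⁅b, a⁆ * (a * (b * b)) := by simp [commutatorElement_def]; group
    rw [h1, ← hcm _ (hcl b a) a, mul_assoc, hcm _ (hcl b a)]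
    simp only [mul_assoc]
  rcases hsqf f₁ hf₁ with s1 | s1 <;> rcases hsqf f₂ hf₂ with s2 | s2
  · exact structure_of_frame h hT hcl hc hxr hxx C hC s1 s2 hcomm hz1 hxz (Or.inl ⟨hf₁, hf₂⟩)
  · refine structure_of_frame h hT hcl hc hxr hxx C hC (y := f₁) (w := f₁ * f₂) s1 ?_ ?_ hz1 hxz
      (Or.inl ⟨hf₁, by rw [map_mul, hf₁, hf₂]⟩)
    · rw [hmul, s1, s2, hcomm', one_mul, hs _ hz₀]
    · rw [comm_mul_right hcl, hcomm, commutatorElement_self, one_mul]
  · refine structure_of_frame h hT hcl hc hxr hxx C hC (y := f₂) (w := f₁ * f₂) s2 ?_ ?_ hz1 hxz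
      (Or.inl ⟨hf₂, by rw [map_mul, hf₁, hf₂]⟩)
    · rw [hmul, s1, s2, hcomm', mul_one, hs _ hz₀]
    · rw [comm_mul_right hcl, hcomm', commutatorElement_self, mul_one]
  · refine structure_of_frame h hT hcl hc hxr hxx C hC (y := f₁ * ρ f₂) (w := f₁ * ρ (ρ f₂)) ?_ ?_ ?_
      hz1 hxz (Or.inr (by rw [map_mul, hxr, hf₁, hf₂]))
    · rw [hmul, s1, ← map_mul, s2, ← commutatorElement_inv, h.comm_rho hcl hc, hcomm,
        hi _ (hrc _ (hrc _ hz₀)), (hρ2 z₀ hz₀).2, hs _ (hrc _ (hrc _ hz₀))]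
    · rw [hmul, s1, ← map_mul, ← map_mul, s2, ← commutatorElement_inv, h.comm_rho hcl hc,
        h.comm_rho hcl hc, hcomm, h.cube, hi _ (hrc _ hz₀), (hρ2 z₀ hz₀).1, hs _ (hrc _ hz₀)]
    · have e1 : ⁅f₁, ρ (ρ f₂)⁆ = ρ z₀ := by rw [h.comm_rho hcl hc, h.comm_rho hcl hc, hcomm, h.cube]
      have e2 : ⁅ρ f₂, f₁⁆ = ρ (ρ z₀) := by
        rw [← commutatorElement_inv, h.comm_rho hcl hc, hcomm, hi _ (hrc _ (hrc _ hz₀))]
      rw [comm_mul_left hcl, comm_mul_right hcl, comm_mul_right hcl, commutatorElement_self, e1, e2,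
        commutatorElement_eq_one_iff_mul_comm.2 (h.comm (ρ f₂)), one_mul, mul_one]
      have h3 := h.sum z₀
      rw [mul_assoc] at h3
      rw [eq_inv_of_mul_eq_one_right h3, hi _ hz₀]

end CfsgLib.Invol.SymThreeSixtyFour
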