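import Cfsg.Agent.Lib.Perm.SylowTwoSelfNorm.Pairs
import Mathlib.GroupTheory.Perm.Cycle.Type
import Mathlib.Dynamics.PeriodicPts.Lemmas

/-!
# Elements of a symmetric group in a unique Sylow `2`-subgroup
-/

set_option autoImplicit false
set_option linter.unusedSectionVars false
set_option linter.style.haveILetI false

namespace CfsgLib.Invol.SymUnique

open Equiv Equiv.Perm CfsgLib.SylTwoSelf
open scoped Classical Pointwise

universe u

variable {α : Type u} [DecidableEq α] [Fintype α] {P : Sylow 2 (Perm α)} {x : Perm α}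

/-- Period of a point. -/
noncomputable def per (x : Perm α) (a : α) : ℕ := Function.minimalPeriod x a

theorem per_pos (x : Perm α) (a : α) : 0 < per x a := by
  refine Function.minimalPeriod_pos_of_mem_periodicPts ⟨orderOf x, orderOf_pos x, ?_⟩
  show (⇑x)^[orderOf x] a = a
  rw [← Equiv.Perm.coe_pow, pow_orderOf_eq_one]
  rfl

theorem pow_fix_iff {a : α} {k : ℕ} : (x ^ k) a = a ↔ per x a ∣ k := by
  rw [per, ← Function.isPeriodicPt_iff_minimalPeriod_dvd, Equiv.Perm.coe_pow]
  rfl

theorem zpow_fix_iff {a : α} {m : ℤ} : (x ^ m) a = a ↔ (per x a : ℤ) ∣ m := by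
  have hd : (per x a : ℤ) ∣ (orderOf x : ℤ) := by
    refine Int.natCast_dvd_natCast.2 (pow_fix_iff.1 ?_)
    rw [pow_orderOf_eq_one]; rfl
  have hpos : (0 : ℤ) < orderOf x := Int.natCast_pos.2 (orderOf_pos x)
  rw [← zpow_mod_orderOf]
  obtain ⟨r, hr⟩ := Int.eq_ofNat_of_zero_le (Int.emod_nonneg m hpos.ne')
  rw [hr, zpow_natCast, pow_fix_iff, ← Int.natCast_dvd_natCast, ← hr, Int.emod_def]
  exact (Int.dvd_iff_dvd_of_dvd_sub (by simpa using dvd_mul_of_dvd_left hd (m / (orderOf x : ℤ)))).symm

theorem per_eq_one_iff {a : α} : per x a = 1 ↔ x a = a := by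
  constructor
  · intro h
    simpa using (pow_fix_iff (x := x) (a := a) (k := 1)).2 (by rw [h])
  · intro h
    exact Nat.dvd_one.1 (pow_fix_iff.1 (by simpa using h))

theorem per_eq_of_commute {g : Perm α} (hg : Commute g x) (a : α) : per x (g a) = per x a := by
  have key : ∀ k : ℕ, (x ^ k) (g a) = g a ↔ (x ^ k) a = a := fun k => by
    rw [show (x ^ k) (g a) = g ((x ^ k) a) from (Perm.congr_fun (hg.pow_right k).eq a).symm]
    exact g.injective.eq_iff
  exact Nat.dvd_antisymm (pow_fix_iff.1 ((key _).2 (pow_fix_iff.2 dvd_rfl)))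
    (pow_fix_iff.1 ((key _).1 (pow_fix_iff.2 dvd_rfl)))

theorem per_zpow (a : α) (m : ℤ) : per x ((x ^ m) a) = per x a :=
  per_eq_of_commute ((Commute.refl x).zpow_left m) a

theorem per_even {k : ℕ} (hx : x ^ 2 ^ k = 1) {a : α} (ha : x a ≠ a) : ∃ h, 0 < h ∧ per x a = 2 * h := by
  obtain ⟨j, -, hj⟩ := (Nat.dvd_prime_pow Nat.prime_two).1
    (pow_fix_iff (x := x) (a := a) (k := 2 ^ k) |>.1 (by rw [hx]; rfl))
  rcases j with _ | j
  · exact absurd (per_eq_one_iff.1 (by simpa using hj)) ha
  · exact ⟨2 ^ j, by positivity, by rw [hj, pow_succ']⟩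

/-- The partner of a point in the pairing of a Sylow subgroup. -/
noncomputable def pairFun (P : Sylow 2 (Perm α)) (a : α) : α :=
  if h : Covered P a then h.choose a else a

theorem pairFun_of_mem {t : Perm α} (ht : t ∈ pairs P) {a : α} (ha : t a ≠ a) : pairFun P a = t a := by
  have h : Covered P a := ⟨t, ht, ha⟩
  rw [pairFun, dif_pos h, pairs_eq_of_moves h.choose_spec.1 ht h.choose_spec.2 ha]

theorem pairFun_of_not {a : α} (h : ¬ Covered P a) : pairFun P a = a := dif_neg h

theorem pairFun_ne {a : α} (h : Covered P a) : pairFun P a ≠ a := by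
  obtain ⟨t, ht, hta⟩ := h
  rw [pairFun_of_mem ht hta]; exact hta

theorem pairFun_inv : Function.Involutive (pairFun P) := by
  intro a
  by_cases h : Covered P a
  · obtain ⟨t, ht, hta⟩ := h
    have htt : t (t a) = a := by rw [← Perm.mul_apply, isSwap_sq ht.2, Perm.one_apply]
    rw [pairFun_of_mem ht hta, pairFun_of_mem ht (by rw [htt]; exact Ne.symm hta), htt]
  · rw [pairFun_of_not h, pairFun_of_not h]

/-- The product of the transpositions of `P`. -/
noncomputable def pairPerm (P : Sylow 2 (Perm α)) : Perm α := pairFun_inv.toPerm (pairFun P)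

theorem pairPerm_apply (a : α) : pairPerm P a = pairFun P a := rfl

theorem pairPerm_fix_unique {a b : α} (ha : pairPerm P a = a) (hb : pairPerm P b = b) : a = b :=
  uncovered_unique (fun h => pairFun_ne h ha) (fun h => pairFun_ne h hb)

theorem pairPerm_mul_self : pairPerm P * pairPerm P = 1 := Perm.ext fun a => pairFun_inv a

theorem pairPerm_commute {g : Perm α} (hg : g ∈ pairStab P) : Commute g (pairPerm P) := by
  refine Perm.ext fun a => ?_
  show g (pairFun P a) = pairFun P (g a)
  by_cases h : Covered P a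
  · obtain ⟨t, ht, hta⟩ := h
    have ht' : g * t * g⁻¹ ∈ pairs P := (hg t).mp ht
    rw [pairFun_of_mem ht hta, pairFun_of_mem ht' (by simpa using hta)]
    simp
  · rw [pairFun_of_not h, pairFun_of_not (mt (covered_apply_iff hg).1 h)]

theorem pairPerm_smul (g : Perm α) : pairPerm (g • P) = g * pairPerm P * g⁻¹ := by
  refine Perm.ext fun a => ?_
  obtain ⟨b, rfl⟩ := g.surjective a
  show pairFun (g • P) (g b) = (g * pairPerm P * g⁻¹) (g b)
  simp only [Perm.mul_apply, Perm.coe_inv, Equiv.symm_apply_apply, pairPerm_apply]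
  have hmem : ∀ t : Perm α, t ∈ pairs P → g * t * g⁻¹ ∈ pairs (g • P) := fun t ht =>
    ⟨Subgroup.smul_mem_pointwise_smul t (MulAut.conj g) _ ht.1, isSwap_conj ht.2 g⟩
  by_cases h : Covered P b
  · obtain ⟨t, ht, htb⟩ := h
    rw [pairFun_of_mem (hmem t ht) (by simpa using htb), pairFun_of_mem ht htb]
    simp
  · rw [pairFun_of_not h, pairFun_of_not]
    rintro ⟨t, ht, htb⟩
    have h2 : g⁻¹ * t * g ∈ pairs P := by
      refine ⟨?_, by simpa using isSwap_conj ht.2 g⁻¹⟩
      have := Subgroup.smul_mem_pointwise_smul t (MulAut.conj g⁻¹) _ ht.1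
      rw [Sylow.coe_subgroup_smul, smul_smul, ← map_mul, inv_mul_cancel, map_one, one_smul] at this
      show g⁻¹ * t * g ∈ (P : Subgroup (Perm α))
      simpa using this
    refine h ⟨_, h2, fun e => htb ?_⟩
    have := congrArg g e
    simpa using this

theorem cycleType_of_invol {s : Perm α} (hs : s * s = 1) (hfix : ∀ a b, s a = a → s b = b → a = b) :
    s.cycleType = Multiset.replicate (Fintype.card α / 2) 2 := by
  have hall : ∀ n ∈ s.cycleType, n = 2 := fun n hn => by
    have h1 := dvd_of_mem_cycleType hn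
    have h2 := two_le_of_mem_cycleType hn
    have h3 : orderOf s ∣ 2 := orderOf_dvd_of_pow_eq_one (by rw [pow_two, hs])
    exact le_antisymm (Nat.le_of_dvd two_pos (h1.trans h3)) h2
  refine Multiset.eq_replicate.2 ⟨?_, hall⟩
  have hsum : s.cycleType.sum = 2 * Multiset.card s.cycleType := by
    conv_lhs => rw [Multiset.eq_replicate_card.2 hall, Multiset.sum_replicate]
    rw [smul_eq_mul, mul_comm]
  rw [sum_cycleType] at hsum
  have hle : Fintype.card α ≤ s.support.card + 1 := by
    rw [← Finset.card_compl_add_card s.support, add_comm]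
    refine Nat.add_le_add_left (Finset.card_le_one.2 fun a ha b hb => hfix a b ?_ ?_) _
    · simpa using ha
    · simpa using hb
  have hle2 : s.support.card ≤ Fintype.card α := Finset.card_le_univ _
  omega

theorem exists_sylow_pairPerm {k : ℕ} (hx : x ^ 2 ^ k = 1) {s : Perm α} (hs : s * s = 1)
    (hfix : ∀ a b, s a = a → s b = b → a = b) (hc : Commute s x) :
    ∃ P : Sylow 2 (Perm α), x ∈ P ∧ pairPerm P = s := by
  haveI : Fact (Nat.Prime 2) := ⟨Nat.prime_two⟩
  obtain ⟨P₀⟩ : Nonempty (Sylow 2 (Perm α)) := inferInstance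
  obtain ⟨g, hg⟩ := isConj_iff.1 (isConj_iff_cycleType_eq.2 (((cycleType_of_invol (s := pairPerm P₀)
    pairPerm_mul_self fun a b => pairPerm_fix_unique).trans (cycleType_of_invol hs hfix).symm)))
  set P₁ := g • P₀ with hP₁
  have hs₁ : pairPerm P₁ = s := by rw [hP₁, pairPerm_smul, hg]
  set C := Subgroup.centralizer ({s} : Set (Perm α)) with hC
  have hPC : (P₁ : Subgroup (Perm α)) ≤ C := fun y hy =>
    Subgroup.mem_centralizer_singleton_iff.2 (hs₁ ▸ pairPerm_commute (le_pairStab hy)).eq
  have hxC : x ∈ C := Subgroup.mem_centralizer_singleton_iff.2 hc.symm.eq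
  have hp : IsPGroup 2 (Subgroup.zpowers (⟨x, hxC⟩ : C)) := by
    refine IsPGroup.of_card (n := ((Nat.dvd_prime_pow Nat.prime_two).1
      (orderOf_dvd_of_pow_eq_one hx)).choose) ?_
    rw [Nat.card_zpowers, ← Subgroup.orderOf_coe]
    exact ((Nat.dvd_prime_pow Nat.prime_two).1 (orderOf_dvd_of_pow_eq_one hx)).choose_spec.2
  obtain ⟨R, hR⟩ := hp.exists_le_sylow
  obtain ⟨c, hcR⟩ := MulAction.exists_smul_eq C (P₁.subtype hPC) R
  refine ⟨(c : Perm α) • P₁, ?_, ?_⟩
  · have h1 := hR (Subgroup.mem_zpowers _)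
    rw [← hcR] at h1
    obtain ⟨w, hw, hwx⟩ := h1
    have e : (c : Perm α) * (w : Perm α) * (c : Perm α)⁻¹ = x := congrArg Subtype.val hwx
    rw [← e]
    exact Subgroup.smul_mem_pointwise_smul (w : Perm α) (MulAut.conj (c : Perm α)) _ hw
  · rw [pairPerm_smul, hs₁, Subgroup.mem_centralizer_singleton_iff.1 c.2, mul_inv_cancel_right]

/-- The combinatorial condition. -/
def Good (x : Perm α) : Prop :=
  (∀ a b, x a ≠ a → x b ≠ b → per x a = per x b → SameCycle x a b) ∧
    ∀ a b c, x a = a → x b = b → x c = c → a = b ∨ a = c ∨ b = c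

theorem pairPerm_moves {g : Perm α} (hg : g ∈ P) {a : α} (ha : g a ≠ a) : pairPerm P a ≠ a := fun h => by
  have hgc := pairPerm_commute (le_pairStab hg)
  have h2 : pairPerm P (g a) = g a := by
    rw [← Perm.mul_apply, ← hgc.eq, Perm.mul_apply, h]
  exact ha (pairPerm_fix_unique h2 h)

theorem pairFun_eq_half {k : ℕ} (hx : x ^ 2 ^ k = 1) (hgood : Good x) (hxP : x ∈ P) {a : α} (ha : x a ≠ a) :
    pairPerm P a = (x ^ (per x a / 2)) a := by
  have hcomm := (pairPerm_commute (le_pairStab hxP)).symm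
  have hsne : pairPerm P a ≠ a := pairPerm_moves hxP ha
  have hsm : x (pairPerm P a) ≠ pairPerm P a := fun h => ha <| (pairPerm P).injective <| by
    rw [← Perm.mul_apply, hcomm.eq, Perm.mul_apply, h]
  obtain ⟨i, hi⟩ := hgood.1 a _ ha hsm (per_eq_of_commute hcomm a).symm
  have h2 : (x ^ (i + i)) a = a := by
    rw [zpow_add, Perm.mul_apply, hi, ← Perm.mul_apply, ← (hcomm.zpow_right i).eq, Perm.mul_apply, hi]
    exact pairFun_inv a
  have hdi : ¬ (per x a : ℤ) ∣ i := fun h => hsne (by rw [← hi]; exact zpow_fix_iff.2 h)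
  obtain ⟨h, hh0, hh⟩ := per_even hx ha
  rw [← hi, hh, Nat.mul_div_cancel_left _ two_pos, ← zpow_natCast]
  have hd2 := zpow_fix_iff.1 h2
  rw [hh] at hd2 hdi
  push_cast at hd2 hdi
  have hhi : (h : ℤ) ∣ i := by
    obtain ⟨e, he⟩ := hd2
    exact ⟨e, by linarith⟩
  obtain ⟨e, rfl⟩ := hhi
  obtain ⟨d, rfl⟩ : ∃ d, e = 2 * d + 1 := by
    rcases Int.even_or_odd e with ⟨d, rfl⟩ | hd
    · exact absurd ⟨d, by ring⟩ hdi
    · exact hd
  rw [show (h : ℤ) * (2 * d + 1) = h + (2 * h : ℤ) * d by ring, zpow_add, Perm.mul_apply]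
  congr 1
  refine zpow_fix_iff.2 ?_
  rw [hh]; push_cast; exact dvd_mul_right _ _

theorem pairPerm_eq_of_good {k : ℕ} (hx : x ^ 2 ^ k = 1) (hgood : Good x) {Q : Sylow 2 (Perm α)}
    (hxP : x ∈ P) (hxQ : x ∈ Q) : pairPerm P = pairPerm Q := by
  refine Perm.ext fun a => ?_
  by_cases ha : x a = a
  swap
  · rw [pairFun_eq_half hx hgood hxP ha, pairFun_eq_half hx hgood hxQ ha]
  have hfixed : ∀ R : Sylow 2 (Perm α), x ∈ R → x (pairPerm R a) = pairPerm R a := fun R hR => by
    rw [← Perm.mul_apply, (pairPerm_commute (le_pairStab hR)).eq, Perm.mul_apply, ha]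
  by_contra hne
  have key : ∀ R S : Sylow 2 (Perm α), x ∈ R → x ∈ S → pairPerm R a ≠ pairPerm S a → pairPerm R a ≠ a → False := by
    intro R S hR hS hne h1
    rcases hgood.2 a _ _ ha (hfixed R hR) (hfixed S hS) with h | h | h
    · exact h1 h.symm
    · -- `a` is fixed in `S` and so is its `R`-partner
      set b := pairPerm R a
      have hSb : pairPerm S b = b := by
        have hb := hfixed R hR
        have hb' : x (pairPerm S b) = pairPerm S b := by
          rw [← Perm.mul_apply, (pairPerm_commute (le_pairStab hS)).eq, Perm.mul_apply, hb]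
        rcases hgood.2 a b _ ha hb hb' with h' | h' | h'
        · exact absurd h'.symm h1
        · exact absurd ((pairPerm S).injective ((h'.symm.trans h))) h1
        · exact h'.symm
      exact h1 (pairPerm_fix_unique hSb h.symm)
    · exact hne h
  by_cases h1 : pairPerm P a = a
  · exact key Q P hxQ hxP (Ne.symm hne) (fun h2 => hne (h1.trans h2.symm))
  · exact key P Q hxP hxQ hne h1

theorem pairs_eq_of_pairPerm {Q : Sylow 2 (Perm α)} (h : pairPerm P = pairPerm Q) : pairs P = pairs Q := by
  have key : ∀ R S : Sylow 2 (Perm α), pairPerm R = pairPerm S → pairs R ⊆ pairs S := by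
    intro R S hRS t ht
    obtain ⟨a, b, hab, rfl⟩ := ht.2
    have hta : swap a b a ≠ a := by rw [swap_apply_left]; exact hab.symm
    have e : pairFun R a = b := by rw [pairFun_of_mem ht hta, swap_apply_left]
    have e' : pairFun S a = b := by rw [← e]; exact (Perm.congr_fun hRS a).symm
    have hcov : Covered S a := by
      by_contra hn
      rw [pairFun_of_not hn] at e'
      exact hab e'
    obtain ⟨u, hu, hua⟩ := hcov
    rw [pairFun_of_mem hu hua] at e'
    have h2 := eq_swap_of_moves hu.2 hua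
    rw [e'] at h2
    exact h2 ▸ hu
  exact Set.Subset.antisymm (key P Q h) (key Q P h.symm)

theorem unique_of_good_aux : ∀ (n : ℕ) (α : Type u) [Fintype α] [DecidableEq α], Fintype.card α = n →
    ∀ (x : Perm α) (k : ℕ), x ^ 2 ^ k = 1 → Good x → ∀ P Q : Sylow 2 (Perm α), x ∈ P → x ∈ Q → P = Q := by
  intro n
  induction n using Nat.strong_induction_on with
  | _ n ih =>
    intro α _ _ hn x k hx hgood P Q hxP hxQ
    haveI : Fact (Nat.Prime 2) := ⟨Nat.prime_two⟩
    rcases isEmpty_or_nonempty α with he | hne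
    · exact Sylow.ext (Subgroup.ext fun g => by simp [Subsingleton.elim g 1])
    have hpe := pairPerm_eq_of_good hx hgood hxP hxQ
    have hpq := pairs_eq_of_pairPerm hpe
    have hQS : (Q : Subgroup (Perm α)) ≤ pairStab P := by
      intro g hg t
      rw [hpq]
      exact le_pairStab hg t
    set f := pairHom P with hf
    have hfs := pairHom_surjective (P := P)
    set P' := P.subtype (le_pairStab (P := P)) with hP'
    set Q' := Q.subtype hQS with hQ'
    have hxS : x ∈ pairStab P := le_pairStab hxP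
    set xs : pairStab P := ⟨x, hxS⟩ with hxs
    have hxbar : (f xs) ^ 2 ^ k = 1 := by
      rw [← map_pow, show xs ^ 2 ^ k = 1 from Subtype.ext (by simpa [hxs] using hx), map_one]
    -- periods in the quotient
    have hconj : ∀ (m : ℕ) (t : pairs P), ((((f xs) ^ m) t : pairs P) : Perm α) = x ^ m * t * (x ^ m)⁻¹ := by
      intro m t
      rw [← map_pow, pairHom_apply, SubgroupClass.coe_pow]
    have hswap : ∀ t : pairs P, ((t : Perm α) = swap (pairPoint t) (pairPerm P (pairPoint t))) := fun t => by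
      rw [pairPerm_apply, pairFun_of_mem t.2 (pairPoint_moved t)]
      exact eq_swap_of_moves t.2.2 (pairPoint_moved t)
    have hfixiff : ∀ (m : ℕ) (t : pairs P), ((f xs) ^ m) t = t ↔
        ((x ^ m) (pairPoint t) = pairPoint t ∨ (x ^ m) (pairPoint t) = pairPerm P (pairPoint t)) := by
      intro m t
      have hm : Commute (x ^ m) (pairPerm P) := (pairPerm_commute hxS).pow_left m
      constructor
      · intro h
        have h1 := (hconj m t).symm.trans (congrArg Subtype.val h)
        have h2 : ((t : Perm α)) ((x ^ m) (pairPoint t)) ≠ (x ^ m) (pairPoint t) := by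
          rw [← h1]
          simpa using pairPoint_moved t
        rw [hswap t] at h2
        by_contra hcon
        push_neg at hcon
        exact h2 (swap_apply_of_ne_of_ne hcon.1 hcon.2)
      · intro h
        refine Subtype.ext ((hconj m t).trans ?_)
        rw [hswap t, conj_swap, show (x ^ m) (pairPerm P (pairPoint t)) = pairPerm P ((x ^ m) (pairPoint t)) from
          Perm.congr_fun hm.eq _]
        rcases h with h | h <;> rw [h]
        rw [show pairPerm P (pairPerm P (pairPoint t)) = pairPoint t from pairFun_inv _, swap_comm]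
    have hhalf : ∀ t : pairs P, x (pairPoint t) ≠ pairPoint t → ∀ m : ℕ,
        (((f xs) ^ m) t = t ↔ per x (pairPoint t) / 2 ∣ m) := by
      intro t ht m
      obtain ⟨h, hh0, hh⟩ := per_even hx ht
      rw [hfixiff, pairFun_eq_half hx hgood hxP ht, hh, Nat.mul_div_cancel_left _ two_pos, pow_fix_iff, hh,
        ← zpow_natCast, ← zpow_natCast]
      have e : (x ^ (m : ℤ)) (pairPoint t) = (x ^ (h : ℤ)) (pairPoint t) ↔ ((2 * h : ℕ) : ℤ) ∣ (m : ℤ) - h := by
        rw [← hh, ← zpow_fix_iff, sub_eq_neg_add, zpow_add, zpow_neg, Perm.mul_apply]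
        constructor
        · intro h'; rw [h', Perm.coe_inv, Equiv.symm_apply_apply]
        · intro h'
          have := congrArg (x ^ (h : ℤ)) h'
          simpa using this
      rw [e]
      constructor
      · rintro (h' | ⟨d, hd⟩)
        · exact (dvd_mul_left h 2).trans h'
        · exact Int.natCast_dvd_natCast.1 ⟨2 * d + 1, by push_cast at hd; linarith⟩
      · rintro ⟨d, rfl⟩
        rcases Nat.even_or_odd d with ⟨e', rfl⟩ | ⟨e', rfl⟩
        · exact Or.inl ⟨e', by ring⟩
        · exact Or.inr ⟨e', by push_cast; ring⟩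
    have hptn : ∀ t : pairs P, f xs t ≠ t → x (pairPoint t) ≠ pairPoint t := fun t ht h => ht (by
      have := (hfixiff 1 t).2 (Or.inl (by simpa using h))
      simpa using this)
    have hperbar : ∀ t : pairs P, x (pairPoint t) ≠ pairPoint t → per (f xs) t = per x (pairPoint t) / 2 :=
      fun t ht => Nat.dvd_antisymm (pow_fix_iff.1 ((hhalf t ht _).2 dvd_rfl))
        ((hhalf t ht _).1 (pow_fix_iff.2 dvd_rfl))
    have hpinj : ∀ t u : pairs P, pairPoint u = pairPoint t ∨ pairPoint u = pairPerm P (pairPoint t) → t = u := by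
      intro t u h
      refine Subtype.ext (pairs_eq_of_moves t.2 u.2 ?_ (pairPoint_moved u))
      rcases h with h | h <;> rw [h]
      · exact pairPoint_moved t
      · rw [pairPerm_apply, pairFun_of_mem t.2 (pairPoint_moved t)]
        exact fun e => pairPoint_moved t ((t : Perm α).injective e)
    have hgood' : Good (f xs) := by
      refine ⟨fun t u ht hu heq => ?_, fun t u v ht hu hv => ?_⟩
      · have ht' := hptn t ht
        have hu' := hptn u hu
        rw [hperbar t ht', hperbar u hu'] at heq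
        obtain ⟨h₁, -, e₁⟩ := per_even hx ht'
        obtain ⟨h₂, -, e₂⟩ := per_even hx hu'
        obtain ⟨i, -, hi⟩ := (hgood.1 _ _ ht' hu' (by omega)).exists_pow_eq'
        refine ⟨(i : ℤ), ?_⟩
        rw [zpow_natCast]
        refine Subtype.ext ((hconj i t).trans ?_)
        refine pairs_eq_of_moves ((pairStab P).pow_mem hxS i t |>.1 t.2) u.2 ?_ (pairPoint_moved u)
        rw [← hi]
        simpa using pairPoint_moved t
      · have key : ∀ t : pairs P, f xs t = t →
            x (pairPoint t) = pairPoint t ∨ per x (pairPoint t) = 2 := by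
          intro t ht
          by_cases h : x (pairPoint t) = pairPoint t
          · exact Or.inl h
          · obtain ⟨h', h0, e⟩ := per_even hx h
            have := (hhalf t h 1).1 (by simpa using ht)
            rw [e, Nat.mul_div_cancel_left _ two_pos, Nat.dvd_one] at this
            exact Or.inr (by omega)
        have hcase : ∀ t u : pairs P, f xs t = t → f xs u = u →
            ((x (pairPoint t) = pairPoint t ∧ x (pairPoint u) = pairPoint u) ∨
              (x (pairPoint t) ≠ pairPoint t ∧ x (pairPoint u) ≠ pairPoint u)) → t = u := by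
          intro t u ht hu h
          apply hpinj
          rcases h with ⟨h1, h2⟩ | ⟨h1, h2⟩
          · have h3 : x (pairPerm P (pairPoint t)) = pairPerm P (pairPoint t) := by
              rw [← Perm.mul_apply, (pairPerm_commute hxS).eq, Perm.mul_apply, h1]
            have h4 : pairPerm P (pairPoint t) ≠ pairPoint t := by
              rw [pairPerm_apply, pairFun_of_mem t.2 (pairPoint_moved t)]
              exact pairPoint_moved t
            rcases hgood.2 _ _ _ h1 h3 h2 with h' | h' | h'
            · exact absurd h'.symm h4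
            · exact Or.inl h'.symm
            · exact Or.inr h'.symm
          · have e1 := (key t ht).resolve_left h1
            have e2 := (key u hu).resolve_left h2
            obtain ⟨i, -, hi⟩ := (hgood.1 _ _ h1 h2 (e1.trans e2.symm)).exists_pow_eq'
            rw [pairFun_eq_half hx hgood hxP h1, e1, ← hi]
            rcases Nat.even_or_odd i with ⟨j, rfl⟩ | ⟨j, rfl⟩
            · exact Or.inl (pow_fix_iff.2 (e1 ▸ ⟨j, by ring⟩))
            · right
              rw [show 2 * j + 1 = 1 + 2 * j by ring, pow_add, Perm.mul_apply,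
                (pow_fix_iff (x := x) (a := pairPoint t) (k := 2 * j)).2 (e1 ▸ ⟨j, rfl⟩)]
        by_cases hta : x (pairPoint t) = pairPoint t <;> by_cases hub : x (pairPoint u) = pairPoint u <;>
          by_cases hvc : x (pairPoint v) = pairPoint v <;>
          first
            | exact Or.inl (hcase t u ht hu (Or.inl ⟨hta, hub⟩))
            | exact Or.inl (hcase t u ht hu (Or.inr ⟨hta, hub⟩))
            | exact Or.inr (Or.inl (hcase t v ht hv (Or.inl ⟨hta, hvc⟩)))
            | exact Or.inr (Or.inl (hcase t v ht hv (Or.inr ⟨hta, hvc⟩)))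
            | exact Or.inr (Or.inr (hcase u v hu hv (Or.inl ⟨hub, hvc⟩)))
            | exact Or.inr (Or.inr (hcase u v hu hv (Or.inr ⟨hub, hvc⟩)))
    haveI : Finite (pairs P) := inferInstance
    haveI : Fintype (pairs P) := Fintype.ofFinite _
    have hlt : Fintype.card (pairs P) < n := by
      rw [← hn, ← Nat.card_eq_fintype_card]; exact card_pairs_lt
    have himg : P'.mapSurjective hfs = Q'.mapSurjective hfs :=
      ih _ hlt (pairs P) rfl (f xs) k hxbar hgood' _ _
        (by
          show f xs ∈ ((P'.mapSurjective hfs : Sylow 2 _) : Subgroup _)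
          rw [Sylow.coe_mapSurjective]; exact ⟨xs, hxP, rfl⟩)
        (by
          show f xs ∈ ((Q'.mapSurjective hfs : Sylow 2 _) : Subgroup _)
          rw [Sylow.coe_mapSurjective]; exact ⟨xs, hxQ, rfl⟩)
    have hker : f.ker ≤ (Q' : Subgroup (pairStab P)) := by
      have hk : IsPGroup 2 f.ker := fun g => ⟨1, Subtype.ext (Subtype.ext (by
        simpa [pow_two] using mul_self_of_pairHom_eq_one (MonoidHom.mem_ker.1 g.2)))⟩
      have hsup : IsPGroup 2 ((Q' : Subgroup (pairStab P)) ⊔ f.ker : Subgroup (pairStab P)) :=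
        Q'.2.to_sup_of_normal_right hk
      exact le_sup_right.trans (Q'.3 hsup le_sup_left).le
    refine Sylow.ext (Subgroup.eq_of_le_of_card_ge (fun g hg => ?_) ?_)
    · have h1 : f ⟨g, le_pairStab hg⟩ ∈ ((P'.mapSurjective hfs : Sylow 2 _) : Subgroup _) := by
        rw [Sylow.coe_mapSurjective]; exact ⟨⟨g, le_pairStab hg⟩, hg, rfl⟩
      rw [himg, Sylow.coe_mapSurjective] at h1
      obtain ⟨w, hw, hwg⟩ := h1
      have h2 : w⁻¹ * ⟨g, le_pairStab hg⟩ ∈ f.ker := by
        rw [MonoidHom.mem_ker, map_mul, map_inv, hwg, inv_mul_cancel]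
      have h3 := (Q' : Subgroup (pairStab P)).mul_mem hw (hker h2)
      rw [mul_inv_cancel_left] at h3
      exact h3
    · rw [Nat.card_congr (Sylow.equiv P Q).toEquiv]

theorem exists_two_pairPerm {k : ℕ} (hx : x ^ 2 ^ k = 1) (hbad : ¬ Good x) (hxP : x ∈ P) :
    ∃ s : Perm α, s * s = 1 ∧ (∀ a b, s a = a → s b = b → a = b) ∧ Commute s x ∧ s ≠ pairPerm P := by
  set σ := pairPerm P with hσ
  have hσc : Commute σ x := (pairPerm_commute (le_pairStab hxP)).symm
  have hσσ : ∀ a, σ (σ a) = a := fun a => pairFun_inv a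
  have hσx : ∀ a, σ (x a) = x (σ a) := fun a => Perm.congr_fun hσc.eq a
  rw [Good, not_and_or] at hbad
  rcases hbad with hdup | hthree
  swap
  · push_neg at hthree
    obtain ⟨a, b, c, ha, hb, hc, hab, hac, hbc⟩ := hthree
    obtain ⟨a, c, ha, hc, hσa, hca, hcσ⟩ : ∃ a c, x a = a ∧ x c = c ∧ σ a ≠ a ∧ c ≠ a ∧ c ≠ σ a := by
      by_cases h : σ a = a
      · have h2 : σ b ≠ b := fun h2 => hab (pairPerm_fix_unique h h2)
        exact ⟨b, a, hb, ha, h2, hab, fun e => hab ((congrArg σ e).symm.trans h |>.symm.trans (hσσ b) |> fun q => q)⟩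
      · by_cases h3 : b = σ a
        · exact ⟨a, c, ha, hc, h, Ne.symm hac, fun e => hbc (h3.trans e.symm)⟩
        · exact ⟨a, b, ha, hb, h, Ne.symm hab, h3⟩
    set g := swap (σ a) c with hg
    have hσaf : x (σ a) = σ a := by rw [← hσx, ha]
    have hgx : Commute g x := by
      refine (mul_inv_eq_iff_eq_mul.1 ?_).symm
      rw [hg, conj_swap, hσaf, hc]
    refine ⟨g * σ * g⁻¹, ?_, fun u v hu hv => ?_, ?_, fun e => ?_⟩
    · rw [show g * σ * g⁻¹ * (g * σ * g⁻¹) = g * (σ * σ) * g⁻¹ by group, pairPerm_mul_self, mul_one, mul_inv_cancel]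
    · apply g⁻¹.injective
      refine pairPerm_fix_unique (P := P) ?_ ?_
      · have := congrArg (⇑(g⁻¹)) hu; simpa using this
      · have := congrArg (⇑(g⁻¹)) hv; simpa using this
    · exact (hgx.mul_left hσc).mul_left hgx.inv_left
    · have h1 := Perm.congr_fun e a
      have hga : g a = a := swap_apply_of_ne_of_ne (Ne.symm hσa) (Ne.symm hca)
      rw [hg, Perm.mul_apply, Perm.mul_apply, swap_inv, ← hg, hga] at h1
      rw [hg, swap_apply_left] at h1
      exact hcσ h1
  push_neg at hdup
  obtain ⟨a, b, ha, hb, hper, hab⟩ := hdup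
  -- building an involution by changing `σ` on an invariant set
  have build : ∀ (U : α → Prop) (r : α → α) (w : α), (∀ y, U (x y) ↔ U y) → (∀ y, U (σ y) ↔ U y) →
      (∀ y, U y → U (r y) ∧ r (r y) = y ∧ r y ≠ y ∧ r (x y) = x (r y)) → U w → r w ≠ σ w →
      ∃ s : Perm α, s * s = 1 ∧ (∀ a b, s a = a → s b = b → a = b) ∧ Commute s x ∧ s ≠ σ := by
    intro U r w hUx hUσ hr hw hrw
    let f : α → α := fun y => if U y then r y else σ y
    have hf1 : ∀ y, U y → f y = r y := fun y hy => if_pos hy
    have hf0 : ∀ y, ¬ U y → f y = σ y := fun y hy => if_neg hy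
    have hinv : Function.Involutive f := by
      intro y
      by_cases hy : U y
      · rw [hf1 y hy, hf1 _ (hr y hy).1, (hr y hy).2.1]
      · rw [hf0 y hy, hf0 _ (mt (hUσ y).1 hy), hσσ]
    refine ⟨hinv.toPerm f, Perm.ext fun y => hinv y, fun u v hu hv => ?_, Perm.ext fun y => ?_, fun e => ?_⟩
    · change f u = u at hu
      change f v = v at hv
      have hnu : ¬ U u := fun h => (hr u h).2.2.1 ((hf1 u h).symm.trans hu)
      have hnv : ¬ U v := fun h => (hr v h).2.2.1 ((hf1 v h).symm.trans hv)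
      rw [hf0 u hnu] at hu
      rw [hf0 v hnv] at hv
      exact pairPerm_fix_unique hu hv
    · show f (x y) = x (f y)
      by_cases hy : U y
      · rw [hf1 y hy, hf1 _ ((hUx y).2 hy), (hr y hy).2.2.2]
      · rw [hf0 y hy, hf0 _ (mt (hUx y).1 hy), hσx]
    · exact hrw ((hf1 w hw).symm.trans (Perm.congr_fun e w))
  have hσs : ∀ u y, SameCycle x u y → SameCycle x (σ u) (σ y) := by
    rintro u y ⟨i, rfl⟩
    exact ⟨i, (Perm.congr_fun (hσc.zpow_right i).eq u).symm⟩
  -- exchanging two cycles of equal length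
  by_cases hA : ∃ c, x c ≠ c ∧ ¬ SameCycle x c (σ c)
  · obtain ⟨c, hc, hcσ⟩ := hA
    obtain ⟨h, hh0, hh⟩ := per_even hx hc
    let U : α → Prop := fun y => SameCycle x c y ∨ SameCycle x (σ c) y
    have hperU : ∀ y, U y → per x y = 2 * h := by
      rintro y (⟨i, rfl⟩ | ⟨i, rfl⟩)
      · rw [per_zpow, hh]
      · rw [per_zpow, per_eq_of_commute hσc, hh]
    refine build U (fun y => (x ^ h) y) c (fun y => ?_) (fun y => ?_) (fun y hy => ⟨?_, ?_, ?_, ?_⟩)
      (Or.inl (SameCycle.refl x c)) fun e => hcσ ⟨(h : ℤ), by rw [zpow_natCast]; exact e⟩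
    · simp only [U, sameCycle_apply_right]
    · constructor <;> rintro (h' | h')
      · exact Or.inr (by simpa only [hσσ] using hσs _ _ h')
      · exact Or.inl (by simpa only [hσσ] using hσs _ _ h')
      · exact Or.inr (hσs _ _ h')
      · exact Or.inl (by simpa only [hσσ] using hσs _ _ h')
    · rcases hy with h' | h'
      · exact Or.inl (sameCycle_pow_right.2 h')
      · exact Or.inr (sameCycle_pow_right.2 h')
    · rw [← Perm.mul_apply, ← pow_add, ← two_mul, pow_fix_iff, hperU y hy]
    · rw [Ne, pow_fix_iff, hperU y hy]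
      intro hd
      have := Nat.le_of_dvd hh0 hd
      omega
    · exact Perm.congr_fun ((Commute.refl x).pow_left h).eq y
  push_neg at hA
  have hA' : ∀ c, x c ≠ c → SameCycle x c (σ c) := hA
  let U : α → Prop := fun y => SameCycle x a y ∨ SameCycle x b y
  let r : α → α := fun y => if h : SameCycle x a y then (x ^ h.choose) b
    else if h : SameCycle x b y then (x ^ h.choose) a else y
  have hra : ∀ i : ℤ, r ((x ^ i) a) = (x ^ i) b := by
    intro i
    have h : SameCycle x a ((x ^ i) a) := ⟨i, rfl⟩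
    simp only [r, dif_pos h]
    have := h.choose_spec
    have h1 : (x ^ (-i + h.choose)) a = a := by
      rw [zpow_add, Perm.mul_apply, this, ← Perm.mul_apply, ← zpow_add, neg_add_cancel, zpow_zero, Perm.one_apply]
    have h2 : (x ^ (-i + h.choose)) b = b := by
      rw [zpow_fix_iff, ← hper]; exact zpow_fix_iff.1 h1
    rw [zpow_add, Perm.mul_apply, zpow_neg] at h2
    have h3 := congrArg (x ^ i) h2
    rwa [Perm.coe_inv, Equiv.apply_symm_apply] at h3
  have hrb : ∀ i : ℤ, r ((x ^ i) b) = (x ^ i) a := by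
    intro i
    have hn : ¬ SameCycle x a ((x ^ i) b) := fun h => hab (sameCycle_zpow_right.1 h)
    have h : SameCycle x b ((x ^ i) b) := ⟨i, rfl⟩
    simp only [r, dif_neg hn, dif_pos h]
    have := h.choose_spec
    have h1 : (x ^ (-i + h.choose)) b = b := by
      rw [zpow_add, Perm.mul_apply, this, ← Perm.mul_apply, ← zpow_add, neg_add_cancel, zpow_zero, Perm.one_apply]
    have h2 : (x ^ (-i + h.choose)) a = a := by
      rw [zpow_fix_iff, hper]; exact zpow_fix_iff.1 h1
    rw [zpow_add, Perm.mul_apply, zpow_neg] at h2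
    have h3 := congrArg (x ^ i) h2
    rwa [Perm.coe_inv, Equiv.apply_symm_apply] at h3
  refine build U r a (fun y => ?_) (fun y => ?_) (fun y hy => ?_) (Or.inl (SameCycle.refl x a)) ?_
  · simp only [U, sameCycle_apply_right]
  · have h1 := hA' a ha
    have h2 := hA' b hb
    constructor <;> rintro (h' | h')
    · exact Or.inl (h1.trans (by simpa only [hσσ] using hσs _ _ h'))
    · exact Or.inr (h2.trans (by simpa only [hσσ] using hσs _ _ h'))
    · exact Or.inl (h1.trans (hσs _ _ h'))
    · exact Or.inr (h2.trans (hσs _ _ h'))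
  · rcases hy with ⟨i, rfl⟩ | ⟨i, rfl⟩
    · refine ⟨by rw [hra]; exact Or.inr ⟨i, rfl⟩, by rw [hra, hrb],
        by rw [hra]; exact fun e => hab ((sameCycle_zpow_right.1 (e ▸ ⟨i, rfl⟩ : SameCycle x b ((x ^ i) a))).symm), ?_⟩
      rw [hra, ← Perm.mul_apply, ← zpow_one_add, hra, zpow_one_add, Perm.mul_apply]
    · refine ⟨by rw [hrb]; exact Or.inl ⟨i, rfl⟩, by rw [hrb, hra],
        by rw [hrb]; exact fun e => hab (sameCycle_zpow_right.1 (e ▸ ⟨i, rfl⟩ : SameCycle x a ((x ^ i) b))), ?_⟩
      rw [hrb, ← Perm.mul_apply, ← zpow_one_add, hrb, zpow_one_add, Perm.mul_apply]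
  · intro e
    have h0 := hra 0
    simp only [zpow_zero, Perm.one_apply] at h0
    exact hab ((hA' a ha).trans (by rw [← e, h0]))

/-- The characterisation. -/
theorem existsUnique_iff {k : ℕ} (hx : x ^ 2 ^ k = 1) :
    (∃! P : Sylow 2 (Perm α), x ∈ P) ↔ Good x := by
  haveI : Fact (Nat.Prime 2) := ⟨Nat.prime_two⟩
  obtain ⟨P, hP⟩ : ∃ P : Sylow 2 (Perm α), x ∈ P := by
    obtain ⟨j, -, hj⟩ := (Nat.dvd_prime_pow Nat.prime_two).1 (orderOf_dvd_of_pow_eq_one hx)
    obtain ⟨P, hP⟩ := (IsPGroup.of_card (n := j) (by rw [Nat.card_zpowers, hj]) :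
      IsPGroup 2 (Subgroup.zpowers x)).exists_le_sylow
    exact ⟨P, hP (Subgroup.mem_zpowers x)⟩
  refine ⟨fun h => ?_, fun h => ⟨P, hP, fun Q hQ => unique_of_good_aux _ α rfl x k hx h Q P hQ hP⟩⟩
  by_contra hbad
  obtain ⟨s, hs, hfix, hc, hne⟩ := exists_two_pairPerm hx hbad hP
  obtain ⟨Q, hQ, hQs⟩ := exists_sylow_pairPerm hx hs hfix hc
  exact hne (hQs.symm.trans (congrArg pairPerm (h.unique hQ hP)))

theorem per_eq_card_support {a : α} (ha : x a ≠ a) : per x a = (x.cycleOf a).support.card := by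
  have hc : (x.cycleOf a).IsCycle := isCycle_cycleOf x ha
  have key : ∀ k : ℕ, (x ^ k) a = a ↔ orderOf (x.cycleOf a) ∣ k := fun k => by
    rw [orderOf_dvd_iff_pow_eq_one, hc.pow_eq_one_iff' (x := a) (by rwa [cycleOf_apply_self]),
      cycleOf_pow_apply_self]
  rw [← hc.orderOf]
  exact Nat.dvd_antisymm (pow_fix_iff.1 ((key _).2 dvd_rfl)) ((key _).1 (pow_fix_iff.2 dvd_rfl))

theorem good_iff : Good x ↔ (Fintype.card α ≤ x.support.card + 2 ∧ x.cycleType.Nodup) := by
  have hmem : ∀ a, a ∈ x.supportᶜ ↔ x a = a := fun a => by simp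
  have hc := Finset.card_compl_add_card x.support
  constructor
  · rintro ⟨h1, h2⟩
    refine ⟨?_, ?_⟩
    · by_contra hlt
      push_neg at hlt
      obtain ⟨a, b, c, ha, hb, hc', hab, hac, hbc⟩ := Finset.two_lt_card_iff.1 (by omega : 2 < x.supportᶜ.card)
      rcases h2 a b c ((hmem a).1 ha) ((hmem b).1 hb) ((hmem c).1 hc') with h | h | h <;> contradiction
    · rw [cycleType_def]
      refine (Multiset.nodup_map_iff_of_inj_on ?_).2 x.cycleFactorsFinset.nodup |> fun q => q
      intro c hc₁ d hd₁ hcd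
      obtain ⟨a, ha⟩ := Finset.card_pos.1 (by
        have := (mem_cycleFactorsFinset_iff.1 hc₁).1.two_le_card_support; omega : 0 < c.support.card)
      obtain ⟨b, hb⟩ := Finset.card_pos.1 (by
        have := (mem_cycleFactorsFinset_iff.1 hd₁).1.two_le_card_support; omega : 0 < d.support.card)
      have hca := cycle_is_cycleOf ha hc₁
      have hdb := cycle_is_cycleOf hb hd₁
      have hxa : x a ≠ a := mem_support.1 (mem_cycleFactorsFinset_support_le hc₁ ha)
      have hxb : x b ≠ b := mem_support.1 (mem_cycleFactorsFinset_support_le hd₁ hb)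
      rw [hca, hdb]
      refine SameCycle.cycleOf_eq (h1 a b hxa hxb ?_)
      rw [per_eq_card_support hxa, per_eq_card_support hxb, ← hca, ← hdb]
      exact hcd
  · rintro ⟨h1, h2⟩
    refine ⟨fun a b ha hb h => ?_, fun a b c ha hb hc' => ?_⟩
    · rw [cycleType_def] at h2
      have hca := cycleOf_mem_cycleFactorsFinset_iff.2 (mem_support.2 ha)
      have hcb := cycleOf_mem_cycleFactorsFinset_iff.2 (mem_support.2 hb)
      rw [per_eq_card_support ha, per_eq_card_support hb] at h
      have heq := Multiset.inj_on_of_nodup_map h2 _ hca _ hcb h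
      have : b ∈ (x.cycleOf a).support := by
        rw [heq, mem_support_cycleOf_iff]; exact ⟨SameCycle.refl x b, mem_support.2 hb⟩
      exact (mem_support_cycleOf_iff.1 this).1
    · by_contra hcon
      push_neg at hcon
      have : 2 < x.supportᶜ.card := Finset.two_lt_card_iff.2
        ⟨a, b, c, (hmem a).2 ha, (hmem b).2 hb, (hmem c).2 hc', hcon.1, hcon.2.1, hcon.2.2⟩
      omega

end CfsgLib.Invol.SymUnique
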