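import Cfsg.Prelude.Def_ClassificationK
import Mathlib.GroupTheory.Nilpotent
import Cfsg.Agent.Lib.PGroup.OmegaCentral

/-!
# 2-groups of symplectic type and exponent four

Such a group has all squares and commutators in the subgroup of order two of its centre.
-/

set_option autoImplicit false

namespace CfsgLib.Invol.SymplecticExpFour

open Subgroup
open scoped commutatorElement

variable {T : Type*} [Group T] [Finite T]

theorem eq_of_invol_of_cyclic {A : Subgroup T} (hA : IsCyclic A) {x y : T} (hx : x ∈ A) (hy : y ∈ A)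
    (hx2 : x ^ 2 = 1) (hy2 : y ^ 2 = 1) (hy1 : y ≠ 1) : x = 1 ∨ x = y := by
  haveI := hA
  by_contra h
  push Not at h
  haveI := Fintype.ofFinite A
  classical
  have := IsCyclic.card_pow_eq_one_le (α := A) (n := 2) two_pos
  have h3 : ({⟨x, hx⟩, ⟨y, hy⟩, 1} : Finset A) ⊆ Finset.univ.filter (fun a => a ^ 2 = 1) := by
    intro a ha
    simp only [Finset.mem_insert, Finset.mem_singleton] at ha
    rw [Finset.mem_filter]
    refine ⟨Finset.mem_univ _, ?_⟩
    rcases ha with rfl | rfl | rfl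
    · exact Subtype.ext hx2
    · exact Subtype.ext hy2
    · exact one_pow 2
  have hc : ({⟨x, hx⟩, ⟨y, hy⟩, 1} : Finset A).card = 3 := by
    rw [Finset.card_insert_of_notMem, Finset.card_insert_of_notMem, Finset.card_singleton]
    · simp [Subtype.ext_iff, hy1]
    · simp [Subtype.ext_iff, h.1, h.2]
  have := Finset.card_le_card h3
  omega

variable (hT : Cfsg.IsOfSymplecticType T) (h4 : ∀ x : T, x ^ 4 = 1)
include hT

theorem center_invol {c x : T} (hc : c ∈ center T) (hc2 : c ^ 2 = 1) (hc1 : c ≠ 1)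
    (hx : x ∈ center T) (hx2 : x ^ 2 = 1) : x = 1 ∨ x = c :=
  eq_of_invol_of_cyclic (hT.2 _ inferInstance inferInstance) hx hc hx2 hc2 hc1

/-- An involution of the centre of a characteristic subgroup is central. -/
theorem central_of_char {K : Subgroup T} [hK : K.Characteristic] {x : T} (hx : x ∈ K)
    (hxc : ∀ k ∈ K, k * x = x * k) (hx2 : x ^ 2 = 1) : x ∈ center T := by
  set Z := (center K).map K.subtype with hZ
  haveI : Z.Characteristic := characteristic_iff_map_le.2 fun φ => by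
    rintro _ ⟨_, ⟨c, hc, rfl⟩, rfl⟩
    have hm : φ (c : T) ∈ K := by
      have := characteristic_iff_map_eq.1 hK φ
      exact this.le ⟨c, c.2, rfl⟩
    refine ⟨⟨φ c, hm⟩, mem_center_iff.2 fun k => Subtype.ext ?_, rfl⟩
    have hk : φ.symm (k : T) ∈ K := by
      have := characteristic_iff_map_eq.1 hK φ.symm
      exact this.le ⟨k, k.2, rfl⟩
    have := congrArg φ (congrArg Subtype.val (mem_center_iff.1 hc ⟨_, hk⟩))
    simpa using this
  have hZa : IsMulCommutative Z := .of_setLike_mul_comm (by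
    rintro _ ⟨a, ha, rfl⟩ _ ⟨b, hb, rfl⟩
    rw [← map_mul, ← map_mul, mem_center_iff.1 hb a])
  have hcy := hT.2 Z inferInstance hZa
  haveI hn : Z.Normal := normal_of_characteristic Z
  have hxZ : x ∈ Z := ⟨⟨x, hx⟩, mem_center_iff.2 fun k => Subtype.ext (hxc k k.2), rfl⟩
  by_cases hx1 : x = 1
  · rw [hx1]; exact one_mem _
  refine mem_center_iff.2 fun g => ?_
  rcases eq_of_invol_of_cyclic hcy (hn.conj_mem x hxZ g) hxZ (by rw [conj_pow, hx2]; group) hx2 hx1 with h | h
  · exact absurd (conj_eq_one_iff.1 h) hx1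
  · exact mul_inv_eq_iff_eq_mul.1 h

include h4

/-- Squares and commutators of a characteristic subgroup of class two. -/
theorem sq_commutator_central {K : Subgroup T} [K.Characteristic]
    (hK : ∀ a ∈ K, ∀ b ∈ K, ∀ c ∈ K, c * ⁅a, b⁆ = ⁅a, b⁆ * c) :
    (∀ a ∈ K, a ^ 2 ∈ center T) ∧ ∀ a ∈ K, ∀ b ∈ K, ⁅a, b⁆ ∈ center T ∧ ⁅a, b⁆ ^ 2 = 1 := by
  have h2 : ∀ a ∈ K, ∀ b ∈ K, ⁅a, b⁆ ^ 2 = 1 := by
    intro a ha b hb
    have hm : a * b = ⁅a, b⁆ * (b * a) := by rw [commutatorElement_def]; group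
    have e := CfsgLib.PGroup.mul_pow_of_commute_commutator hm (hK a ha b hb b hb).symm
      (hK a ha b hb a ha).symm (n := 4)
    rw [h4, h4, h4, one_mul, one_mul, show Nat.choose 4 2 = 4 + 2 from rfl, pow_add, h4, one_mul] at e
    exact e.symm
  refine ⟨fun a ha => central_of_char hT (pow_mem ha 2) (fun k hk => ?_) (by rw [← pow_mul]; exact h4 a),
    fun a ha b hb => ⟨central_of_char hT ?_ (hK a ha b hb) (h2 a ha b hb), h2 a ha b hb⟩⟩
  · have e : ⁅a * a, k⁆ = a * ⁅a, k⁆ * a⁻¹ * ⁅a, k⁆ := by simp only [commutatorElement_def]; group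
    rw [hK a ha k hk a ha, mul_inv_cancel_right] at e
    rw [← pow_two, ← pow_two, h2 a ha k hk, commutatorElement_eq_one_iff_mul_comm] at e
    exact e.symm
  · rw [commutatorElement_def]
    exact mul_mem (mul_mem (mul_mem ha hb) (inv_mem ha)) (inv_mem hb)

theorem class_two : ∀ a b g : T, g * ⁅a, b⁆ = ⁅a, b⁆ * g := by
  classical
  haveI : Fact (Nat.Prime 2) := ⟨Nat.prime_two⟩
  haveI := hT.1.isNilpotent
  have hex : ∃ n, (⊤ : Subgroup T).lowerCentralSeries n = ⊥ :=
    Subgroup.nilpotent_iff_lowerCentralSeries.1 inferInstance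
  by_contra hno
  push Not at hno
  obtain ⟨a, b, g, hg⟩ := hno
  set L := (⊤ : Subgroup T).lowerCentralSeries with hL
  have hL1 : ∀ a b : T, ⁅a, b⁆ ∈ L 1 := fun a b => commutator_mem_commutator (mem_top a) (mem_top b)
  have hm : 2 < Nat.find hex := by
    by_contra h
    have h0 : L 2 = ⊥ := le_bot_iff.1 ((Subgroup.lowerCentralSeries_antitone _ (not_lt.1 h)).trans
      (Nat.find_spec hex).le)
    have := commutator_mem_commutator (hL1 a b) (mem_top g)
    rw [show ⁅L 1, (⊤ : Subgroup T)⁆ = ⊥ from h0, mem_bot] at this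
    exact hg (commutatorElement_eq_one_iff_mul_comm.1 this).symm
  obtain ⟨m, hm'⟩ : ∃ m, Nat.find hex = m + 3 := ⟨Nat.find hex - 3, by omega⟩
  have hbot : L (m + 3) = ⊥ := hm' ▸ Nat.find_spec hex
  have hne : L (m + 2) ≠ ⊥ := Nat.find_min hex (by omega)
  set I := L (m + 1) with hI
  have hI1 : ⁅L 1, I⁆ = ⊥ := by
    have e : ⁅⁅I, (⊤ : Subgroup T)⁆, ⊤⁆ = ⊥ := hbot
    refine commutator_commutator_eq_bot_of_rotate ?_ e
    rw [commutator_comm ⊤ I]; exact e
  have hI' : ∀ x ∈ L 1, ∀ i ∈ I, i * x = x * i := fun x hx i hi =>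
    mem_centralizer_iff.1 (commutator_eq_bot_iff_le_centralizer.1 hI1 hx) i hi
  have hIL : I ≤ L 1 := Subgroup.lowerCentralSeries_antitone _ (by omega)
  haveI : I.Characteristic := Subgroup.lowerCentralSeries_characteristic _ _
  haveI hIc : IsCyclic I := hT.2 I inferInstance
    (.of_setLike_mul_comm fun a ha b hb => hI' b (hIL hb) a ha)
  -- a commutator of order four in `I`
  obtain ⟨k, hk, t, hc2⟩ : ∃ k ∈ L m, ∃ t : T, ⁅k, t⁆ ^ 2 ≠ 1 := by
    by_contra hno
    push Not at hno
    have hsub : I ≤ center T := by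
      rw [hI, show L (m + 1) = ⁅L m, ⊤⁆ from rfl, commutator_le]
      intro k hk t _
      haveI hn : I.Normal := normal_of_characteristic I
      have hmem : ⁅k, t⁆ ∈ I := commutator_mem_commutator hk (mem_top t)
      by_cases h1 : ⁅k, t⁆ = 1
      · rw [h1]; exact one_mem _
      refine mem_center_iff.2 fun g => ?_
      rcases eq_of_invol_of_cyclic hIc (hn.conj_mem _ hmem g) hmem
        (by rw [conj_pow, hno k hk t]; group) (hno k hk t) h1 with h | h
      · exact absurd (conj_eq_one_iff.1 h) h1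
      · exact mul_inv_eq_iff_eq_mul.1 h
    apply hne
    rw [show L (m + 2) = ⁅I, ⊤⁆ from rfl, commutator_eq_bot_iff_le_centralizer, coe_top, centralizer_univ]
    exact hsub
  set K := L m ⊓ centralizer (I : Set T) with hK
  haveI : (L m).Characteristic := Subgroup.lowerCentralSeries_characteristic _ _
  haveI : K.Characteristic := by
    rw [hK]; infer_instance
  have hKc := sq_commutator_central hT h4 (K := K) fun a ha b _ c hc =>
    (mem_centralizer_iff.1 hc.2 _ (commutator_mem_commutator ha.1 (mem_top b))).symm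
  -- the contradiction
  have key : ∀ k ∈ K, ∀ t : T, ⁅k, t⁆ ∈ I → ⁅k, t⁆ ^ 2 = 1 := by
    intro k hk t hkt
    have e : t * k⁻¹ * t⁻¹ = k⁻¹ * ⁅k, t⁆ := by rw [commutatorElement_def]; group
    have hcm : Commute k⁻¹ ⁅k, t⁆ := (show Commute k ⁅k, t⁆ from (mem_centralizer_iff.1 hk.2 _ hkt).symm).inv_left
    have h := congrArg (· ^ 2) e
    simp only [conj_pow, hcm.mul_pow] at h
    rw [mem_center_iff.1 (hKc.1 _ (inv_mem hk)) t, mul_inv_cancel_right, left_eq_mul] at h
    exact h
  have hkt : ⁅k, t⁆ ∈ I := commutator_mem_commutator hk (mem_top t)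
  rcases Nat.eq_zero_or_pos m with rfl | hm0
  · -- `L 0 = ⊤`
    have hcase : ∀ x : T, x ∈ centralizer (I : Set T) → x ∈ K := fun x hx => ⟨mem_top x, hx⟩
    by_cases hkI : k ∈ centralizer (I : Set T)
    · exact hc2 (key k (hcase k hkI) t hkt)
    by_cases htI : t ∈ centralizer (I : Set T)
    · refine hc2 ?_
      rw [← inv_inv (⁅k, t⁆ ^ 2), ← inv_pow, commutatorElement_inv]
      rw [key t (hcase t htI) k (by rw [← commutatorElement_inv]; exact inv_mem hkt), inv_one]
    -- both invert the cyclic group of order four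
    obtain ⟨i, hi⟩ := hIc.exists_generator
    have hgen : ∀ x : T, x * (i : T) = i * x → x ∈ centralizer (I : Set T) := fun x hx =>
      mem_centralizer_iff.2 fun y hy => by
        obtain ⟨j, hj⟩ := mem_zpowers_iff.1 (hi ⟨y, hy⟩)
        have : (i : T) ^ j = y := by rw [← SubgroupClass.coe_zpow, hj]
        rw [← this]
        exact ((show Commute x (i : T) from hx).zpow_right j).eq.symm
    haveI hn : I.Normal := normal_of_characteristic I
    have hinv : ∀ x : T, x ∉ centralizer (I : Set T) → x * (i : T) * x⁻¹ = (i : T)⁻¹ := by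
      intro x hx
      obtain ⟨j, hj⟩ := mem_zpowers_iff.1 (hi ⟨_, hn.conj_mem _ i.2 x⟩)
      have hj' : (i : T) ^ j = x * i * x⁻¹ := by rw [← SubgroupClass.coe_zpow, hj]
      have h4' : (i : T) ^ (4 : ℤ) = 1 := by exact_mod_cast h4 (i : T)
      have hmod : (i : T) ^ j = (i : T) ^ (j % 4) := by
        conv_lhs => rw [← Int.emod_add_mul_ediv j 4, zpow_add, zpow_mul, h4', one_zpow, mul_one]
      have h01 := Int.emod_nonneg j (by norm_num : (4 : ℤ) ≠ 0)
      have h02 := Int.emod_lt_of_pos j (by norm_num : (0 : ℤ) < 4)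
      rw [← hj', hmod]
      obtain h | h | h | h : j % 4 = 0 ∨ j % 4 = 1 ∨ j % 4 = 2 ∨ j % 4 = 3 := by omega
      · exfalso
        rw [hmod, h, zpow_zero] at hj'
        exact hx (hgen x (by rw [conj_eq_one_iff.1 hj'.symm, mul_one, one_mul]))
      · exfalso
        rw [hmod, h, zpow_one] at hj'
        exact hx (hgen x (mul_inv_eq_iff_eq_mul.1 hj'.symm))
      · exfalso
        rw [hmod, h, zpow_ofNat] at hj'
        have h2 : (x * (i : T) * x⁻¹) ^ 2 = 1 := by rw [← hj', ← pow_mul]; exact h4 _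
        rw [conj_pow, conj_eq_one_iff] at h2
        rw [h2, eq_comm, conj_eq_one_iff] at hj'
        exact hx (hgen x (by rw [hj', mul_one, one_mul]))
      · rw [h, eq_inv_iff_mul_eq_one, ← zpow_add_one]; exact h4'
    refine hc2 ?_
    have hkt' : k * t ∈ centralizer (I : Set T) := hgen _ (by
      have h1 := hinv t htI
      have h2 := hinv k hkI
      rw [← mul_inv_eq_iff_eq_mul]
      calc k * t * i * (k * t)⁻¹ = k * (t * i * t⁻¹) * k⁻¹ := by group
        _ = (k * i * k⁻¹)⁻¹ := by rw [h1]; group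
        _ = i := by rw [h2, inv_inv])
    have e : ⁅k * t, t⁆ = ⁅k, t⁆ := by simp only [commutatorElement_def]; group
    rw [← e] at hkt ⊢
    exact key _ (hcase _ hkt') t hkt
  · exact hc2 (key k ⟨hk, mem_centralizer_iff.2 fun i hi =>
      hI' k (Subgroup.lowerCentralSeries_antitone _ hm0 hk) i hi⟩ t hkt)

/-- Squares and commutators are in the subgroup of order two of the centre. -/
theorem sq_commutator {c : T} (hc : c ∈ center T) (hc2 : c ^ 2 = 1) (hc1 : c ≠ 1) :
    (∀ a : T, a ^ 2 = 1 ∨ a ^ 2 = c) ∧ ∀ a b : T, ⁅a, b⁆ = 1 ∨ ⁅a, b⁆ = c := by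
  have h := sq_commutator_central hT h4 (K := (⊤ : Subgroup T)) fun a _ b _ g _ => class_two hT h4 a b g
  exact ⟨fun a => center_invol hT hc hc2 hc1 (h.1 a (mem_top a)) (by rw [← pow_mul]; exact h4 a),
    fun a b => center_invol hT hc hc2 hc1 (h.2 a (mem_top a) b (mem_top b)).1
      (h.2 a (mem_top a) b (mem_top b)).2⟩

end CfsgLib.Invol.SymplecticExpFour
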