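import Cfsg.Agent.Lib.Invol.Lonely
import Cfsg.Agent.Lib.Char.Virtual

/-!
# An isolated involution and a virtual character of norm three
-/

open scoped ComplexConjugate

set_option autoImplicit false

namespace CfsgLib.Invol

open Cfsg CfsgLib.Block

universe u

variable {G : Type u} [Group G] [Fintype G]

/-- Degree, value at the involution and second moment of three constituents force the value at
the involution to be the degree. -/
theorem eq_of_three {A B f h e e' : ℂ} (he : e ^ 2 = 1) (he' : e' ^ 2 = 1) (hA : A ≠ 0)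
    (hB : B ≠ 0) (h0 : 1 + e * A + e' * B = 0) (h1 : 1 + e * f + e' * h = 0)
    (h2 : 1 + e * (f * f / A) + e' * (h * h / B) = 0) : f = A := by
  have h3 : A * B + e * f * f * B + e' * h * h * A = 0 := by
    field_simp at h2
    linear_combination h2
  have h4 : e * (f - A) ^ 2 = 0 := by
    linear_combination (-e') * h3 + (A + e * f * f) * h0 - A * (1 + e * f - e' * h) * h1
      + (A + e * f * f) * 0 * he + 0 * he'
  have h5 : f - A = 0 := by
    have : (f - A) ^ 2 = 0 := by linear_combination e * h4 - (f - A) ^ 2 * he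
    exact pow_eq_zero_iff two_ne_zero |>.1 this
  exact sub_eq_zero.1 h5

/-- No virtual character of norm three, with the principal character as a constituent, vanishes at
`1`, at `z` and at all products of `z` with its conjugates. -/
theorem false_of_virtual_three {z : G} (IH : ZStarBelow.{u} (Nat.card G))
    (hz : IsIsolatedInvolution z) (hO : pPrimeCore 2 G = ⊥) (hzZ : z ∉ Subgroup.center G)
    {Θ : G → ℂ} (hΘ : IsGeneralizedCharacter G Θ) (h3 : classInner Θ Θ = 3)
    (h1 : classInner Θ (fun _ => 1) = 1) (hdeg : Θ 1 = 0) (hz0 : Θ z = 0)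
    (hodd : ∀ g : G, Θ (z * (g * z * g⁻¹)) = 0) : False := by
  classical
  have := Fintype.ofFinite (IrrCharacter G)
  obtain ⟨m, hm, hexp, hnorm⟩ := Char.generalized_expand hΘ
  have hm1 : m (oneChar G) = 1 := by exact_mod_cast (hm (oneChar G)).symm.trans h1
  have hsum3 : ∑ ψ, m ψ ^ 2 = 3 := by exact_mod_cast hnorm.symm.trans h3
  rw [← Finset.add_sum_erase _ _ (Finset.mem_univ (oneChar G)), hm1] at hsum3
  set T := (Finset.univ.erase (oneChar G)).filter fun ψ => m ψ ≠ 0 with hT
  have hsum2 : ∑ ψ ∈ T, m ψ ^ 2 = 2 := by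
    rw [hT, Finset.sum_filter_of_ne (p := fun ψ => m ψ ≠ 0)
      (fun ψ _ h h' => h (by rw [h']; norm_num))]
    linarith
  have hone : ∀ ψ ∈ T, 1 ≤ m ψ ^ 2 := fun ψ hψ => by
    have := (Finset.mem_filter.1 hψ).2
    nlinarith [sq_nonneg (m ψ), mul_self_pos.2 this]
  have hcard : T.card = 2 := by
    have h4 : (T.card : ℤ) ≤ 2 := by
      rw [← hsum2, Finset.cast_card]
      exact Finset.sum_le_sum hone
    by_contra hne
    have h5 : T.card = 0 ∨ T.card = 1 := by omega
    rcases h5 with h5 | h5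
    · rw [Finset.card_eq_zero.1 h5, Finset.sum_empty] at hsum2
      exact absurd hsum2 (by norm_num)
    · obtain ⟨F, hF⟩ := Finset.card_eq_one.1 h5
      rw [hF, Finset.sum_singleton] at hsum2
      have hlo : -2 < m F := by nlinarith
      have hhi : m F < 2 := by nlinarith
      interval_cases h : m F <;> simp_all
  obtain ⟨F, H, hne, hFH⟩ := Finset.card_eq_two.1 hcard
  rw [hFH, Finset.sum_pair hne] at hsum2
  have hFT : F ∈ T := by rw [hFH]; simp
  have hHT : H ∈ T := by rw [hFH]; simp
  have heF : ((m F : ℂ)) ^ 2 = 1 := by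
    have := hone F hFT; have := hone H hHT
    exact_mod_cast (show m F ^ 2 = 1 by omega)
  have heH : ((m H : ℂ)) ^ 2 = 1 := by
    have := hone F hFT; have := hone H hHT
    exact_mod_cast (show m H ^ 2 = 1 by omega)
  have hval : ∀ g : G, Θ g = 1 + (m F : ℂ) * (F : G → ℂ) g + (m H : ℂ) * (H : G → ℂ) g := by
    intro g
    conv_lhs => rw [hexp]
    simp only [Finset.sum_apply, Pi.smul_apply, smul_eq_mul]
    rw [← Finset.add_sum_erase _ _ (Finset.mem_univ (oneChar G)), hm1,
      ← Finset.sum_filter_of_ne (p := fun ψ => m ψ ≠ 0) fun ψ _ h h' => h (by simp [h']),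
      ← hT, hFH, Finset.sum_pair hne]
    simp [oneChar, add_assoc]
  have hG : (Nat.card G : ℂ) ≠ 0 := Nat.cast_ne_zero.mpr Nat.card_pos.ne'
  have h6 : (1 : ℂ) + (m F : ℂ) * ((F : G → ℂ) z * (F : G → ℂ) z / (F : G → ℂ) 1) +
      (m H : ℂ) * ((H : G → ℂ) z * (H : G → ℂ) z / (H : G → ℂ) 1) = 0 := by
    have h7 : ∑ g : G, Θ (z * (g * z * g⁻¹)) = 0 := Finset.sum_eq_zero fun g _ => hodd g
    simp only [hval, Finset.sum_add_distrib, ← Finset.mul_sum, sum_conj_char, Finset.sum_const,
      Finset.card_univ, nsmul_eq_mul, mul_one, ← Nat.card_eq_fintype_card] at h7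
    apply mul_left_cancel₀ hG
    linear_combination h7
  have h8 := eq_of_three heF heH (Char.irr_one_ne_zero F) (Char.irr_one_ne_zero H)
    (by rw [← hval, hdeg]) (by rw [← hval, hz0]) h6
  have h9 := eq_oneChar_of_apply_eq IH hz hO hzZ F h8
  exact (Finset.mem_erase.1 (Finset.mem_filter.1 hFT).1).1 h9

end CfsgLib.Invol
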