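import Mathlib.Data.List.Basic

/-!
# A table of 168 pairs

Permutations of eight points paired with unitary 3 x 3 matrices over the field with nine elements,
the element `a + b i` being coded by `a + 3 b`, and for each pair the positions of its products with
three generating pairs.
-/

set_option autoImplicit false

namespace CfsgLib.Invol.U33

/-- the three generating matrices -/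
def gShift : List ℕ := [1, 1, 4, 5, 7, 0, 1, 1, 8]
/-- see `gShift` -/
def gDouble : List ℕ := [0, 1, 0, 0, 0, 2, 2, 0, 0]
/-- see `gShift` -/
def gFlip : List ℕ := [2, 0, 0, 0, 0, 1, 0, 1, 0]

/-- the pairs -/
def table : List (List ℕ × List ℕ) := [
  ([0, 1, 2, 3, 4, 5, 6, 7], [1, 0, 0, 0, 1, 0, 0, 0, 1]),
  ([1, 2, 3, 4, 5, 6, 0, 7], [1, 1, 4, 5, 7, 0, 1, 1, 8]),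
  ([0, 2, 4, 6, 1, 3, 5, 7], [0, 1, 0, 0, 0, 2, 2, 0, 0]),
  ([7, 6, 3, 2, 5, 4, 1, 0], [2, 0, 0, 0, 0, 1, 0, 1, 0]),
  ([2, 3, 4, 5, 6, 0, 1, 7], [7, 0, 7, 2, 8, 1, 2, 4, 1]),
  ([2, 4, 6, 1, 3, 5, 0, 7], [5, 7, 0, 2, 2, 4, 2, 2, 8]),
  ([6, 3, 2, 5, 4, 1, 7, 0], [2, 2, 8, 1, 1, 8, 5, 7, 0]),
  ([1, 3, 5, 0, 2, 4, 6, 7], [8, 1, 2, 0, 5, 5, 4, 1, 2]),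
  ([0, 4, 1, 5, 2, 6, 3, 7], [0, 0, 2, 1, 0, 0, 0, 2, 0]),
  ([7, 3, 5, 1, 6, 2, 4, 0], [0, 2, 0, 2, 0, 0, 0, 0, 2]),
  ([7, 0, 4, 3, 6, 5, 2, 1], [2, 4, 1, 7, 0, 7, 2, 8, 1]),
  ([7, 5, 6, 4, 3, 1, 2, 0], [0, 0, 1, 0, 2, 0, 1, 0, 0]),
  ([3, 4, 5, 6, 0, 1, 2, 7], [5, 5, 0, 2, 1, 4, 1, 2, 4]),
  ([4, 6, 1, 3, 5, 0, 2, 7], [2, 8, 1, 1, 8, 2, 5, 0, 5]),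
  ([3, 2, 5, 4, 1, 7, 6, 0], [5, 0, 5, 2, 4, 1, 2, 8, 1]),
  ([3, 5, 0, 2, 4, 6, 1, 7], [0, 5, 7, 8, 2, 2, 8, 1, 1]),
  ([4, 1, 5, 2, 6, 3, 0, 7], [2, 2, 4, 1, 1, 4, 7, 5, 0]),
  ([3, 5, 1, 6, 2, 4, 7, 0], [7, 5, 0, 2, 2, 8, 2, 2, 4]),
  ([0, 4, 3, 6, 5, 2, 7, 1], [1, 2, 4, 5, 5, 0, 2, 1, 4]),
  ([5, 6, 4, 3, 1, 2, 7, 0], [1, 1, 8, 7, 5, 0, 1, 1, 4]),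
  ([2, 6, 3, 0, 4, 1, 5, 7], [0, 5, 5, 8, 2, 1, 4, 2, 1]),
  ([6, 2, 4, 7, 3, 5, 1, 0], [4, 2, 1, 4, 1, 2, 0, 5, 5]),
  ([1, 5, 2, 6, 3, 0, 4, 7], [1, 8, 2, 7, 0, 7, 1, 4, 2]),
  ([7, 4, 6, 2, 0, 3, 5, 1], [2, 2, 8, 5, 7, 0, 2, 2, 4]),
  ([7, 1, 5, 4, 0, 6, 3, 2], [5, 7, 0, 1, 1, 8, 1, 1, 4]),
  ([7, 0, 1, 6, 5, 3, 4, 2], [7, 0, 7, 1, 4, 2, 1, 8, 2]),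
  ([0, 7, 5, 2, 1, 4, 3, 6], [1, 8, 2, 2, 8, 1, 7, 0, 7]),
  ([7, 6, 0, 5, 4, 2, 3, 1], [4, 2, 1, 0, 5, 5, 8, 2, 1]),
  ([4, 5, 6, 0, 1, 2, 3, 7], [8, 2, 1, 8, 1, 2, 0, 7, 7]),
  ([6, 1, 3, 5, 0, 2, 4, 7], [2, 1, 4, 2, 1, 8, 7, 7, 0]),
  ([2, 5, 4, 1, 7, 6, 3, 0], [7, 7, 0, 1, 2, 4, 2, 1, 4]),
  ([5, 0, 2, 4, 6, 1, 3, 7], [1, 4, 1, 5, 0, 7, 2, 4, 2]),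
  ([5, 1, 6, 2, 4, 7, 3, 0], [1, 4, 2, 5, 0, 5, 1, 8, 2]),
  ([4, 3, 6, 5, 2, 7, 0, 1], [0, 7, 7, 8, 2, 1, 8, 1, 2]),
  ([6, 4, 3, 1, 2, 7, 5, 0], [2, 4, 1, 1, 4, 2, 7, 0, 7]),
  ([6, 3, 0, 4, 1, 5, 2, 7], [8, 2, 2, 4, 2, 2, 0, 7, 5]),
  ([2, 4, 7, 3, 5, 1, 6, 0], [0, 7, 5, 8, 1, 1, 8, 2, 2]),
  ([5, 2, 6, 3, 0, 4, 1, 7], [2, 1, 8, 5, 5, 0, 1, 2, 8]),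
  ([4, 6, 2, 0, 3, 5, 7, 1], [5, 0, 5, 2, 8, 1, 1, 8, 2]),
  ([1, 5, 4, 0, 6, 3, 7, 2], [2, 8, 1, 2, 4, 1, 7, 0, 7]),
  ([0, 1, 6, 5, 3, 4, 7, 2], [5, 5, 0, 1, 2, 8, 2, 1, 8]),
  ([7, 5, 2, 1, 4, 3, 0, 6], [2, 1, 8, 2, 1, 4, 5, 5, 0]),
  ([6, 0, 5, 4, 2, 3, 7, 1], [0, 7, 5, 8, 2, 2, 4, 2, 2]),
  ([3, 0, 4, 1, 5, 2, 6, 7], [5, 0, 7, 1, 8, 1, 2, 8, 2]),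
  ([3, 1, 2, 7, 5, 6, 4, 0], [0, 7, 7, 4, 2, 1, 8, 2, 1]),
  ([0, 3, 5, 7, 4, 6, 2, 1], [8, 1, 1, 0, 5, 7, 8, 2, 2]),
  ([5, 4, 1, 7, 6, 3, 2, 0], [4, 1, 2, 0, 7, 7, 8, 1, 2]),
  ([7, 5, 0, 3, 1, 4, 6, 2], [0, 5, 5, 4, 1, 2, 8, 1, 2]),
  ([0, 5, 1, 3, 7, 2, 4, 6], [1, 1, 4, 2, 2, 4, 5, 7, 0]),
  ([7, 2, 6, 5, 1, 0, 4, 3], [7, 0, 5, 1, 4, 1, 2, 4, 2]),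
  ([7, 2, 3, 1, 0, 5, 6, 4], [1, 1, 8, 2, 2, 8, 7, 5, 0]),
  ([0, 6, 4, 5, 7, 1, 2, 3], [7, 5, 0, 1, 1, 4, 1, 1, 8]),
  ([7, 1, 2, 0, 6, 4, 5, 3], [0, 7, 5, 4, 2, 2, 4, 1, 1]),
  ([7, 0, 2, 5, 3, 6, 1, 4], [1, 4, 2, 2, 4, 1, 5, 0, 5]),
  ([0, 7, 6, 1, 4, 2, 5, 3], [5, 0, 5, 1, 8, 2, 1, 4, 2]),
  ([1, 7, 6, 3, 2, 5, 4, 0], [2, 4, 2, 7, 0, 5, 1, 4, 1]),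
  ([0, 7, 3, 4, 2, 1, 6, 5], [2, 8, 1, 5, 0, 5, 2, 4, 1]),
  ([0, 1, 7, 4, 5, 3, 2, 6], [8, 1, 2, 8, 2, 1, 0, 5, 5]),
  ([5, 6, 0, 1, 2, 3, 4, 7], [4, 2, 2, 0, 5, 7, 4, 1, 1]),
  ([1, 6, 2, 4, 7, 3, 5, 0], [1, 2, 8, 7, 7, 0, 2, 1, 8]),
  ([3, 6, 5, 2, 7, 0, 4, 1], [4, 1, 1, 4, 2, 2, 0, 5, 7]),
  ([4, 3, 1, 2, 7, 5, 6, 0], [1, 2, 4, 1, 2, 8, 5, 5, 0]),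
  ([4, 7, 3, 5, 1, 6, 2, 0], [2, 8, 2, 2, 4, 2, 5, 0, 7]),
  ([6, 2, 0, 3, 5, 7, 4, 1], [7, 7, 0, 2, 1, 4, 2, 1, 8]),
  ([5, 4, 0, 6, 3, 7, 1, 2], [2, 1, 4, 1, 2, 4, 5, 5, 0]),
  ([1, 6, 5, 3, 4, 7, 0, 2], [8, 2, 1, 4, 2, 1, 0, 5, 5]),
  ([5, 2, 1, 4, 3, 0, 7, 6], [0, 5, 5, 8, 1, 2, 8, 2, 1]),
  ([0, 5, 4, 2, 3, 7, 6, 1], [2, 8, 2, 5, 0, 7, 1, 8, 1]),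
  ([1, 2, 7, 5, 6, 4, 3, 0], [4, 1, 1, 0, 7, 5, 4, 2, 2]),
  ([3, 5, 7, 4, 6, 2, 0, 1], [2, 4, 2, 1, 4, 1, 5, 0, 7]),
  ([4, 1, 7, 6, 3, 2, 5, 0], [8, 1, 1, 4, 1, 1, 0, 5, 7]),
  ([5, 0, 3, 1, 4, 6, 7, 2], [8, 2, 2, 8, 1, 1, 0, 5, 7]),
  ([5, 1, 3, 7, 2, 4, 0, 6], [7, 0, 7, 1, 8, 2, 2, 8, 1]),
  ([2, 6, 5, 1, 0, 4, 7, 3], [0, 0, 1, 0, 1, 0, 2, 0, 0]),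
  ([2, 3, 1, 0, 5, 6, 7, 4], [2, 4, 1, 5, 0, 5, 1, 4, 2]),
  ([6, 4, 5, 7, 1, 2, 0, 3], [1, 4, 2, 7, 0, 7, 2, 4, 1]),
  ([1, 2, 0, 6, 4, 5, 7, 3], [2, 8, 2, 1, 8, 1, 7, 0, 5]),
  ([0, 2, 5, 3, 6, 1, 7, 4], [1, 2, 8, 1, 2, 4, 7, 7, 0]),
  ([7, 6, 1, 4, 2, 5, 0, 3], [7, 7, 0, 2, 1, 8, 1, 2, 8]),
  ([7, 3, 4, 2, 1, 6, 0, 5], [2, 1, 4, 7, 7, 0, 1, 2, 4]),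
  ([1, 7, 4, 5, 3, 2, 0, 6], [0, 5, 7, 4, 2, 2, 8, 2, 2]),
  ([6, 0, 1, 2, 3, 4, 5, 7], [1, 8, 1, 1, 4, 1, 7, 0, 5]),
  ([2, 7, 5, 6, 4, 3, 1, 0], [7, 0, 5, 2, 8, 2, 1, 8, 1]),
  ([4, 2, 3, 7, 6, 0, 5, 1], [7, 5, 0, 2, 2, 4, 1, 1, 4]),
  ([1, 4, 6, 7, 5, 0, 3, 2], [2, 2, 4, 2, 2, 8, 5, 7, 0]),
  ([0, 6, 3, 7, 1, 5, 4, 2], [0, 5, 7, 4, 1, 1, 4, 2, 2]),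
  ([7, 2, 4, 0, 5, 1, 3, 6], [4, 2, 2, 8, 2, 2, 0, 5, 7]),
  ([6, 5, 2, 7, 0, 4, 3, 1], [7, 0, 5, 1, 8, 1, 1, 4, 1]),
  ([7, 3, 0, 6, 2, 1, 5, 4], [4, 1, 2, 4, 2, 1, 0, 7, 7]),
  ([0, 4, 7, 2, 6, 5, 1, 3], [0, 7, 7, 8, 1, 2, 4, 1, 2]),
  ([0, 3, 2, 6, 7, 4, 1, 5], [2, 2, 4, 7, 5, 0, 2, 2, 8]),
  ([7, 4, 5, 3, 2, 0, 1, 6], [1, 4, 1, 1, 8, 1, 5, 0, 7]),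
  ([0, 3, 1, 4, 6, 7, 5, 2], [5, 0, 7, 2, 4, 2, 1, 4, 1]),
  ([1, 0, 5, 6, 7, 2, 3, 4], [0, 7, 7, 4, 1, 2, 4, 2, 1]),
  ([7, 1, 3, 6, 4, 0, 2, 5], [1, 8, 1, 7, 0, 5, 2, 8, 2]),
  ([1, 7, 0, 2, 5, 3, 6, 4], [7, 5, 0, 1, 1, 8, 2, 2, 8]),
  ([2, 7, 0, 4, 3, 6, 5, 1], [1, 1, 8, 1, 1, 4, 5, 7, 0]),
  ([0, 2, 7, 1, 3, 6, 4, 5], [8, 2, 1, 0, 7, 7, 4, 2, 1]),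
  ([2, 0, 3, 5, 7, 4, 6, 1], [4, 1, 2, 8, 1, 2, 0, 5, 5]),
  ([4, 0, 6, 3, 7, 1, 5, 2], [8, 1, 2, 0, 7, 7, 8, 2, 1]),
  ([6, 5, 3, 4, 7, 0, 1, 2], [4, 2, 2, 0, 7, 5, 8, 2, 2]),
  ([2, 1, 4, 3, 0, 7, 5, 6], [8, 2, 2, 0, 5, 7, 4, 2, 2]),
  ([5, 4, 2, 3, 7, 6, 0, 1], [0, 2, 0, 0, 0, 2, 1, 0, 0]),
  ([5, 7, 4, 6, 2, 0, 3, 1], [2, 0, 0, 0, 1, 0, 0, 0, 2]),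
  ([1, 3, 7, 2, 4, 0, 5, 6], [5, 5, 0, 2, 1, 8, 2, 1, 4]),
  ([6, 5, 1, 0, 4, 7, 2, 3], [1, 1, 8, 5, 7, 0, 2, 2, 8]),
  ([3, 1, 0, 5, 6, 7, 2, 4], [1, 2, 4, 7, 7, 0, 1, 2, 8]),
  ([4, 5, 7, 1, 2, 0, 6, 3], [1, 2, 8, 5, 5, 0, 1, 2, 4]),
  ([2, 0, 6, 4, 5, 7, 1, 3], [0, 2, 0, 1, 0, 0, 0, 0, 1]),
  ([2, 5, 3, 6, 1, 7, 0, 4], [4, 2, 1, 0, 7, 7, 4, 1, 2]),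
  ([6, 1, 4, 2, 5, 0, 7, 3], [4, 1, 2, 0, 5, 5, 4, 2, 1]),
  ([3, 4, 2, 1, 6, 0, 7, 5], [8, 1, 2, 4, 1, 2, 0, 7, 7]),
  ([2, 3, 7, 6, 0, 5, 4, 1], [1, 4, 2, 1, 8, 2, 7, 0, 7]),
  ([4, 6, 7, 5, 0, 3, 1, 2], [1, 8, 2, 5, 0, 5, 2, 8, 1]),
  ([6, 3, 7, 1, 5, 4, 0, 2], [1, 4, 1, 7, 0, 5, 1, 8, 1]),
  ([2, 4, 0, 5, 1, 3, 7, 6], [1, 8, 1, 5, 0, 7, 1, 4, 1]),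
  ([5, 2, 7, 0, 4, 3, 6, 1], [0, 0, 1, 1, 0, 0, 0, 1, 0]),
  ([3, 0, 6, 2, 1, 5, 7, 4], [8, 1, 1, 0, 7, 5, 4, 1, 1]),
  ([4, 7, 2, 6, 5, 1, 0, 3], [4, 1, 1, 0, 5, 7, 8, 1, 1]),
  ([3, 2, 6, 7, 4, 1, 0, 5], [1, 8, 2, 1, 4, 2, 5, 0, 5]),
  ([4, 5, 3, 2, 0, 1, 7, 6], [0, 1, 0, 1, 0, 0, 0, 0, 2]),
  ([3, 1, 4, 6, 7, 5, 0, 2], [0, 0, 2, 2, 0, 0, 0, 1, 0]),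
  ([0, 5, 6, 7, 2, 3, 1, 4], [4, 1, 1, 8, 1, 1, 0, 7, 5]),
  ([1, 3, 6, 4, 0, 2, 7, 5], [1, 0, 0, 0, 0, 1, 0, 2, 0]),
  ([2, 7, 1, 3, 6, 4, 0, 5], [4, 2, 2, 4, 1, 1, 0, 7, 5]),
  ([3, 7, 6, 0, 5, 4, 2, 1], [1, 2, 8, 2, 1, 8, 5, 5, 0]),
  ([5, 3, 4, 7, 0, 1, 6, 2], [1, 8, 1, 2, 8, 2, 5, 0, 7]),
  ([5, 3, 2, 0, 1, 7, 4, 6], [5, 7, 0, 1, 1, 4, 2, 2, 4]),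
  ([2, 5, 0, 7, 6, 1, 4, 3], [2, 0, 0, 0, 0, 2, 0, 2, 0]),
  ([2, 1, 5, 7, 3, 0, 6, 4], [2, 2, 8, 7, 5, 0, 1, 1, 8]),
  ([1, 0, 4, 7, 2, 6, 5, 3], [1, 2, 4, 2, 1, 4, 7, 7, 0]),
  ([7, 4, 1, 0, 3, 2, 6, 5], [8, 2, 2, 0, 7, 5, 8, 1, 1]),
  ([1, 4, 3, 0, 7, 5, 2, 6], [5, 0, 7, 1, 4, 1, 1, 8, 1]),
  ([1, 5, 7, 3, 0, 6, 2, 4], [5, 0, 5, 1, 4, 2, 2, 4, 1]),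
  ([1, 4, 2, 5, 0, 7, 6, 3], [8, 1, 1, 8, 2, 2, 0, 7, 5]),
  ([0, 6, 2, 1, 5, 7, 3, 4], [2, 4, 2, 2, 8, 2, 7, 0, 5]),
  ([2, 1, 6, 0, 7, 3, 4, 5], [1, 4, 1, 2, 4, 2, 7, 0, 5]),
  ([6, 7, 4, 1, 0, 3, 2, 5], [0, 5, 5, 4, 2, 1, 4, 1, 2]),
  ([6, 0, 7, 3, 4, 2, 1, 5], [5, 7, 0, 2, 2, 8, 1, 1, 8]),
  ([3, 7, 1, 5, 4, 0, 6, 2], [0, 1, 0, 0, 0, 1, 1, 0, 0]),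
  ([4, 7, 0, 1, 6, 5, 3, 2], [1, 1, 4, 7, 5, 0, 2, 2, 4]),
  ([3, 0, 7, 5, 2, 1, 4, 6], [2, 2, 4, 5, 7, 0, 1, 1, 4]),
  ([3, 7, 2, 4, 0, 5, 1, 6], [8, 2, 1, 0, 5, 5, 8, 1, 2]),
  ([5, 1, 0, 4, 7, 2, 6, 3], [2, 4, 1, 2, 8, 1, 5, 0, 5]),
  ([5, 7, 1, 2, 0, 6, 4, 3], [4, 2, 1, 8, 2, 1, 0, 7, 7]),
  ([5, 3, 6, 1, 7, 0, 2, 4], [0, 7, 5, 4, 1, 1, 8, 1, 1]),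
  ([4, 2, 1, 6, 0, 7, 3, 5], [0, 5, 7, 8, 1, 1, 4, 1, 1]),
  ([6, 7, 5, 0, 3, 1, 4, 2], [2, 1, 8, 7, 7, 0, 2, 1, 4]),
  ([4, 0, 5, 1, 3, 7, 2, 6], [1, 0, 0, 0, 0, 2, 0, 1, 0]),
  ([2, 6, 7, 4, 1, 0, 3, 5], [2, 1, 8, 1, 2, 8, 7, 7, 0]),
  ([5, 6, 7, 2, 3, 1, 0, 4], [7, 0, 5, 2, 4, 2, 2, 8, 2]),
  ([3, 6, 4, 0, 2, 7, 1, 5], [1, 1, 4, 1, 1, 8, 7, 5, 0]),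
  ([3, 4, 7, 0, 1, 6, 5, 2], [1, 0, 0, 0, 2, 0, 0, 0, 2]),
  ([3, 2, 0, 1, 7, 4, 5, 6], [2, 8, 1, 7, 0, 7, 1, 8, 2]),
  ([5, 0, 7, 6, 1, 4, 2, 3], [2, 2, 8, 2, 2, 4, 7, 5, 0]),
  ([4, 1, 0, 3, 2, 6, 7, 5], [5, 0, 7, 2, 8, 2, 2, 4, 2]),
  ([4, 3, 0, 7, 5, 2, 1, 6], [0, 0, 2, 0, 1, 0, 1, 0, 0]),
  ([5, 7, 3, 0, 6, 2, 1, 4], [7, 7, 0, 1, 2, 8, 1, 2, 4]),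
  ([4, 2, 5, 0, 7, 6, 1, 3], [2, 4, 2, 5, 0, 7, 2, 8, 2]),
  ([6, 2, 1, 5, 7, 3, 0, 4], [2, 0, 0, 0, 2, 0, 0, 0, 1]),
  ([1, 6, 0, 7, 3, 4, 2, 5], [0, 1, 0, 2, 0, 0, 0, 0, 1]),
  ([2, 0, 1, 7, 4, 5, 3, 6], [2, 1, 4, 5, 5, 0, 2, 1, 8]),
  ([3, 6, 1, 7, 0, 2, 5, 4], [2, 8, 2, 7, 0, 5, 2, 4, 2]),
  ([6, 4, 0, 2, 7, 1, 3, 5], [7, 0, 7, 2, 4, 1, 1, 4, 2]),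
  ([1, 0, 3, 2, 6, 7, 4, 5], [0, 0, 2, 0, 2, 0, 2, 0, 0]),
  ([6, 7, 2, 3, 1, 0, 5, 4], [0, 0, 1, 2, 0, 0, 0, 2, 0]),
  ([6, 1, 7, 0, 2, 5, 3, 4], [0, 2, 0, 0, 0, 1, 2, 0, 0]),
  ([4, 0, 2, 7, 1, 3, 6, 5], [5, 5, 0, 1, 2, 4, 1, 2, 8])]

/-- the products with the generators -/
def succs : List (ℕ × ℕ × ℕ) := [
  (1, 2, 3),
  (4, 5, 6),
  (7, 8, 9),
  (10, 11, 0),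
  (12, 13, 14),
  (15, 16, 17),
  (18, 19, 1),
  (5, 20, 21),
  (22, 0, 11),
  (23, 3, 2),
  (24, 25, 26),
  (27, 9, 8),
  (28, 29, 30),
  (31, 22, 32),
  (33, 34, 4),
  (13, 35, 36),
  (37, 1, 19),
  (38, 6, 5),
  (39, 40, 41),
  (42, 17, 16),
  (43, 28, 44),
  (45, 46, 7),
  (20, 4, 34),
  (47, 24, 48),
  (49, 50, 51),
  (52, 53, 54),
  (55, 56, 10),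
  (25, 47, 57),
  (58, 7, 46),
  (2, 37, 59),
  (60, 61, 12),
  (29, 43, 62),
  (63, 14, 13),
  (64, 65, 66),
  (67, 32, 22),
  (8, 58, 68),
  (69, 70, 15),
  (35, 12, 61),
  (71, 39, 72),
  (73, 74, 75),
  (76, 77, 78),
  (3, 79, 18),
  (40, 71, 80),
  (16, 81, 82),
  (83, 21, 20),
  (84, 85, 86),
  (87, 44, 28),
  (78, 88, 89),
  (59, 90, 23),
  (88, 91, 92),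
  (79, 23, 90),
  (93, 48, 24),
  (50, 86, 85),
  (94, 10, 56),
  (95, 26, 25),
  (96, 82, 81),
  (80, 54, 53),
  (68, 97, 27),
  (81, 15, 70),
  (98, 30, 29),
  (99, 100, 101),
  (102, 59, 37),
  (103, 55, 31),
  (92, 64, 104),
  (105, 106, 107),
  (108, 109, 110),
  (6, 111, 33),
  (65, 92, 91),
  (112, 36, 35),
  (113, 114, 115),
  (116, 68, 58),
  (110, 117, 118),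
  (21, 119, 38),
  (117, 120, 121),
  (111, 38, 119),
  (122, 72, 39),
  (74, 115, 114),
  (123, 18, 79),
  (53, 41, 40),
  (91, 78, 77),
  (82, 124, 42),
  (0, 31, 55),
  (125, 62, 43),
  (126, 84, 127),
  (128, 129, 105),
  (130, 122, 52),
  (9, 131, 45),
  (85, 126, 132),
  (131, 27, 97),
  (133, 57, 47),
  (132, 51, 50),
  (11, 94, 67),
  (134, 135, 49),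
  (136, 98, 137),
  (86, 49, 135),
  (124, 96, 138),
  (139, 140, 141),
  (104, 89, 88),
  (121, 99, 142),
  (143, 93, 144),
  (51, 145, 134),
  (14, 146, 60),
  (100, 121, 120),
  (147, 139, 148),
  (36, 149, 63),
  (135, 127, 84),
  (146, 63, 149),
  (150, 104, 64),
  (106, 148, 139),
  (151, 33, 111),
  (77, 66, 65),
  (120, 110, 109),
  (152, 113, 153),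
  (154, 133, 143),
  (89, 150, 76),
  (17, 155, 69),
  (114, 152, 156),
  (155, 42, 124),
  (157, 80, 71),
  (156, 75, 74),
  (19, 123, 102),
  (158, 159, 73),
  (160, 45, 131),
  (115, 73, 159),
  (142, 118, 117),
  (140, 147, 161),
  (75, 162, 158),
  (34, 151, 83),
  (162, 156, 152),
  (119, 83, 151),
  (129, 161, 147),
  (41, 52, 122),
  (30, 136, 87),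
  (149, 112, 163),
  (109, 101, 100),
  (164, 67, 94),
  (153, 158, 162),
  (26, 144, 93),
  (57, 154, 95),
  (118, 165, 108),
  (144, 95, 154),
  (70, 138, 96),
  (62, 137, 98),
  (159, 153, 113),
  (165, 142, 99),
  (163, 60, 146),
  (127, 134, 145),
  (54, 157, 130),
  (32, 164, 103),
  (141, 107, 106),
  (138, 69, 155),
  (148, 105, 129),
  (107, 166, 128),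
  (61, 163, 112),
  (166, 141, 140),
  (66, 76, 150),
  (46, 160, 116),
  (137, 125, 167),
  (145, 132, 126),
  (90, 102, 123),
  (161, 128, 166),
  (44, 167, 125),
  (167, 87, 136),
  (48, 143, 133),
  (101, 108, 165),
  (56, 103, 164),
  (97, 116, 160),
  (72, 130, 157)]

end CfsgLib.Invol.U33
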