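import Mathlib
import Cfsg.Prelude.Def_Classical
import Cfsg.Agent.Lib.Perm.Small.Unique168
import Cfsg.Agent.Lib.Invol.UnitaryThreeThreeData

/-!
# The simple group of order 168 inside `SU₃(3)`
-/

set_option autoImplicit false

namespace CfsgLib.Invol.U33

open CfsgLib.Perm.Small

/-- addition of codes -/
def addN (n m : ℕ) : ℕ := (n % 3 + m % 3) % 3 + 3 * ((n / 3 + m / 3) % 3)

/-- multiplication of codes -/
def mulN (n m : ℕ) : ℕ :=
  (n % 3 * (m % 3) + 2 * (n / 3 * (m / 3))) % 3 +
    3 * ((n % 3 * (m / 3) + n / 3 * (m % 3)) % 3)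

/-- the entry `(i, j)` of a coded matrix -/
def ent (A : List ℕ) (i j : ℕ) : ℕ := A.getD (3 * i + j) 0

/-- the entry `(i, j)` of a product -/
def dot (A B : List ℕ) (i j : ℕ) : ℕ :=
  addN (addN (mulN (ent A i 0) (ent B 0 j)) (mulN (ent A i 1) (ent B 1 j))) (mulN (ent A i 2) (ent B 2 j))

/-- product of coded matrices -/
def mulM (A B : List ℕ) : List ℕ :=
  [dot A B 0 0, dot A B 0 1, dot A B 0 2, dot A B 1 0, dot A B 1 1, dot A B 1 2,
    dot A B 2 0, dot A B 2 1, dot A B 2 2]

/-- the identity matrix -/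
def oneM : List ℕ := [1, 0, 0, 0, 1, 0, 0, 0, 1]

/-- `shift168` on the numbering with `7` for `none` -/
def shiftN (n : ℕ) : ℕ := if n < 7 then (n + 1) % 7 else 7

/-- `double168` on the numbering -/
def doubleN (n : ℕ) : ℕ := if n < 7 then 2 * n % 7 else 7

/-- `flip168` on the numbering -/
def flipN (n : ℕ) : ℕ := [7, 6, 3, 2, 5, 4, 1, 0].getD n 0

/-- left multiplication by a generating pair -/
def step (f : ℕ → ℕ) (g : List ℕ) (x : List ℕ × List ℕ) : List ℕ × List ℕ := (x.1.map f, mulM g x.2)

/-- the row of the table with index `k` -/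
def rowAt (k : ℕ) : List ℕ × List ℕ := table.getD k ([], [])

set_option maxRecDepth 100000 in
theorem table_steps : ((table.zip succs).all fun x =>
    decide (x.2.1 < 168) && decide (step shiftN gShift x.1 = rowAt x.2.1) &&
    (decide (x.2.2.1 < 168) && decide (step doubleN gDouble x.1 = rowAt x.2.2.1)) &&
    (decide (x.2.2.2 < 168) && decide (step flipN gFlip x.1 = rowAt x.2.2.2))) = true := by
  decide +kernel

theorem table_length : table.length = 168 := by decide +kernel

theorem succs_length : succs.length = 168 := by decide +kernel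

theorem table_one : (table.all fun x => decide (x.1 = [0, 1, 2, 3, 4, 5, 6, 7] → x.2 = oneM)) = true := by
  decide +kernel

theorem table_head : rowAt 0 = ([0, 1, 2, 3, 4, 5, 6, 7], oneM) := by decide +kernel

attribute [local irreducible] table succs in
theorem rowAt_mem {k : ℕ} (h : k < 168) : rowAt k ∈ table := by
  rw [rowAt, List.getD_eq_getElem _ _ (by rw [table_length]; exact h)]
  exact List.getElem_mem _

attribute [local irreducible] table succs in
/-- the table is closed under the generators -/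
theorem table_closed {x : List ℕ × List ℕ} (hx : x ∈ table) :
    step shiftN gShift x ∈ table ∧ step doubleN gDouble x ∈ table ∧ step flipN gFlip x ∈ table := by
  obtain ⟨k, hk, rfl⟩ := List.getElem_of_mem hx
  have hk' : k < succs.length := by rw [succs_length, ← table_length]; exact hk
  have hmem : (table[k], succs[k]) ∈ table.zip succs := List.mem_iff_getElem.2
    ⟨k, by rw [List.length_zip]; omega, List.getElem_zip⟩
  have h := List.all_eq_true.1 table_steps _ hmem
  simp only [Bool.and_eq_true, decide_eq_true_eq] at h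
  obtain ⟨⟨⟨h1, e1⟩, h2, e2⟩, h3, e3⟩ := h
  exact ⟨e1 ▸ rowAt_mem h1, e2 ▸ rowAt_mem h2, e3 ▸ rowAt_mem h3⟩

/-- the number of a point -/
def idx (o : Option (ZMod 7)) : ℕ := o.elim 7 ZMod.val

/-- the points in order -/
def pts : List (Option (ZMod 7)) :=
  [some 0, some 1, some 2, some 3, some 4, some 5, some 6, none]

theorem mem_pts : ∀ o : Option (ZMod 7), o ∈ pts := by decide

theorem idx_inj : ∀ a b : Option (ZMod 7), idx a = idx b → a = b := by decide

/-- the code of a permutation -/
def enc (p : Equiv.Perm (Option (ZMod 7))) : List ℕ := pts.map fun o => idx (p o)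

theorem enc_inj {p q : Equiv.Perm (Option (ZMod 7))} (h : enc p = enc q) : p = q :=
  Equiv.ext fun o => idx_inj _ _ (List.map_inj_left.1 h o (mem_pts o))

theorem enc_one : enc 1 = [0, 1, 2, 3, 4, 5, 6, 7] := by decide +kernel

theorem enc_mul {g p : Equiv.Perm (Option (ZMod 7))} {f : ℕ → ℕ} (h : ∀ o, idx (g o) = f (idx o)) :
    enc (g * p) = (enc p).map f := by
  rw [enc, enc, List.map_map]
  exact List.map_congr_left fun o _ => h (p o)

theorem shift_idx : ∀ o, idx (shift168 o) = shiftN (idx o) := by decide +kernel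

theorem double_idx : ∀ o, idx (double168 o) = doubleN (idx o) := by decide +kernel

theorem flip_idx : ∀ o, idx (flip168 o) = flipN (idx o) := by decide +kernel

section Field

variable {F : Type*} [Field F]

/-- the element of `F` with a given code -/
def val (i : F) (n : ℕ) : F := ((n % 3 : ℕ) : F) + ((n / 3 : ℕ) : F) * i

/-- the matrix with a given code -/
def toMat (i : F) (A : List ℕ) : Matrix (Fin 3) (Fin 3) F := fun a b => val i (ent A a b)

variable [CharP F 3] {i : F}

theorem cast_mod_three (n : ℕ) : ((n % 3 : ℕ) : F) = (n : F) :=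
  (CharP.natCast_eq_natCast F 3).2 (Nat.mod_modEq n 3)

theorem val_code (r s : ℕ) (hr : r < 3) : val i (r + 3 * s) = (r : F) + (s : F) * i := by
  rw [val, show (r + 3 * s) % 3 = r by omega, show (r + 3 * s) / 3 = s by omega]

theorem val_addN (n m : ℕ) : val i (addN n m) = val i n + val i m := by
  rw [addN, val_code _ _ (Nat.mod_lt _ (by norm_num)), cast_mod_three, cast_mod_three, val, val]
  push_cast
  ring

theorem val_mulN (hi : i * i = -1) (n m : ℕ) : val i (mulN n m) = val i n * val i m := by
  rw [mulN, val_code _ _ (Nat.mod_lt _ (by norm_num)), cast_mod_three, cast_mod_three, val, val]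
  push_cast
  have h2 : (2 : F) = -1 := by
    have h3 : ((3 : ℕ) : F) = 0 := CharP.cast_eq_zero F 3
    push_cast at h3
    linear_combination h3
  rw [h2]
  linear_combination (-((n / 3 : ℕ) : F) * ((m / 3 : ℕ) : F)) * hi

theorem toMat_oneM : toMat i oneM = 1 := by
  ext a b
  fin_cases a <;> fin_cases b <;>
    simp [toMat, ent, oneM, val, Matrix.one_apply]

theorem toMat_mulM (hi : i * i = -1) (A B : List ℕ) : toMat i (mulM A B) = toMat i A * toMat i B := by
  ext a b
  have hrhs : (toMat i A * toMat i B) a b = val i (dot A B a b) := by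
    rw [Matrix.mul_apply, Fin.sum_univ_three, dot, val_addN, val_addN, val_mulN hi, val_mulN hi,
      val_mulN hi]
    rfl
  rw [hrhs]
  fin_cases a <;> fin_cases b <;> rfl

end Field

section Main

attribute [local irreducible] table succs

variable {F : Type*} [Field F] [Fintype F]

theorem gens_det (i : F) [CharP F 3] (hi : i * i = -1) :
    (toMat i gShift).det = 1 ∧ (toMat i gDouble).det = 1 ∧ (toMat i gFlip).det = 1 := by
  have h3 : (3 : F) = 0 := by simpa using CharP.cast_eq_zero F 3
  refine ⟨?_, ?_, ?_⟩ <;> rw [Matrix.det_fin_three] <;>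
    simp [toMat, val, ent, gShift, gDouble, gFlip] <;> grind

theorem gens_unitary (i : F) [CharP F 3] (hi : i * i = -1) (g : List ℕ)
    (hg : g = gShift ∨ g = gDouble ∨ g = gFlip) (u v : Fin 3 → F) :
    Cfsg.hermForm 3 F 3 (Matrix.mulVec (toMat i g) u) (Matrix.mulVec (toMat i g) v) =
      Cfsg.hermForm 3 F 3 u v := by
  have h3 : (3 : F) = 0 := by simpa using CharP.cast_eq_zero F 3
  rcases hg with rfl | rfl | rfl <;>
    simp [Cfsg.hermForm, Fin.sum_univ_three, Matrix.mulVec, dotProduct, toMat, val, ent, gShift,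
      gDouble, gFlip] <;> grind

/-- a coded matrix of determinant one as an element of the special linear group -/
def sl (i : F) (A : List ℕ) (h : (toMat i A).det = 1) : Matrix.SpecialLinearGroup (Fin 3) F :=
  ⟨toMat i A, h⟩

theorem sl_mem_SU (i : F) (A : List ℕ) (h : (toMat i A).det = 1)
    (hu : ∀ u v, Cfsg.hermForm 3 F 3 (Matrix.mulVec (toMat i A) u) (Matrix.mulVec (toMat i A) v) =
      Cfsg.hermForm 3 F 3 u v) : sl i A h ∈ Cfsg.SU 3 F 3 :=
  hu

theorem gens_noncomm (i : F) [CharP F 3] (hi : i * i = -1) :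
    toMat i gShift * toMat i gDouble ≠ toMat i gDouble * toMat i gShift := by
  intro h
  have h3 : (3 : F) = 0 := by simpa using CharP.cast_eq_zero F 3
  have h0 := congrFun (congrFun h 0) 0
  simp [Matrix.mul_apply, Fin.sum_univ_three, toMat, val, ent, gShift, gDouble] at h0
  grind

/-- a homomorphism with non-commutative image from the model of the simple group of order 168
into `SU₃(3)` -/
theorem exists_hom (hF : Fintype.card F = 9) :
    ∃ ψ : model168 →* Cfsg.SU 3 F 3, ∃ a b : model168, ψ a * ψ b ≠ ψ b * ψ a := by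
  haveI : Fact (Nat.Prime 3) := ⟨by norm_num⟩
  haveI : CharP F 3 := by
    obtain ⟨p, hp⟩ := CharP.exists F
    haveI := hp
    obtain ⟨n, hpp, hc⟩ := FiniteField.card F p
    have h3 : p ∣ 3 ^ 2 := by
      rw [show 3 ^ 2 = p ^ (n : ℕ) by rw [← hc, hF]; rfl]
      exact dvd_pow_self p n.ne_zero
    rwa [(Nat.prime_dvd_prime_iff_eq hpp (by norm_num)).1 (hpp.dvd_of_dvd_pow h3)] at hp
  obtain ⟨i, hi⟩ := (FiniteField.isSquare_neg_one_iff (F := F)).2 (by rw [hF]; decide)
  obtain ⟨d1, d2, d3⟩ := gens_det i hi.symm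
  let gens : Set (Equiv.Perm (Option (ZMod 7)) × Matrix.SpecialLinearGroup (Fin 3) F) :=
    {(shift168, sl i gShift d1), (double168, sl i gDouble d2), (flip168, sl i gFlip d3)}
  let Γ := Subgroup.closure gens
  have hinv : ∀ x ∈ Γ, ∃ r ∈ table, enc x.1 = r.1 ∧ (x.2 : Matrix (Fin 3) (Fin 3) F) = toMat i r.2 := by
    intro x hx
    replace hx : x ∈ Submonoid.closure gens := by
      rw [← Subgroup.closure_toSubmonoid_of_finite (s := gens)]; exact hx
    induction hx using Submonoid.closure_induction_left with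
    | one =>
      exact ⟨_, rowAt_mem (k := 0) (by norm_num), by rw [table_head]; exact enc_one,
        by rw [table_head]; exact (toMat_oneM).symm⟩
    | mul_left a ha y _ hy =>
      obtain ⟨r, hr, h1, h2⟩ := hy
      obtain ⟨c1, c2, c3⟩ := table_closed hr
      simp only [gens, Set.mem_insert_iff, Set.mem_singleton_iff] at ha
      rcases ha with rfl | rfl | rfl
      · exact ⟨_, c1, by rw [Prod.fst_mul, enc_mul shift_idx, h1]; rfl,
          by rw [step, toMat_mulM hi.symm, ← h2]; rfl⟩
      · exact ⟨_, c2, by rw [Prod.fst_mul, enc_mul double_idx, h1]; rfl,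
          by rw [step, toMat_mulM hi.symm, ← h2]; rfl⟩
      · exact ⟨_, c3, by rw [Prod.fst_mul, enc_mul flip_idx, h1]; rfl,
          by rw [step, toMat_mulM hi.symm, ← h2]; rfl⟩
  let π₁ : Γ →* Equiv.Perm (Option (ZMod 7)) := (MonoidHom.fst _ _).comp Γ.subtype
  let π₂ : Γ →* Matrix.SpecialLinearGroup (Fin 3) F := (MonoidHom.snd _ _).comp Γ.subtype
  have hπ₁ : Function.Injective π₁ := by
    rw [injective_iff_map_eq_one]
    intro x hx
    obtain ⟨r, hr, h1, h2⟩ := hinv x.1 x.2
    change x.1.1 = 1 at hx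
    rw [hx, enc_one] at h1
    have h3 := of_decide_eq_true (List.all_eq_true.1 table_one r hr) h1.symm
    rw [h3, toMat_oneM] at h2
    exact Subtype.ext (Prod.ext hx (Subtype.ext h2))
  have hrange : π₁.range = model168 := by
    rw [MonoidHom.range_comp, Subgroup.range_subtype, MonoidHom.map_closure]
    simp [gens, Set.image_insert_eq, model168]
  have m1 := sl_mem_SU i gShift d1 fun u v => gens_unitary i hi.symm _ (Or.inl rfl) u v
  have m2 := sl_mem_SU i gDouble d2 fun u v => gens_unitary i hi.symm _ (Or.inr (Or.inl rfl)) u v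
  have m3 := sl_mem_SU i gFlip d3 fun u v => gens_unitary i hi.symm _ (Or.inr (Or.inr rfl)) u v
  generalize hK : Cfsg.SU 3 F 3 = K at m1 m2 m3 ⊢
  have hle : Γ ≤ K.comap (MonoidHom.snd _ _) := by
    refine (Subgroup.closure_le _).2 ?_
    intro a ha
    simp only [gens, Set.mem_insert_iff, Set.mem_singleton_iff] at ha
    rcases ha with rfl | rfl | rfl
    · exact m1
    · exact m2
    · exact m3
  have hSU : ∀ x : Γ, π₂ x ∈ K := fun x => hle x.2
  let e : Γ ≃* model168 := (MonoidHom.ofInjective hπ₁).trans (MulEquiv.subgroupCongr hrange)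
  let y₁ : Γ := ⟨(shift168, sl i gShift d1), Subgroup.subset_closure (by simp [gens])⟩
  let y₂ : Γ := ⟨(double168, sl i gDouble d2), Subgroup.subset_closure (by simp [gens])⟩
  refine ⟨(π₂.codRestrict _ hSU).comp e.symm.toMonoidHom, e y₁, e y₂, fun h => ?_⟩
  simp only [MonoidHom.comp_apply, MulEquiv.coe_toMonoidHom, MulEquiv.symm_apply_apply] at h
  exact gens_noncomm i hi.symm
    (congrArg (fun z : K => ((z : Matrix.SpecialLinearGroup (Fin 3) F) :
      Matrix (Fin 3) (Fin 3) F)) h)

end Main

end CfsgLib.Invol.U33
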