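import Cfsg.Agent.Lib.Invol.WreathedFacts
import Cfsg.Agent.Lib.Invol.Basic

/-!
# Coordinates of a wreathed Sylow 2-subgroup in the ambient group
-/

set_option autoImplicit false

namespace CfsgLib.Invol

section

variable {G : Type*} [Group G] {S : Sylow 2 G}

/-- The element `x^i y^j` in the ambient group. -/
def rotW (x y : (S : Subgroup G)) (i j : ℤ) : G := ((x ^ i * y ^ j : (S : Subgroup G)) : G)

/-- The element `x^i y^j z` in the ambient group. -/
def outW (x y z : (S : Subgroup G)) (i j : ℤ) : G :=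
  ((x ^ i * y ^ j * z : (S : Subgroup G)) : G)

theorem rotW_mem (x y : (S : Subgroup G)) (i j : ℤ) : rotW x y i j ∈ (S : Subgroup G) :=
  SetLike.coe_mem _

theorem outW_mem (x y z : (S : Subgroup G)) (i j : ℤ) : outW x y z i j ∈ (S : Subgroup G) :=
  SetLike.coe_mem _

theorem rotW_zero (x y : (S : Subgroup G)) : rotW x y 0 0 = 1 := by simp [rotW]

end

namespace WrFrame

open Subgroup

variable {G : Type*} [Group G] {S : Sylow 2 G} {m : ℤ} {x y z : (S : Subgroup G)}

theorem rotW_mul (W : WrFrame m x y z) (i j k l : ℤ) :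
    rotW x y i j * rotW x y k l = rotW x y (i + k) (j + l) :=
  congrArg Subtype.val (W.mul_rot i j k l)

theorem outW_mul_rotW (W : WrFrame m x y z) (i j k l : ℤ) :
    outW x y z i j * rotW x y k l = outW x y z (i + l) (j + k) :=
  congrArg Subtype.val (W.out_mul_rot i j k l)

theorem rotW_mul_outW (W : WrFrame m x y z) (i j k l : ℤ) :
    rotW x y i j * outW x y z k l = outW x y z (i + k) (j + l) :=
  congrArg Subtype.val (W.rot_mul_out i j k l)

theorem outW_mul (W : WrFrame m x y z) (i j k l : ℤ) :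
    outW x y z i j * outW x y z k l = rotW x y (i + l) (j + k) :=
  congrArg Subtype.val (W.out_mul_out i j k l)

theorem rotW_inv (W : WrFrame m x y z) (i j : ℤ) : (rotW x y i j)⁻¹ = rotW x y (-i) (-j) :=
  congrArg Subtype.val (W.rot_inv i j)

theorem outW_inv (W : WrFrame m x y z) (i j : ℤ) : (outW x y z i j)⁻¹ = outW x y z (-j) (-i) :=
  congrArg Subtype.val (W.out_inv i j)

theorem rotW_eq_iff (W : WrFrame m x y z) {i j k l : ℤ} :
    rotW x y i j = rotW x y k l ↔ 2 * m ∣ i - k ∧ 2 * m ∣ j - l :=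
  Subtype.coe_injective.eq_iff.trans W.rot_eq_iff

theorem outW_eq_iff (W : WrFrame m x y z) {i j k l : ℤ} :
    outW x y z i j = outW x y z k l ↔ 2 * m ∣ i - k ∧ 2 * m ∣ j - l :=
  Subtype.coe_injective.eq_iff.trans W.out_eq_iff

theorem rotW_eq_one_iff (W : WrFrame m x y z) {i j : ℤ} :
    rotW x y i j = 1 ↔ 2 * m ∣ i ∧ 2 * m ∣ j := by
  rw [← rotW_zero x y, W.rotW_eq_iff, sub_zero, sub_zero]

theorem rotW_ne_outW (W : WrFrame m x y z) (i j k l : ℤ) : rotW x y i j ≠ outW x y z k l :=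
  fun e => W.rot_ne_out i j k l (Subtype.ext e)

theorem rotW_zpow (W : WrFrame m x y z) (i j k : ℤ) :
    rotW x y i j ^ k = rotW x y (i * k) (j * k) := by
  have h1 := congrArg Subtype.val (W.rot_zpow i j k)
  rw [SubgroupClass.coe_zpow] at h1
  exact h1

theorem rotW_pow (W : WrFrame m x y z) (i j : ℤ) (k : ℕ) :
    rotW x y i j ^ k = rotW x y (i * k) (j * k) := by
  rw [← zpow_natCast, W.rotW_zpow]

theorem outW_sq (W : WrFrame m x y z) (i j : ℤ) :
    outW x y z i j * outW x y z i j = rotW x y (i + j) (i + j) := by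
  rw [W.outW_mul, add_comm j i]

theorem rotW_conj_rotW (W : WrFrame m x y z) (k l i j : ℤ) :
    rotW x y k l * rotW x y i j * (rotW x y k l)⁻¹ = rotW x y i j := by
  rw [W.rotW_inv, W.rotW_mul, W.rotW_mul]; congr 1 <;> ring

theorem rotW_conj_outW (W : WrFrame m x y z) (k l i j : ℤ) :
    rotW x y k l * outW x y z i j * (rotW x y k l)⁻¹ = outW x y z (i + k - l) (j + l - k) := by
  rw [W.rotW_mul_outW, W.rotW_inv, W.outW_mul_rotW]; congr 1 <;> ring

theorem outW_conj_rotW (W : WrFrame m x y z) (k l i j : ℤ) :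
    outW x y z k l * rotW x y i j * (outW x y z k l)⁻¹ = rotW x y j i := by
  rw [W.outW_mul_rotW, W.outW_inv, W.outW_mul]; congr 1 <;> ring

theorem outW_conj_outW (W : WrFrame m x y z) (k l i j : ℤ) :
    outW x y z k l * outW x y z i j * (outW x y z k l)⁻¹ =
      outW x y z (k + j - l) (l + i - k) := by
  rw [W.outW_mul, W.outW_inv, W.rotW_mul_outW]; congr 1 <;> ring

theorem exists_coords (W : WrFrame m x y z) {u : G} (hu : u ∈ (S : Subgroup G)) :
    ∃ i j : ℤ, u = rotW x y i j ∨ u = outW x y z i j := by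
  obtain ⟨i, j, e | e⟩ := W.exists_eq (⟨u, hu⟩ : (S : Subgroup G))
  · exact ⟨i, j, Or.inl (congrArg Subtype.val e)⟩
  · exact ⟨i, j, Or.inr (congrArg Subtype.val e)⟩

theorem rotW_commute_outW_iff (W : WrFrame m x y z) {i j k l : ℤ} :
    rotW x y i j * outW x y z k l = outW x y z k l * rotW x y i j ↔ 2 * m ∣ i - j := by
  rw [W.rotW_mul_outW, W.outW_mul_rotW, W.outW_eq_iff, show i + k - (k + j) = i - j by ring,
    show j + l - (l + i) = -(i - j) by ring, dvd_neg, and_self_iff]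

theorem outW_commute_outW_iff (W : WrFrame m x y z) {i j k l : ℤ} :
    outW x y z i j * outW x y z k l = outW x y z k l * outW x y z i j ↔
      2 * m ∣ (i - j) - (k - l) := by
  rw [W.outW_mul, W.outW_mul, W.rotW_eq_iff, show i + l - (k + j) = (i - j) - (k - l) by ring,
    show j + k - (l + i) = -((i - j) - (k - l)) by ring, dvd_neg, and_self_iff]

/-- Elements with equal exponents are central in `S`. -/
theorem commute_diag (W : WrFrame m x y z) {i j : ℤ} (hd : 2 * m ∣ i - j) {u : G}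
    (hu : u ∈ (S : Subgroup G)) : Commute u (rotW x y i j) := by
  obtain ⟨k, l, rfl | rfl⟩ := W.exists_coords hu
  · show _ = _
    rw [W.rotW_mul, W.rotW_mul, add_comm k, add_comm l]
  · exact (W.rotW_commute_outW_iff.2 hd).symm

theorem mem_centerMap_iff (W : WrFrame m x y z) {u : G} :
    u ∈ (Subgroup.center (S : Subgroup G)).map (S : Subgroup G).subtype ↔
      ∃ i : ℤ, u = rotW x y i i := by
  constructor
  · rintro ⟨v, hv, rfl⟩
    obtain ⟨i, rfl⟩ := W.mem_center_iff.1 hv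
    exact ⟨i, rfl⟩
  · rintro ⟨i, rfl⟩
    exact ⟨_, W.mem_center_iff.2 ⟨i, rfl⟩, rfl⟩

theorem orderOf_tW (W : WrFrame m x y z) : orderOf (rotW x y m m) = 2 := by
  rw [rotW, Subgroup.orderOf_coe, W.orderOf_central_invol]

theorem orderOf_eW (W : WrFrame m x y z) : orderOf (rotW x y m 0) = 2 := by
  rw [invol_iff, W.rotW_mul, W.rotW_eq_one_iff, Ne, W.rotW_eq_one_iff]
  exact ⟨⟨⟨1, by ring⟩, ⟨0, by ring⟩⟩, fun h => W.not_dvd_half h.1⟩

theorem orderOf_wW (W : WrFrame m x y z) {i j : ℤ} (h : 2 * m ∣ i + j) :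
    orderOf (outW x y z i j) = 2 := by
  rw [invol_iff, W.outW_sq, W.rotW_eq_one_iff]
  exact ⟨⟨h, h⟩, fun e => W.rotW_ne_outW 0 0 i j ((rotW_zero x y).trans e.symm)⟩

theorem eW_ne_tW (W : WrFrame m x y z) : rotW x y m 0 ≠ rotW x y m m := fun e => by
  have h := (W.rotW_eq_iff.1 e).2
  rw [zero_sub, dvd_neg] at h
  exact W.not_dvd_half h

theorem eW'_ne_tW (W : WrFrame m x y z) : rotW x y 0 m ≠ rotW x y m m := fun e => by
  have h := (W.rotW_eq_iff.1 e).1
  rw [zero_sub, dvd_neg] at h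
  exact W.not_dvd_half h

theorem eW_ne_eW' (W : WrFrame m x y z) : rotW x y m 0 ≠ rotW x y 0 m := fun e => by
  have h := (W.rotW_eq_iff.1 e).1
  rw [sub_zero] at h
  exact W.not_dvd_half h

/-- The involutions of the base. -/
theorem rot_invol_cases (W : WrFrame m x y z) {i j : ℤ} (h : rotW x y i j * rotW x y i j = 1) :
    rotW x y i j = 1 ∨ rotW x y i j = rotW x y m m ∨ rotW x y i j = rotW x y m 0 ∨
      rotW x y i j = rotW x y 0 m := by
  rw [W.rotW_mul, W.rotW_eq_one_iff, ← two_mul, ← two_mul, mul_dvd_mul_iff_left two_ne_zero,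
    mul_dvd_mul_iff_left two_ne_zero] at h
  rcases W.half_cases h.1 with h1 | h1 <;> rcases W.half_cases h.2 with h2 | h2
  · exact Or.inl (W.rotW_eq_one_iff.2 ⟨h1, h2⟩)
  · exact Or.inr (Or.inr (Or.inr (W.rotW_eq_iff.2 ⟨by simpa using h1, h2⟩)))
  · exact Or.inr (Or.inr (Or.inl (W.rotW_eq_iff.2 ⟨h1, by simpa using h2⟩)))
  · exact Or.inr (Or.inl (W.rotW_eq_iff.2 ⟨h1, h2⟩))

/-- The involutions of `S`. -/
theorem invol_casesW (W : WrFrame m x y z) {u : G} (hu : u ∈ (S : Subgroup G))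
    (ho : orderOf u = 2) :
    u = rotW x y m m ∨ u = rotW x y m 0 ∨ u = rotW x y 0 m ∨
      ∃ i j : ℤ, 2 * m ∣ i + j ∧ u = outW x y z i j := by
  obtain ⟨i, j, rfl | rfl⟩ := W.exists_coords hu
  · rcases W.rot_invol_cases (invol_mul_self ho) with e | e | e | e
    · exact absurd e (invol_ne_one ho)
    · exact Or.inl e
    · exact Or.inr (Or.inl e)
    · exact Or.inr (Or.inr (Or.inl e))
  · refine Or.inr (Or.inr (Or.inr ⟨i, j, ?_, rfl⟩))
    have h := invol_mul_self ho
    rw [W.outW_sq, W.rotW_eq_one_iff] at h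
    exact h.1

/-- Outer involutions are conjugate to `z` by a diagonal-fixing element. -/
theorem exists_rot_conj_invol (W : WrFrame m x y z) {i j : ℤ} (h : 2 * m ∣ i + j) :
    ∃ k l : ℤ, rotW x y k l * outW x y z 0 0 * (rotW x y k l)⁻¹ = outW x y z i j := by
  refine ⟨i, 0, ?_⟩
  rw [W.rotW_conj_outW, W.outW_eq_iff]
  exact ⟨⟨0, by ring⟩, by
    rw [show 0 + 0 - i - j = -(i + j) by ring, dvd_neg]
    exact h⟩

theorem isConj_invol (W : WrFrame m x y z) {i j : ℤ} (h : 2 * m ∣ i + j) :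
    IsConj (outW x y z 0 0) (outW x y z i j) := by
  obtain ⟨k, l, e⟩ := W.exists_rot_conj_invol h
  exact isConj_iff.2 ⟨_, e⟩

theorem isConj_eW (W : WrFrame m x y z) : IsConj (rotW x y m 0) (rotW x y 0 m) :=
  isConj_iff.2 ⟨outW x y z 0 0, W.outW_conj_rotW 0 0 m 0⟩

/-- The base in the ambient group. -/
def baseG (W : WrFrame m x y z) : Subgroup G := W.base.map (S : Subgroup G).subtype

theorem mem_baseG (W : WrFrame m x y z) {u : G} : u ∈ W.baseG ↔ ∃ i j : ℤ, u = rotW x y i j := by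
  constructor
  · rintro ⟨v, ⟨i, j, rfl⟩, rfl⟩
    exact ⟨i, j, rfl⟩
  · rintro ⟨i, j, rfl⟩
    exact ⟨_, W.rot_mem_base i j, rfl⟩

theorem baseG_le (W : WrFrame m x y z) : W.baseG ≤ (S : Subgroup G) := map_subtype_le _

theorem baseG_comm (W : WrFrame m x y z) {u v : G} (hu : u ∈ W.baseG) (hv : v ∈ W.baseG) :
    Commute u v := by
  obtain ⟨i, j, rfl⟩ := W.mem_baseG.1 hu
  obtain ⟨k, l, rfl⟩ := W.mem_baseG.1 hv
  show _ = _
  rw [W.rotW_mul, W.rotW_mul, add_comm i, add_comm j]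

theorem outW_notMem_baseG (W : WrFrame m x y z) (i j : ℤ) : outW x y z i j ∉ W.baseG := fun h => by
  obtain ⟨k, l, e⟩ := W.mem_baseG.1 h
  exact W.rotW_ne_outW k l i j e.symm

theorem relIndex_baseG (W : WrFrame m x y z) : W.baseG.relIndex (S : Subgroup G) = 2 := by
  rw [baseG, Subgroup.relIndex, Subgroup.subgroupOf,
    Subgroup.comap_map_eq_self_of_injective (Subgroup.subtype_injective _), W.index_base]

theorem le_normalizer_baseG (W : WrFrame m x y z) :
    (S : Subgroup G) ≤ normalizer (W.baseG : Set G) := by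
  intro s hs
  refine Subgroup.mem_normalizer_iff.2 fun u => ?_
  have key : ∀ s' ∈ (S : Subgroup G), ∀ v ∈ W.baseG, s' * v * s'⁻¹ ∈ W.baseG := by
    intro s' hs' v hv
    obtain ⟨i, j, rfl⟩ := W.mem_baseG.1 hv
    obtain ⟨k, l, rfl | rfl⟩ := W.exists_coords hs'
    · rw [W.rotW_conj_rotW]; exact hv
    · rw [W.outW_conj_rotW]; exact W.mem_baseG.2 ⟨j, i, rfl⟩
  refine ⟨key s hs u, fun h => ?_⟩
  have := key s⁻¹ (inv_mem hs) _ h
  rwa [show s⁻¹ * (s * u * s⁻¹) * s⁻¹⁻¹ = u by group] at this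

theorem card_baseG [Finite G] (W : WrFrame m x y z) {N : ℕ} (hN : (N : ℤ) = 2 * m)
    (hS : Nat.card (S : Subgroup G) = 2 * (N * N)) : Nat.card W.baseG = N * N := by
  rw [baseG, Subgroup.card_map_of_injective (Subgroup.subtype_injective _)]
  have h := W.base.card_mul_index
  rw [W.index_base, hS] at h
  omega

/-- The base is the only abelian subgroup of its order. -/
theorem eq_baseG_of_abelian [Finite G] (W : WrFrame m x y z) {N : ℕ} (hN : (N : ℤ) = 2 * m)
    (hS : Nat.card (S : Subgroup G) = 2 * (N * N)) {U : Subgroup G} (hUS : U ≤ (S : Subgroup G))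
    (hab : ∀ u ∈ U, ∀ v ∈ U, Commute u v) (hc : Nat.card U = N * N) : U = W.baseG := by
  refine Subgroup.eq_of_le_of_card_ge (fun u hu => ?_) (by rw [hc, W.card_baseG hN hS])
  obtain ⟨i, j, rfl | rfl⟩ := W.exists_coords (hUS hu)
  · exact W.mem_baseG.2 ⟨i, j, rfl⟩
  exfalso
  have hle : U ≤ (W.diffSub (2 * m) (i - j)).map (S : Subgroup G).subtype := by
    intro v hv
    have hcm := hab v hv _ hu
    obtain ⟨k, l, rfl | rfl⟩ := W.exists_coords (hUS hv)
    · exact ⟨_, (W.rot_mem_diffSub dvd_rfl).2 (W.rotW_commute_outW_iff.1 hcm.eq), rfl⟩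
    · exact ⟨_, (W.out_mem_diffSub dvd_rfl).2 (W.outW_commute_outW_iff.1 hcm.eq), rfl⟩
  have h1 := Subgroup.card_le_of_le hle
  rw [Subgroup.card_map_of_injective (Subgroup.subtype_injective _),
    W.card_diffSub (t := 1) hN (by push_cast; ring), hc, mul_one] at h1
  have h3 : (4 : ℤ) ≤ N := by have := W.two_le; omega
  have h4 : 4 * N ≤ N * N := Nat.mul_le_mul_right N (by omega)
  omega

end WrFrame

end CfsgLib.Invol
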