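import Cfsg.Agent.Lib.Invol.WreathedQuat
import Cfsg.Prelude.Def_Transfer

/-!
# The centre of a wreathed Sylow 2-subgroup without fusion in the base
-/

set_option autoImplicit false
set_option linter.style.haveILetI false

namespace CfsgLib.Invol

open Subgroup CfsgLib.Fusion

namespace WrSylow

variable {G : Type*} [Group G] [Finite G] {S : Sylow 2 G} {m : ℤ} {x y z : (S : Subgroup G)} {N : ℕ}

/-- The centraliser in `S` of an outer element with difference of exponents `d`. -/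
def centOuter (W : WrSylow S m x y z N) (d : ℤ) : Subgroup G := W.diffG (2 * m) d

theorem card_centOuter (W : WrSylow S m x y z N) (d : ℤ) :
    Nat.card (W.centOuter d) = 2 * (N * 1) := W.card_diffG 1 (by push_cast; ring)

theorem centOuter_comm (W : WrSylow S m x y z N) {d : ℤ} {u v : G} (hu : u ∈ W.centOuter d)
    (hv : v ∈ W.centOuter d) : Commute u v := by
  have F := W.frame
  obtain ⟨i, j, rfl | rfl⟩ := F.exists_coords (W.diffG_le _ _ hu) <;>
    obtain ⟨k, l, rfl | rfl⟩ := F.exists_coords (W.diffG_le _ _ hv)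
  · exact F.baseG_comm (F.mem_baseG.2 ⟨i, j, rfl⟩) (F.mem_baseG.2 ⟨k, l, rfl⟩)
  · exact F.rotW_commute_outW_iff.2 ((W.rotW_mem_diffG dvd_rfl).1 hu)
  · exact (F.rotW_commute_outW_iff.2 ((W.rotW_mem_diffG dvd_rfl).1 hv)).symm
  · refine F.outW_commute_outW_iff.2 ?_
    have := dvd_sub ((W.outW_mem_diffG dvd_rfl).1 hu) ((W.outW_mem_diffG dvd_rfl).1 hv)
    rwa [show i - j - d - (k - l - d) = i - j - (k - l) by ring] at this

/-- An abelian image of some `centOuter d` in `S`, not in the base, is again of this form. -/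
theorem conj_centOuter (W : WrSylow S m x y z N) {g : G} {d : ℤ}
    (hS : conjBy g (W.centOuter d) ≤ (S : Subgroup G))
    (hA : ¬ conjBy g (W.centOuter d) ≤ W.frame.baseG) :
    ∃ d', conjBy g (W.centOuter d) = W.centOuter d' := by
  have F := W.frame
  obtain ⟨u, hu, hu'⟩ := SetLike.not_le_iff_exists.1 hA
  obtain ⟨i, j, rfl | rfl⟩ := F.exists_coords (hS hu)
  · exact absurd (F.mem_baseG.2 ⟨i, j, rfl⟩) hu'
  refine ⟨i - j, Subgroup.eq_of_le_of_card_ge (fun v hv => ?_)
    (by rw [card_conjBy, W.card_centOuter, W.card_centOuter])⟩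
  obtain ⟨a, ha, ha'⟩ := hu
  obtain ⟨b, hb, rfl⟩ := hv
  have hcm : Commute (g * b * g⁻¹) (g * a * g⁻¹) := commute_conj (W.centOuter_comm hb ha) g
  rw [show g * a * g⁻¹ = outW x y z i j from ha'] at hcm
  obtain ⟨k, l, e | e⟩ := F.exists_coords (hS (conj_mem_conjBy hb))
  · rw [e] at hcm
    show g * b * g⁻¹ ∈ _
    rw [e]
    exact (W.rotW_mem_diffG dvd_rfl).2 (F.rotW_commute_outW_iff.1 hcm.eq)
  · rw [e] at hcm
    show g * b * g⁻¹ ∈ _
    rw [e]
    exact (W.outW_mem_diffG dvd_rfl).2 (F.outW_commute_outW_iff.1 hcm.eq)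

theorem mem_normalizer_centOuter (W : WrSylow S m x y z N) {d : ℤ} {u : G}
    (hu : u ∈ (S : Subgroup G)) :
    u ∈ normalizer (W.centOuter d : Set G) ↔ u ∈ W.diffG m d := by
  have F := W.frame
  have hm : m ∣ 2 * m := dvd_mul_left m 2
  have hmem : ∀ r : ℤ, (2 * m ∣ 2 * r ↔ m ∣ r) := fun r =>
    mul_dvd_mul_iff_left two_ne_zero
  constructor
  · intro hn
    have h1 : u * outW x y z d 0 * u⁻¹ ∈ W.centOuter d :=
      (mem_normalizer_iff.1 hn _).1 ((W.outW_mem_diffG dvd_rfl).2 (by simp))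
    obtain ⟨p, l, rfl | rfl⟩ := F.exists_coords hu
    · rw [F.rotW_conj_outW, centOuter, W.outW_mem_diffG dvd_rfl,
        show d + p - l - (0 + l - p) - d = 2 * (p - l) by ring, hmem] at h1
      exact (W.rotW_mem_diffG hm).2 h1
    · rw [F.outW_conj_outW, centOuter, W.outW_mem_diffG dvd_rfl,
        show p + 0 - l - (l + d - p) - d = 2 * (p - l - d) by ring, hmem] at h1
      exact (W.outW_mem_diffG hm).2 h1
  · intro h
    refine mem_normalizer_of_conj_mem fun v hv => ?_
    obtain ⟨p, l, rfl | rfl⟩ := F.exists_coords hu <;>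
      obtain ⟨i, j, rfl | rfl⟩ := F.exists_coords (W.diffG_le _ _ hv)
    · rwa [F.rotW_conj_rotW]
    · rw [F.rotW_conj_outW, centOuter, W.outW_mem_diffG dvd_rfl,
        show i + p - l - (j + l - p) - d = (i - j - d) + 2 * (p - l) by ring]
      exact dvd_add ((W.outW_mem_diffG dvd_rfl).1 hv) ((hmem _).2 ((W.rotW_mem_diffG hm).1 h))
    · rw [F.outW_conj_rotW, centOuter, W.rotW_mem_diffG dvd_rfl, ← neg_sub, dvd_neg]
      exact (W.rotW_mem_diffG dvd_rfl).1 hv
    · rw [F.outW_conj_outW, centOuter, W.outW_mem_diffG dvd_rfl,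
        show p + j - l - (l + i - p) - d = 2 * (p - l - d) - (i - j - d) by ring]
      exact dvd_sub ((hmem _).2 ((W.outW_mem_diffG hm).1 h)) ((W.outW_mem_diffG dvd_rfl).1 hv)

/-- If no conjugate of `centOuter d` lies in the base, its normaliser fixes the centre of `S`. -/
theorem normalizer_centOuter_fix (W : WrSylow S m x y z N) {d : ℤ} (hd : 2 ∣ d)
    (hno : ∀ g : G, ¬ conjBy g (W.centOuter d) ≤ W.frame.baseG) {n ζ : G}
    (hn : n ∈ normalizer (W.centOuter d : Set G)) (hζ : ζ ∈ centerG S) : n * ζ * n⁻¹ = ζ := by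
  haveI : Fact (Nat.Prime 2) := ⟨Nat.prime_two⟩
  have F := W.frame
  have hm : m ∣ 2 * m := dvd_mul_left m 2
  obtain ⟨q, hq⟩ := F.even
  set B := W.centOuter d with hB
  set Nn := normalizer (B : Set G) with hNn
  have hRN : W.diffG m d ≤ Nn := fun u hu =>
    (W.mem_normalizer_centOuter (W.diffG_le _ _ hu)).2 hu
  have hBR : B ≤ W.diffG m d := fun u hu =>
    (W.mem_normalizer_centOuter (W.diffG_le _ _ hu)).1 (le_normalizer hu)
  -- `diffG m d` is a Sylow 2-subgroup of the normaliser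
  obtain ⟨T, hT1, hT2, hTp, hTi⟩ := exists_le_not_dvd_relIndex (S.2.to_le (W.diffG_le m d)) hRN
  obtain ⟨g, hg⟩ := exists_conj_le_sylow hTp S
  have hgS : conjBy g T ≤ (S : Subgroup G) := conjBy_le_iff.2 hg
  obtain ⟨d', hd'⟩ := W.conj_centOuter ((conjBy_mono (hBR.trans hT1)).trans hgS) (hno g)
  have hle : conjBy g T ≤ W.diffG m d' := fun u hu => by
    refine (W.mem_normalizer_centOuter (hgS hu)).1 ?_
    rw [← hd']
    exact conjBy_normalizer g B ▸ conjBy_mono hT2 hu
  have hc := Subgroup.card_le_of_le hle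
  rw [card_conjBy, W.card_diffG 2 (by push_cast; ring)] at hc
  have hTeq : W.diffG m d = T := Subgroup.eq_of_le_of_card_ge hT1
    (by rw [W.card_diffG 2 (by push_cast; ring)]; exact hc)
  -- elements of odd order centralise `centOuter d`
  haveI : ((centralizer (B : Set G)).subgroupOf Nn).Normal :=
    ⟨fun c hc u => mem_subgroupOf.2 (mem_centralizer_iff.2 fun v hv => by
      have h1 := mem_centralizer_iff.1 (mem_subgroupOf.1 hc) ((u : G)⁻¹ * v * u)
        (by simpa using (mem_normalizer_iff.1 (inv_mem u.2) v).1 hv)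
      push_cast
      calc v * ((u : G) * c * (u : G)⁻¹) = u * ((u : G)⁻¹ * v * u * c) * (u : G)⁻¹ := by group
        _ = u * (c * ((u : G)⁻¹ * v * u)) * (u : G)⁻¹ := by rw [h1]
        _ = _ := by group)⟩
  have htB : rotW x y m m ∈ B := (W.rotW_mem_diffG dvd_rfl).2 (by simp)
  have hcB : rotW x y 1 1 ∈ B := (W.rotW_mem_diffG dvd_rfl).2 (by simp)
  have hpow : ∀ v ∈ B, v ^ m = 1 ∨ v ^ m = rotW x y m m := by
    intro v hv
    obtain ⟨i, j, rfl | rfl⟩ := F.exists_coords (W.diffG_le _ _ hv)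
    · rw [F.rotW_zpow, F.rotW_eq_one_iff, F.rotW_eq_iff]
      have h := (W.rotW_mem_diffG dvd_rfl).1 hv
      rcases Int.even_or_odd' i with ⟨r, rfl | rfl⟩
      · left
        refine ⟨⟨r, by ring⟩, ?_⟩
        rw [show j * m = 2 * r * m - (2 * r - j) * m by ring]
        exact dvd_sub ⟨r, by ring⟩ (h.mul_right m)
      · right
        refine ⟨⟨r, by ring⟩, ?_⟩
        rw [show j * m - m = 2 * r * m - (2 * r + 1 - j) * m by ring]
        exact dvd_sub ⟨r, by ring⟩ (h.mul_right m)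
    · rw [hq, zpow_mul, zpow_two, F.outW_sq, F.rotW_zpow, ← hq, F.rotW_eq_one_iff, F.rotW_eq_iff]
      have h := (W.outW_mem_diffG dvd_rfl).1 hv
      obtain ⟨e, he⟩ := hd
      have h2 : 2 * m ∣ (i - j - d) := h
      obtain ⟨f, hf⟩ := h2
      have hsum : i + j = 2 * (j + m * f + e) := by linarith
      rcases Int.even_or_odd' (j + m * f + e) with ⟨r, hr | hr⟩
      · left
        rw [hsum, hr, hq]
        exact ⟨⟨r, by ring⟩, ⟨r, by ring⟩⟩
      · right
        rw [hsum, hr, hq]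
        exact ⟨⟨r, by ring⟩, ⟨r, by ring⟩⟩
  have hsup := sup_eq_top_of_sylow (N := Nn) ((centralizer (B : Set G)).subgroupOf Nn)
    (T := (W.diffG m d).subgroupOf Nn) (hTeq ▸ hTi) fun u hodd => by
      rw [← Subgroup.orderOf_coe] at hodd
      refine mem_subgroupOf.2 (mem_centralizer_of_fix_omega (p := 2) (S.2.to_le (W.diffG_le _ _))
        (fun a ha b hb => (W.centOuter_comm ha hb).eq) u.2 (Nat.coprime_two_right.2 hodd) ?_)
      have hut : (u : G) * rotW x y m m * (u : G)⁻¹ = rotW x y m m := by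
        rcases hpow _ ((mem_normalizer_iff.1 u.2 _).1 hcB) with e | e <;>
          rw [conj_zpow, F.rotW_zpow, one_mul] at e
        · exact absurd (conj_eq_one_iff.1 e) (invol_ne_one F.orderOf_tW)
        · exact e
      intro a ha ha2
      -- the involutions of `B` are `t` and two others
      have hinv : ∀ v ∈ B, v ^ 2 = 1 → v ≠ 1 → v ≠ rotW x y m m →
          ∀ v' ∈ B, v' ^ 2 = 1 → v' ≠ 1 → v' ≠ rotW x y m m → v' ≠ v → v' = v * rotW x y m m := by
        intro v hv hv2 hv1 hvt v' hv' hv'2 hv'1 hv't hne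
        have out_form : ∀ w ∈ B, w ^ 2 = 1 → w ≠ 1 → w ≠ rotW x y m m →
            ∃ i j, w = outW x y z i j ∧ 2 * m ∣ i + j ∧ 2 * m ∣ i - j - d := by
          intro w hw hw2 hw1 hwt
          rcases F.invol_casesW (W.diffG_le _ _ hw) (orderOf_eq_prime hw2 hw1) with
            e | e | e | ⟨i, j, hij, e⟩
          · exact absurd e hwt
          · have := (W.rotW_mem_diffG dvd_rfl).1 (e ▸ hw)
            rw [sub_zero] at this
            exact absurd this F.not_dvd_half
          · have := (W.rotW_mem_diffG dvd_rfl).1 (e ▸ hw)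
            rw [zero_sub, dvd_neg] at this
            exact absurd this F.not_dvd_half
          · exact ⟨i, j, e, hij, (W.outW_mem_diffG dvd_rfl).1 (e ▸ hw)⟩
        obtain ⟨i, j, rfl, h1, h2⟩ := out_form v hv hv2 hv1 hvt
        obtain ⟨k, l, rfl, h3, h4⟩ := out_form v' hv' hv'2 hv'1 hv't
        rw [F.outW_mul_rotW, F.outW_eq_iff]
        have h5 : 2 * m ∣ 2 * (k - i) := by
          have := dvd_sub (dvd_add h3 h4) (dvd_add h1 h2)
          rwa [show k + l + (k - l - d) - (i + j + (i - j - d)) = 2 * (k - i) by ring] at this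
        rcases F.half_cases ((mul_dvd_mul_iff_left two_ne_zero).1 h5) with h6 | h6
        · refine absurd (F.outW_eq_iff.2 ⟨h6, ?_⟩) hne
          rw [show l - j = (k + l - (i + j)) - (k - i) by ring]
          exact dvd_sub (dvd_sub h3 h1) h6
        · refine ⟨by rwa [show k - (i + m) = k - i - m by ring], ?_⟩
          rw [show l - (j + m) = (k + l - (i + j)) - (k - i - m) - 2 * m by ring]
          exact dvd_sub (dvd_sub (dvd_sub h3 h1) h6) dvd_rfl
      by_cases ha1 : a = 1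
      · subst ha1; group
      by_cases hat : a = rotW x y m m
      · rw [hat]; exact hut
      have himg : ∀ v ∈ B, v ^ 2 = 1 → v ≠ 1 → v ≠ rotW x y m m →
          (u : G) * v * (u : G)⁻¹ ∈ B ∧ ((u : G) * v * (u : G)⁻¹) ^ 2 = 1 ∧
            (u : G) * v * (u : G)⁻¹ ≠ 1 ∧ (u : G) * v * (u : G)⁻¹ ≠ rotW x y m m := by
        intro v hv hv2 hv1 hvt
        refine ⟨(mem_normalizer_iff.1 u.2 v).1 hv, by rw [conj_pow, hv2, mul_one, mul_inv_cancel],
          fun e => hv1 (conj_eq_one_iff.1 e), fun e => hvt ?_⟩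
        exact mul_left_cancel (mul_right_cancel (e.trans hut.symm))
      obtain ⟨b1, b2, b3, b4⟩ := himg a ha ha2 ha1 hat
      by_contra hne
      have e1 : (u : G) * a * (u : G)⁻¹ = a * rotW x y m m :=
        hinv a ha ha2 ha1 hat _ b1 b2 b3 b4 hne
      have e2 : ∀ j : ℕ, (u : G) ^ (2 * j + 1) * a * ((u : G) ^ (2 * j + 1))⁻¹ =
          a * rotW x y m m := by
        intro j
        induction j with
        | zero => simpa using e1
        | succ j ih =>
          rw [show 2 * (j + 1) + 1 = 2 + (2 * j + 1) by ring, pow_add,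
            show (u : G) ^ 2 * (u : G) ^ (2 * j + 1) * a * ((u : G) ^ 2 * (u : G) ^ (2 * j + 1))⁻¹ =
              (u : G) ^ 2 * ((u : G) ^ (2 * j + 1) * a * ((u : G) ^ (2 * j + 1))⁻¹) *
                ((u : G) ^ 2)⁻¹ by group, ih, pow_two,
            show (u : G) * u * (a * rotW x y m m) * ((u : G) * u)⁻¹ =
              (u : G) * ((u : G) * a * (u : G)⁻¹ * ((u : G) * rotW x y m m * (u : G)⁻¹)) *
                (u : G)⁻¹ by group, e1, hut, mul_assoc a,
            invol_mul_self F.orderOf_tW, mul_one, e1]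
      obtain ⟨j, hj⟩ := hodd
      have h7 := e2 j
      rw [← hj, pow_orderOf_eq_one, one_mul, inv_one, mul_one, left_eq_mul] at h7
      exact invol_ne_one F.orderOf_tW h7
  have hsub : (⊤ : Subgroup Nn) ≤ (centralizer ({ζ} : Set G)).subgroupOf Nn := by
    rw [← hsup]
    refine sup_le (fun u hu => mem_subgroupOf.2 (mem_centralizer_singleton_iff.2 ?_))
      fun u hu => mem_subgroupOf.2 (mem_centralizer_singleton_iff.2 ?_)
    · exact (W.commute_centerG (W.diffG_le _ _ (mem_subgroupOf.1 hu)) hζ).eq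
    · exact (mem_centralizer_iff.1 (mem_subgroupOf.1 hu) ζ (W.centerG_le_diffG dvd_rfl hζ)).symm
  exact mul_inv_eq_iff_eq_mul.2
    (mem_centralizer_singleton_iff.1 (mem_subgroupOf.1 (hsub (mem_top ⟨n, hn⟩))))

/-- Without fusion in the base, elements of the centre of `S` are closed. -/
theorem center_closed (W : WrSylow S m x y z N) (hA : ¬ W.FusedA) {ζ g : G} (hζ : ζ ∈ centerG S)
    (hg : g * ζ * g⁻¹ ∈ (S : Subgroup G)) : g * ζ * g⁻¹ = ζ := by
  haveI : Fact (Nat.Prime 2) := ⟨Nat.prime_two⟩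
  have F := W.frame
  have hbase : ∀ ζ' ∈ centerG S, ∀ g' : G, g' * ζ' * g'⁻¹ ∈ F.baseG → g' * ζ' * g'⁻¹ = ζ' := by
    intro ζ' hζ' g' hg'
    obtain ⟨r, rfl⟩ := F.mem_centerMap_iff.1 hζ'
    have hr : rotW x y r r ∈ F.baseG := F.mem_baseG.2 ⟨r, r, rfl⟩
    obtain ⟨n, hn, he⟩ := W.exists_normalizer_conj hr hg'
    rw [← he]
    rcases W.normalizer_conj_cases hn (W.normalizer_fix_tW hA hn) hr with e | e
    · exact e
    · rw [e, F.outW_conj_rotW]
  obtain ⟨i, j, e | e⟩ := F.exists_coords hg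
  · exact hbase ζ hζ g (e ▸ F.mem_baseG.2 ⟨i, j, rfl⟩)
  exfalso
  obtain ⟨r, hr⟩ := F.mem_centerMap_iff.1 hζ
  -- the difference of exponents is even
  have hd : 2 ∣ i - j := by
    have h1 : g * (ζ * ζ) * g⁻¹ = rotW x y (i + j) (i + j) := by
      rw [← F.outW_sq, ← e]; group
    have h2 := hbase (ζ * ζ) (mul_mem hζ hζ) g (h1 ▸ F.mem_baseG.2 ⟨_, _, rfl⟩)
    rw [h1, hr, F.rotW_mul, F.rotW_eq_iff] at h2
    obtain ⟨f, hf⟩ := h2.1
    exact ⟨r + m * f - j, by linarith⟩
  set d := i - j with hdd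
  set B := W.centOuter d with hB
  set v := g * ζ * g⁻¹ with hv
  have hvB : v ∈ B := by rw [e]; exact (W.outW_mem_diffG dvd_rfl).2 (by simp [hdd])
  have hζB : ζ ∈ B := W.centerG_le_diffG dvd_rfl hζ
  have hvζ : v ≠ ζ := fun e' => F.rotW_ne_outW r r i j ((e'.trans hr).symm.trans e)
  have hBp : IsPGroup 2 B := S.2.to_le (W.diffG_le _ _)
  by_cases hno : ∃ h : G, conjBy h B ≤ F.baseG
  · obtain ⟨h, hh⟩ := hno
    have h1 := hbase ζ hζ h (hh (conj_mem_conjBy hζB))
    have h2 : h * v * h⁻¹ = ζ := by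
      rw [hv, conj_mul_conj]
      exact hbase ζ hζ (h * g) (by rw [← conj_mul_conj]; exact hh (conj_mem_conjBy hvB))
    exact hvζ (mul_left_cancel (mul_right_cancel (h2.trans h1.symm)))
  push Not at hno
  -- move `B` into `S` sending `v` to `ζ`
  have hSC : (S : Subgroup G) ≤ centralizer {ζ} := fun s hs =>
    mem_centralizer_singleton_iff.2 (W.commute_centerG hs hζ)
  obtain ⟨c, hc, hcS⟩ := exists_conj_le_of_not_dvd_relIndex S.2 hSC
    (fun hdv => S.not_dvd_index (hdv.trans (Subgroup.relIndex_dvd_index_of_le hSC)))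
    (isPGroup_conjBy g⁻¹ hBp)
    (conjBy_le_iff.2 fun u hu => mem_centralizer_singleton_iff.2 (by
      have h1 := commute_conj (W.centOuter_comm hu hvB) g⁻¹
      rw [show g⁻¹ * v * g⁻¹⁻¹ = ζ by rw [hv]; group] at h1
      exact h1))
  rw [conjBy_conjBy] at hcS
  set f := c * g⁻¹ with hf
  have hfv : f * v * f⁻¹ = ζ := by
    rw [hf, ← conj_mul_conj, show g⁻¹ * v * g⁻¹⁻¹ = ζ by rw [hv]; group]
    exact mul_inv_eq_iff_eq_mul.2 (mem_centralizer_singleton_iff.1 hc)
  obtain ⟨d', hd'⟩ := W.conj_centOuter hcS (hno f)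
  -- `d'` is even
  have hde : 2 ∣ d' := by
    obtain ⟨a, ha⟩ := hd
    set w := outW x y z a (-a) with hw
    have hwB : w ∈ B := (W.outW_mem_diffG dvd_rfl).2 ⟨0, by rw [ha]; ring⟩
    have hwo : orderOf w = 2 := F.orderOf_wW (by simp)
    have htB : rotW x y m m ∈ B := W.centerG_le_diffG dvd_rfl W.tW_mem_centerG
    have main : ∀ u ∈ B, orderOf u = 2 → 2 ∣ d' ∨ f * u * f⁻¹ = rotW x y m m := by
      intro u hu huo
      have hu' : f * u * f⁻¹ ∈ W.centOuter d' := hd' ▸ conj_mem_conjBy hu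
      rcases F.invol_casesW (W.diffG_le _ _ hu') (invol_conj huo f) with e' | e' | e' | ⟨k, l, h1, e'⟩
      · exact Or.inr e'
      · have h2 := (W.rotW_mem_diffG dvd_rfl).1 (e' ▸ hu')
        rw [sub_zero] at h2
        exact absurd h2 F.not_dvd_half
      · have h2 := (W.rotW_mem_diffG dvd_rfl).1 (e' ▸ hu')
        rw [zero_sub, dvd_neg] at h2
        exact absurd h2 F.not_dvd_half
      · have h2 := (W.outW_mem_diffG dvd_rfl).1 (e' ▸ hu')
        refine Or.inl ?_
        obtain ⟨a1, ha1⟩ := h1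
        obtain ⟨a2, ha2⟩ := h2
        exact ⟨m * a1 - m * a2 - l, by linarith⟩
    rcases main w hwB hwo with h | h
    · exact h
    rcases main _ htB F.orderOf_tW with h' | h'
    · exact h'
    · exact absurd (mul_left_cancel (mul_right_cancel (h.trans h'.symm))).symm
        (F.rotW_ne_outW m m a (-a))
  obtain ⟨a, ha⟩ := hd
  obtain ⟨b, hb⟩ := hde
  set σ := rotW x y (a - b) 0 with hσ
  have hn : σ * f ∈ normalizer (B : Set G) := mem_normalizer_of_conj_mem fun u hu => by
    have hu' : f * u * f⁻¹ ∈ W.centOuter d' := hd' ▸ conj_mem_conjBy hu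
    rw [← conj_mul_conj]
    generalize f * u * f⁻¹ = u' at hu'
    obtain ⟨k, l, rfl | rfl⟩ := F.exists_coords (W.diffG_le _ _ hu')
    · rw [F.rotW_conj_rotW]
      exact (W.rotW_mem_diffG dvd_rfl).2 ((W.rotW_mem_diffG dvd_rfl).1 hu')
    · rw [F.rotW_conj_outW]
      refine (W.outW_mem_diffG dvd_rfl).2 ?_
      rw [show k + (a - b) - 0 - (l + 0 - (a - b)) - d = k - l - d' by rw [ha, hb]; ring]
      exact (W.outW_mem_diffG dvd_rfl).1 hu'
  have hσζ : σ * ζ * σ⁻¹ = ζ :=
    mul_inv_eq_iff_eq_mul.2 (W.commute_centerG (rotW_mem x y _ 0) hζ).eq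
  have h3 : σ * f * v * (σ * f)⁻¹ = ζ := by rw [← conj_mul_conj, hfv, hσζ]
  have h4 := W.normalizer_centOuter_fix ⟨a, ha⟩ hno hn hζ
  exact hvζ (mul_left_cancel (mul_right_cancel (h3.trans h4.symm)))

/-- Without fusion in the base, every subgroup of the centre of `S` is weakly closed. -/
theorem weaklyClosed_of_le_center (W : WrSylow S m x y z N) (hA : ¬ W.FusedA) {Z₀ : Subgroup G}
    (hZ : Z₀ ≤ centerG S) : Cfsg.IsWeaklyClosed Z₀ (S : Subgroup G) := by
  refine ⟨hZ.trans (map_subtype_le _), fun g hg => ?_⟩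
  have key : ∀ ζ ∈ Z₀, g * ζ * g⁻¹ = ζ := fun ζ hζ =>
    W.center_closed hA (hZ hζ) (hg (conj_mem_conjBy hζ))
  ext u
  constructor
  · rintro ⟨v, hv, rfl⟩
    show g * v * g⁻¹ ∈ Z₀
    rw [key v hv]; exact hv
  · intro hu
    exact ⟨u, hu, key u hu⟩

/-- Weak closure of the centre rules out fusion in the base. -/
theorem not_fusedA_of_weaklyClosed (W : WrSylow S m x y z N)
    (h : Cfsg.IsWeaklyClosed (zpowers (rotW x y m m)) (S : Subgroup G)) : ¬ W.FusedA := fun hf => by
  obtain ⟨g, hg⟩ := isConj_iff.1 hf.symm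
  have hmap : (zpowers (rotW x y m m)).map (MulAut.conj g).toMonoidHom = zpowers (rotW x y m 0) := by
    rw [MonoidHom.map_zpowers]; exact congrArg zpowers hg
  have h1 := h.2 g (by rw [hmap, zpowers_le]; exact rotW_mem x y m 0)
  rw [hmap] at h1
  have h2 : rotW x y m 0 ∈ centerG S :=
    zpowers_le.2 W.tW_mem_centerG (h1 ▸ mem_zpowers (rotW x y m 0))
  exact W.frame.not_dvd_half (by simpa using W.mem_centerG.1 h2)

end WrSylow

end CfsgLib.Invol
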