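import Cfsg.Agent.Lib.Invol.WrCoords
import Cfsg.Agent.Lib.Invol.SylowKernel
import Cfsg.Agent.Lib.Invol.ThreePoint
import Cfsg.Agent.Lib.Fusion.ThompsonComplement
import Mathlib.GroupTheory.SpecificGroups.Quaternion

/-!
# The base and the quaternion-type subgroups of a wreathed Sylow 2-subgroup
-/

set_option autoImplicit false
set_option linter.style.haveILetI false

namespace CfsgLib.Invol

open Subgroup CfsgLib.Fusion

/-- A wreathed Sylow 2-subgroup together with coordinates. -/
structure WrSylow {G : Type*} [Group G] (S : Sylow 2 G) (m : ℤ) (x y z : (S : Subgroup G)) (N : ℕ) :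
    Prop where
  frame : WrFrame m x y z
  hN : (N : ℤ) = 2 * m
  card_eq : Nat.card (S : Subgroup G) = 2 * (N * N)
  two_pow : ∃ n, 2 ≤ n ∧ N = 2 ^ n

/-- The centre of a Sylow 2-subgroup, seen in the group. -/
abbrev centerG {G : Type*} [Group G] (S : Sylow 2 G) : Subgroup G :=
  (center (S : Subgroup G)).map (S : Subgroup G).subtype

theorem exists_wrSylow {G : Type*} [Group G] [Finite G] {S : Sylow 2 G}
    (hS : Cfsg.IsWreathed (S : Subgroup G)) :
    ∃ (m : ℤ) (x y z : (S : Subgroup G)) (N : ℕ), WrSylow S m x y z N := by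
  obtain ⟨n, x, y, z, hn, hc, W⟩ := exists_wrFrame hS
  refine ⟨_, x, y, z, 2 ^ n, W, ?_, ?_, n, hn, rfl⟩
  · push_cast
    rw [← pow_succ', Nat.sub_add_cancel (by omega)]
  · rw [hc, ← pow_add, ← pow_succ', two_mul]

/-- An element mapping a finite subgroup into itself normalises it. -/
theorem mem_normalizer_of_conj_mem {G : Type*} [Group G] [Finite G] {A : Subgroup G} {g : G}
    (h : ∀ a ∈ A, g * a * g⁻¹ ∈ A) : g ∈ normalizer (A : Set G) :=
  conjBy_eq_iff.1 (conjBy_eq_of_le (conjBy_le_iff.2 h))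

theorem conj_mul_conj {G : Type*} [Group G] (h g u : G) :
    h * (g * u * g⁻¹) * h⁻¹ = h * g * u * (h * g)⁻¹ := by group

theorem pow_four_eq {G : Type*} [Group G] (u : G) : u ^ 4 = u * u * (u * u) := by
  rw [pow_succ, pow_succ, pow_succ, pow_one, mul_assoc (u * u)]

theorem commute_conj {G : Type*} [Group G] {u v : G} (h : Commute u v) (g : G) :
    Commute (g * u * g⁻¹) (g * v * g⁻¹) := Commute.map h (MulAut.conj g).toMonoidHom

namespace WrSylow

variable {G : Type*} [Group G] [Finite G] {S : Sylow 2 G} {m : ℤ} {x y z : (S : Subgroup G)} {N : ℕ}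

/-- The involutions `x^m` and `(xy)^m` are conjugate. -/
def FusedA (_W : WrSylow S m x y z N) : Prop := IsConj (rotW x y m 0) (rotW x y m m)

/-- The involutions `z` and `x^m` are conjugate. -/
def FusedW (_W : WrSylow S m x y z N) : Prop := IsConj (outW x y z 0 0) (rotW x y m 0)

theorem two_mul_dvd (W : WrSylow S m x y z N) {q : ℤ} (hq : m = 2 * q) : q ∣ 2 * m :=
  ⟨4, by rw [hq]; ring⟩

theorem mem_centerG (W : WrSylow S m x y z N) {i j : ℤ} :
    rotW x y i j ∈ centerG S ↔ 2 * m ∣ i - j := by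
  rw [W.frame.mem_centerMap_iff]
  constructor
  · rintro ⟨r, e⟩
    obtain ⟨h1, h2⟩ := W.frame.rotW_eq_iff.1 e
    rw [show i - j = (i - r) - (j - r) by ring]
    exact dvd_sub h1 h2
  · intro h
    exact ⟨i, W.frame.rotW_eq_iff.2 ⟨by simp, by rw [← neg_sub, dvd_neg]; exact h⟩⟩

theorem outW_notMem_centerG (W : WrSylow S m x y z N) (i j : ℤ) :
    outW x y z i j ∉ centerG S := fun h => by
  obtain ⟨r, e⟩ := W.frame.mem_centerMap_iff.1 h
  exact W.frame.rotW_ne_outW r r i j e.symm

theorem commute_centerG (W : WrSylow S m x y z N) {u ζ : G} (hu : u ∈ (S : Subgroup G))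
    (hζ : ζ ∈ centerG S) : Commute u ζ := by
  obtain ⟨r, rfl⟩ := W.frame.mem_centerMap_iff.1 hζ
  exact W.frame.commute_diag (by simp) hu

theorem sylow_le_centralizer_centerG (W : WrSylow S m x y z N) :
    (S : Subgroup G) ≤ centralizer (centerG S : Set G) := fun _ hs =>
  mem_centralizer_iff.2 fun _ hζ => (W.commute_centerG hs hζ).symm.eq

theorem conj_centerG (W : WrSylow S m x y z N) {g ζ : G}
    (hg : g ∈ centralizer (centerG S : Set G)) (hζ : ζ ∈ centerG S) : g * ζ * g⁻¹ = ζ :=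
  mul_inv_eq_iff_eq_mul.2 (mem_centralizer_iff.1 hg ζ hζ).symm

theorem tW_mem_centerG (W : WrSylow S m x y z N) : rotW x y m m ∈ centerG S :=
  W.mem_centerG.2 (by simp)

theorem card_centerG (W : WrSylow S m x y z N) : Nat.card (centerG S) = N := by
  rw [Subgroup.card_map_of_injective (Subgroup.subtype_injective _), W.frame.center_eq,
    Nat.card_zpowers]
  exact W.frame.orderOf_rot fun k => by rw [one_mul, and_self_iff, W.hN]

theorem eW_conj_cases (W : WrSylow S m x y z N) {u : G} (hu : u ∈ W.frame.baseG)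
    (h1 : orderOf u = 2) :
    u = rotW x y m m ∨ u = rotW x y m 0 ∨ u = rotW x y 0 m := by
  obtain ⟨i, j, rfl⟩ := W.frame.mem_baseG.1 hu
  rcases W.frame.rot_invol_cases (invol_mul_self h1) with e | e
  · exact absurd e (invol_ne_one h1)
  · exact e

theorem eW_mem (W : WrSylow S m x y z N) : rotW x y m 0 ∈ W.frame.baseG :=
  W.frame.mem_baseG.2 ⟨m, 0, rfl⟩

theorem tW_mem (W : WrSylow S m x y z N) : rotW x y m m ∈ W.frame.baseG :=
  W.frame.mem_baseG.2 ⟨m, m, rfl⟩

theorem orderOf_eW' (W : WrSylow S m x y z N) : orderOf (rotW x y 0 m) = 2 := by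
  rw [← W.frame.outW_conj_rotW 0 0 m 0]
  exact invol_conj W.frame.orderOf_eW _

/-! ### The base -/

/-- Conjugations bringing the base into `S` normalise it. -/
theorem mem_normalizer_base (W : WrSylow S m x y z N) {g : G}
    (h : conjBy g W.frame.baseG ≤ (S : Subgroup G)) : g ∈ normalizer (W.frame.baseG : Set G) := by
  refine conjBy_eq_iff.1 (W.frame.eq_baseG_of_abelian W.hN W.card_eq h ?_
    ((card_conjBy g _).trans (W.frame.card_baseG W.hN W.card_eq)))
  intro u hu v hv
  obtain ⟨u', hu', rfl⟩ := hu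
  obtain ⟨v', hv', rfl⟩ := hv
  exact commute_conj (W.frame.baseG_comm hu' hv') g

/-- An element of the normaliser fixing the involutions of the base centralises it. -/
theorem mem_centralizer_base (W : WrSylow S m x y z N) {n : G}
    (hn : n ∈ normalizer (W.frame.baseG : Set G))
    (ht : n * rotW x y m m * n⁻¹ = rotW x y m m) (he : n * rotW x y m 0 * n⁻¹ = rotW x y m 0) :
    n ∈ centralizer (W.frame.baseG : Set G) := by
  haveI : Fact (Nat.Prime 2) := ⟨Nat.prime_two⟩
  set A := W.frame.baseG with hA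
  let K : Subgroup G := normalizer (A : Set G) ⊓
    centralizer ({rotW x y m m, rotW x y m 0} : Set G)
  have hfix : ∀ k ∈ K, ∀ u ∈ A, orderOf u = 2 → k * u * k⁻¹ = u := by
    intro k hk u hu ho
    have hc := mem_centralizer_iff.1 hk.2
    have h1 : k * rotW x y m m * k⁻¹ = rotW x y m m :=
      mul_inv_eq_iff_eq_mul.2 (hc _ (by simp)).symm
    have h2 : k * rotW x y m 0 * k⁻¹ = rotW x y m 0 :=
      mul_inv_eq_iff_eq_mul.2 (hc _ (by simp)).symm
    rcases W.eW_conj_cases hu ho with rfl | rfl | rfl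
    · exact h1
    · exact h2
    · have e : rotW x y 0 m = rotW x y m m * rotW x y m 0 := by
        rw [W.frame.rotW_mul, W.frame.rotW_eq_iff]
        exact ⟨⟨-1, by ring⟩, ⟨0, by ring⟩⟩
      rw [e, show k * (rotW x y m m * rotW x y m 0) * k⁻¹ =
        k * rotW x y m m * k⁻¹ * (k * rotW x y m 0 * k⁻¹) by group, h1, h2]
  have hnK : n ∈ K := by
    refine ⟨hn, mem_centralizer_iff.2 ?_⟩
    rintro u (rfl | rfl)
    · exact (mul_inv_eq_iff_eq_mul.1 ht).symm
    · exact (mul_inv_eq_iff_eq_mul.1 he).symm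
  suffices key : (⟨n, hnK⟩ : K) ∈ (centralizer (A : Set G)).subgroupOf K from
    mem_subgroupOf.1 key
  refine mem_of_parts _ _ (fun a ha => ?_) (fun a k ha => ?_) <;> rw [mem_subgroupOf]
  · rw [← Subgroup.orderOf_coe] at ha
    refine mem_centralizer_of_fix_omega (p := 2) (S.2.to_le W.frame.baseG_le)
      (fun u hu v hv => (W.frame.baseG_comm hu hv).eq) ((⟨n, hnK⟩ : K) ^ a).2.1
      (Nat.coprime_two_right.2 ha) fun u hu hu2 => ?_
    by_cases hu1 : u = 1
    · subst hu1; group
    · exact hfix _ ((⟨n, hnK⟩ : K) ^ a).2 u hu (orderOf_eq_prime hu2 hu1)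
  · rw [← Subgroup.orderOf_coe] at ha
    generalize hv : (((⟨n, hnK⟩ : K) ^ a : K) : G) = v at ha ⊢
    have hvK : v ∈ K := hv ▸ ((⟨n, hnK⟩ : K) ^ a).2
    have hp : IsPGroup 2 ↥(zpowers v ⊔ A) :=
      IsPGroup.to_sup_of_normal_right' (IsPGroup.of_card (n := k) (by rw [Nat.card_zpowers, ha]))
        (S.2.to_le W.frame.baseG_le) (zpowers_le.2 hvK.1)
    obtain ⟨l, hl⟩ := exists_conj_le_sylow hp S
    have hlS : ∀ u ∈ zpowers v ⊔ A, l * u * l⁻¹ ∈ (S : Subgroup G) := hl
    have hlN : l ∈ normalizer (A : Set G) :=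
      W.mem_normalizer_base (conjBy_le_iff.2 fun u hu => hlS u (le_sup_right (a := zpowers v) hu))
    have hconj : ∀ u ∈ A, l * u * l⁻¹ ∈ A := fun u hu => (mem_normalizer_iff.1 hlN u).1 hu
    have hv' := hlS v (le_sup_left (b := A) (mem_zpowers v))
    refine mem_centralizer_iff.2 fun u hu => ?_
    obtain ⟨i, j, e | e⟩ := W.frame.exists_coords hv'
    · have h1 : Commute (l * u * l⁻¹) (l * v * l⁻¹) :=
        W.frame.baseG_comm (hconj u hu) (e ▸ W.frame.mem_baseG.2 ⟨i, j, rfl⟩)
      exact ((Commute.conj_iff l).1 h1).eq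
    · exfalso
      have hfix' : ∀ u ∈ A, orderOf u = 2 →
          outW x y z i j * (l * u * l⁻¹) * (outW x y z i j)⁻¹ = l * u * l⁻¹ := by
        intro u hu ho
        rw [← e, show l * v * l⁻¹ * (l * u * l⁻¹) * (l * v * l⁻¹)⁻¹ = l * (v * u * v⁻¹) * l⁻¹ by
          group, hfix v hvK u hu ho]
      have h1 := hfix' _ W.eW_mem W.frame.orderOf_eW
      have h2 := hfix' _ W.tW_mem W.frame.orderOf_tW
      have hne : l * rotW x y m 0 * l⁻¹ ≠ l * rotW x y m m * l⁻¹ := fun e' =>
        W.frame.eW_ne_tW (mul_left_cancel (mul_right_cancel e'))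
      rcases W.eW_conj_cases (hconj _ W.eW_mem) (invol_conj W.frame.orderOf_eW _) with a1 | a1 | a1
      · rcases W.eW_conj_cases (hconj _ W.tW_mem) (invol_conj W.frame.orderOf_tW _) with a2 | a2 | a2
        · exact hne (a1.trans a2.symm)
        · rw [a2, W.frame.outW_conj_rotW] at h2; exact W.frame.eW_ne_eW' h2.symm
        · rw [a2, W.frame.outW_conj_rotW] at h2; exact W.frame.eW_ne_eW' h2
      · rw [a1, W.frame.outW_conj_rotW] at h1; exact W.frame.eW_ne_eW' h1.symm
      · rw [a1, W.frame.outW_conj_rotW] at h1; exact W.frame.eW_ne_eW' h1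

theorem fusedA_conj (W : WrSylow S m x y z N) (hA : W.FusedA) :
    ∃ n ∈ normalizer (W.frame.baseG : Set G), n * rotW x y m 0 * n⁻¹ = rotW x y m m := by
  haveI : Fact (Nat.Prime 2) := ⟨Nat.prime_two⟩
  obtain ⟨g, hg⟩ := isConj_iff.1 hA
  set C := centralizer ({rotW x y m m} : Set G)
  have hSC : (S : Subgroup G) ≤ C := fun s hs =>
    mem_centralizer_singleton_iff.2 (W.frame.commute_diag (by simp) hs)
  obtain ⟨k, hk, hkS⟩ := exists_conj_le_of_not_dvd_relIndex S.2 hSC
    (fun hd => S.not_dvd_index (hd.trans (Subgroup.relIndex_dvd_index_of_le hSC)))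
    (isPGroup_conjBy g (S.2.to_le W.frame.baseG_le))
    (conjBy_le_iff.2 fun u hu => mem_centralizer_singleton_iff.2
      (by have := commute_conj (W.frame.baseG_comm hu W.eW_mem) g; rwa [hg] at this))
  rw [conjBy_conjBy] at hkS
  refine ⟨k * g, W.mem_normalizer_base hkS, ?_⟩
  rw [← conj_mul_conj, hg]
  exact mul_inv_eq_iff_eq_mul.2 (mem_centralizer_singleton_iff.1 hk)

theorem normalizer_fix_tW (W : WrSylow S m x y z N) (hA : ¬ W.FusedA) {n : G}
    (hn : n ∈ normalizer (W.frame.baseG : Set G)) :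
    n * rotW x y m m * n⁻¹ = rotW x y m m := by
  rcases W.eW_conj_cases ((mem_normalizer_iff.1 hn _).1 W.tW_mem)
    (invol_conj W.frame.orderOf_tW n) with e | e | e
  · exact e
  · exact absurd (isConj_iff.2 ⟨n, e⟩ : IsConj _ (rotW x y m 0)).symm hA
  · exact absurd ((W.frame.isConj_eW).trans
      (isConj_iff.2 ⟨n, e⟩ : IsConj _ (rotW x y 0 m)).symm) hA

/-- The automizer of the base. -/
theorem base_relIndex (W : WrSylow S m x y z N) :
    ((centralizer (W.frame.baseG : Set G)).relIndex (normalizer (W.frame.baseG : Set G)) = 2 ∨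
      (centralizer (W.frame.baseG : Set G)).relIndex (normalizer (W.frame.baseG : Set G)) = 6) ∧
    ((centralizer (W.frame.baseG : Set G)).relIndex (normalizer (W.frame.baseG : Set G)) = 6 ↔
      W.FusedA) := by
  classical
  set A := W.frame.baseG with hA
  set Nn := normalizer (A : Set G) with hNn
  let toPerm : MulAut A →* Equiv.Perm {u : A // u * u = 1 ∧ u ≠ 1} :=
    { toFun := fun σ => σ.toEquiv.subtypeEquiv fun u => by
        simp [← map_mul]
      map_one' := by ext; simp
      map_mul' := fun σ τ => by ext; simp }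
  set φ := toPerm.comp A.normalizerMonoidHom with hφ
  have hact : ∀ (n : Nn) (u : {u : A // u * u = 1 ∧ u ≠ 1}),
      ((φ n u).1 : G) = (n : G) * (u.1 : G) * (n : G)⁻¹ := fun n u => rfl
  have mk : ∀ (u : G) (hu : u ∈ A), orderOf u = 2 →
      (⟨u, hu⟩ : A) * ⟨u, hu⟩ = 1 ∧ (⟨u, hu⟩ : A) ≠ 1 := fun u hu ho =>
    ⟨Subtype.ext (invol_mul_self ho), fun e => invol_ne_one ho (congrArg Subtype.val e)⟩
  have he'm : rotW x y 0 m ∈ A := W.frame.mem_baseG.2 ⟨0, m, rfl⟩
  let t' : {u : A // u * u = 1 ∧ u ≠ 1} := ⟨⟨_, W.tW_mem⟩, mk _ _ W.frame.orderOf_tW⟩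
  let e' : {u : A // u * u = 1 ∧ u ≠ 1} := ⟨⟨_, W.eW_mem⟩, mk _ _ W.frame.orderOf_eW⟩
  let f' : {u : A // u * u = 1 ∧ u ≠ 1} := ⟨⟨_, he'm⟩, mk _ _ W.orderOf_eW'⟩
  have hall : ∀ u : {u : A // u * u = 1 ∧ u ≠ 1}, u = t' ∨ u = e' ∨ u = f' := by
    intro u
    have ho : orderOf (u.1 : G) = 2 := by
      rw [Subgroup.orderOf_coe]; exact invol_iff.2 u.2
    rcases W.eW_conj_cases u.1.2 ho with e | e | e
    · exact Or.inl (Subtype.ext (Subtype.ext e))
    · exact Or.inr (Or.inl (Subtype.ext (Subtype.ext e)))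
    · exact Or.inr (Or.inr (Subtype.ext (Subtype.ext e)))
  have hcard : Nat.card {u : A // u * u = 1 ∧ u ≠ 1} = 3 := by
    rw [← Nat.card_fin 3]
    refine (Nat.card_eq_of_bijective ![t', e', f'] ⟨?_, fun u => ?_⟩).symm
    · intro i j hij
      have hv := congrArg (fun u : {u : A // u * u = 1 ∧ u ≠ 1} => (u.1 : G)) hij
      fin_cases i <;> fin_cases j <;>
        simp [t', e', f', W.frame.eW_ne_tW, W.frame.eW_ne_tW.symm, W.frame.eW'_ne_tW,
          W.frame.eW'_ne_tW.symm, W.frame.eW_ne_eW', W.frame.eW_ne_eW'.symm] at hv ⊢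
    · rcases hall u with rfl | rfl | rfl
      exacts [⟨0, rfl⟩, ⟨1, rfl⟩, ⟨2, rfl⟩]
  have hker : φ.ker = (centralizer (A : Set G)).subgroupOf Nn := by
    ext n
    constructor
    · intro hn
      have h1 : ∀ u, φ n u = u := fun u => by rw [MonoidHom.mem_ker.1 hn]; rfl
      exact mem_subgroupOf.2 (W.mem_centralizer_base n.2
        ((hact n t').symm.trans (congrArg (fun u : {u : A // u * u = 1 ∧ u ≠ 1} => (u.1 : G)) (h1 t')))
        ((hact n e').symm.trans (congrArg (fun u : {u : A // u * u = 1 ∧ u ≠ 1} => (u.1 : G)) (h1 e'))))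
    · intro hn
      refine MonoidHom.mem_ker.2 (Equiv.ext fun u => Subtype.ext (Subtype.ext ?_))
      rw [hact]
      exact mul_inv_eq_iff_eq_mul.2 (mem_centralizer_iff.1 (mem_subgroupOf.1 hn) _ u.1.2).symm
  have hsN : outW x y z 0 0 ∈ Nn := W.frame.le_normalizer_baseG (outW_mem x y z 0 0)
  have key := index_two_or_six hcard φ t' (s := ⟨_, hsN⟩)
    (Subtype.ext (Subtype.ext (by rw [hact]; exact W.frame.outW_conj_rotW 0 0 m m)))
    (fun e => by
      have h1 := hact ⟨_, hsN⟩ e'
      rw [e] at h1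
      exact W.frame.eW_ne_eW' (h1.trans (W.frame.outW_conj_rotW 0 0 m 0)))
  rw [hker] at key
  refine ⟨key.1, key.2.trans ⟨?_, fun hf => ?_⟩⟩
  · rintro ⟨n, hn⟩
    by_contra hf
    exact hn (Subtype.ext (Subtype.ext ((hact n t').trans (W.normalizer_fix_tW hf n.2))))
  · obtain ⟨n, hn, hne⟩ := W.fusedA_conj hf
    refine ⟨⟨n, hn⟩⁻¹, fun e => ?_⟩
    have h1 := hact ⟨n, hn⟩⁻¹ t'
    rw [e] at h1
    refine W.frame.eW_ne_tW (Eq.trans ?_ h1.symm)
    show rotW x y m 0 = n⁻¹ * rotW x y m m * n⁻¹⁻¹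
    rw [← hne]; group

/-- Burnside's argument: the normaliser of the base controls fusion in it. -/
theorem exists_normalizer_conj (W : WrSylow S m x y z N) {a g : G} (ha : a ∈ W.frame.baseG)
    (hc : g * a * g⁻¹ ∈ W.frame.baseG) :
    ∃ n ∈ normalizer (W.frame.baseG : Set G), n * a * n⁻¹ = g * a * g⁻¹ := by
  haveI : Fact (Nat.Prime 2) := ⟨Nat.prime_two⟩
  set A := W.frame.baseG
  set C := centralizer ({g * a * g⁻¹} : Set G)
  have hAp : IsPGroup 2 A := S.2.to_le W.frame.baseG_le
  have hAC : A ≤ C := fun u hu => mem_centralizer_singleton_iff.2 (W.frame.baseG_comm hu hc)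
  obtain ⟨T, hAT, hTC, hT, hTi⟩ := exists_le_not_dvd_relIndex hAp hAC
  obtain ⟨k, hk, hkT⟩ := exists_conj_le_of_not_dvd_relIndex hT hTC hTi (isPGroup_conjBy g hAp)
    (conjBy_le_iff.2 fun u hu => mem_centralizer_singleton_iff.2
      (commute_conj (W.frame.baseG_comm hu ha) g))
  obtain ⟨l, hl⟩ := exists_conj_le_sylow hT S
  have hlS : conjBy l T ≤ (S : Subgroup G) := conjBy_le_iff.2 hl
  have hlN := W.mem_normalizer_base ((conjBy_mono hAT).trans hlS)
  have h2 := W.mem_normalizer_base (g := l * (k * g))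
    (by rw [← conjBy_conjBy, ← conjBy_conjBy]; exact (conjBy_mono hkT).trans hlS)
  refine ⟨k * g, by simpa [← mul_assoc] using mul_mem (inv_mem hlN) h2, ?_⟩
  rw [← conj_mul_conj]
  exact mul_inv_eq_iff_eq_mul.2 (mem_centralizer_singleton_iff.1 hk)

/-- An element of the normaliser fixing `(xy)^m` acts on the base as an element of `S`. -/
theorem normalizer_conj_cases (W : WrSylow S m x y z N) {n a : G}
    (hn : n ∈ normalizer (W.frame.baseG : Set G))
    (ht : n * rotW x y m m * n⁻¹ = rotW x y m m) (ha : a ∈ W.frame.baseG) :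
    n * a * n⁻¹ = a ∨ n * a * n⁻¹ = outW x y z 0 0 * a * (outW x y z 0 0)⁻¹ := by
  set w := outW x y z 0 0
  have hwN := W.frame.le_normalizer_baseG (outW_mem x y z 0 0)
  rcases W.eW_conj_cases ((mem_normalizer_iff.1 hn _).1 W.eW_mem)
    (invol_conj W.frame.orderOf_eW n) with e | e | e
  · exact absurd (mul_left_cancel (mul_right_cancel (e.trans ht.symm))) W.frame.eW_ne_tW
  · exact Or.inl (mul_inv_eq_iff_eq_mul.2
      (mem_centralizer_iff.1 (W.mem_centralizer_base hn ht e) a ha).symm)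
  · refine Or.inr ?_
    have hwt : w⁻¹ * rotW x y m m * w⁻¹⁻¹ = rotW x y m m := by
      rw [W.frame.outW_inv, W.frame.outW_conj_rotW]
    have h1 := W.mem_centralizer_base (n := w⁻¹ * n) (mul_mem (inv_mem hwN) hn)
      (by rw [← conj_mul_conj, ht, hwt])
      (by rw [← conj_mul_conj, e, W.frame.outW_inv, W.frame.outW_conj_rotW])
    have h2 := mem_centralizer_iff.1 h1 a ha
    rw [← mul_assoc] at h2
    have h3 : w⁻¹ * (n * a * n⁻¹) * w⁻¹⁻¹ = a := by
      rw [conj_mul_conj]
      exact mul_inv_eq_iff_eq_mul.2 (by rw [← h2, mul_assoc])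
    calc n * a * n⁻¹ = w * (w⁻¹ * (n * a * n⁻¹) * w⁻¹⁻¹) * w⁻¹ := by group
      _ = _ := by rw [h3]

/-! ### Subgroups given by a congruence on the difference of the exponents -/

/-- `diffSub` in the ambient group. -/
def diffG (W : WrSylow S m x y z N) (s c : ℤ) : Subgroup G :=
  (W.frame.diffSub s c).map (S : Subgroup G).subtype

theorem diffG_le (W : WrSylow S m x y z N) (s c : ℤ) : W.diffG s c ≤ (S : Subgroup G) :=
  map_subtype_le _

theorem rotW_mem_diffG (W : WrSylow S m x y z N) {s c i j : ℤ} (hs : s ∣ 2 * m) :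
    rotW x y i j ∈ W.diffG s c ↔ s ∣ i - j := by
  rw [diffG, rotW]
  exact (Subgroup.mem_map_iff_mem (Subgroup.subtype_injective _)).trans
    (W.frame.rot_mem_diffSub hs)

theorem outW_mem_diffG (W : WrSylow S m x y z N) {s c i j : ℤ} (hs : s ∣ 2 * m) :
    outW x y z i j ∈ W.diffG s c ↔ s ∣ i - j - c := by
  rw [diffG, outW]
  exact (Subgroup.mem_map_iff_mem (Subgroup.subtype_injective _)).trans
    (W.frame.out_mem_diffSub hs)

theorem centerG_le_diffG (W : WrSylow S m x y z N) {s c : ℤ} (hs : s ∣ 2 * m) :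
    centerG S ≤ W.diffG s c := fun u hu => by
  obtain ⟨r, rfl⟩ := W.frame.mem_centerMap_iff.1 hu
  exact (W.rotW_mem_diffG hs).2 (by simp)

theorem card_diffG (W : WrSylow S m x y z N) {s c : ℤ} (t : ℕ) (hst : 2 * m = s * t) :
    Nat.card (W.diffG s c) = 2 * (N * t) := by
  rw [diffG, Subgroup.card_map_of_injective (Subgroup.subtype_injective _),
    W.frame.card_diffSub W.hN hst]

/-- The quaternion group of order eight times the centre. -/
def quatG (W : WrSylow S m x y z N) (k : ℤ) : Subgroup G := W.diffG m (2 * k)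

theorem rotW_mem_quatG (W : WrSylow S m x y z N) {k i j : ℤ} :
    rotW x y i j ∈ W.quatG k ↔ m ∣ i - j := W.rotW_mem_diffG (dvd_mul_left m 2)

theorem outW_mem_quatG (W : WrSylow S m x y z N) {k i j : ℤ} :
    outW x y z i j ∈ W.quatG k ↔ m ∣ i - j - 2 * k := W.outW_mem_diffG (dvd_mul_left m 2)

theorem centerG_le_quatG (W : WrSylow S m x y z N) (k : ℤ) : centerG S ≤ W.quatG k :=
  W.centerG_le_diffG (dvd_mul_left m 2)

theorem card_quatG (W : WrSylow S m x y z N) (k : ℤ) : Nat.card (W.quatG k) = 2 * (N * 2) :=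
  W.card_diffG 2 (by push_cast; ring)

theorem quat_pair_core (W : WrSylow S m x y z N) {i j p l k : ℤ}
    (hinv : outW x y z p l * rotW x y i j * (outW x y z p l)⁻¹ = (rotW x y i j)⁻¹)
    (hsq : outW x y z p l * outW x y z p l = rotW x y i j * rotW x y i j)
    (h1 : rotW x y i j * rotW x y i j ≠ 1) (h4 : rotW x y i j ^ 4 = 1)
    (hk : 2 * m ∣ p - l - 2 * k) :
    rotW x y i j ∈ W.quatG k ∧ outW x y z p l ∈ W.quatG k ∧
    W.quatG k ≤ Subgroup.closure ({rotW x y i j, outW x y z p l} : Set G) ⊔ centerG S ∧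
    ∀ u ∈ (S : Subgroup G), Commute u (rotW x y i j) → Commute u (outW x y z p l) →
      u ∈ centerG S := by
  have F := W.frame
  rw [F.outW_conj_rotW, F.rotW_inv, F.rotW_eq_iff] at hinv
  rw [F.rotW_pow, F.rotW_eq_one_iff] at h4
  have hij : 2 * m ∣ i + j := by
    rw [show i + j = j - -i by ring]
    exact hinv.1
  have h2i : m ∣ 2 * i := by
    have := h4.1
    push_cast at this
    rw [show i * 4 = 2 * (2 * i) by ring] at this
    exact (mul_dvd_mul_iff_left two_ne_zero).1 this
  have hn2 : ¬ 2 * m ∣ 2 * i := fun h => h1 (by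
    rw [F.rotW_mul, F.rotW_eq_one_iff]
    refine ⟨by rwa [← two_mul], ?_⟩
    rw [show j + j = 2 * (i + j) - 2 * i by ring]
    exact dvd_sub (hij.mul_left 2) h)
  have hh : 2 * m ∣ 2 * i - m := (F.half_cases h2i).resolve_left hn2
  have hd : 2 * m ∣ i - j - m := by
    rw [show i - j - m = (2 * i - m) - (i + j) by ring]
    exact dvd_sub hh hij
  have hm : m ∣ 2 * m := dvd_mul_left m 2
  have hamem : rotW x y i j ∈ W.quatG k := W.rotW_mem_quatG.2 (by
    rw [show i - j = (i - j - m) + m by ring]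
    exact dvd_add (hm.trans hd) dvd_rfl)
  have hbmem : outW x y z p l ∈ W.quatG k := W.outW_mem_quatG.2 (hm.trans hk)
  refine ⟨hamem, hbmem, ?_, ?_⟩
  · set H := Subgroup.closure ({rotW x y i j, outW x y z p l} : Set G) ⊔ centerG S
    have hrot : ∀ u v : ℤ, m ∣ u - v → rotW x y u v ∈ H := by
      rintro u v ⟨e, he⟩
      have e1 : rotW x y u v = rotW x y (u - i * e) (u - i * e) * rotW x y i j ^ e := by
        rw [F.rotW_zpow, F.rotW_mul, F.rotW_eq_iff]
        refine ⟨⟨0, by ring⟩, ?_⟩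
        rw [show v - (u - i * e + j * e) = -(m * e) + (i - j) * e by rw [← he]; ring,
          show -(m * e) + (i - j) * e = e * (i - j - m) by ring]
        exact hd.mul_left e
      rw [e1]
      exact mul_mem (le_sup_right (a := Subgroup.closure _) (W.mem_centerG.2 (by simp)))
        (zpow_mem (le_sup_left (b := centerG S) (Subgroup.subset_closure (by simp))) e)
    intro u hu
    obtain ⟨r, s, rfl | rfl⟩ := F.exists_coords (W.diffG_le _ _ hu)
    · exact hrot r s (W.rotW_mem_quatG.1 hu)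
    · rw [show outW x y z r s = rotW x y (r - p) (s - l) * outW x y z p l by
        rw [F.rotW_mul_outW]; congr 1 <;> ring]
      refine mul_mem (hrot _ _ ?_) (le_sup_left (b := centerG S) (Subgroup.subset_closure (by simp)))
      rw [show r - p - (s - l) = (r - s - 2 * k) - (p - l - 2 * k) by ring]
      exact dvd_sub (W.outW_mem_quatG.1 hu) (hm.trans hk)
  · intro u hu ca cb
    obtain ⟨r, s, rfl | rfl⟩ := F.exists_coords hu
    · exact W.mem_centerG.2 (F.rotW_commute_outW_iff.1 cb.eq)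
    · exfalso
      refine hn2 ?_
      rw [show 2 * i = (i - j) + (i + j) by ring]
      exact dvd_add (F.rotW_commute_outW_iff.1 ca.symm.eq) hij

/-- Pairs of elements of order four generating a quaternion group. -/
theorem quat_pair (W : WrSylow S m x y z N) {a b : G} (ha : a ∈ (S : Subgroup G))
    (hb : b ∈ (S : Subgroup G)) (hinv : b * a * b⁻¹ = a⁻¹) (hsq : b * b = a * a)
    (h1 : a * a ≠ 1) (h4 : a ^ 4 = 1) :
    ∃ k : ℤ, a ∈ W.quatG k ∧ b ∈ W.quatG k ∧ W.quatG k ≤ Subgroup.closure ({a, b} : Set G) ⊔ centerG S ∧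
      ∀ u ∈ (S : Subgroup G), Commute u a → Commute u b → u ∈ centerG S := by
  have F := W.frame
  -- the case `a` in the base, `b` outside
  have core : ∀ i j p l : ℤ,
      outW x y z p l * rotW x y i j * (outW x y z p l)⁻¹ = (rotW x y i j)⁻¹ →
      outW x y z p l * outW x y z p l = rotW x y i j * rotW x y i j →
      rotW x y i j * rotW x y i j ≠ 1 → rotW x y i j ^ 4 = 1 →
      ∃ k : ℤ, 2 * m ∣ p - l - 2 * k := by
    intro i j p l _ hsq' _ _
    rw [F.outW_sq, F.rotW_mul, F.rotW_eq_iff] at hsq'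
    obtain ⟨e, he⟩ := hsq'.1
    exact ⟨i + m * e - l, 0, by linarith⟩
  have hab4 : b ^ 4 = 1 := by
    rw [pow_four_eq, hsq, ← pow_four_eq, h4]
  obtain ⟨i, j, rfl | rfl⟩ := F.exists_coords ha <;> obtain ⟨p, l, rfl | rfl⟩ := F.exists_coords hb
  · exfalso
    rw [F.rotW_conj_rotW] at hinv
    exact h1 (mul_eq_one_iff_eq_inv.2 hinv)
  · obtain ⟨k, hk⟩ := core i j p l hinv hsq h1 h4
    exact ⟨k, W.quat_pair_core hinv hsq h1 h4 hk⟩
  · -- `a` outside, `b` in the base
    set a := outW x y z i j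
    set b := rotW x y p l
    have hba : b * a⁻¹ = a * b := by
      calc b * a⁻¹ = b * (b * a * b⁻¹) * 1 := by rw [hinv, mul_one]
        _ = b * b * a * b⁻¹ := by group
        _ = a * (a * a) * b⁻¹ := by rw [hsq]; group
        _ = a * b := by rw [← hsq]; group
    have hinv' : a * b * a⁻¹ = b⁻¹ := by
      calc a * b * a⁻¹ = a * (b * a⁻¹) := by group
        _ = b * b * b := by rw [hba, ← mul_assoc, ← hsq]
        _ = b⁻¹ := eq_inv_of_mul_eq_one_left (by rw [← hab4, pow_four_eq, mul_assoc])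
    have h1' : b * b ≠ 1 := by rw [hsq]; exact h1
    obtain ⟨k, hk⟩ := core p l i j hinv' hsq.symm h1' hab4
    obtain ⟨e1, e2, e3, e4⟩ := W.quat_pair_core hinv' hsq.symm h1' hab4 hk
    exact ⟨k, e2, e1, by rwa [Set.pair_comm], fun u hu ca cb => e4 u hu cb ca⟩
  · -- both outside
    set a := outW x y z i j with haeq
    set b := outW x y z p l with hbeq
    have hinv' : b * (a * b) * b⁻¹ = (a * b)⁻¹ := by
      have hba : b * a = a⁻¹ * b := mul_inv_eq_iff_eq_mul.1 hinv
      have h3 : a⁻¹ * (b * b) = a := by rw [hsq]; group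
      calc b * (a * b) * b⁻¹ = b * a := by group
        _ = a⁻¹ * b := hba
        _ = b⁻¹ * (b * a⁻¹ * b⁻¹) * (b * b) := by group
        _ = b⁻¹ * a * (b * b) := by
          rw [show b * a⁻¹ * b⁻¹ = (b * a * b⁻¹)⁻¹ by group, hinv, inv_inv]
        _ = b⁻¹ * (a * (b * b)) := by group
        _ = b⁻¹ * a⁻¹ := by
          rw [hsq]
          congr 1
          exact eq_inv_of_mul_eq_one_left (by rw [← h4, pow_four_eq, mul_assoc, mul_assoc, mul_assoc])
        _ = (a * b)⁻¹ := by group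
    have hsq' : b * b = a * b * (a * b) := by
      calc b * b = a * (a⁻¹ * b) * b := by group
        _ = a * (b * a) * b := by rw [mul_inv_eq_iff_eq_mul.1 hinv]
        _ = _ := by group
    have h1' : a * b * (a * b) ≠ 1 := by rw [← hsq', hsq]; exact h1
    have h4' : (a * b) ^ 4 = 1 := by
      rw [pow_four_eq, ← hsq', hsq, ← pow_four_eq, h4]
    have erot : a * b = rotW x y (i + l) (j + p) := F.outW_mul i j p l
    rw [erot] at hinv' hsq' h1' h4'
    obtain ⟨k, hk⟩ := core _ _ p l hinv' hsq' h1' h4'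
    obtain ⟨e1, e2, e3, e4⟩ := W.quat_pair_core hinv' hsq' h1' h4' hk
    refine ⟨k, ?_, e2, e3.trans (sup_le_sup_right ((Subgroup.closure_le _).2 ?_) _),
      fun u hu ca cb => e4 u hu (erot ▸ ca.mul_right cb) cb⟩
    · rw [show a = rotW x y (i + l) (j + p) * b⁻¹ by rw [← erot]; group]
      exact mul_mem e1 (inv_mem e2)
    · rintro u (rfl | rfl)
      · rw [← erot]
        exact mul_mem (Subgroup.subset_closure (Or.inl rfl)) (Subgroup.subset_closure (Or.inr rfl))
      · exact Subgroup.subset_closure (Or.inr rfl)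

/-- The subgroups `Q Z(S)`. -/
theorem exists_quat_sup (W : WrSylow S m x y z N) {Q : Subgroup G} (hQS : Q ≤ (S : Subgroup G))
    (eQ : Q ≃* QuaternionGroup 2) : ∃ k : ℤ, Q ⊔ centerG S = W.quatG k := by
  set q1 : QuaternionGroup 2 := QuaternionGroup.a 1 with hq1
  set q2 : QuaternionGroup 2 := QuaternionGroup.xa 0 with hq2
  have key : q2 * q1 * q2⁻¹ = q1⁻¹ ∧ q2 * q2 = q1 * q1 ∧ q1 * q1 ≠ 1 ∧ q1 ^ 4 = 1 ∧
      ∀ u : QuaternionGroup 2, ∃ i : Fin 4, u = q1 ^ (i : ℕ) ∨ u = q2 * q1 ^ (i : ℕ) := by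
    rw [hq1, hq2]; decide
  obtain ⟨k1, k2, k3, k4, k5⟩ := key
  set f : QuaternionGroup 2 →* G := Q.subtype.comp eQ.symm.toMonoidHom with hf
  have hfi : Function.Injective f := Q.subtype_injective.comp eQ.symm.injective
  have hfmem : ∀ u, f u ∈ Q := fun u => (eQ.symm u).2
  obtain ⟨k, ha, hb, hle, -⟩ := W.quat_pair (hQS (hfmem q1)) (hQS (hfmem q2))
    (by rw [← map_mul, ← map_inv, ← map_mul, k1, map_inv])
    (by rw [← map_mul, ← map_mul, k2])
    (fun e => k3 (hfi (by rw [map_mul, e, map_one])))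
    (by rw [← map_pow, k4, map_one])
  refine ⟨k, le_antisymm (sup_le (fun u hu => ?_) (W.centerG_le_quatG k))
    (hle.trans (sup_le_sup_right ((Subgroup.closure_le _).2 ?_) _))⟩
  · have he : u = f (eQ ⟨u, hu⟩) := by simp [f]
    rw [he]
    obtain ⟨i, e | e⟩ := k5 (eQ ⟨u, hu⟩) <;> rw [e]
    · rw [map_pow]; exact pow_mem ha _
    · rw [map_mul, map_pow]; exact mul_mem hb (pow_mem ha _)
  · rintro u (rfl | rfl) <;> exact hfmem _

/-- Conjugates of `quatG k` inside `S`. -/
theorem conj_quatG (W : WrSylow S m x y z N) {g : G} {k : ℤ}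
    (h : conjBy g (W.quatG k) ≤ (S : Subgroup G)) : ∃ k', conjBy g (W.quatG k) = W.quatG k' := by
  have F := W.frame
  obtain ⟨q, hq⟩ := F.even
  set a := rotW x y q (-q) with haeq
  set b := outW x y z (k + q) (q - k) with hbeq
  have e1 : b * a * b⁻¹ = a⁻¹ := by
    rw [F.outW_conj_rotW, F.rotW_inv, neg_neg]
  have e2 : b * b = a * a := by
    rw [F.outW_sq, F.rotW_mul, F.rotW_eq_iff]
    exact ⟨⟨0, by ring⟩, ⟨1, by rw [hq]; ring⟩⟩
  have e3 : a * a ≠ 1 := by
    rw [F.rotW_mul, Ne, F.rotW_eq_one_iff]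
    rintro ⟨h', -⟩
    rw [show q + q = m by rw [hq]; ring] at h'
    exact F.not_dvd_half h'
  have e4 : a ^ 4 = 1 := by
    rw [F.rotW_pow, F.rotW_eq_one_iff]
    exact ⟨⟨1, by rw [hq]; push_cast; ring⟩, ⟨-1, by rw [hq]; push_cast; ring⟩⟩
  obtain ⟨ha, hb, hgen, -⟩ := W.quat_pair_core (k := k) e1 e2 e3 e4 ⟨0, by ring⟩
  have hgS : ∀ u ∈ W.quatG k, g * u * g⁻¹ ∈ (S : Subgroup G) := conjBy_le_iff.1 h
  obtain ⟨k', ha', hb', -, hcz⟩ := W.quat_pair (hgS a ha) (hgS b hb)
    (by rw [show (g * a * g⁻¹)⁻¹ = g * a⁻¹ * g⁻¹ by group, ← e1]; group)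
    (by rw [show g * b * g⁻¹ * (g * b * g⁻¹) = g * (b * b) * g⁻¹ by group, e2]; group)
    (fun e => e3 (conj_eq_one_iff.1 ((show g * (a * a) * g⁻¹ = g * a * g⁻¹ * (g * a * g⁻¹) by
      group).trans e)))
    (by rw [conj_pow, e4]; group)
  have hle : conjBy g (W.quatG k) ≤ W.quatG k' := by
    refine conjBy_le_iff.2 fun u hu => ?_
    suffices key : Subgroup.closure ({a, b} : Set G) ⊔ centerG S ≤
        (W.quatG k').comap (MulAut.conj g).toMonoidHom from key (hgen hu)
    refine sup_le ((Subgroup.closure_le _).2 ?_) fun ζ hζ => ?_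
    · rintro v (rfl | rfl)
      exacts [ha', hb']
    · refine W.centerG_le_quatG k' (hcz _ (hgS ζ (W.centerG_le_quatG k hζ)) ?_ ?_)
      · exact commute_conj (W.commute_centerG (W.diffG_le _ _ ha) hζ).symm g
      · exact commute_conj (W.commute_centerG (W.diffG_le _ _ hb) hζ).symm g
  exact ⟨k', Subgroup.eq_of_le_of_card_ge hle
    (by rw [card_conjBy, W.card_quatG, W.card_quatG])⟩

/-- Commutators in `quatG k` are central in `S`. -/
theorem comm_quatG (W : WrSylow S m x y z N) {k : ℤ} {u v : G} (hu : u ∈ W.quatG k)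
    (hv : v ∈ W.quatG k) : v⁻¹ * (u * v * u⁻¹) ∈ centerG S := by
  have F := W.frame
  obtain ⟨p, l, rfl | rfl⟩ := F.exists_coords (W.diffG_le _ _ hu) <;>
    obtain ⟨i, j, rfl | rfl⟩ := F.exists_coords (W.diffG_le _ _ hv)
  · rw [F.rotW_conj_rotW, inv_mul_cancel]; exact one_mem _
  · rw [F.rotW_conj_outW, F.outW_inv, F.outW_mul, W.mem_centerG]
    have h := W.rotW_mem_quatG.1 hu
    rw [show -j + (j + l - p) - (-i + (i + p - l)) = -(2 * (p - l)) by ring, dvd_neg]
    exact mul_dvd_mul_left 2 h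
  · rw [F.outW_conj_rotW, F.rotW_inv, F.rotW_mul, W.mem_centerG]
    have h := W.rotW_mem_quatG.1 hv
    rw [show -i + j - (-j + i) = -(2 * (i - j)) by ring, dvd_neg]
    exact mul_dvd_mul_left 2 h
  · rw [F.outW_conj_outW, F.outW_inv, F.outW_mul, W.mem_centerG]
    have h := dvd_sub (W.outW_mem_quatG.1 hv) (W.outW_mem_quatG.1 hu)
    rw [show -j + (l + i - p) - (-i + (p + j - l)) =
      2 * ((i - j - 2 * k) - (p - l - 2 * k)) by ring]
    exact mul_dvd_mul_left 2 h

theorem mem_normalizer_quatG (W : WrSylow S m x y z N) {q : ℤ} (hq : m = 2 * q) {k : ℤ} {u : G}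
    (hu : u ∈ (S : Subgroup G)) :
    u ∈ normalizer (W.quatG k : Set G) ↔ u ∈ W.diffG q (2 * k) := by
  have F := W.frame
  have hqm : q ∣ m := ⟨2, by rw [hq]; ring⟩
  have hmem : ∀ r : ℤ, (m ∣ 2 * r ↔ q ∣ r) := fun r => by
    rw [hq, mul_dvd_mul_iff_left two_ne_zero]
  constructor
  · intro hn
    have h1 : u * outW x y z k (-k) * u⁻¹ ∈ W.quatG k :=
      (mem_normalizer_iff.1 hn _).1 (W.outW_mem_quatG.2 ⟨0, by ring⟩)
    obtain ⟨p, l, rfl | rfl⟩ := F.exists_coords hu
    · rw [F.rotW_conj_outW, W.outW_mem_quatG,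
        show k + p - l - (-k + l - p) - 2 * k = 2 * (p - l) by ring, hmem] at h1
      exact (W.rotW_mem_diffG (W.two_mul_dvd hq)).2 h1
    · rw [F.outW_conj_outW, W.outW_mem_quatG,
        show p + -k - l - (l + k - p) - 2 * k = 2 * (p - l - 2 * k) by ring, hmem] at h1
      exact (W.outW_mem_diffG (W.two_mul_dvd hq)).2 h1
  · intro h
    refine mem_normalizer_of_conj_mem fun v hv => ?_
    obtain ⟨p, l, rfl | rfl⟩ := F.exists_coords hu <;>
      obtain ⟨i, j, rfl | rfl⟩ := F.exists_coords (W.diffG_le _ _ hv)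
    · rwa [F.rotW_conj_rotW]
    · rw [F.rotW_conj_outW, W.outW_mem_quatG,
        show i + p - l - (j + l - p) - 2 * k = (i - j - 2 * k) + 2 * (p - l) by ring]
      exact dvd_add (W.outW_mem_quatG.1 hv)
        ((hmem _).2 ((W.rotW_mem_diffG (W.two_mul_dvd hq)).1 h))
    · rw [F.outW_conj_rotW, W.rotW_mem_quatG, ← neg_sub, dvd_neg]
      exact W.rotW_mem_quatG.1 hv
    · rw [F.outW_conj_outW, W.outW_mem_quatG,
        show p + j - l - (l + i - p) - 2 * k = 2 * (p - l - 2 * k) - (i - j - 2 * k) by ring]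
      exact dvd_sub ((hmem _).2 ((W.outW_mem_diffG (W.two_mul_dvd hq)).1 h))
        (W.outW_mem_quatG.1 hv)

/-- A conjugation of `z` into the base can be realised centralising the centre. -/
theorem exists_central_conj (W : WrSylow S m x y z N) {v : G} (hv : v ∈ W.frame.baseG)
    (hwv : IsConj (outW x y z 0 0) v) :
    ∃ g ∈ centralizer (centerG S : Set G), g * outW x y z 0 0 * g⁻¹ = rotW x y m 0 := by
  haveI : Fact (Nat.Prime 2) := ⟨Nat.prime_two⟩
  have F := W.frame
  set w := outW x y z 0 0 with hw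
  set t := rotW x y m m with ht
  set A := W.frame.baseG with hA
  set B := W.diffG (2 * m) 0 with hB
  have hwo : orderOf w = 2 := F.orderOf_wW (by simp)
  have hcd : rotW x y 1 1 ∈ centerG S := W.mem_centerG.2 (by simp)
  have hcA : rotW x y 1 1 ∈ A := F.mem_baseG.2 ⟨1, 1, rfl⟩
  have hcB : rotW x y 1 1 ∈ B := (W.rotW_mem_diffG dvd_rfl).2 (by simp)
  have hwB : w ∈ B := (W.outW_mem_diffG dvd_rfl).2 (by simp)
  have htB : t ∈ B := (W.rotW_mem_diffG dvd_rfl).2 (by simp)
  have hBp : IsPGroup 2 B := S.2.to_le (W.diffG_le _ _)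
  have htpow : t = rotW x y 1 1 ^ m := by rw [F.rotW_zpow, one_mul]
  have hBw : ∀ u ∈ B, Commute u w := fun u hu => by
    obtain ⟨i, j, rfl | rfl⟩ := F.exists_coords (W.diffG_le _ _ hu)
    · exact F.rotW_commute_outW_iff.2 ((W.rotW_mem_diffG dvd_rfl).1 hu)
    · refine F.outW_commute_outW_iff.2 ?_
      have := (W.outW_mem_diffG dvd_rfl).1 hu
      simpa using this
  -- a conjugation of `B` into the base fixing `t`
  obtain ⟨h, hhB, hht⟩ : ∃ h : G, (∀ u ∈ B, h * u * h⁻¹ ∈ A) ∧ h * t * h⁻¹ = t := by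
    by_cases hwt : IsConj w t
    · obtain ⟨g, hg⟩ := isConj_iff.1 hwt
      have hSC : (S : Subgroup G) ≤ centralizer {t} := fun s hs =>
        mem_centralizer_singleton_iff.2 (F.commute_diag (by simp) hs)
      obtain ⟨c, hc, hcS⟩ := exists_conj_le_of_not_dvd_relIndex S.2 hSC
        (fun hd => S.not_dvd_index (hd.trans (Subgroup.relIndex_dvd_index_of_le hSC)))
        (isPGroup_conjBy g hBp)
        (conjBy_le_iff.2 fun u hu => mem_centralizer_singleton_iff.2
          (by have := commute_conj (hBw u hu) g; rwa [hg] at this))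
      rw [conjBy_conjBy] at hcS
      set g' := c * g with hg'
      have hg'w : g' * w * g'⁻¹ = t := by
        rw [hg', ← conj_mul_conj, hg]
        exact mul_inv_eq_iff_eq_mul.2 (mem_centralizer_singleton_iff.1 hc)
      have hgS : ∀ u ∈ B, g' * u * g'⁻¹ ∈ (S : Subgroup G) := conjBy_le_iff.1 hcS
      have huo : orderOf (g' * t * g'⁻¹) = 2 := invol_conj F.orderOf_tW g'
      have hune : g' * t * g'⁻¹ ≠ t := fun e => by
        have e' := mul_left_cancel (mul_right_cancel (e.trans hg'w.symm))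
        exact F.rotW_ne_outW m m 0 0 e'
      have hupow : g' * t * g'⁻¹ = (g' * rotW x y 1 1 * g'⁻¹) ^ m := by
        rw [conj_zpow, ← htpow]
      obtain ⟨i, j, e | e⟩ := F.exists_coords (hgS _ hcB)
      · -- the centraliser of the image is the base
        have huA : g' * t * g'⁻¹ ∈ A := by
          rw [hupow, e]; exact zpow_mem (F.mem_baseG.2 ⟨i, j, rfl⟩) _
        have hij : ¬ 2 * m ∣ i - j := fun hd => by
          rw [hupow, e, F.rotW_zpow] at hune huo
          rcases F.rot_invol_cases (invol_mul_self huo) with e1 | e1 | e1 | e1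
          · exact invol_ne_one huo e1
          · exact hune e1
          · have h1 := F.rotW_eq_iff.1 e1
            refine F.not_dvd_half ?_
            have := dvd_sub (dvd_sub h1.1 h1.2) (hd.mul_right m)
            rw [show i * m - m - (j * m - 0) - (i - j) * m = -m by ring, dvd_neg] at this
            exact this
          · have h1 := F.rotW_eq_iff.1 e1
            refine F.not_dvd_half ?_
            have := dvd_sub (dvd_sub h1.1 h1.2) (hd.mul_right m)
            rwa [show i * m - 0 - (j * m - m) - (i - j) * m = m by ring] at this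
        have hBA : ∀ u ∈ B, g' * u * g'⁻¹ ∈ A := fun u hu => by
          have hcm := commute_conj (W.commute_centerG (W.diffG_le _ _ hu) hcd) g'
          rw [e] at hcm
          obtain ⟨p, l, e' | e'⟩ := F.exists_coords (hgS u hu)
          · rw [e']; exact F.mem_baseG.2 ⟨p, l, rfl⟩
          · rw [e'] at hcm
            exact absurd (F.rotW_commute_outW_iff.1 hcm.symm.eq) hij
        obtain ⟨n, hn, hnu⟩ := W.exists_normalizer_conj W.tW_mem huA
        refine ⟨n⁻¹ * g', fun u hu => ?_, ?_⟩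
        · rw [← conj_mul_conj]
          exact (mem_normalizer_iff.1 (inv_mem hn) _).1 (hBA u hu)
        · rw [← conj_mul_conj, ← hnu, ht]; group
      · exfalso
        obtain ⟨q, hq⟩ := F.even
        rw [hupow, e, hq, zpow_mul, zpow_two, F.outW_sq, F.rotW_zpow] at hune huo
        rcases F.rot_invol_cases (invol_mul_self huo) with e1 | e1 | e1 | e1
        · exact invol_ne_one huo e1
        · exact hune (by rw [e1, ht, hq])
        · have h1 := F.rotW_eq_iff.1 e1
          refine F.not_dvd_half ?_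
          have := dvd_sub h1.1 h1.2
          rwa [show (i + j) * q - m - ((i + j) * q - 0) = -m by ring, dvd_neg] at this
        · have h1 := F.rotW_eq_iff.1 e1
          refine F.not_dvd_half ?_
          have := dvd_sub h1.1 h1.2
          rwa [show (i + j) * q - 0 - ((i + j) * q - m) = m by ring] at this
    · -- `z` is conjugate to `x^m`, and `(xy)^m` is not
      have hwe : IsConj w (rotW x y m 0) := by
        obtain ⟨g, hg⟩ := isConj_iff.1 hwv
        rcases W.eW_conj_cases hv (hg ▸ invol_conj hwo g) with rfl | rfl | rfl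
        · exact absurd hwv hwt
        · exact hwv
        · exact hwv.trans F.isConj_eW.symm
      have hnA : ¬ W.FusedA := fun hf => hwt (hwe.trans hf)
      obtain ⟨g, hg⟩ := isConj_iff.1 hwe
      set C := centralizer ({rotW x y m 0} : Set G)
      have hAC : A ≤ C := fun u hu =>
        mem_centralizer_singleton_iff.2 (F.baseG_comm hu W.eW_mem)
      obtain ⟨T, hAT, hTC, hT, hTi⟩ := exists_le_not_dvd_relIndex (S.2.to_le F.baseG_le) hAC
      obtain ⟨l, hl⟩ := exists_conj_le_sylow hT S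
      have hlS : conjBy l T ≤ (S : Subgroup G) := conjBy_le_iff.2 hl
      have hlN := W.mem_normalizer_base ((conjBy_mono hAT).trans hlS)
      have hTA : T ≤ A := by
        intro u hu
        have hcm := commute_conj (mem_centralizer_singleton_iff.1 (hTC hu) :
          Commute u (rotW x y m 0)) l
        obtain ⟨i, j, e | e⟩ := F.exists_coords (hlS (conj_mem_conjBy hu))
        · exact (mem_normalizer_iff.1 hlN u).2 (e ▸ F.mem_baseG.2 ⟨i, j, rfl⟩)
        · exfalso
          rw [e] at hcm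
          have hlt := W.normalizer_fix_tW hnA hlN
          rcases W.eW_conj_cases ((mem_normalizer_iff.1 hlN _).1 W.eW_mem)
            (invol_conj F.orderOf_eW l) with e1 | e1 | e1
          · exact F.eW_ne_tW (mul_left_cancel (mul_right_cancel (e1.trans hlt.symm)))
          · rw [e1] at hcm
            have := F.rotW_commute_outW_iff.1 hcm.symm.eq
            rw [sub_zero] at this
            exact F.not_dvd_half this
          · rw [e1] at hcm
            have := F.rotW_commute_outW_iff.1 hcm.symm.eq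
            rw [zero_sub, dvd_neg] at this
            exact F.not_dvd_half this
      obtain ⟨c, hc, hcT⟩ := exists_conj_le_of_not_dvd_relIndex hT hTC hTi (isPGroup_conjBy g hBp)
        (conjBy_le_iff.2 fun u hu => mem_centralizer_singleton_iff.2
          (by have := commute_conj (hBw u hu) g; rwa [hg] at this))
      rw [conjBy_conjBy] at hcT
      refine ⟨c * g, fun u hu => hTA (conjBy_le_iff.1 hcT u hu), ?_⟩
      obtain ⟨n, hn, hnu⟩ := W.exists_normalizer_conj W.tW_mem
        (hTA (conjBy_le_iff.1 hcT t htB))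
      rw [← hnu]
      exact W.normalizer_fix_tW hnA hn
  obtain ⟨n, hn, hnc⟩ := W.exists_normalizer_conj hcA (hhB _ hcB)
  have hnt : n * t * n⁻¹ = t := by
    rw [htpow, ← conj_zpow, hnc, conj_zpow, ← htpow, hht]
  have hhc : h * rotW x y 1 1 * h⁻¹ = rotW x y 1 1 := by
    rw [← hnc]
    rcases W.normalizer_conj_cases hn hnt hcA with e | e
    · exact e
    · rw [e, F.outW_conj_rotW]
  have hhZ : h ∈ centralizer (centerG S : Set G) := by
    refine mem_centralizer_iff.2 fun ζ hζ => ?_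
    obtain ⟨r, rfl⟩ := F.mem_centerMap_iff.1 hζ
    rw [show rotW x y r r = rotW x y 1 1 ^ r by rw [F.rotW_zpow, one_mul]]
    exact ((show Commute h (rotW x y 1 1) from mul_inv_eq_iff_eq_mul.1 hhc).zpow_right r).symm.eq
  rcases W.eW_conj_cases (hhB w hwB) (invol_conj hwo h) with e | e | e
  · exact absurd (mul_left_cancel (mul_right_cancel (e.trans hht.symm))).symm
      (F.rotW_ne_outW m m 0 0)
  · exact ⟨h, hhZ, e⟩
  · refine ⟨w * h, mul_mem (W.sylow_le_centralizer_centerG (outW_mem x y z 0 0)) hhZ, ?_⟩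
    rw [← conj_mul_conj, e, F.outW_conj_rotW]

/-- `z` is conjugate to `x^m` as soon as it is conjugate into the base. -/
theorem fusedW_of_conj (W : WrSylow S m x y z N) {v : G} (hv : v ∈ W.frame.baseG)
    (hwv : IsConj (outW x y z 0 0) v) : W.FusedW := by
  obtain ⟨g, -, hg⟩ := W.exists_central_conj hv hwv
  exact isConj_iff.2 ⟨g, hg⟩

end WrSylow

end CfsgLib.Invol
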