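import Cfsg.Agent.Lib.Invol.WreathedLocal

/-!
# The automizer of the quaternion-type subgroups of a wreathed Sylow 2-subgroup
-/

set_option autoImplicit false
set_option linter.style.haveILetI false

namespace CfsgLib.Invol

open Subgroup CfsgLib.Fusion

namespace WrSylow

variable {G : Type*} [Group G] [Finite G] {S : Sylow 2 G} {m : ℤ} {x y z : (S : Subgroup G)} {N : ℕ}

theorem quatG_le_normalizer (W : WrSylow S m x y z N) {q : ℤ} (hq : m = 2 * q) (k : ℤ) :
    W.diffG q (2 * k) ≤ normalizer (W.quatG k : Set G) := fun _ hu =>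
  (W.mem_normalizer_quatG hq (W.diffG_le _ _ hu)).2 hu

/-- `diffG q (2 * k)` is a Sylow 2-subgroup of the normaliser of `quatG k`. -/
theorem not_two_dvd_relIndex_normalizer (W : WrSylow S m x y z N) {q : ℤ} (hq : m = 2 * q) (k : ℤ) :
    ¬ 2 ∣ (W.diffG q (2 * k)).relIndex (normalizer (W.quatG k : Set G)) := by
  haveI : Fact (Nat.Prime 2) := ⟨Nat.prime_two⟩
  set R := W.quatG k with hR
  obtain ⟨T, hT1, hT2, hTp, hTi⟩ := exists_le_not_dvd_relIndex
    (S.2.to_le (W.diffG_le q (2 * k))) (W.quatG_le_normalizer hq k)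
  obtain ⟨g, hg⟩ := exists_conj_le_sylow hTp S
  have hgS : conjBy g T ≤ (S : Subgroup G) := conjBy_le_iff.2 hg
  have hRT : R ≤ W.diffG q (2 * k) := fun u hu =>
    (W.mem_normalizer_quatG hq (W.diffG_le _ _ hu)).1 (le_normalizer hu)
  obtain ⟨k', hk'⟩ := W.conj_quatG ((conjBy_mono (hRT.trans hT1)).trans hgS)
  have hle : conjBy g T ≤ W.diffG q (2 * k') := by
    intro u hu
    refine (W.mem_normalizer_quatG hq (hgS hu)).1 ?_
    rw [← hk']
    exact conjBy_normalizer g R ▸ conjBy_mono hT2 hu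
  have hc := Subgroup.card_le_of_le hle
  rw [card_conjBy, W.card_diffG 4 (by push_cast; rw [hq]; ring)] at hc
  rwa [Subgroup.eq_of_le_of_card_ge hT1
    (by rw [W.card_diffG 4 (by push_cast; rw [hq]; ring)]; exact hc)]

/-- An element of odd order acting trivially modulo the centre of `S` centralises `quatG k`. -/
theorem mem_centralizer_quatG_of_odd (W : WrSylow S m x y z N) {k : ℤ} {n : G}
    (hn : n ∈ normalizer (W.quatG k : Set G)) (hodd : Odd (orderOf n))
    (hfix : ∀ v ∈ W.quatG k, v⁻¹ * (n * v * n⁻¹) ∈ centerG S)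
    (hZn : n ∈ normalizer (centerG S : Set G)) :
    n ∈ centralizer (W.quatG k : Set G) := by
  haveI : Fact (Nat.Prime 2) := ⟨Nat.prime_two⟩
  have hnZ : n ∈ centralizer (centerG S : Set G) := by
    refine mem_centralizer_of_fix_omega (p := 2) (S.2.to_le (map_subtype_le _))
      (fun u hu v hv => (W.commute_centerG (map_subtype_le _ hu) hv).eq) hZn
      (Nat.coprime_two_right.2 hodd) fun u hu hu2 => ?_
    by_cases hu1 : u = 1
    · subst hu1; group
    have ho : orderOf u = 2 := orderOf_eq_prime hu2 hu1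
    have key : ∀ v ∈ centerG S, orderOf v = 2 → v = rotW x y m m := by
      intro v hv hvo
      obtain ⟨r, rfl⟩ := W.frame.mem_centerMap_iff.1 hv
      rcases W.eW_conj_cases (W.frame.mem_baseG.2 ⟨r, r, rfl⟩) hvo with e | e | e
      · exact e
      · have h := W.mem_centerG.1 (e ▸ hv)
        rw [sub_zero] at h
        exact absurd h W.frame.not_dvd_half
      · have h := W.mem_centerG.1 (e ▸ hv)
        rw [zero_sub, dvd_neg] at h
        exact absurd h W.frame.not_dvd_half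
    rw [key _ ((mem_normalizer_iff.1 hZn u).1 hu) (invol_conj ho n), key u hu ho]
  refine mem_centralizer_iff.2 fun v hv => ?_
  obtain ⟨ζ, hζ⟩ : ∃ ζ, ζ = v⁻¹ * (n * v * n⁻¹) := ⟨_, rfl⟩
  have hζZ : ζ ∈ centerG S := hζ ▸ hfix v hv
  have hcn : Commute n ζ := mul_inv_eq_iff_eq_mul.1 (W.conj_centerG hnZ hζZ)
  have hvn : n * v * n⁻¹ = v * ζ := by rw [hζ]; group
  have hit : ∀ j : ℕ, n ^ j * v * (n ^ j)⁻¹ = v * ζ ^ j := by
    intro j
    induction j with
    | zero => simp
    | succ j ih =>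
      rw [pow_succ', show n * n ^ j * v * (n * n ^ j)⁻¹ = n * (n ^ j * v * (n ^ j)⁻¹) * n⁻¹ by
        group, ih, show n * (v * ζ ^ j) * n⁻¹ = n * v * n⁻¹ * (n * ζ ^ j * n⁻¹) by group, hvn,
        (hcn.pow_right j).eq, pow_succ']
      group
  have h1 := hit (orderOf n)
  rw [pow_orderOf_eq_one, one_mul, inv_one, mul_one, left_eq_mul] at h1
  obtain ⟨a, ha⟩ := orderOf_pow_two_of_mem (P := S) (map_subtype_le _ hζZ)
  have hd := orderOf_dvd_of_pow_eq_one h1
  rw [ha] at hd
  have hz1 : orderOf ζ = 1 := by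
    rw [ha]
    exact Nat.eq_one_of_dvd_coprimes (Nat.Coprime.pow_left a (Nat.coprime_two_left.2 hodd))
      dvd_rfl hd
  rw [orderOf_eq_one_iff.1 hz1, mul_one] at hvn
  exact (mul_inv_eq_iff_eq_mul.1 hvn).symm

/-- The automizer of `Q Z(S)`. -/
theorem quat_relIndex (W : WrSylow S m x y z N) (k : ℤ) :
    ((W.quatG k ⊔ centralizer (W.quatG k : Set G)).relIndex (normalizer (W.quatG k : Set G)) = 2 ∨
      (W.quatG k ⊔ centralizer (W.quatG k : Set G)).relIndex (normalizer (W.quatG k : Set G)) = 6) ∧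
    ((W.quatG k ⊔ centralizer (W.quatG k : Set G)).relIndex (normalizer (W.quatG k : Set G)) = 6 ↔
      W.FusedW) := by
  classical
  haveI : Fact (Nat.Prime 2) := ⟨Nat.prime_two⟩
  have F := W.frame
  obtain ⟨q, hq⟩ := F.even
  have hqs := W.two_mul_dvd hq
  set R := W.quatG k with hR
  set Nn := normalizer (R : Set G) with hNn
  have hRS : R ≤ (S : Subgroup G) := W.diffG_le _ _
  have heR : rotW x y m 0 ∈ R := W.rotW_mem_quatG.2 (by simp)
  have hwR : outW x y z k (-k) ∈ R := W.outW_mem_quatG.2 ⟨0, by ring⟩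
  -- the centre of `R`
  have hcen : ∀ u : R, u ∈ center R ↔ (u : G) ∈ centerG S := by
    intro u
    constructor
    · intro h
      have hc : ∀ v ∈ R, v * (u : G) = (u : G) * v := fun v hv =>
        congrArg Subtype.val (mem_center_iff.1 h ⟨v, hv⟩)
      obtain ⟨i, j, e | e⟩ := F.exists_coords (hRS u.2)
      · rw [e]
        refine W.mem_centerG.2 (F.rotW_commute_outW_iff (k := k) (l := -k) |>.1 ?_)
        rw [← e]
        exact (hc _ hwR).symm
      · exfalso
        refine F.not_dvd_half ?_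
        have h1 := hc _ heR
        rw [e] at h1
        simpa using F.rotW_commute_outW_iff.1 h1
    · intro h
      exact mem_center_iff.2 fun v => Subtype.ext (W.commute_centerG (hRS v.2) h).eq
  have hcard_c : Nat.card (center R) = N := by
    rw [← W.card_centerG]
    exact Nat.card_congr
      ⟨fun u => ⟨(u.1 : G), (hcen u.1).1 u.2⟩,
        fun v => ⟨⟨v.1, W.centerG_le_quatG k v.2⟩, (hcen _).2 v.2⟩,
        fun u => rfl, fun v => rfl⟩
  have hquot : Nat.card (R ⧸ center R) = 4 := by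
    have h1 := Subgroup.card_eq_card_quotient_mul_card_subgroup (center R)
    rw [hR, W.card_quatG, ← hR, hcard_c] at h1
    have hN0 : 0 < N := by rw [← W.card_centerG]; exact Nat.card_pos
    refine Nat.eq_of_mul_eq_mul_right hN0 ?_
    rw [← h1]; ring
  let toQ : MulAut R →* MulAut (R ⧸ center R) :=
    { toFun := fun σ => QuotientGroup.congr _ _ σ
        (Subgroup.characteristic_iff_map_eq.1 inferInstance σ)
      map_one' := MulEquiv.ext fun c => Quotient.inductionOn' c fun v => rfl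
      map_mul' := fun σ τ => MulEquiv.ext fun c => Quotient.inductionOn' c fun v => rfl }
  let toPerm : MulAut (R ⧸ center R) →* Equiv.Perm {c : R ⧸ center R // c ≠ 1} :=
    { toFun := fun σ => σ.toEquiv.subtypeEquiv fun c => by simp
      map_one' := by ext; simp
      map_mul' := fun σ τ => by ext; simp }
  set φ := toPerm.comp (toQ.comp R.normalizerMonoidHom) with hφ
  have hact : ∀ (n : Nn) (v : R) (hv : (v : R ⧸ center R) ≠ 1),
      (φ n ⟨v, hv⟩).1 = ((⟨(n : G) * v * (n : G)⁻¹,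
        (mem_normalizer_iff.1 n.2 v).1 v.2⟩ : R) : R ⧸ center R) := fun n v hv => rfl
  have hne1 : ∀ (v : G) (hv : v ∈ R), v ∉ centerG S → ((⟨v, hv⟩ : R) : R ⧸ center R) ≠ 1 :=
    fun v hv h e => h ((hcen _).1 ((QuotientGroup.eq_one_iff _).1 e))
  have hclass : ∀ u v : R, (u : R ⧸ center R) = v ↔ (u : G)⁻¹ * v ∈ centerG S := by
    intro u v
    rw [QuotientGroup.eq, hcen]
    rfl
  have hcard : Nat.card {c : R ⧸ center R // c ≠ 1} = 3 := by
    haveI := Fintype.ofFinite (R ⧸ center R)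
    rw [Nat.card_eq_fintype_card, Fintype.card_subtype_compl, Fintype.card_subtype_eq,
      ← Nat.card_eq_fintype_card, hquot]
  have heZ : rotW x y m 0 ∉ centerG S := fun h => F.not_dvd_half (by simpa using W.mem_centerG.1 h)
  let e' : {c : R ⧸ center R // c ≠ 1} := ⟨_, hne1 _ heR heZ⟩
  let w' : {c : R ⧸ center R // c ≠ 1} := ⟨_, hne1 _ hwR (W.outW_notMem_centerG _ _)⟩
  -- kernel
  have hkfix : ∀ n : Nn, φ n = 1 → ∀ v ∈ R, v⁻¹ * ((n : G) * v * (n : G)⁻¹) ∈ centerG S := by
    intro n hn v hv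
    by_cases hvZ : v ∈ centerG S
    · refine mul_mem (inv_mem hvZ) ?_
      have h1 : R.normalizerMonoidHom n (⟨v, hv⟩ : R) ∈ center R :=
        (Subgroup.characteristic_iff_map_eq.1 (inferInstance : (center R).Characteristic)
          (R.normalizerMonoidHom n)).le ⟨⟨v, hv⟩, (hcen _).2 hvZ, rfl⟩
      exact (hcen _).1 h1
    · have h1 := hact n ⟨v, hv⟩ (hne1 v hv hvZ)
      rw [hn] at h1
      exact (hclass _ _).1 h1
  have hker : φ.ker = (R ⊔ centralizer (R : Set G)).subgroupOf Nn := by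
    rw [Subgroup.subgroupOf_sup le_normalizer (centralizer_le_normalizer _)]
    set D := R.subgroupOf Nn ⊔ (centralizer (R : Set G)).subgroupOf Nn
    refine le_antisymm ?_ (sup_le ?_ ?_)
    · haveI : (R.subgroupOf Nn).Normal := Subgroup.normal_in_normalizer
      haveI : ((centralizer (R : Set G)).subgroupOf Nn).Normal :=
        ⟨fun c hc n => mem_subgroupOf.2 (mem_centralizer_iff.2 fun v hv => by
          have h1 := mem_centralizer_iff.1 (mem_subgroupOf.1 hc) ((n : G)⁻¹ * v * n)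
            (by simpa using (mem_normalizer_iff.1 (inv_mem n.2) v).1 hv)
          push_cast
          calc v * ((n : G) * c * (n : G)⁻¹) = n * ((n : G)⁻¹ * v * n * c) * (n : G)⁻¹ := by group
            _ = n * (c * ((n : G)⁻¹ * v * n)) * (n : G)⁻¹ := by rw [h1]
            _ = _ := by group)⟩
      refine ker_le_of_sylow φ D (T := (W.diffG q (2 * k)).subgroupOf Nn)
        ((S.2.to_le (W.diffG_le q (2 * k))).comap_subtype)
        (W.not_two_dvd_relIndex_normalizer hq k) (fun u hu hφu => ?_) fun u hφu hodd => ?_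
      · refine le_sup_left (b := (centralizer (R : Set G)).subgroupOf Nn) (mem_subgroupOf.2 ?_)
        have hu' := mem_subgroupOf.1 hu
        have h1 := hkfix u hφu _ hwR
        obtain ⟨p, l, e | e⟩ := F.exists_coords (W.diffG_le _ _ hu') <;> rw [e] at h1 ⊢
        · rw [F.rotW_conj_outW, F.outW_inv, F.outW_mul, W.mem_centerG,
            show -(-k) + (-k + l - p) - (-k + (k + p - l)) = -(2 * (p - l)) by ring, dvd_neg,
            mul_dvd_mul_iff_left two_ne_zero] at h1
          exact W.rotW_mem_quatG.2 h1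
        · rw [F.outW_conj_outW, F.outW_inv, F.outW_mul, W.mem_centerG,
            show -(-k) + (l + k - p) - (-k + (p + -k - l)) = -(2 * (p - l - 2 * k)) by ring,
            dvd_neg, mul_dvd_mul_iff_left two_ne_zero] at h1
          exact W.outW_mem_quatG.2 h1
      · refine le_sup_right (a := R.subgroupOf Nn) (mem_subgroupOf.2 ?_)
        refine W.mem_centralizer_quatG_of_odd u.2 (by rwa [Subgroup.orderOf_coe]) (hkfix u hφu)
          (mem_normalizer_of_conj_mem fun v hv => ?_)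
        have h1 := hkfix u hφu v (W.centerG_le_quatG k hv)
        rw [show (u : G) * v * (u : G)⁻¹ = v * (v⁻¹ * ((u : G) * v * (u : G)⁻¹)) by group]
        exact mul_mem hv h1
    · intro u hu
      refine MonoidHom.mem_ker.2 (Equiv.ext ?_)
      rintro ⟨c, hc⟩
      obtain ⟨v, rfl⟩ := QuotientGroup.mk_surjective c
      refine Subtype.ext ((hact u v hc).trans ?_)
      show _ = (v : R ⧸ center R)
      rw [eq_comm, hclass]
      exact W.comm_quatG (mem_subgroupOf.1 hu) v.2
    · intro u hu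
      refine MonoidHom.mem_ker.2 (Equiv.ext ?_)
      rintro ⟨c, hc⟩
      obtain ⟨v, rfl⟩ := QuotientGroup.mk_surjective c
      refine Subtype.ext ((hact u v hc).trans ?_)
      refine congrArg (fun r : R => (r : R ⧸ center R)) (Subtype.ext ?_)
      exact mul_inv_eq_iff_eq_mul.2 (mem_centralizer_iff.1 (mem_subgroupOf.1 hu) _ v.2).symm
  have hsN : rotW x y q 0 ∈ Nn :=
    W.quatG_le_normalizer hq k ((W.rotW_mem_diffG hqs).2 (by simp))
  have key := index_two_or_six hcard φ e' (s := ⟨_, hsN⟩)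
    (Subtype.ext ((hact _ _ _).trans (congrArg (fun r : R => (r : R ⧸ center R))
      (Subtype.ext (F.rotW_conj_rotW q 0 m 0)))))
    (fun e => by
      have h1 := hact ⟨_, hsN⟩ ⟨_, hwR⟩ w'.2
      rw [e] at h1
      have h2 := (hclass ⟨_, hwR⟩ _).1 h1
      replace h2 : (outW x y z k (-k))⁻¹ *
          (rotW x y q 0 * outW x y z k (-k) * (rotW x y q 0)⁻¹) ∈ centerG S := h2
      rw [F.rotW_conj_outW,
        F.outW_inv, F.outW_mul, W.mem_centerG,
        show -(-k) + (-k + 0 - q) - (-k + (k + q - 0)) = -m by rw [hq]; ring, dvd_neg] at h2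
      exact F.not_dvd_half h2)
  rw [hker] at key
  refine ⟨key.1, key.2.trans ⟨?_, fun hf => ?_⟩⟩
  · -- a mover gives fusion
    rintro ⟨n, hn⟩
    obtain ⟨v, hv⟩ : ∃ v, v = (n : G) * rotW x y m 0 * (n : G)⁻¹ := ⟨_, rfl⟩
    have hvR : v ∈ R := hv ▸ (mem_normalizer_iff.1 n.2 _).1 heR
    have hvZ : ∀ h : (rotW x y m 0)⁻¹ * v ∈ centerG S, False := fun h =>
      hn (Subtype.ext (((hact n _ e'.2).trans (congrArg (fun r : R => (r : R ⧸ center R))
        (Subtype.ext hv.symm : _ = (⟨v, hvR⟩ : R)))).trans ((hclass ⟨_, heR⟩ ⟨_, hvR⟩).2 h).symm))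
    rcases F.invol_casesW (hRS hvR) (hv ▸ invol_conj F.orderOf_eW _) with e | e | e | ⟨i, j, hij, e⟩
    · have h0 : ((⟨v, hvR⟩ : R) : R ⧸ center R) = 1 :=
        (QuotientGroup.eq_one_iff _).2 ((hcen _).2 (by
          show v ∈ centerG S
          rw [e]
          exact W.tW_mem_centerG))
      exact absurd (((hact n _ e'.2).trans (congrArg (fun r : R => (r : R ⧸ center R))
        (Subtype.ext hv.symm : _ = (⟨v, hvR⟩ : R)))).trans h0) (φ n e').2
    · exact absurd (by rw [e, inv_mul_cancel]; exact one_mem _) hvZ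
    · refine absurd ?_ hvZ
      rw [e, F.rotW_inv, F.rotW_mul, W.mem_centerG]
      exact ⟨-1, by ring⟩
    · exact (F.isConj_invol hij).trans (isConj_iff.2 ⟨(n : G), hv.symm.trans e⟩ : IsConj _ _).symm
  · -- fusion gives a mover
    obtain ⟨g₀, hg₀, hg₀e⟩ := W.exists_central_conj W.eW_mem hf
    set c := rotW x y k 0 with hc
    have hcw : c * outW x y z 0 0 * c⁻¹ = outW x y z k (-k) := by
      rw [F.rotW_conj_outW]; congr 1 <;> ring
    set g := g₀ * c⁻¹ with hg
    have hgZ : g ∈ centralizer (centerG S : Set G) :=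
      mul_mem hg₀ (inv_mem (W.sylow_le_centralizer_centerG (rotW_mem x y k 0)))
    have hgw : g * outW x y z k (-k) * g⁻¹ = rotW x y m 0 := by
      rw [hg, ← conj_mul_conj, ← hg₀e, ← hcw]; group
    set B := F.baseG ⊓ W.diffG m 0 with hB
    set K := normalizer (B : Set G) ⊓ centralizer (centerG S : Set G)
    have hBcases : ∀ u ∈ B, u ∈ centerG S ∨ ∃ ζ ∈ centerG S, u = ζ * rotW x y m 0 := by
      rintro u ⟨hu1, hu2⟩
      obtain ⟨i, j, rfl⟩ := F.mem_baseG.1 hu1
      rcases F.half_cases ((W.rotW_mem_diffG (dvd_mul_left m 2)).1 hu2) with h | h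
      · exact Or.inl (W.mem_centerG.2 h)
      · refine Or.inr ⟨rotW x y j j, W.mem_centerG.2 (by simp), ?_⟩
        rw [F.rotW_mul, F.rotW_eq_iff]
        exact ⟨by rwa [show i - (j + m) = i - j - m by ring], ⟨0, by ring⟩⟩
    have heB : rotW x y m 0 ∈ B :=
      ⟨W.eW_mem, (W.rotW_mem_diffG (dvd_mul_left m 2)).2 (by simp)⟩
    have hZB : centerG S ≤ B := fun u hu => by
      obtain ⟨r, rfl⟩ := F.mem_centerMap_iff.1 hu
      exact ⟨F.mem_baseG.2 ⟨r, r, rfl⟩, (W.rotW_mem_diffG (dvd_mul_left m 2)).2 (by simp)⟩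
    have hSK : (S : Subgroup G) ≤ K := fun s hs => by
      refine ⟨mem_normalizer_of_conj_mem fun u hu => ?_, W.sylow_le_centralizer_centerG hs⟩
      obtain ⟨i, j, rfl⟩ := F.mem_baseG.1 hu.1
      obtain ⟨p, l, rfl | rfl⟩ := F.exists_coords hs
      · rw [F.rotW_conj_rotW]; exact hu
      · rw [F.outW_conj_rotW]
        refine ⟨F.mem_baseG.2 ⟨j, i, rfl⟩, (W.rotW_mem_diffG (dvd_mul_left m 2)).2 ?_⟩
        rw [← neg_sub, dvd_neg]
        exact (W.rotW_mem_diffG (dvd_mul_left m 2)).1 hu.2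
    have hgK : conjBy g R ≤ K := conjBy_le_iff.2 fun r hr => by
      have hrZ : g * r * g⁻¹ ∈ centralizer (centerG S : Set G) :=
        mul_mem (mul_mem hgZ (W.sylow_le_centralizer_centerG (hRS hr))) (inv_mem hgZ)
      refine ⟨mem_normalizer_of_conj_mem fun u hu => ?_, hrZ⟩
      have he : g * r * g⁻¹ * rotW x y m 0 * (g * r * g⁻¹)⁻¹ ∈ B := by
        obtain ⟨ζ, hζ⟩ : ∃ ζ, ζ = (outW x y z k (-k))⁻¹ * (r * outW x y z k (-k) * r⁻¹) := ⟨_, rfl⟩
        have hζZ : ζ ∈ centerG S := hζ ▸ W.comm_quatG hr hwR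
        rw [show g * r * g⁻¹ * rotW x y m 0 * (g * r * g⁻¹)⁻¹ =
            g * outW x y z k (-k) * g⁻¹ * (g * ζ * g⁻¹) by
          rw [hζ, ← hgw]; group, hgw, W.conj_centerG hgZ hζZ]
        exact mul_mem heB (hZB hζZ)
      rcases hBcases u hu with h | ⟨ζ, hζ, rfl⟩
      · rw [W.conj_centerG hrZ h]; exact hu
      · rw [show g * r * g⁻¹ * (ζ * rotW x y m 0) * (g * r * g⁻¹)⁻¹ =
          g * r * g⁻¹ * ζ * (g * r * g⁻¹)⁻¹ * (g * r * g⁻¹ * rotW x y m 0 * (g * r * g⁻¹)⁻¹) by
            group, W.conj_centerG hrZ hζ]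
        exact mul_mem (hZB hζ) he
    obtain ⟨d, hd, hdS⟩ := exists_conj_le_of_not_dvd_relIndex S.2 hSK
      (fun h => S.not_dvd_index (h.trans (Subgroup.relIndex_dvd_index_of_le hSK)))
      (isPGroup_conjBy g (S.2.to_le hRS)) hgK
    rw [conjBy_conjBy] at hdS
    obtain ⟨k', hk'⟩ := W.conj_quatG hdS
    set σ := rotW x y (k - k') 0 with hσ
    set n := σ * (d * g) with hn
    have hσR : ∀ u ∈ W.quatG k', σ * u * σ⁻¹ ∈ R := fun u hu => by
      obtain ⟨i, j, rfl | rfl⟩ := F.exists_coords (W.diffG_le _ _ hu)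
      · rw [F.rotW_conj_rotW]; exact W.rotW_mem_quatG.2 (W.rotW_mem_quatG.1 hu)
      · rw [F.rotW_conj_outW, hR, W.outW_mem_quatG,
          show i + (k - k') - 0 - (j + 0 - (k - k')) - 2 * k = i - j - 2 * k' by ring]
        exact W.outW_mem_quatG.1 hu
    have hnN : n ∈ Nn := mem_normalizer_of_conj_mem fun u hu => by
      rw [hn, ← conj_mul_conj]
      exact hσR _ (hk' ▸ conj_mem_conjBy hu)
    -- the image of the class of `z`
    have himg : n * outW x y z k (-k) * n⁻¹ ∈ F.baseG ∧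
        (rotW x y m 0)⁻¹ * (n * outW x y z k (-k) * n⁻¹) ∈ centerG S := by
      rw [hn, ← conj_mul_conj, ← conj_mul_conj, hgw]
      have h1 : d * rotW x y m 0 * d⁻¹ ∈ B := (mem_normalizer_iff.1 hd.1 _).1 heB
      obtain ⟨i, j, e⟩ := F.mem_baseG.1 h1.1
      rw [e, F.rotW_conj_rotW, ← e]
      refine ⟨h1.1, ?_⟩
      rcases hBcases _ h1 with h | ⟨ζ, hζ, e1⟩
      · exfalso
        refine heZ ?_
        have h2 := W.conj_centerG (inv_mem hd.2) h
        rw [show d⁻¹ * (d * rotW x y m 0 * d⁻¹) * d⁻¹⁻¹ = rotW x y m 0 by group] at h2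
        rw [h2]; exact h
      · rw [e1, show (rotW x y m 0)⁻¹ * (ζ * rotW x y m 0) = ζ by
          rw [← (W.commute_centerG (rotW_mem x y m 0) hζ).eq]; group]
        exact hζ
    refine ⟨⟨n, hnN⟩⁻¹, fun e => ?_⟩
    have h1 := hact ⟨n, hnN⟩ ⟨_, hwR⟩ w'.2
    have h2 : φ ⟨n, hnN⟩ w' = e' := Subtype.ext (h1.trans ((hclass ⟨_, heR⟩ _).2 himg.2).symm)
    have h3 : w' = e' := by
      rw [map_inv, ← h2, Equiv.Perm.inv_def, Equiv.symm_apply_apply] at e
      exact e.trans h2
    have h4 := (hclass ⟨_, hwR⟩ ⟨_, heR⟩).1 (congrArg Subtype.val h3)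
    rw [F.outW_inv, F.outW_mul_rotW] at h4
    exact W.outW_notMem_centerG _ _ h4

/-- The two local indices of the statements of the fusion theorem. -/
theorem local_indices (W : WrSylow S m x y z N) {n : ℕ}
    (hn : Nat.card S = 2 ^ (2 * n + 1)) {U : Subgroup G} (hUS : U ≤ (S : Subgroup G))
    (hUab : IsMulCommutative U) (hUcard : Nat.card U = 2 ^ (2 * n)) {Q : Subgroup G}
    (hQS : Q ≤ (S : Subgroup G)) (eQ : Q ≃* QuaternionGroup 2) :
    2 ≤ n ∧ N = 2 ^ n ∧ U = W.frame.baseG ∧ ∃ k, Q ⊔ centerG S = W.quatG k := by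
  obtain ⟨n₀, hn₀, hN⟩ := W.two_pow
  have hc : Nat.card S = 2 ^ (2 * n₀ + 1) := by
    rw [W.card_eq, hN, ← pow_add, ← pow_succ', two_mul]
  have hnn : n = n₀ := by
    have := Nat.pow_right_injective le_rfl (hn.symm.trans hc)
    omega
  subst hnn
  refine ⟨hn₀, hN, W.frame.eq_baseG_of_abelian W.hN W.card_eq hUS (fun u hu v hv => ?_)
    (by rw [hUcard, hN, ← pow_add, two_mul]), W.exists_quat_sup hQS eQ⟩
  exact congrArg Subtype.val (hUab.is_comm.comm (⟨u, hu⟩ : U) ⟨v, hv⟩)

end WrSylow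

end CfsgLib.Invol
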