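import Cfsg.Agent.Lib.Invol.Wreathed

/-!
# Subgroups of wreathed 2-groups
-/

set_option autoImplicit false

namespace CfsgLib.Invol

open Subgroup
open scoped commutatorElement

variable {S : Type*} [Group S] {m : ℤ} {x y z : S}

namespace WrFrame

/-- The homocyclic subgroup `⟨x⟩ × ⟨y⟩`. -/
def base (W : WrFrame m x y z) : Subgroup S where
  carrier := {g | ∃ i j : ℤ, g = x ^ i * y ^ j}
  one_mem' := ⟨0, 0, by simp⟩
  mul_mem' := by
    rintro _ _ ⟨i, j, rfl⟩ ⟨k, l, rfl⟩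
    exact ⟨_, _, W.mul_rot i j k l⟩
  inv_mem' := by
    rintro _ ⟨i, j, rfl⟩
    exact ⟨_, _, W.rot_inv i j⟩

/-- The elements with difference of exponents in `sℤ`, respectively `c + sℤ`. -/
def diffSub (W : WrFrame m x y z) (s c : ℤ) : Subgroup S where
  carrier := {g | ∃ i j : ℤ, (s ∣ i - j ∧ g = x ^ i * y ^ j) ∨ (s ∣ i - j - c ∧ g = x ^ i * y ^ j * z)}
  one_mem' := ⟨0, 0, Or.inl ⟨by simp, by simp⟩⟩
  mul_mem' := by
    rintro _ _ ⟨i, j, ⟨h, rfl⟩ | ⟨h, rfl⟩⟩ ⟨k, l, ⟨h', rfl⟩ | ⟨h', rfl⟩⟩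
    · exact ⟨_, _, Or.inl ⟨by have := dvd_add h h'; ring_nf at this ⊢; exact this, W.mul_rot i j k l⟩⟩
    · exact ⟨_, _, Or.inr ⟨by have := dvd_add h h'; ring_nf at this ⊢; exact this, W.rot_mul_out i j k l⟩⟩
    · exact ⟨_, _, Or.inr ⟨by have := dvd_sub h h'; ring_nf at this ⊢; exact this, W.out_mul_rot i j k l⟩⟩
    · exact ⟨_, _, Or.inl ⟨by have := dvd_sub h h'; ring_nf at this ⊢; exact this, W.out_mul_out i j k l⟩⟩
  inv_mem' := by
    rintro _ ⟨i, j, ⟨h, rfl⟩ | ⟨h, rfl⟩⟩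
    · exact ⟨_, _, Or.inl ⟨by rw [show -i - -j = -(i - j) by ring]; exact dvd_neg.2 h, W.rot_inv i j⟩⟩
    · exact ⟨_, _, Or.inr ⟨by rw [show -j - -i - c = i - j - c by ring]; exact h, W.out_inv i j⟩⟩

/-- The elements with sum of exponents in `sℤ`, respectively `c + sℤ`, where `s ∣ 2c`. -/
def sumSub (W : WrFrame m x y z) (s c : ℤ) (hc : s ∣ 2 * c) : Subgroup S where
  carrier := {g | ∃ i j : ℤ, (s ∣ i + j ∧ g = x ^ i * y ^ j) ∨ (s ∣ i + j - c ∧ g = x ^ i * y ^ j * z)}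
  one_mem' := ⟨0, 0, Or.inl ⟨by simp, by simp⟩⟩
  mul_mem' := by
    rintro _ _ ⟨i, j, ⟨h, rfl⟩ | ⟨h, rfl⟩⟩ ⟨k, l, ⟨h', rfl⟩ | ⟨h', rfl⟩⟩
    · exact ⟨_, _, Or.inl ⟨by have := dvd_add h h'; ring_nf at this ⊢; exact this, W.mul_rot i j k l⟩⟩
    · exact ⟨_, _, Or.inr ⟨by have := dvd_add h h'; ring_nf at this ⊢; exact this, W.rot_mul_out i j k l⟩⟩
    · exact ⟨_, _, Or.inr ⟨by have := dvd_add h h'; ring_nf at this ⊢; exact this, W.out_mul_rot i j k l⟩⟩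
    · exact ⟨_, _, Or.inl ⟨by have := dvd_add (dvd_add h h') hc; ring_nf at this ⊢; exact this, W.out_mul_out i j k l⟩⟩
  inv_mem' := by
    rintro _ ⟨i, j, ⟨h, rfl⟩ | ⟨h, rfl⟩⟩
    · exact ⟨_, _, Or.inl ⟨by rw [show -i + -j = -(i + j) by ring]; exact dvd_neg.2 h, W.rot_inv i j⟩⟩
    · exact ⟨_, _, Or.inr ⟨by
        rw [show -j + -i - c = -((i + j - c) + 2 * c) by ring]; exact dvd_neg.2 (dvd_add h hc),
        W.out_inv i j⟩⟩

theorem rot_mem_base (W : WrFrame m x y z) (i j : ℤ) : x ^ i * y ^ j ∈ W.base := ⟨i, j, rfl⟩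

theorem out_notMem_base (W : WrFrame m x y z) (i j : ℤ) : x ^ i * y ^ j * z ∉ W.base := by
  rintro ⟨k, l, h⟩
  exact W.rot_ne_out k l i j h.symm

theorem rot_mem_diffSub (W : WrFrame m x y z) {s c i j : ℤ} (hs : s ∣ 2 * m) :
    x ^ i * y ^ j ∈ W.diffSub s c ↔ s ∣ i - j := by
  refine ⟨?_, fun h => ⟨i, j, Or.inl ⟨h, rfl⟩⟩⟩
  rintro ⟨k, l, ⟨h, e⟩ | ⟨h, e⟩⟩
  · obtain ⟨h1, h2⟩ := W.rot_eq_iff.1 e
    have := dvd_add h (dvd_sub (hs.trans h1) (hs.trans h2))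
    rwa [show k - l + (i - k - (j - l)) = i - j by ring] at this
  · exact absurd e (W.rot_ne_out _ _ _ _)

theorem out_mem_diffSub (W : WrFrame m x y z) {s c i j : ℤ} (hs : s ∣ 2 * m) :
    x ^ i * y ^ j * z ∈ W.diffSub s c ↔ s ∣ i - j - c := by
  refine ⟨?_, fun h => ⟨i, j, Or.inr ⟨h, rfl⟩⟩⟩
  rintro ⟨k, l, ⟨h, e⟩ | ⟨h, e⟩⟩
  · exact absurd e.symm (W.rot_ne_out _ _ _ _)
  · obtain ⟨h1, h2⟩ := W.out_eq_iff.1 e
    have := dvd_add h (dvd_sub (hs.trans h1) (hs.trans h2))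
    rwa [show k - l - c + (i - k - (j - l)) = i - j - c by ring] at this

theorem rot_mem_sumSub (W : WrFrame m x y z) {s c i j : ℤ} {hc : s ∣ 2 * c} (hs : s ∣ 2 * m) :
    x ^ i * y ^ j ∈ W.sumSub s c hc ↔ s ∣ i + j := by
  refine ⟨?_, fun h => ⟨i, j, Or.inl ⟨h, rfl⟩⟩⟩
  rintro ⟨k, l, ⟨h, e⟩ | ⟨h, e⟩⟩
  · obtain ⟨h1, h2⟩ := W.rot_eq_iff.1 e
    have := dvd_add h (dvd_add (hs.trans h1) (hs.trans h2))
    rwa [show k + l + (i - k + (j - l)) = i + j by ring] at this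
  · exact absurd e (W.rot_ne_out _ _ _ _)

theorem out_mem_sumSub (W : WrFrame m x y z) {s c i j : ℤ} {hc : s ∣ 2 * c} (hs : s ∣ 2 * m) :
    x ^ i * y ^ j * z ∈ W.sumSub s c hc ↔ s ∣ i + j - c := by
  refine ⟨?_, fun h => ⟨i, j, Or.inr ⟨h, rfl⟩⟩⟩
  rintro ⟨k, l, ⟨h, e⟩ | ⟨h, e⟩⟩
  · exact absurd e.symm (W.rot_ne_out _ _ _ _)
  · obtain ⟨h1, h2⟩ := W.out_eq_iff.1 e
    have := dvd_add h (dvd_add (hs.trans h1) (hs.trans h2))
    rwa [show k + l - c + (i - k + (j - l)) = i + j - c by ring] at this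

theorem sumSub_normal (W : WrFrame m x y z) {s c : ℤ} {hc : s ∣ 2 * c} (hs : s ∣ 2 * m) :
    (W.sumSub s c hc).Normal := ⟨fun g hg h => by
  obtain ⟨k, l, rfl | rfl⟩ := W.exists_eq h <;> obtain ⟨i, j, ⟨hd, rfl⟩ | ⟨hd, rfl⟩⟩ := hg
  · rw [(W.rot_commute k l i j).eq, mul_inv_cancel_right]; exact (W.rot_mem_sumSub hs).2 hd
  · rw [W.rot_conj_out, W.out_mem_sumSub hs]; convert hd using 1; ring
  · rw [W.out_mul_rot, W.out_inv, W.out_mul_out, W.rot_mem_sumSub hs]; convert hd using 1; ring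
  · rw [W.out_mul_out, W.out_inv, W.rot_mul_out, W.out_mem_sumSub hs]; convert hd using 1; ring⟩

/-- Counting lemma. -/
theorem card_of_param (W : WrFrame m x y z) (H : Subgroup S) {N t : ℕ} (hN : (N : ℤ) = 2 * m)
    (s : ℤ) (hst : 2 * m = s * t) (hs0 : s ≠ 0) (σ c : ℤ) (hσ : σ = 1 ∨ σ = -1)
    (hrot : ∀ i j : ℤ, x ^ i * y ^ j ∈ H ↔ s ∣ j + σ * i)
    (hout : ∀ i j : ℤ, x ^ i * y ^ j * z ∈ H ↔ s ∣ j + σ * i - c) :
    Nat.card H = 2 * (N * t) := by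
  let f : Bool × Fin N × Fin t → H := fun p =>
    if p.1 then ⟨x ^ (p.2.1 : ℤ) * y ^ (-σ * (p.2.1 : ℤ) + c + s * (p.2.2 : ℤ)) * z,
      (hout _ _).2 ⟨p.2.2, by ring⟩⟩
    else ⟨x ^ (p.2.1 : ℤ) * y ^ (-σ * (p.2.1 : ℤ) + s * (p.2.2 : ℤ)), (hrot _ _).2 ⟨p.2.2, by ring⟩⟩
  have hN0 : (N : ℤ) ≠ 0 := by have := W.two_le; omega
  have ht0 : (t : ℤ) ≠ 0 := fun e => by rw [e, mul_zero] at hst; omega
  have inj1 : ∀ (u u' : Fin N) (v v' : Fin t) (d : ℤ),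
      2 * m ∣ (u : ℤ) - u' → 2 * m ∣ (-σ * (u : ℤ) + d + s * (v : ℤ)) - (-σ * (u' : ℤ) + d + s * (v' : ℤ)) →
      u = u' ∧ v = v' := by
    intro u u' v v' d h1 h2
    have e1 : u = u' := Fin.ext (by
      have := Int.eq_zero_of_abs_lt_dvd h1 (abs_sub_lt_iff.2 ⟨by omega, by omega⟩)
      omega)
    subst e1
    rw [show -σ * (u : ℤ) + d + s * (v : ℤ) - (-σ * (u : ℤ) + d + s * (v' : ℤ)) =
      s * ((v : ℤ) - v') by ring, hst, mul_dvd_mul_iff_left hs0] at h2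
    have e2 := Int.eq_zero_of_abs_lt_dvd h2 (abs_sub_lt_iff.2 ⟨by omega, by omega⟩)
    exact ⟨rfl, Fin.ext (by omega)⟩
  have hinj : Function.Injective f := by
    rintro ⟨_ | _, u, v⟩ ⟨_ | _, u', v'⟩ h <;> have h' := congrArg Subtype.val h <;>
      simp only [f, if_true, if_false, Bool.false_eq_true] at h'
    · obtain ⟨h1, h2⟩ := W.rot_eq_iff.1 h'
      obtain ⟨rfl, rfl⟩ := inj1 u u' v v' 0 h1 (by simpa using h2)
      rfl
    · exact absurd h' (W.rot_ne_out _ _ _ _)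
    · exact absurd h'.symm (W.rot_ne_out _ _ _ _)
    · obtain ⟨h1, h2⟩ := W.out_eq_iff.1 h'
      obtain ⟨rfl, rfl⟩ := inj1 u u' v v' c h1 h2
      rfl
  have cover : ∀ i j d : ℤ, s ∣ j + σ * i - d → ∃ (u : Fin N) (v : Fin t),
      2 * m ∣ i - (u : ℤ) ∧ 2 * m ∣ j - (-σ * (u : ℤ) + d + s * (v : ℤ)) := by
    intro i j d hd
    obtain ⟨u, hu, hu'⟩ : ∃ u : Fin N, (2 * m ∣ i - (u : ℤ)) ∧ True :=
      ⟨⟨(i % (N : ℤ)).toNat, by
        have := Int.emod_lt_of_pos i (show (0 : ℤ) < N by omega)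
        have := Int.emod_nonneg i hN0
        omega⟩, by
        rw [← hN]
        simp only [Int.toNat_of_nonneg (Int.emod_nonneg i hN0)]
        exact Int.dvd_self_sub_emod, trivial⟩
    obtain ⟨w, hw⟩ : s ∣ j + σ * (u : ℤ) - d := by
      have := dvd_sub hd ((Dvd.intro (t : ℤ) hst.symm).trans hu |>.mul_left σ)
      rwa [show j + σ * i - d - σ * (i - (u : ℤ)) = j + σ * (u : ℤ) - d by ring] at this
    refine ⟨u, ⟨(w % (t : ℤ)).toNat, by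
      have := Int.emod_lt_of_pos w (show (0 : ℤ) < t by omega)
      have := Int.emod_nonneg w ht0
      omega⟩, hu, ?_⟩
    simp only [Int.toNat_of_nonneg (Int.emod_nonneg w ht0)]
    rw [show j - (-σ * (u : ℤ) + d + s * (w % (t : ℤ))) = s * (w - w % (t : ℤ)) by linarith, hst,
      mul_dvd_mul_iff_left hs0]
    exact Int.dvd_self_sub_emod
  have hsurj : Function.Surjective f := by
    rintro ⟨g, hg⟩
    obtain ⟨i, j, rfl | rfl⟩ := W.exists_eq g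
    · obtain ⟨u, v, h1, h2⟩ := cover i j 0 (by simpa using (hrot i j).1 hg)
      exact ⟨(false, u, v), Subtype.ext (W.rot_eq_iff.2
        ⟨by rw [← dvd_neg, neg_sub]; exact h1, by rw [← dvd_neg, neg_sub]; simpa using h2⟩)⟩
    · obtain ⟨u, v, h1, h2⟩ := cover i j c ((hout i j).1 hg)
      exact ⟨(true, u, v), Subtype.ext (W.out_eq_iff.2
        ⟨by rw [← dvd_neg, neg_sub]; exact h1, by rw [← dvd_neg, neg_sub]; exact h2⟩)⟩
  rw [← Nat.card_eq_of_bijective f ⟨hinj, hsurj⟩]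
  simp

theorem card_diffSub (W : WrFrame m x y z) {N t : ℕ} (hN : (N : ℤ) = 2 * m) {s c : ℤ}
    (hst : 2 * m = s * t) : Nat.card (W.diffSub s c) = 2 * (N * t) := by
  have hs : s ∣ 2 * m := ⟨t, hst⟩
  refine W.card_of_param _ hN s hst (fun e => ?_) (-1) (-c) (Or.inr rfl) ?_ ?_
  · rw [e, zero_mul] at hst; have := W.two_le; omega
  · intro i j
    rw [W.rot_mem_diffSub hs, show j + -1 * i = -(i - j) by ring, dvd_neg]
  · intro i j
    rw [W.out_mem_diffSub hs, show j + -1 * i - -c = -(i - j - c) by ring, dvd_neg]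

theorem card_sumSub (W : WrFrame m x y z) {N t : ℕ} (hN : (N : ℤ) = 2 * m) {s c : ℤ}
    {hc : s ∣ 2 * c} (hst : 2 * m = s * t) : Nat.card (W.sumSub s c hc) = 2 * (N * t) := by
  have hs : s ∣ 2 * m := ⟨t, hst⟩
  refine W.card_of_param _ hN s hst (fun e => ?_) 1 c (Or.inl rfl) ?_ ?_
  · rw [e, zero_mul] at hst; have := W.two_le; omega
  · intro i j
    rw [W.rot_mem_sumSub hs, one_mul, add_comm]
  · intro i j
    rw [W.out_mem_sumSub hs, one_mul, add_comm j i]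

theorem index_base (W : WrFrame m x y z) : W.base.index = 2 := by
  rw [Subgroup.index_eq_two_iff_exists_notMem_and']
  refine ⟨x ^ (0 : ℤ) * y ^ (0 : ℤ) * z, W.out_notMem_base 0 0, fun g => ?_⟩
  obtain ⟨i, j, rfl | rfl⟩ := W.exists_eq g
  · exact Or.inr (W.rot_mem_base i j)
  · exact Or.inl (by rw [W.out_mul_out]; exact W.rot_mem_base _ _)

theorem base_comm (W : WrFrame m x y z) : IsMulCommutative W.base :=
  isMulCommutative_iff.2 fun a b => by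
    obtain ⟨_, i, j, rfl⟩ := a
    obtain ⟨_, k, l, rfl⟩ := b
    exact Subtype.ext (W.rot_commute i j k l).eq

theorem commutator_eq (W : WrFrame m x y z) :
    commutator S = Subgroup.zpowers (x ^ (1 : ℤ) * y ^ (-1 : ℤ)) := by
  have hc : ∀ {i j : ℤ}, 2 * m ∣ i + j →
      x ^ i * y ^ j ∈ Subgroup.zpowers (x ^ (1 : ℤ) * y ^ (-1 : ℤ)) := fun {i j} h =>
    Subgroup.mem_zpowers_iff.2 ⟨i, by
      rw [W.rot_zpow, W.rot_eq_iff]
      exact ⟨by simp, by rw [show -1 * i - j = -(i + j) by ring]; exact dvd_neg.2 h⟩⟩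
  haveI : (Subgroup.zpowers (x ^ (1 : ℤ) * y ^ (-1 : ℤ))).Normal := ⟨fun g hg h => by
    obtain ⟨i, rfl⟩ := Subgroup.mem_zpowers_iff.1 hg
    rw [W.rot_zpow]
    obtain ⟨k, l, rfl | rfl⟩ := W.exists_eq h
    · rw [(W.rot_commute k l _ _).eq, mul_inv_cancel_right]; exact hc (by simp)
    · rw [W.out_mul_rot, W.out_inv, W.out_mul_out]
      exact hc (by ring_nf; simp)⟩
  refine le_antisymm ?_ (Subgroup.zpowers_le.2 ?_)
  · rw [_root_.commutator_def, Subgroup.commutator_le]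
    intro g _ h _
    obtain ⟨i, j, rfl | rfl⟩ := W.exists_eq g <;> obtain ⟨k, l, rfl | rfl⟩ := W.exists_eq h <;>
      rw [commutatorElement_def]
    · rw [W.mul_rot, W.rot_inv, W.mul_rot, W.rot_inv, W.mul_rot]; exact hc (by ring_nf; simp)
    · rw [W.rot_mul_out, W.rot_inv, W.out_mul_rot, W.out_inv, W.out_mul_out]; exact hc (by ring_nf; simp)
    · rw [W.out_mul_rot, W.out_inv, W.out_mul_out, W.rot_inv, W.mul_rot]; exact hc (by ring_nf; simp)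
    · rw [W.out_mul_out, W.out_inv, W.rot_mul_out, W.out_inv, W.out_mul_out]; exact hc (by ring_nf; simp)
  · have h : ⁅x ^ (1 : ℤ) * y ^ (0 : ℤ), x ^ (0 : ℤ) * y ^ (0 : ℤ) * z⁆ = x ^ (1 : ℤ) * y ^ (-1 : ℤ) := by
      rw [commutatorElement_def, W.rot_mul_out, W.rot_inv, W.out_mul_rot, W.out_inv, W.out_mul_out,
        W.rot_eq_iff]
      norm_num
    exact h ▸ Subgroup.commutator_mem_commutator (Subgroup.mem_top _) (Subgroup.mem_top _)

end WrFrame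

end CfsgLib.Invol
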