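import Cfsg.Agent.Lib.Invol.WreathedCenter
import Cfsg.Agent.Lib.Invol.CoreExtend
import Cfsg.Agent.Lib.Invol.QDTransfer
import Cfsg.Agent.Lib.Fusion.Tate
import Cfsg.Agent.Lib.Coprime.PGroupFrattini

/-!
# Fusion and transfer with a wreathed Sylow 2-subgroup
-/

set_option autoImplicit false
set_option linter.style.haveILetI false

namespace CfsgLib.Invol

open Subgroup CfsgLib.Fusion
open scoped commutatorElement

/-- Three classes of elements of order `n`. -/
theorem card_classes_three {G : Type*} [Group G] {n : ℕ} {u v w : G} (huv : ¬ IsConj u v)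
    (huw : ¬ IsConj u w) (hvw : ¬ IsConj v w) (hu : orderOf u = n) (hv : orderOf v = n)
    (hw : orderOf w = n)
    (hall : ∀ t : G, orderOf t = n → IsConj t u ∨ IsConj t v ∨ IsConj t w) :
    Nat.card {C : ConjClasses G // ∃ t : G, orderOf t = n ∧ ConjClasses.mk t = C} = 3 := by
  have hset : {C : ConjClasses G | ∃ t : G, orderOf t = n ∧ ConjClasses.mk t = C} =
      {ConjClasses.mk u, ConjClasses.mk v, ConjClasses.mk w} := by
    ext C
    constructor
    · rintro ⟨t, ht, rfl⟩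
      rcases hall t ht with h' | h' | h'
      · exact Or.inl (ConjClasses.mk_eq_mk_iff_isConj.2 h')
      · exact Or.inr (Or.inl (ConjClasses.mk_eq_mk_iff_isConj.2 h'))
      · exact Or.inr (Or.inr (ConjClasses.mk_eq_mk_iff_isConj.2 h'))
    · rintro (rfl | rfl | rfl)
      exacts [⟨u, hu, rfl⟩, ⟨v, hv, rfl⟩, ⟨w, hw, rfl⟩]
  calc Nat.card {C : ConjClasses G // ∃ t : G, orderOf t = n ∧ ConjClasses.mk t = C}
      = ({C : ConjClasses G | ∃ t : G, orderOf t = n ∧ ConjClasses.mk t = C}).ncard :=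
        Nat.card_coe_set_eq _
    _ = 3 := by
      rw [hset]
      exact Set.ncard_eq_three.2 ⟨_, _, _, fun e => huv (ConjClasses.mk_eq_mk_iff_isConj.1 e),
        fun e => huw (ConjClasses.mk_eq_mk_iff_isConj.1 e),
        fun e => hvw (ConjClasses.mk_eq_mk_iff_isConj.1 e), rfl⟩

namespace WrSylow

variable {G : Type*} [Group G] [Finite G] {S : Sylow 2 G} {m : ℤ} {x y z : (S : Subgroup G)} {N : ℕ}

/-! ### Classes of involutions -/

theorem invol_conj_cases (W : WrSylow S m x y z N) {t : G} (ht : orderOf t = 2) :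
    IsConj t (rotW x y m m) ∨ IsConj t (rotW x y m 0) ∨ IsConj t (outW x y z 0 0) := by
  haveI : Fact (Nat.Prime 2) := ⟨Nat.prime_two⟩
  obtain ⟨g, hg⟩ := exists_conj_le_sylow
    (IsPGroup.of_card (n := 1) (by rw [Nat.card_zpowers, ht, pow_one]) : IsPGroup 2 (zpowers t)) S
  have hc : IsConj t (g * t * g⁻¹) := isConj_iff.2 ⟨g, rfl⟩
  rcases W.frame.invol_casesW (hg t (mem_zpowers t)) (invol_conj ht g) with e | e | e | ⟨i, j, hij, e⟩
  · exact Or.inl (e ▸ hc)
  · exact Or.inr (Or.inl (e ▸ hc))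
  · exact Or.inr (Or.inl ((e ▸ hc).trans W.frame.isConj_eW.symm))
  · exact Or.inr (Or.inr ((e ▸ hc).trans (W.frame.isConj_invol hij).symm))

theorem card_classes_both (W : WrSylow S m x y z N) (hA : W.FusedA) (hW : W.FusedW) :
    Nat.card {C : ConjClasses G // ∃ t : G, orderOf t = 2 ∧ ConjClasses.mk t = C} = 1 := by
  refine card_classes_one W.frame.orderOf_tW fun t ht => ?_
  rcases W.invol_conj_cases ht with h | h | h
  exacts [h, h.trans hA, (h.trans hW).trans hA]

theorem card_classes_base (W : WrSylow S m x y z N) (hA : W.FusedA) (hW : ¬ W.FusedW) :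
    Nat.card {C : ConjClasses G // ∃ t : G, orderOf t = 2 ∧ ConjClasses.mk t = C} = 2 := by
  refine card_classes_two (fun h => hW (W.fusedW_of_conj W.tW_mem h.symm)) W.frame.orderOf_tW
    (W.frame.orderOf_wW (by simp)) fun t ht => ?_
  rcases W.invol_conj_cases ht with h | h | h
  exacts [Or.inl h, Or.inl (h.trans hA), Or.inr h]

theorem card_classes_outer (W : WrSylow S m x y z N) (hA : ¬ W.FusedA) (hW : W.FusedW) :
    Nat.card {C : ConjClasses G // ∃ t : G, orderOf t = 2 ∧ ConjClasses.mk t = C} = 2 := by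
  refine card_classes_two (fun h => hA h.symm) W.frame.orderOf_tW W.frame.orderOf_eW fun t ht => ?_
  rcases W.invol_conj_cases ht with h | h | h
  exacts [Or.inl h, Or.inr h, Or.inr (h.trans hW)]

theorem card_classes_none (W : WrSylow S m x y z N) (hA : ¬ W.FusedA) (hW : ¬ W.FusedW) :
    Nat.card {C : ConjClasses G // ∃ t : G, orderOf t = 2 ∧ ConjClasses.mk t = C} = 3 :=
  card_classes_three (fun h => hA h.symm) (fun h => hW (W.fusedW_of_conj W.tW_mem h.symm))
    (fun h => hW h.symm) W.frame.orderOf_tW W.frame.orderOf_eW (W.frame.orderOf_wW (by simp))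
    fun _ ht => W.invol_conj_cases ht

/-! ### The base inside subgroups of index two -/

/-- A parity on the base invariant under the movers of `x^m` is trivial on `y`. -/
theorem rot01_mem (W : WrSylow S m x y z N) (L : Subgroup G)
    (hmul : ∀ u ∈ W.frame.baseG, ∀ v ∈ W.frame.baseG, (u * v ∈ L ↔ (u ∈ L ↔ v ∈ L)))
    {n : G} (hn : n ∈ normalizer (W.frame.baseG : Set G))
    (hne : n * rotW x y m 0 * n⁻¹ = rotW x y m m)
    (hinv : ∀ u ∈ W.frame.baseG, (n * u * n⁻¹ ∈ L ↔ u ∈ L)) : rotW x y 0 1 ∈ L := by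
  have F := W.frame
  have hb : ∀ i j : ℤ, rotW x y i j ∈ F.baseG := fun i j => F.mem_baseG.2 ⟨i, j, rfl⟩
  obtain ⟨i, j, hij⟩ := F.mem_baseG.1 ((mem_normalizer_iff.1 hn _).1 (hb 1 0))
  have h1 : rotW x y (i * m) (j * m) = rotW x y m m := by
    rw [← F.rotW_zpow, ← hij, conj_zpow, F.rotW_zpow, one_mul, zero_mul, hne]
  obtain ⟨h2, h3⟩ := F.rotW_eq_iff.1 h1
  have hm0 : m ≠ 0 := by have := F.two_le; omega
  have hi : (2 : ℤ) ∣ i - 1 := (mul_dvd_mul_iff_right hm0).1 (by rwa [sub_mul, one_mul])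
  have hj : (2 : ℤ) ∣ j - 1 := (mul_dvd_mul_iff_right hm0).1 (by rwa [sub_mul, one_mul])
  obtain ⟨r, hr⟩ := hi
  obtain ⟨s, hs⟩ := hj
  have hsq : rotW x y (r + r) (s + s) ∈ L := by
    rw [← F.rotW_mul]; exact (hmul _ (hb r s) _ (hb r s)).2 Iff.rfl
  have hA := hinv _ (hb 1 0)
  rw [hij, show rotW x y i j = rotW x y (r + r) (s + s) * rotW x y 1 1 by
    rw [F.rotW_mul]; congr 1 <;> linarith, hmul _ (hb _ _) _ (hb _ _),
    show rotW x y 1 1 = rotW x y 1 0 * rotW x y 0 1 by rw [F.rotW_mul]; rfl,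
    hmul _ (hb _ _) _ (hb _ _)] at hA
  tauto

/-- With fusion in the base, a parity on the base invariant under enough movers is trivial. -/
theorem baseG_le_of_parity (W : WrSylow S m x y z N) (L K : Subgroup G)
    (hmul : ∀ u ∈ W.frame.baseG, ∀ v ∈ W.frame.baseG, (u * v ∈ L ↔ (u ∈ L ↔ v ∈ L)))
    (hK : ∀ k ∈ K, outW x y z 0 0 * k * (outW x y z 0 0)⁻¹ ∈ K)
    (hex : ∃ n ∈ K, n ∈ normalizer (W.frame.baseG : Set G) ∧
      n * rotW x y m 0 * n⁻¹ = rotW x y m m)
    (hinv : ∀ n ∈ K, n ∈ normalizer (W.frame.baseG : Set G) →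
      ∀ u ∈ W.frame.baseG, (n * u * n⁻¹ ∈ L ↔ u ∈ L)) :
    W.frame.baseG ≤ L := by
  have F := W.frame
  obtain ⟨w, hw⟩ : ∃ w, w = outW x y z 0 0 := ⟨_, rfl⟩
  obtain ⟨n, hnK, hn, hne⟩ := hex
  have hwN : w ∈ normalizer (F.baseG : Set G) := hw ▸ F.le_normalizer_baseG (outW_mem x y z 0 0)
  have hy : rotW x y 0 1 ∈ L := W.rot01_mem L hmul hn hne (hinv n hnK hn)
  have hconjA : ∀ u ∈ F.baseG, w * u * w⁻¹ ∈ F.baseG := fun u hu =>
    (mem_normalizer_iff.1 hwN u).1 hu
  have hx : w * rotW x y 0 1 * w⁻¹ ∈ L := by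
    refine mem_comap.1 (W.rot01_mem (L.comap (MulAut.conj w).toMonoidHom) (fun u hu v hv => ?_)
      hn hne fun u hu => ?_)
    · show w * (u * v) * w⁻¹ ∈ L ↔ (w * u * w⁻¹ ∈ L ↔ w * v * w⁻¹ ∈ L)
      rw [show w * (u * v) * w⁻¹ = w * u * w⁻¹ * (w * v * w⁻¹) by group]
      exact hmul _ (hconjA u hu) _ (hconjA v hv)
    · show w * (n * u * n⁻¹) * w⁻¹ ∈ L ↔ w * u * w⁻¹ ∈ L
      rw [show w * (n * u * n⁻¹) * w⁻¹ = w * n * w⁻¹ * (w * u * w⁻¹) * (w * n * w⁻¹)⁻¹ by group]
      exact hinv _ (hw ▸ hK n hnK) (mul_mem (mul_mem hwN hn) (inv_mem hwN)) _ (hconjA u hu)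
  rw [hw, F.outW_conj_rotW] at hx
  intro u hu
  obtain ⟨i, j, rfl⟩ := F.mem_baseG.1 hu
  rw [show rotW x y i j = rotW x y 1 0 ^ i * rotW x y 0 1 ^ j by
    rw [F.rotW_zpow, F.rotW_zpow, F.rotW_mul]; congr 1 <;> ring]
  exact mul_mem (zpow_mem hx i) (zpow_mem hy j)

theorem baseG_le_of_index_two (W : WrSylow S m x y z N) (hA : W.FusedA) {H : Subgroup G}
    (hH : H.index = 2) : W.frame.baseG ≤ H := by
  haveI := Subgroup.normal_of_index_eq_two hH
  obtain ⟨n, hn, hne⟩ := W.fusedA_conj hA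
  exact W.baseG_le_of_parity H ⊤ (fun u _ v _ => Subgroup.mul_mem_iff_of_index_two hH)
    (fun _ _ => mem_top _) ⟨n, mem_top n, hn, hne⟩
    fun k _ _ u _ => (Subgroup.Normal.mem_comm_iff inferInstance).trans (by rw [inv_mul_cancel_left])

/-- Both fusions: no subgroup of index two. -/
theorem index_ne_two (W : WrSylow S m x y z N) (hA : W.FusedA) (hW : W.FusedW) (H : Subgroup G) :
    H.index ≠ 2 := fun hH => by
  haveI := Subgroup.normal_of_index_eq_two hH
  have F := W.frame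
  have hle := W.baseG_le_of_index_two hA hH
  have hw : outW x y z 0 0 ∈ H :=
    QDFrame.mem_of_isConj (IsConj.symm hW) (hle W.eW_mem)
  refine QDFrame.not_sylow_le (S := S) hH fun s hs => ?_
  obtain ⟨i, j, rfl | rfl⟩ := F.exists_coords hs
  · exact hle (F.mem_baseG.2 ⟨i, j, rfl⟩)
  · rw [show outW x y z i j = rotW x y i j * outW x y z 0 0 by
      rw [F.rotW_mul_outW, add_zero, add_zero]]
    exact mul_mem (hle (F.mem_baseG.2 ⟨i, j, rfl⟩)) hw

/-- Fusion in the base only. -/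
theorem abelian_case (W : WrSylow S m x y z N) (hA : W.FusedA) (hW : ¬ W.FusedW) :
    ∃ K : Subgroup G, K.Normal ∧ K.index = 2 ∧ W.frame.baseG ≤ K ∧
      ∀ H : Subgroup ↥K, H.index ≠ 2 := by
  have F := W.frame
  have hwo : orderOf (outW x y z 0 0) = 2 := F.orderOf_wW (by simp)
  obtain ⟨M, hMn, hM, hwM⟩ := thompson_transfer S F.baseG_le F.relIndex_baseG
    (u := outW x y z 0 0) (by rw [pow_two]; exact invol_mul_self hwo)
    (fun g hg => hW (W.fusedW_of_conj hg (isConj_iff.2 ⟨g, rfl⟩)))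
  haveI := hMn
  have hle := W.baseG_le_of_index_two hA hM
  refine ⟨M, hMn, hM, hle, fun L hL => ?_⟩
  haveI := Subgroup.normal_of_index_eq_two hL
  have hmap : ∀ u (hu : u ∈ M), u ∈ L.map M.subtype ↔ (⟨u, hu⟩ : M) ∈ L := fun u hu =>
    Subgroup.mem_map_iff_mem M.subtype_injective (x := (⟨u, hu⟩ : M))
  have hAL : F.baseG ≤ L.map M.subtype := by
    refine W.baseG_le_of_parity _ M (fun u hu v hv => ?_) (fun k hk => hMn.conj_mem k hk _) ?_
      fun n hn _ u hu => ?_
    · rw [hmap u (hle hu), hmap v (hle hv), hmap _ (hle (mul_mem hu hv))]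
      exact Subgroup.mul_mem_iff_of_index_two hL (a := (⟨u, hle hu⟩ : M)) (b := ⟨v, hle hv⟩)
    · obtain ⟨n, hn, hne⟩ := W.fusedA_conj hA
      by_cases hnM : n ∈ M
      · exact ⟨n, hnM, hn, hne⟩
      · refine ⟨outW x y z 0 0 * n, (Subgroup.mul_mem_iff_of_index_two hM).2 (iff_of_false hwM hnM),
          mul_mem (F.le_normalizer_baseG (outW_mem x y z 0 0)) hn, ?_⟩
        rw [← conj_mul_conj, hne, F.outW_conj_rotW]
    · rw [hmap u (hle hu), hmap _ (hMn.conj_mem u (hle hu) n)]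
      exact (Subgroup.Normal.mem_comm_iff (inferInstance : L.Normal)
        (a := (⟨n, hn⟩ : M) * ⟨u, hle hu⟩) (b := ⟨n, hn⟩⁻¹)).trans (by rw [inv_mul_cancel_left])
  refine QDFrame.index_ne_two_of_inf_le (S := S) (fun u hu => ?_) hL
  obtain ⟨i, j, rfl | rfl⟩ := F.exists_coords hu.1
  · exact (hmap _ hu.2).1 (hAL (F.mem_baseG.2 ⟨i, j, rfl⟩))
  · refine absurd ?_ hwM
    rw [show outW x y z 0 0 = (rotW x y i j)⁻¹ * outW x y z i j by
      rw [F.rotW_inv, F.rotW_mul_outW, neg_add_cancel, neg_add_cancel]]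
    exact mul_mem (inv_mem (hle (F.mem_baseG.2 ⟨i, j, rfl⟩))) hu.2

/-! ### Fusion in the centraliser of the centre -/

/-- The kernel of `x^i y^j z^e ↦ i + j + e m` on `S`. -/
def sumG (W : WrSylow S m x y z N) : Subgroup G :=
  (W.frame.sumSub (2 * m) m dvd_rfl).map (S : Subgroup G).subtype

theorem sumG_le (W : WrSylow S m x y z N) : W.sumG ≤ (S : Subgroup G) := map_subtype_le _

theorem rotW_mem_sumG (W : WrSylow S m x y z N) {i j : ℤ} :
    rotW x y i j ∈ W.sumG ↔ 2 * m ∣ i + j := by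
  rw [sumG, rotW]
  exact (Subgroup.mem_map_iff_mem (Subgroup.subtype_injective _)).trans
    (W.frame.rot_mem_sumSub dvd_rfl)

theorem outW_mem_sumG (W : WrSylow S m x y z N) {i j : ℤ} :
    outW x y z i j ∈ W.sumG ↔ 2 * m ∣ i + j - m := by
  rw [sumG, outW]
  exact (Subgroup.mem_map_iff_mem (Subgroup.subtype_injective _)).trans
    (W.frame.out_mem_sumSub dvd_rfl)

theorem zpowers_le_sumG (W : WrSylow S m x y z N) : zpowers (rotW x y 1 (-1)) ≤ W.sumG :=
  zpowers_le.2 (W.rotW_mem_sumG.2 (by simp))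

/-- The elements a fusion in `C(Z(S))` contributes to the focal subgroup. -/
theorem fusion_centralizer (W : WrSylow S m x y z N) (hA : ¬ W.FusedA) {u v k : G}
    (hu : u ∈ (S : Subgroup G)) (hv : v ∈ (S : Subgroup G))
    (hk : k ∈ centralizer (centerG S : Set G)) (he : k * u * k⁻¹ = v) :
    u⁻¹ * v ∈ zpowers (rotW x y 1 (-1)) ∨ (W.FusedW ∧ u⁻¹ * v ∈ W.sumG) := by
  have F := W.frame
  have hz : ∀ a b : ℤ, 2 * m ∣ a + b → rotW x y a b ∈ zpowers (rotW x y 1 (-1)) := fun a b hab =>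
    mem_zpowers_iff.2 ⟨a, by
      rw [F.rotW_zpow, F.rotW_eq_iff]
      exact ⟨by simp, by rw [show -1 * a - b = -(a + b) by ring, dvd_neg]; exact hab⟩⟩
  -- the mixed case
  have mixed : ∀ (i j p l : ℤ) (k : G), k ∈ centralizer (centerG S : Set G) →
      k * rotW x y i j * k⁻¹ = outW x y z p l →
      W.FusedW ∧ (rotW x y i j)⁻¹ * outW x y z p l ∈ W.sumG := by
    intro i j p l k hk he
    have h2 : rotW x y i j * rotW x y i j = rotW x y (p + l) (p + l) := by
      have h := W.conj_centerG (inv_mem hk)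
        (W.mem_centerG.2 (by simp) : rotW x y (p + l) (p + l) ∈ centerG S)
      rw [← F.outW_sq, ← he] at h ⊢
      rw [← h]; group
    rw [F.rotW_mul, F.rotW_eq_iff] at h2
    obtain ⟨h3, h4⟩ := h2
    have h5 : m ∣ i - j := by
      have := dvd_sub h3 h4
      rw [show i + i - (p + l) - (j + j - (p + l)) = 2 * (i - j) by ring] at this
      exact (mul_dvd_mul_iff_left two_ne_zero).1 this
    have h6 : 2 * m ∣ i - j - m := (F.half_cases h5).resolve_left fun h => by
      rw [W.conj_centerG hk (W.mem_centerG.2 h)] at he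
      exact F.rotW_ne_outW i j p l he
    have h7 : 2 * m ∣ p - j + (l - j) := by
      rw [show p - j + (l - j) = -(j + j - (p + l)) by ring, dvd_neg]
      exact h4
    refine ⟨(F.isConj_invol h7).trans (IsConj.symm (isConj_iff.2 ⟨k, ?_⟩)), ?_⟩
    · have hc : rotW x y m 0 = rotW x y (-j) (-j) * rotW x y i j := by
        rw [F.rotW_mul, F.rotW_eq_iff]
        exact ⟨by rw [show m - (-j + i) = -(i - j - m) by ring, dvd_neg]; exact h6, by simp⟩
      rw [hc, show k * (rotW x y (-j) (-j) * rotW x y i j) * k⁻¹ =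
        k * rotW x y (-j) (-j) * k⁻¹ * (k * rotW x y i j * k⁻¹) by group,
        W.conj_centerG hk (W.mem_centerG.2 (by simp)), he, F.rotW_mul_outW]
      congr 1 <;> ring
    · rw [F.rotW_inv, F.rotW_mul_outW, W.outW_mem_sumG,
        show -i + p + (-j + l) - m = -(i - j - m) - (j + j - (p + l)) - 2 * m by ring]
      exact dvd_sub (dvd_sub (dvd_neg.2 h6) h4) dvd_rfl
  obtain ⟨i, j, rfl | rfl⟩ := F.exists_coords hu <;> obtain ⟨p, l, rfl | rfl⟩ := F.exists_coords hv
  · left
    have hb : ∀ a b : ℤ, rotW x y a b ∈ F.baseG := fun a b => F.mem_baseG.2 ⟨a, b, rfl⟩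
    obtain ⟨n, hn, hne⟩ := W.exists_normalizer_conj (hb i j) (he ▸ hb p l)
    rcases W.normalizer_conj_cases hn (W.normalizer_fix_tW hA hn) (hb i j) with e | e
    · rw [← he, ← hne, e, inv_mul_cancel]; exact one_mem _
    · rw [← he, ← hne, e, F.outW_conj_rotW, F.rotW_inv, F.rotW_mul]
      exact hz _ _ (by rw [show -i + j + (-j + i) = 0 by ring]; exact dvd_zero _)
  · exact Or.inr (mixed i j p l k hk he)
  · obtain ⟨hW, h⟩ := mixed p l i j k⁻¹ (inv_mem hk) (by rw [← he]; group)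
    refine Or.inr ⟨hW, ?_⟩
    have := inv_mem h
    rwa [mul_inv_rev, inv_inv] at this
  · left
    have h2 : rotW x y (p + l) (p + l) = rotW x y (i + j) (i + j) := by
      rw [← F.outW_sq p l, ← he,
        show k * outW x y z i j * k⁻¹ * (k * outW x y z i j * k⁻¹) =
          k * (outW x y z i j * outW x y z i j) * k⁻¹ by group, F.outW_sq]
      exact W.conj_centerG hk (W.mem_centerG.2 (by simp))
    rw [F.outW_inv, F.outW_mul]
    refine hz _ _ ?_
    rw [show -j + l + (-i + p) = p + l - (i + j) by ring]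
    exact (F.rotW_eq_iff.1 h2).1

/-- `S` as a Sylow 2-subgroup of the centraliser of its centre. -/
def sylowC (W : WrSylow S m x y z N) : Sylow 2 (centralizer (centerG S : Set G)) :=
  S.subtype W.sylow_le_centralizer_centerG

theorem mem_sylowC (W : WrSylow S m x y z N) {u : centralizer (centerG S : Set G)} :
    u ∈ (W.sylowC : Subgroup (centralizer (centerG S : Set G))) ↔ (u : G) ∈ (S : Subgroup G) :=
  mem_subgroupOf

theorem focal_cases (W : WrSylow S m x y z N) (hA : ¬ W.FusedA) :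
    (¬ W.FusedW → (W.sylowC : Subgroup (centralizer (centerG S : Set G))).focalSubgroup ≤
      (zpowers (rotW x y 1 (-1))).subgroupOf _) ∧
    (W.sylowC : Subgroup (centralizer (centerG S : Set G))).focalSubgroup ≤
      W.sumG.subgroupOf _ := by
  have key : ∀ g ∈ {g | g ∈ (W.sylowC : Subgroup (centralizer (centerG S : Set G))) ∧
      ∃ a ∈ (W.sylowC : Subgroup (centralizer (centerG S : Set G))),
        ∃ k : centralizer (centerG S : Set G), g = ⁅a, k⁆},
      (g : G) ∈ zpowers (rotW x y 1 (-1)) ∨ (W.FusedW ∧ (g : G) ∈ W.sumG) := by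
    rintro g ⟨hg, a, ha, k, rfl⟩
    rw [mem_sylowC] at hg ha
    have h := W.fusion_centralizer hA (inv_mem ha) (mul_mem (inv_mem ha) hg) k.2
      (show (k : G) * (a : G)⁻¹ * (k : G)⁻¹ = _ by
        rw [commutatorElement_def]; push_cast; group)
    rwa [inv_inv, ← mul_assoc, mul_inv_cancel, one_mul] at h
  refine ⟨fun hW => ?_, ?_⟩ <;> rw [Subgroup.focalSubgroup_def, Subgroup.closure_le] <;>
    intro g hg
  · exact mem_subgroupOf.2 ((key g hg).resolve_right fun h => hW h.1)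
  · exact mem_subgroupOf.2 ((key g hg).elim (fun h => W.zpowers_le_sumG h) And.right)

theorem core_mul_centralizer (W : WrSylow S m x y z N) (hA : ¬ W.FusedA) (g : G) :
    ∃ o ∈ Cfsg.oddCore G, ∃ c ∈ centralizer (centerG S : Set G), g = o * c :=
  exists_core_mul_centralizer S (map_subtype_le _) (fun _ hζ _ hg => W.center_closed hA hζ hg) g

/-- No fusion: a normal 2-complement. -/
theorem nilpotent_case (W : WrSylow S m x y z N) (hA : ¬ W.FusedA) (hW : ¬ W.FusedW) :
    Cfsg.HasNormalPComplement 2 G := by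
  haveI : Fact (Nat.Prime 2) := ⟨Nat.prime_two⟩
  have F := W.frame
  refine hasNormalPComplement_of_core_mul S _ W.sylow_le_centralizer_centerG
    (W.core_mul_centralizer hA) ?_
  set P := W.sylowC
  set f := (P : Subgroup (centralizer (centerG S : Set G))).transferFocal with hf
  have hq : IsPGroup 2 ((centralizer (centerG S : Set G)) ⧸ f.ker) :=
    IsPGroup.of_injective
      (P.2.to_quotient (P : Subgroup (centralizer (centerG S : Set G))).focalSubgroupOf)
      (QuotientGroup.kerLift f) (QuotientGroup.kerLift_injective f)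
  refine hasNormalPComplement_of_normal_two hq
    (CfsgLib.Fusion.hasNormalPComplement_of_inf_le_frattini P f.ker ?_)
  rw [ker_transferFocal_inf (coprime_card_focalQuotient P)]
  intro u hu
  obtain ⟨k, hk⟩ := mem_zpowers_iff.1 (mem_subgroupOf.1 ((W.focal_cases hA).1 hW hu))
  let a : (P : Subgroup (centralizer (centerG S : Set G))) :=
    ⟨⟨rotW x y 1 0, W.sylow_le_centralizer_centerG (rotW_mem x y 1 0)⟩,
      W.mem_sylowC.2 (rotW_mem x y 1 0)⟩
  let b : (P : Subgroup (centralizer (centerG S : Set G))) :=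
    ⟨⟨outW x y z 0 0, W.sylow_le_centralizer_centerG (outW_mem x y z 0 0)⟩,
      W.mem_sylowC.2 (outW_mem x y z 0 0)⟩
  have hcm : ⁅a, b⁆ ∈ frattini (P : Subgroup (centralizer (centerG S : Set G))) :=
    CfsgLib.Coprime.commutator_le_frattini P.2
      (Subgroup.commutator_mem_commutator (mem_top _) (mem_top _))
  refine ⟨_, zpow_mem hcm k, Subtype.ext ?_⟩
  rw [← hk]
  simp only [a, b, commutatorElement_def, coe_subtype, SubgroupClass.coe_zpow]
  push_cast
  congr 1
  rw [F.rotW_mul_outW, F.rotW_inv, F.outW_mul_rotW, F.outW_inv, F.outW_mul]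
  congr 1

theorem card_sumG (W : WrSylow S m x y z N) : Nat.card W.sumG = 2 * (N * 1) := by
  rw [sumG, Subgroup.card_map_of_injective (Subgroup.subtype_injective _),
    W.frame.card_sumSub W.hN (t := 1) (by push_cast; ring)]

/-- Quaternion fusion only. -/
theorem quaternion_case (W : WrSylow S m x y z N) (hA : ¬ W.FusedA) (hW : W.FusedW) :
    ∃ K : Subgroup G, K.Normal ∧ K.index = N ∧
      (∀ P : Sylow 2 ↥K, ∃ a : ℕ, 1 ≤ a ∧ Nonempty ((P : Subgroup ↥K) ≃* QuaternionGroup (2 ^ a))) ∧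
      (∀ H : Subgroup ↥K, H.index ≠ 2) := by
  haveI : Fact (Nat.Prime 2) := ⟨Nat.prime_two⟩
  have F := W.frame
  obtain ⟨q, hq⟩ := F.even
  set C := centralizer (centerG S : Set G) with hC
  have hSC : (S : Subgroup G) ≤ C := W.sylow_le_centralizer_centerG
  set P := W.sylowC with hP
  set K₀ := (P : Subgroup C).transferFocal.ker with hK₀
  obtain ⟨g, hgC, hg⟩ := W.exists_central_conj W.eW_mem hW
  obtain ⟨K, hKn, hKS, hKK, hKtop⟩ := exists_core_extend S C hSC (W.core_mul_centralizer hA) K₀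
    fun u hu => map_eq_one_of_odd (P.2.to_quotient _) _ hu
  haveI := hKn
  have hfoc : K₀ ⊓ (P : Subgroup C) = (P : Subgroup C).focalSubgroup :=
    ker_transferFocal_inf (coprime_card_focalQuotient P)
  -- the intersection with `S`
  have hsub : W.sumG ≤ K := by
    have hgen : ∀ (s : G) (hs : s ∈ (S : Subgroup G)) (a k : C), (a : G) ∈ (S : Subgroup G) →
        s = (a : G) * k * (a : G)⁻¹ * (k : G)⁻¹ → s ∈ K := by
      intro s hs a k ha e
      refine (hKS s hs).2 ?_
      have h : (⟨s, hSC hs⟩ : C) ∈ (P : Subgroup C).focalSubgroup := by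
        rw [Subgroup.focalSubgroup_def]
        refine Subgroup.subset_closure ⟨W.mem_sylowC.2 hs, a, W.mem_sylowC.2 ha, k, ?_⟩
        exact Subtype.ext (by rw [commutatorElement_def]; push_cast; exact e)
      rw [← hfoc] at h
      exact h.1
    have h1 : rotW x y 1 (-1) ∈ K := hgen _ (rotW_mem x y 1 (-1))
      ⟨rotW x y 1 0, hSC (rotW_mem x y 1 0)⟩ ⟨outW x y z 0 0, hSC (outW_mem x y z 0 0)⟩
      (rotW_mem x y 1 0) (by
        show rotW x y 1 (-1) = rotW x y 1 0 * outW x y z 0 0 * (rotW x y 1 0)⁻¹ * (outW x y z 0 0)⁻¹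
        rw [F.rotW_mul_outW, F.rotW_inv, F.outW_mul_rotW, F.outW_inv, F.outW_mul]
        congr 1)
    have h2 : outW x y z 0 m ∈ K := hgen _ (outW_mem x y z 0 m)
      ⟨outW x y z 0 0, hSC (outW_mem x y z 0 0)⟩ ⟨g, hgC⟩ (outW_mem x y z 0 0) (by
        show outW x y z 0 m = outW x y z 0 0 * g * (outW x y z 0 0)⁻¹ * g⁻¹
        rw [show outW x y z 0 0 * g * (outW x y z 0 0)⁻¹ * g⁻¹ =
          outW x y z 0 0 * (g * outW x y z 0 0 * g⁻¹)⁻¹ by group, hg, F.rotW_inv, F.outW_mul_rotW,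
          F.outW_eq_iff]
        exact ⟨by simp, ⟨1, by ring⟩⟩)
    intro u hu
    have hrot : ∀ a b : ℤ, 2 * m ∣ a + b → rotW x y a b ∈ K := fun a b hab => by
      rw [show rotW x y a b = rotW x y 1 (-1) ^ a by
        rw [F.rotW_zpow, F.rotW_eq_iff]
        exact ⟨by simp, by rwa [show b - -1 * a = a + b by ring]⟩]
      exact zpow_mem h1 a
    obtain ⟨i, j, rfl | rfl⟩ := F.exists_coords (W.sumG_le hu)
    · exact hrot i j (W.rotW_mem_sumG.1 hu)
    · rw [show outW x y z i j = rotW x y i (j - m) * outW x y z 0 m by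
        rw [F.rotW_mul_outW, add_zero, sub_add_cancel]]
      refine mul_mem (hrot _ _ ?_) h2
      rw [show i + (j - m) = i + j - m by ring]
      exact W.outW_mem_sumG.1 hu
  have hinf : (S : Subgroup G) ⊓ K = W.sumG := by
    refine le_antisymm ?_ (le_inf W.sumG_le hsub)
    rintro u ⟨hu, huK⟩
    have h : (⟨u, hSC hu⟩ : C) ∈ (P : Subgroup C).focalSubgroup := by
      rw [← hfoc]; exact ⟨(hKS u hu).1 huK, W.mem_sylowC.2 hu⟩
    exact mem_subgroupOf.1 ((W.focal_cases hA).2 h)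
  refine ⟨K, hKn, ?_, fun Q => ?_, fun L hL => ?_⟩
  · have h1 := (W.sumG.subgroupOf (S : Subgroup G)).card_mul_index
    rw [Nat.card_congr (subgroupOfEquivOfLe W.sumG_le).toEquiv, W.card_sumG, W.card_eq] at h1
    rw [← Subgroup.relIndex_top_right, ← hKtop, Subgroup.relIndex_sup_left,
      ← Subgroup.inf_relIndex_right, inf_comm, hinf]
    have hN0 : 0 < N := by rw [← W.card_centerG]; exact Nat.card_pos
    exact Nat.eq_of_mul_eq_mul_left (show 0 < 2 * (N * 1) by omega) (h1.trans (by ring))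
  · obtain ⟨eQ⟩ := QDFrame.nonempty_sylow_equiv (S := S) K Q
    have eM := eQ.trans (MulEquiv.subgroupCongr hinf)
    have huniq : CfsgLib.Coprime.UniqueOrderP 2 W.sumG := by
      have key : ∀ a : W.sumG, a ^ 2 = 1 → a ≠ 1 → (a : G) = rotW x y m m := by
        intro a ha ha1
        have ho : orderOf (a : G) = 2 := by rw [Subgroup.orderOf_coe]; exact orderOf_eq_prime ha ha1
        rcases F.invol_casesW (W.sumG_le a.2) ho with e | e | e | ⟨i, j, hij, e⟩
        · exact e
        · have h := W.rotW_mem_sumG.1 (show rotW x y m 0 ∈ W.sumG from e ▸ a.2)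
          rw [add_zero] at h
          exact absurd h F.not_dvd_half
        · have h := W.rotW_mem_sumG.1 (show rotW x y 0 m ∈ W.sumG from e ▸ a.2)
          rw [zero_add] at h
          exact absurd h F.not_dvd_half
        · have h := dvd_sub hij (W.outW_mem_sumG.1 (e ▸ a.2))
          exact absurd (by simpa using h) F.not_dvd_half
      intro a b ha hb ha1
      by_cases hb1 : b = 1
      · rw [hb1]; exact one_mem _
      · rw [show b = a from Subtype.ext ((key b hb hb1).trans (key a ha ha1).symm)]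
        exact mem_zpowers a
    have hnc : ¬ IsCyclic W.sumG := by
      intro hc
      letI := hc.commGroup
      have hu := mul_comm (⟨rotW x y 1 (-1), W.rotW_mem_sumG.2 (by simp)⟩ : W.sumG)
        ⟨outW x y z 0 m, W.outW_mem_sumG.2 (by simp)⟩
      have h6 := F.rotW_commute_outW_iff.1 (congrArg (Subtype.val : W.sumG → G) hu)
      have := F.two_le
      have := Int.le_of_dvd (by norm_num) h6
      omega
    rcases CfsgLib.Coprime.cyclic_or_quaternion_of_unique_two (S.2.to_le W.sumG_le) huniq with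
      hc | ⟨a, ⟨e⟩⟩
    · exact absurd hc hnc
    · refine ⟨a, ?_, ⟨eM.trans e⟩⟩
      by_contra ha
      obtain rfl : a = 0 := by omega
      haveI : IsCyclic (QuaternionGroup (2 ^ 0)) := QuaternionGroup.quaternionGroup_one_isCyclic
      exact hnc (isCyclic_of_surjective e.symm.toMonoidHom e.symm.surjective)
  · haveI := Subgroup.normal_of_index_eq_two hL
    have hmap : ∀ u (hu : u ∈ K), u ∈ L.map K.subtype ↔ (⟨u, hu⟩ : K) ∈ L := fun u hu =>
      Subgroup.mem_map_iff_mem K.subtype_injective (x := (⟨u, hu⟩ : K))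
    have hrotK : ∀ i : ℤ, rotW x y i (-i) ∈ K := fun i => hsub (W.rotW_mem_sumG.2 (by simp))
    have houter : ∀ i j : ℤ, 2 * m ∣ i + j - m →
        (outW x y z i j ∈ L.map K.subtype ↔ rotW x y q (-q) ∈ L.map K.subtype) := by
      intro i j hij
      have hι : 2 * m ∣ (i - q) + (j - q) := by
        rwa [show i - q + (j - q) = i + j - m by rw [hq]; ring]
      obtain ⟨k, l, hkl⟩ := F.exists_rot_conj_invol hι
      set h := g * (rotW x y k l)⁻¹ with hh
      have hhC : h ∈ C := mul_mem hgC (inv_mem (hSC (rotW_mem x y k l)))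
      have hhι : h * outW x y z (i - q) (j - q) * h⁻¹ = rotW x y m 0 := by
        rw [← hkl, hh, ← hg]; group
      have hsup : (P : Subgroup C) ⊔ K₀ = ⊤ := by
        rw [sup_comm]; exact ker_transferFocal_sup (coprime_card_focalQuotient P)
      obtain ⟨s, hs, k₀, hk₀, e⟩ := mem_sup_of_normal_right.1
        (show (⟨h, hhC⟩ : C) ∈ (P : Subgroup C) ⊔ K₀ by rw [hsup]; exact mem_top _)
      rw [mem_sylowC] at hs
      have e' : (s : G) * k₀ = h := congrArg Subtype.val e
      have hk₁ : (k₀ : G) * outW x y z (i - q) (j - q) * (k₀ : G)⁻¹ =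
          (s : G)⁻¹ * rotW x y m 0 * (s : G)⁻¹⁻¹ := by
        rw [← hhι, ← e']; group
      have hk₂ : (k₀ : G) * rotW x y q q * (k₀ : G)⁻¹ = rotW x y q q :=
        W.conj_centerG k₀.2 (W.mem_centerG.2 (by simp))
      have hk₃ : ∀ a b : ℤ, (k₀ : G) * outW x y z (i - q) (j - q) * (k₀ : G)⁻¹ = rotW x y a b →
          (k₀ : G) * outW x y z i j * (k₀ : G)⁻¹ = rotW x y (q + a) (q + b) := by
        intro a b hab
        rw [show outW x y z i j = rotW x y q q * outW x y z (i - q) (j - q) by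
            rw [F.rotW_mul_outW]; congr 1 <;> ring,
          show (k₀ : G) * (rotW x y q q * outW x y z (i - q) (j - q)) * (k₀ : G)⁻¹ =
            (k₀ : G) * rotW x y q q * (k₀ : G)⁻¹ *
              ((k₀ : G) * outW x y z (i - q) (j - q) * (k₀ : G)⁻¹) by group, hk₂, hab, F.rotW_mul]
      have hinv : rotW x y (-q) q ∈ L.map K.subtype ↔ rotW x y q (-q) ∈ L.map K.subtype := by
        rw [show rotW x y (-q) q = (rotW x y q (-q))⁻¹ by rw [F.rotW_inv, neg_neg], inv_mem_iff]
      have himg : ((k₀ : G) * outW x y z i j * (k₀ : G)⁻¹ ∈ L.map K.subtype) ↔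
          rotW x y q (-q) ∈ L.map K.subtype := by
        obtain ⟨a, b, e1 | e1⟩ := F.exists_coords (inv_mem hs)
        · rw [e1, F.rotW_conj_rotW] at hk₁
          rw [hk₃ _ _ hk₁]
          rw [show rotW x y (q + m) (q + 0) = rotW x y (-q) q from
            F.rotW_eq_iff.2 ⟨⟨1, by rw [hq]; ring⟩, ⟨0, by ring⟩⟩]
          exact hinv
        · rw [e1, F.outW_conj_rotW] at hk₁
          rw [hk₃ _ _ hk₁]
          rw [show rotW x y (q + 0) (q + m) = rotW x y q (-q) from
            F.rotW_eq_iff.2 ⟨⟨0, by ring⟩, ⟨1, by rw [hq]; ring⟩⟩]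
      refine Iff.trans ?_ himg
      have hijK : outW x y z i j ∈ K := hsub (W.outW_mem_sumG.2 hij)
      have hkK : (k₀ : G) ∈ K := hKK k₀ hk₀
      rw [hmap _ hijK, hmap _ (hKn.conj_mem _ hijK _)]
      exact ((Subgroup.Normal.mem_comm_iff (inferInstance : L.Normal)
        (a := (⟨k₀, hkK⟩ : K) * ⟨_, hijK⟩) (b := ⟨k₀, hkK⟩⁻¹)).trans
          (by rw [inv_mul_cancel_left])).symm
    have ha : rotW x y 1 (-1) ∈ L.map K.subtype := by
      have hb : outW x y z 0 m ∈ K := hsub (W.outW_mem_sumG.2 (by simp))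
      have h1 := houter 0 m (by simp)
      have h2 := houter (1 + 0) (-1 + m) (by simp)
      rw [← F.rotW_mul_outW, hmap _ (mul_mem (hrotK 1) hb)] at h2
      rw [hmap _ hb] at h1
      have h3 := Subgroup.mul_mem_iff_of_index_two hL (a := (⟨_, hrotK 1⟩ : K))
        (b := (⟨_, hb⟩ : K))
      rw [hmap _ (hrotK 1)]
      have h4 : (⟨_, hrotK 1⟩ : K) * ⟨_, hb⟩ ∈ L ↔ (⟨_, hb⟩ : K) ∈ L := h2.trans h1.symm
      tauto
    have hrot : ∀ i : ℤ, rotW x y i (-i) ∈ L.map K.subtype := fun i => by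
      rw [show rotW x y i (-i) = rotW x y 1 (-1) ^ i by rw [F.rotW_zpow, one_mul, neg_one_mul]]
      exact zpow_mem ha i
    refine QDFrame.index_ne_two_of_inf_le (S := S) (fun u hu => ?_) hL
    have hu' : u ∈ W.sumG := hinf ▸ hu
    refine (hmap u hu.2).1 ?_
    obtain ⟨i, j, rfl | rfl⟩ := F.exists_coords hu.1
    · rw [show rotW x y i j = rotW x y i (-i) from F.rotW_eq_iff.2
        ⟨by simp, by rw [show j - -i = i + j by ring]; exact W.rotW_mem_sumG.1 hu'⟩]
      exact hrot i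
    · exact (houter i j (W.outW_mem_sumG.1 hu')).2 (hrot q)

end WrSylow

end CfsgLib.Invol
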